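import Groth.Agent.Lib.MultType.Split

/-!
# Base change and transport of the SGA3b notions
-/

universe u

open TensorProduct

namespace Groth.Agent.MultTypeLib

variable {R : Type u} [CommRing R] {A : Type u} [CommRing A] [HopfAlgebra R A]

theorem isDiag_congr {B : Type u} [CommRing B] [HopfAlgebra R B] (e : A ≃ₐc[R] B)
    (h : SGA3b.IsDiag R A) : SGA3b.IsDiag R B := by
  obtain ⟨M, _, ⟨f⟩⟩ := h
  exact ⟨M, inferInstance, ⟨e.symm.trans f⟩⟩

/-- Diagonalisable after `R → T`, seen over an intermediate ring `S`. -/
theorem isDiag_tensor_tensor (S T : Type u) [CommRing S] [CommRing T] [Algebra R S] [Algebra R T]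
    [Algebra S T] [IsScalarTower R S T] (h : SGA3b.IsDiag T (T ⊗[R] A)) :
    SGA3b.IsDiag T (T ⊗[S] (S ⊗[R] A)) :=
  isDiag_congr (cancelBC R A S T).symm h

theorem isDiag_of_tensor_tensor (S T : Type u) [CommRing S] [CommRing T] [Algebra R S] [Algebra R T]
    [Algebra S T] [IsScalarTower R S T] (h : SGA3b.IsDiag T (T ⊗[S] (S ⊗[R] A))) :
    SGA3b.IsDiag T (T ⊗[R] A) :=
  isDiag_congr (cancelBC R A S T) h

theorem isMultType_baseChange (B : Type u) [CommRing B] [Algebra R B] (h : SGA3b.IsMultType R A) :
    SGA3b.IsMultType B (B ⊗[R] A) := by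
  obtain ⟨s, hs, hf⟩ := h
  refine ⟨algebraMap R B '' s, ?_, ?_⟩
  · rw [← Ideal.map_span, hs, Ideal.map_top]
  rintro g ⟨f, hfs, rfl⟩
  obtain ⟨T, _, _, _, hd⟩ := hf f hfs
  let L := Localization.Away (algebraMap R B f)
  letI : Algebra (Localization.Away f) L :=
    (IsLocalization.Away.lift (S := Localization.Away f) f (g := algebraMap R L) (by
      rw [IsScalarTower.algebraMap_apply R B L]
      exact IsLocalization.Away.algebraMap_isUnit _)).toAlgebra
  have : IsScalarTower R (Localization.Away f) L := IsScalarTower.of_algebraMap_eq fun r =>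
    (IsLocalization.Away.lift_eq f _ r).symm
  letI : Algebra R T :=
    ((algebraMap (Localization.Away f) T).comp (algebraMap R (Localization.Away f))).toAlgebra
  have : IsScalarTower R (Localization.Away f) T := IsScalarTower.of_algebraMap_eq' rfl
  let T' := L ⊗[Localization.Away f] T
  letI : Algebra T T' := Algebra.TensorProduct.rightAlgebra
  have : IsScalarTower R T T' := IsScalarTower.of_algebraMap_eq fun r => by
    rw [IsScalarTower.algebraMap_apply R (Localization.Away f) T',
      IsScalarTower.algebraMap_apply R (Localization.Away f) T,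
      ← IsScalarTower.algebraMap_apply (Localization.Away f) T T']
  have h1 : SGA3b.IsDiag T' (T' ⊗[R] A) :=
    isDiag_baseChange T T' (isDiag_of_tensor_tensor (Localization.Away f) T hd)
  exact ⟨T', inferInstance, inferInstance, inferInstance,
    isDiag_tensor_tensor (R := B) (A := B ⊗[R] A) L T'
      (isDiag_tensor_tensor (R := R) (A := A) B T' h1)⟩

end Groth.Agent.MultTypeLib
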