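import Groth.Agent.Lib.MultType.HomLift
import Groth.Agent.Lib.MultType.Base
import Mathlib.FieldTheory.PurelyInseparable.Basic
import Mathlib.RingTheory.Jacobson.Ring
import Mathlib.RingTheory.Etale.Field
import Mathlib.RingTheory.HopfAlgebra.GroupLike

/-!
# Groups of multiplicative type and of finite type over a field are isotrivial
-/

universe u

open TensorProduct

namespace Groth.Agent.MultTypeLib

/-- Group-like elements descend along faithfully flat extensions with nil diagonal ideal. -/
theorem glike_descend {R : Type u} [CommRing R] {A : Type u} [CommRing A] [HopfAlgebra R A]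
    (h : SGA3b.IsMultType R A) (S : Type u) [CommRing S] [Algebra R S] [Module.FaithfullyFlat R S]
    (hnil : ∀ x ∈ RingHom.ker (Algebra.TensorProduct.lmul' (S := S) R), IsNilpotent x)
    {g : S ⊗[R] A} (hg : IsGroupLikeElem S g) :
    ∃ g₀ : A, IsGroupLikeElem R g₀ ∧ (1 : S) ⊗ₜ[R] g₀ = g := by
  let N := RingHom.ker (Algebra.TensorProduct.lmul' (S := S) R)
  have hT : ∀ (T : Type u) [CommRing T] [Algebra R T] (p q : S →ₐ[R] T) (μ : T →ₐ[R] S),
      μ.comp p = AlgHom.id R S → μ.comp q = AlgHom.id R S → Function.Surjective μ →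
      (∀ x ∈ RingHom.ker μ, IsNilpotent x) →
      Algebra.TensorProduct.map p (AlgHom.id R A) g = Algebra.TensorProduct.map q (AlgHom.id R A) g := by
    intro T _ _ p q μ hp hq hμ hker
    obtain ⟨j, hj⟩ := exists_isInt_of_isMultType (isMultType_baseChange T h)
    have hgl : ∀ r : S →ₐ[R] T, IsGroupLikeElem T (Algebra.TensorProduct.map r (AlgHom.id R A) g) := by
      intro r
      letI : Algebra S T := r.toRingHom.toAlgebra
      haveI : IsScalarTower R S T := IsScalarTower.of_algebraMap_eq fun x => (r.commutes x).symm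
      let ι : S ⊗[R] A →ₗ[S] T ⊗[S] (S ⊗[R] A) := TensorProduct.mk S T (S ⊗[R] A) 1
      have h1 : IsGroupLikeElem T ((1 : T) ⊗ₜ[S] g) := by
        refine ⟨?_, ?_⟩
        · simp [hg.counit_eq_one, ← Algebra.algebraMap_eq_smul_one]
        · rw [comul_one_tmul, hg.comul_eq_tmul_self, inclTwo_tmul]
      have h2 : ∀ z : S ⊗[R] A, cancelBC R A S T ((1 : T) ⊗ₜ[S] z) =
          Algebra.TensorProduct.map r (AlgHom.id R A) z := by
        intro z
        induction z using TensorProduct.induction_on with
        | zero => simp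
        | tmul s a => rw [cancelBC_tmul, Algebra.smul_def, mul_one]; rfl
        | add x y hx hy => simp only [TensorProduct.tmul_add, map_add, hx, hy]
      rw [← h2]
      exact h1.map (cancelBC R A S T)
    refine glike_eq_of_nil hj hker (hgl p) (hgl q) ?_
    rw [mem_KT_iff_one_tmul_eq_zero]
    let e : (T ⧸ RingHom.ker μ) ≃ₐ[R] S := Ideal.quotientKerAlgEquivOfSurjective hμ
    let F : (T ⧸ RingHom.ker μ) ⊗[T] (T ⊗[R] A) ≃ₐ[T ⧸ RingHom.ker μ]
        (T ⧸ RingHom.ker μ) ⊗[R] A :=
      Algebra.TensorProduct.cancelBaseChange R T (T ⧸ RingHom.ker μ) (T ⧸ RingHom.ker μ) A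
    let G : (T ⧸ RingHom.ker μ) ⊗[R] A ≃ₐ[R] S ⊗[R] A := Algebra.TensorProduct.congr e AlgEquiv.refl
    have hFG : ∀ z : T ⊗[R] A, G (F ((1 : T ⧸ RingHom.ker μ) ⊗ₜ[T] z)) =
        Algebra.TensorProduct.map μ (AlgHom.id R A) z := by
      intro z
      induction z using TensorProduct.induction_on with
      | zero => simp
      | tmul t a => simp [F, G, e, Algebra.smul_def]
      | add x y hx hy => simp only [TensorProduct.tmul_add, map_add, hx, hy]
    apply F.injective
    apply G.injective
    rw [hFG, map_zero, map_zero, map_sub]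
    have hcomp : ∀ r : S →ₐ[R] T, μ.comp r = AlgHom.id R S →
        Algebra.TensorProduct.map μ (AlgHom.id R A)
          (Algebra.TensorProduct.map r (AlgHom.id R A) g) = g := by
      intro r hr
      rw [← AlgHom.comp_apply, ← Algebra.TensorProduct.map_comp, hr, AlgHom.id_comp,
        Algebra.TensorProduct.map_id, AlgHom.id_apply]
    rw [hcomp p hp, hcomp q hq, sub_self]
  obtain ⟨g₀, hg₀⟩ := exists_one_tmul_of_descent g (hT (S ⊗[R] S)
    Algebra.TensorProduct.includeLeft Algebra.TensorProduct.includeRight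
    (Algebra.TensorProduct.lmul' R)
    (AlgHom.ext fun x => by simp) (AlgHom.ext fun x => by simp)
    (fun s => ⟨s ⊗ₜ[R] 1, by simp⟩) hnil)
  have hinj : Function.Injective (algebraMap R S) := FaithfulSMul.algebraMap_injective R S
  refine ⟨g₀, ⟨?_, ?_⟩, hg₀⟩
  · have := hg.counit_eq_one
    rw [← hg₀] at this
    exact hinj (by simpa [Algebra.algebraMap_eq_smul_one] using this)
  · have := hg.comul_eq_tmul_self
    rw [← hg₀, comul_one_tmul, ← inclTwo_tmul] at this
    let Θ : (S ⊗[R] A) ⊗[S] (S ⊗[R] A) →ₐ[S] S ⊗[R] (A ⊗[R] A) :=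
      Algebra.TensorProduct.lift
        (Algebra.TensorProduct.map (AlgHom.id _ _) (Algebra.TensorProduct.includeLeft (S := R)))
        (Algebra.TensorProduct.map (AlgHom.id _ _) Algebra.TensorProduct.includeRight)
        (fun _ _ => Commute.all _ _)
    have hΘ : ∀ z, Θ (inclTwo S z) = (1 : S) ⊗ₜ[R] z := by
      intro z
      induction z using TensorProduct.induction_on with
      | zero => simp
      | tmul x y => simp [Θ, inclTwo_tmul]
      | add x y hx hy => simp [hx, hy, TensorProduct.tmul_add]
    refine Module.FaithfullyFlat.tensorProduct_mk_injective (A := R) (B := S) (A ⊗[R] A) ?_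
    show (1 : S) ⊗ₜ[R] _ = (1 : S) ⊗ₜ[R] _
    rw [← hΘ, ← hΘ, this]

section GLk

variable {k : Type u} [CommRing k] {C : Type u} [CommRing C] [HopfAlgebra k C]

/-- Group-likeness, in a form natural in the base. -/
def GLk (T : Type u) [CommRing T] [Algebra k T] (y : T ⊗[k] C) : Prop :=
  Coalgebra.counit (R := T) y = 1 ∧
  Algebra.TensorProduct.map (AlgHom.id k T) (Bialgebra.comulAlgHom k C) y =
    Algebra.TensorProduct.map (AlgHom.id k T) (Algebra.TensorProduct.includeLeft (S := k)) y *
      Algebra.TensorProduct.map (AlgHom.id k T) Algebra.TensorProduct.includeRight y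

theorem glk_iff (T : Type u) [CommRing T] [Algebra k T] (y : T ⊗[k] C) :
    GLk T y ↔ IsGroupLikeElem T y := by
  let Θ : (T ⊗[k] C) ⊗[T] (T ⊗[k] C) →ₐ[T] T ⊗[k] (C ⊗[k] C) :=
    Algebra.TensorProduct.lift
      (Algebra.TensorProduct.map (AlgHom.id _ _) (Algebra.TensorProduct.includeLeft (S := k)))
      (Algebra.TensorProduct.map (AlgHom.id _ _) Algebra.TensorProduct.includeRight)
      (fun _ _ => Commute.all _ _)
  let Ψ : T ⊗[k] (C ⊗[k] C) →ₐ[T] (T ⊗[k] C) ⊗[T] (T ⊗[k] C) :=
    Algebra.TensorProduct.lift (Algebra.ofId _ _)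
      (Algebra.TensorProduct.lift
        (((Algebra.TensorProduct.includeLeft (R := T) (S := T) (A := T ⊗[k] C)
          (B := T ⊗[k] C)).restrictScalars k).comp Algebra.TensorProduct.includeRight)
        (((Algebra.TensorProduct.includeRight (R := T) (A := T ⊗[k] C)
          (B := T ⊗[k] C)).restrictScalars k).comp Algebra.TensorProduct.includeRight)
        (fun _ _ => Commute.all _ _))
      (fun _ _ => Commute.all _ _)
  have hinj : Function.Injective Θ := by
    have : Ψ.comp Θ = AlgHom.id T _ := by ext <;> simp [Θ, Ψ, Algebra.TensorProduct.one_def]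
    exact Function.LeftInverse.injective (g := Ψ) fun z => AlgHom.congr_fun this z
  have h1 : ∀ y : T ⊗[k] C, Θ (Coalgebra.comul (R := T) y) =
      Algebra.TensorProduct.map (AlgHom.id k T) (Bialgebra.comulAlgHom k C) y := by
    intro y
    induction y using TensorProduct.induction_on with
    | zero => simp
    | add x z hx hz => simp only [map_add, hx, hz]
    | tmul t c =>
      rw [show t ⊗ₜ[k] c = t • ((1 : T) ⊗ₜ[k] c) by rw [TensorProduct.smul_tmul', smul_eq_mul, mul_one],
        map_smul, map_smul, comul_one_tmul, ← (Coalgebra.Repr.arbitrary k c).eq]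
      simp [Θ, inclTwo_tmul, map_sum, TensorProduct.smul_tmul', Finset.smul_sum,
        ← (Coalgebra.Repr.arbitrary k c).eq, TensorProduct.tmul_sum]
  have h2 : ∀ y : T ⊗[k] C, Θ (y ⊗ₜ[T] y) =
      Algebra.TensorProduct.map (AlgHom.id k T) (Algebra.TensorProduct.includeLeft (S := k)) y *
      Algebra.TensorProduct.map (AlgHom.id k T) Algebra.TensorProduct.includeRight y := fun y => rfl
  rw [isGroupLikeElem_iff, GLk, ← h1, ← h2, hinj.eq_iff]

theorem counit_map_natural {T T' : Type u} [CommRing T] [CommRing T'] [Algebra k T] [Algebra k T']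
    (f : T →ₐ[k] T') (y : T ⊗[k] C) :
    Coalgebra.counit (R := T') (Algebra.TensorProduct.map f (AlgHom.id k C) y) =
      f (Coalgebra.counit (R := T) y) := by
  induction y using TensorProduct.induction_on with
  | zero => simp
  | tmul t c => simp [Algebra.smul_def, map_mul]
  | add x y hx hy => simp only [map_add, hx, hy]

theorem GLk.map {T T' : Type u} [CommRing T] [CommRing T'] [Algebra k T] [Algebra k T']
    (f : T →ₐ[k] T') {y : T ⊗[k] C} (h : GLk T y) :
    GLk T' (Algebra.TensorProduct.map f (AlgHom.id k C) y) := by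
  have nat : ∀ {D : Type u} [CommRing D] [Algebra k D] (g : C →ₐ[k] D) (z : T ⊗[k] C),
      Algebra.TensorProduct.map (AlgHom.id k T') g (Algebra.TensorProduct.map f (AlgHom.id k C) z) =
        Algebra.TensorProduct.map f (AlgHom.id k D) (Algebra.TensorProduct.map (AlgHom.id k T) g z) := by
    intro D _ _ g z
    induction z using TensorProduct.induction_on with
    | zero => simp
    | tmul t c => simp
    | add x y hx hy => simp only [map_add, hx, hy]
  refine ⟨by rw [counit_map_natural, h.1, map_one], ?_⟩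
  rw [nat, nat, nat, h.2, map_mul]

end GLk

variable {k : Type u} [Field k] {C : Type u} [CommRing C] [HopfAlgebra k C]

theorem exists_field_isDiag (h : SGA3b.IsMultType k C) :
    ∃ (K : Type u) (_ : Field K) (_ : Algebra k K), SGA3b.IsDiag K (K ⊗[k] C) := by
  obtain ⟨ι, _, T, _, _, -, hff, hd⟩ := exists_split_family h
  haveI := hff
  obtain ⟨i, hi⟩ : ∃ i, Nontrivial (T i) := by
    haveI : Nontrivial (Π i, T i) :=
      (FaithfulSMul.algebraMap_injective k (Π i, T i)).nontrivial
    by_contra hcon
    push Not at hcon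
    haveI : ∀ i, Subsingleton (T i) := hcon
    exact not_subsingleton (Π i, T i) inferInstance
  obtain ⟨m, hm⟩ := Ideal.exists_maximal (T i)
  letI := Ideal.Quotient.field m
  exact ⟨T i ⧸ m, inferInstance, inferInstance, isDiag_baseChange (T i) (T i ⧸ m) (hd i)⟩

theorem GLk.of_map {T T' : Type u} [CommRing T] [CommRing T'] [Algebra k T] [Algebra k T']
    (f : T →ₐ[k] T') (hf : Function.Injective f) {y : T ⊗[k] C}
    (h : GLk T' (Algebra.TensorProduct.map f (AlgHom.id k C) y)) : GLk T y := by
  have inj : ∀ {D : Type u} [CommRing D] [Algebra k D],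
      Function.Injective (Algebra.TensorProduct.map f (AlgHom.id k D)) := fun {D} _ _ =>
    Module.Flat.rTensor_preserves_injective_linearMap (M := D) f.toLinearMap hf
  have nat : ∀ {D : Type u} [CommRing D] [Algebra k D] (g : C →ₐ[k] D) (z : T ⊗[k] C),
      Algebra.TensorProduct.map (AlgHom.id k T') g (Algebra.TensorProduct.map f (AlgHom.id k C) z) =
        Algebra.TensorProduct.map f (AlgHom.id k D) (Algebra.TensorProduct.map (AlgHom.id k T) g z) := by
    intro D _ _ g z
    induction z using TensorProduct.induction_on with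
    | zero => simp
    | tmul t c => simp
    | add x y hx hy => simp only [map_add, hx, hy]
  refine ⟨hf (by rw [← counit_map_natural, h.1, map_one]), ?_⟩
  apply inj
  have h2 := h.2
  rw [nat, nat, nat, ← map_mul] at h2
  exact h2

set_option synthInstance.maxHeartbeats 200000 in
set_option maxHeartbeats 2000000 in
theorem exists_finite_field_span (S : Finset C) (h : SGA3b.IsMultType k C) :
    ∃ (L' : Type u) (_ : Field L') (_ : Algebra k L') (_ : Module.Finite k L'),
      ∀ c ∈ S, (1 : L') ⊗ₜ[k] c ∈
        Submodule.span L' {x : L' ⊗[k] C | IsGroupLikeElem L' x} := by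
  classical
  obtain ⟨K, _, _, M, _, ⟨e⟩⟩ := exists_field_isDiag h
  let G : Finset M := S.biUnion fun c => (e ((1 : K) ⊗ₜ[k] c)).coeff.support
  have hrep : ∀ x : K ⊗[k] C, ∃ s : Finset (K × C), x = ∑ p ∈ s, p.1 ⊗ₜ[k] p.2 :=
    fun x => TensorProduct.exists_finset x
  choose rep hrep using hrep
  let xG : M → K ⊗[k] C := fun m => e.symm (MonoidAlgebra.single m 1)
  let F : Finset K := (S.biUnion fun c => (e ((1 : K) ⊗ₜ[k] c)).coeff.support.image
      fun m => (e ((1 : K) ⊗ₜ[k] c)).coeff m) ∪ G.biUnion fun m => (rep (xG m)).image Prod.fst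
  let R0 := Algebra.adjoin k (F : Set K)
  haveI : Algebra.FiniteType k R0 := (Subalgebra.fg_iff_finiteType R0).1 ⟨F, rfl⟩
  have hinj : ∀ {D : Type u} [CommRing D] [Algebra k D],
      Function.Injective (Algebra.TensorProduct.map R0.val (AlgHom.id k D)) := fun {D} _ _ =>
    Module.Flat.rTensor_preserves_injective_linearMap (M := D) R0.val.toLinearMap
      Subtype.val_injective
  have hy : ∀ m ∈ G, ∃ y : R0 ⊗[k] C,
      Algebra.TensorProduct.map R0.val (AlgHom.id k C) y = xG m := by
    intro m hm
    refine ⟨∑ p ∈ (rep (xG m)).attach, (⟨p.1.1, Algebra.subset_adjoin (Finset.mem_union_right _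
      (Finset.mem_biUnion.2 ⟨m, hm, Finset.mem_image.2 ⟨p.1, p.2, rfl⟩⟩))⟩ : R0) ⊗ₜ[k] p.1.2, ?_⟩
    rw [map_sum]
    simp only [Algebra.TensorProduct.map_tmul, Subalgebra.val_apply, AlgHom.id_apply]
    rw [Finset.sum_attach _ (fun p : K × C => p.1 ⊗ₜ[k] p.2), ← hrep]
  choose! y hy using hy
  have hyGL : ∀ m ∈ G, GLk R0 (y m) := by
    intro m hm
    refine GLk.of_map R0.val Subtype.val_injective ?_
    rw [hy m hm, glk_iff]
    exact (MonoidAlgebra.isGroupLikeElem_single_one (R := K) (A := K) m).map e.symm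
  -- specialise at a closed point
  obtain ⟨I, hI⟩ := Ideal.exists_maximal R0
  letI := Ideal.Quotient.field I
  let L' := R0 ⧸ I
  haveI : Algebra.FiniteType k L' :=
    Algebra.FiniteType.of_surjective (Ideal.Quotient.mkₐ k I) Ideal.Quotient.mk_surjective
  haveI : Module.Finite k L' := finite_of_finite_type_of_isJacobsonRing k L'
  let q : R0 →ₐ[k] L' := Ideal.Quotient.mkₐ k I
  let z : M → L' ⊗[k] C := fun m => Algebra.TensorProduct.map q (AlgHom.id k C) (y m)
  have hzS : ∀ c ∈ S, (1 : L') ⊗ₜ[k] c ∈ Submodule.span L' (z '' G) := by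
    intro c hc
    have hm : ∀ m ∈ (e ((1 : K) ⊗ₜ[k] c)).coeff.support,
        (e ((1 : K) ⊗ₜ[k] c)).coeff m ∈ R0 ∧ m ∈ G := fun m hm =>
      ⟨Algebra.subset_adjoin (Finset.mem_union_left _ (Finset.mem_biUnion.2 ⟨c, hc,
        Finset.mem_image.2 ⟨m, hm, rfl⟩⟩)), Finset.mem_biUnion.2 ⟨c, hc, hm⟩⟩
    have hsum : (1 : R0) ⊗ₜ[k] c = ∑ m ∈ (e ((1 : K) ⊗ₜ[k] c)).coeff.support.attach,
        (⟨_, (hm m.1 m.2).1⟩ : R0) • y m.1 := by
      apply hinj
      rw [map_sum, Algebra.TensorProduct.map_tmul, map_one, AlgHom.id_apply]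
      have hsm : ∀ (r : R0) (w : R0 ⊗[k] C), Algebra.TensorProduct.map R0.val (AlgHom.id k C) (r • w) =
          (r : K) • Algebra.TensorProduct.map R0.val (AlgHom.id k C) w := by
        intro r w
        induction w using TensorProduct.induction_on with
        | zero => simp
        | tmul t d => simp [TensorProduct.smul_tmul']
        | add u v hu hv => simp only [smul_add, map_add, hu, hv]
      simp only [hsm]
      rw [Finset.sum_congr rfl fun m _ => by rw [hy m.1 (hm m.1 m.2).2]]
      refine (e.symm_apply_apply _).symm.trans ?_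
      conv_lhs => rw [← MonoidAlgebra.sum_coeff_single (e ((1 : K) ⊗ₜ[k] c))]
      rw [Finsupp.sum, ← Finset.sum_attach, map_sum]
      refine Finset.sum_congr rfl fun m _ => ?_
      simp only [xG, ← map_smul, MonoidAlgebra.smul_single', mul_one]
    have := congrArg (Algebra.TensorProduct.map q (AlgHom.id k C)) hsum
    rw [map_sum, Algebra.TensorProduct.map_tmul, map_one, AlgHom.id_apply] at this
    rw [this]
    refine Submodule.sum_mem _ fun m _ => ?_
    have hsm : ∀ (r : R0) (w : R0 ⊗[k] C), Algebra.TensorProduct.map q (AlgHom.id k C) (r • w) =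
        q r • Algebra.TensorProduct.map q (AlgHom.id k C) w := by
      intro r w
      induction w using TensorProduct.induction_on with
      | zero => simp
      | tmul t d => simp [TensorProduct.smul_tmul', q]
      | add u v hu hv => simp only [smul_add, map_add, hu, hv]
    rw [hsm]
    exact Submodule.smul_mem _ _ (Submodule.subset_span ⟨m.1, (hm m.1 m.2).2, rfl⟩)
  refine ⟨L', inferInstance, inferInstance, inferInstance, fun c hc =>
    Submodule.span_mono ?_ (hzS c hc)⟩
  rintro _ ⟨m, hm, rfl⟩
  exact (glk_iff L' _).1 ((hyGL m hm).map q)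

/-- A finitely generated Hopf algebra over a field with group-likes generating is diagonalisable. -/
theorem isDiag_of_span_glike {A : Type u} [CommRing A] [HopfAlgebra k A] (S : Set A)
    (hS : Algebra.adjoin k S = ⊤)
    (h : ∀ c ∈ S, c ∈ Submodule.span k {x : A | IsGroupLikeElem k x}) : SGA3b.IsDiag k A := by
  let W : Submodule k A := Submodule.span k {x | IsGroupLikeElem k x}
  let WA : Subalgebra k A := W.toSubalgebra (Submodule.subset_span IsGroupLikeElem.one)
    (fun a b ha hb => by
      refine Submodule.span_induction₂ (p := fun a b _ _ => a * b ∈ W)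
        (fun a b ha hb => Submodule.subset_span (show a * b ∈ {x : A | IsGroupLikeElem k x} from
          IsGroupLikeElem.mul ha hb))
        (fun y _ => by rw [zero_mul]; exact zero_mem _)
        (fun x _ => by rw [mul_zero]; exact zero_mem _) (fun x y z _ _ _ h1 h2 => ?_)
        (fun x y z _ _ _ h1 h2 => ?_) (fun r x y _ _ h1 => ?_) (fun r x y _ _ h1 => ?_) ha hb
      · rw [add_mul]; exact add_mem h1 h2
      · rw [mul_add]; exact add_mem h1 h2
      · rw [smul_mul_assoc]; exact Submodule.smul_mem _ _ h1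
      · rw [mul_smul_comm]; exact Submodule.smul_mem _ _ h1)
  have hW : W = ⊤ := by
    rw [eq_top_iff]
    intro x _
    have hx : x ∈ Algebra.adjoin k S := by rw [hS]; trivial
    exact Algebra.adjoin_le (S := WA) (fun c hc => h c hc) hx
  let M' := GroupLike k A
  let f : MonoidAlgebra k M' →ₐ[k] A :=
    MonoidAlgebra.lift k A M' (GroupLike.valMonoidHom k A)
  let Φ : MonoidAlgebra k M' →ₐc[k] A := BialgHom.ofAlgHom f
    (MonoidAlgebra.algHom_ext (fun m => by simp [f, GroupLike.valMonoidHom, m.2.counit_eq_one]) (by ext))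
    (MonoidAlgebra.algHom_ext (fun m => by simp [f, GroupLike.valMonoidHom, m.2.comul_eq_tmul_self]) (by ext))
  have hlc : ∀ x, Φ x = Finsupp.linearCombination k (GroupLike.val (R := k) (A := A))
      (MonoidAlgebra.coeffLinearEquiv k x) := by
    intro x
    induction x using MonoidAlgebra.induction_linear with
    | zero => simp
    | add x y hx hy => simp only [map_add, hx, hy]
    | single m r => simp [Φ, f, GroupLike.valMonoidHom]
  have hbij : Function.Bijective Φ := by
    rw [show (Φ : MonoidAlgebra k M' → A) =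
      Finsupp.linearCombination k (GroupLike.val (R := k) (A := A)) ∘
        (MonoidAlgebra.coeffLinearEquiv k) from funext hlc]
    refine Function.Bijective.comp ⟨linearIndep_groupLikeVal, ?_⟩ (LinearEquiv.bijective _)
    rw [← LinearMap.range_eq_top, Finsupp.range_linearCombination]
    rw [show Set.range (GroupLike.val (R := k) (A := A)) = {x | IsGroupLikeElem k x} from
      Set.ext fun x => ⟨fun ⟨g, hg⟩ => hg ▸ g.2, fun hx => ⟨⟨x, hx⟩, rfl⟩⟩]
    exact hW
  exact ⟨M', inferInstance, ⟨(BialgEquiv.ofBijective Φ hbij).symm⟩⟩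

theorem isNilpotent_ker_lmul' (L L' : Type u) [Field L] [Field L'] [Algebra L L']
    [IsPurelyInseparable L L'] :
    ∀ x ∈ RingHom.ker (Algebra.TensorProduct.lmul' (S := L') L), IsNilpotent x := by
  intro x hx
  rw [RingHom.mem_ker] at hx
  have key : ∀ x : L' ⊗[L] L',
      IsNilpotent (x - (Algebra.TensorProduct.lmul' L x) ⊗ₜ[L] (1 : L')) := by
    intro x
    induction x using TensorProduct.induction_on with
    | zero => simp
    | add a b ha hb =>
      rw [map_add, TensorProduct.add_tmul, add_sub_add_comm]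
      exact (Commute.all _ _).isNilpotent_add ha hb
    | tmul a b =>
      rw [Algebra.TensorProduct.lmul'_apply_tmul,
        show a ⊗ₜ[L] b - (a * b) ⊗ₜ[L] (1 : L') =
          (a ⊗ₜ[L] (1 : L')) * ((1 : L') ⊗ₜ[L] b - b ⊗ₜ[L] (1 : L')) by
          rw [mul_sub, Algebra.TensorProduct.tmul_mul_tmul, Algebra.TensorProduct.tmul_mul_tmul,
            mul_one, one_mul, mul_one]]
      refine (Commute.all _ _).isNilpotent_mul_left ?_
      obtain ⟨q, hq⟩ := ExpChar.exists L
      obtain ⟨n, l, hl⟩ := IsPurelyInseparable.pow_mem L q b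
      haveI : ExpChar (L' ⊗[L] L') q :=
        expChar_of_injective_ringHom (algebraMap L (L' ⊗[L] L')).injective q
      refine ⟨q ^ n, ?_⟩
      rw [sub_pow_expChar_pow, Algebra.TensorProduct.tmul_pow, Algebra.TensorProduct.tmul_pow,
        one_pow, ← hl, ← Algebra.TensorProduct.algebraMap_apply,
        ← Algebra.TensorProduct.algebraMap_apply', sub_self]
  simpa [hx] using key x

set_option maxHeartbeats 1000000 in
theorem span_glike_descend {L : Type u} [Field L] {A : Type u} [CommRing A] [HopfAlgebra L A]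
    (hA : SGA3b.IsMultType L A) (L' : Type u) [Field L'] [Algebra L L'] [IsPurelyInseparable L L']
    {x : A} (hx : (1 : L') ⊗ₜ[L] x ∈ Submodule.span L' {z : L' ⊗[L] A | IsGroupLikeElem L' z}) :
    x ∈ Submodule.span L {z : A | IsGroupLikeElem L z} := by
  let W : Submodule L A := Submodule.span L {z : A | IsGroupLikeElem L z}
  show x ∈ W
  rw [← Submodule.Quotient.mk_eq_zero]
  apply Module.FaithfullyFlat.tensorProduct_mk_injective (A := L) (B := L') _
  show (1 : L') ⊗ₜ[L] W.mkQ x = (1 : L') ⊗ₜ[L] (0 : A ⧸ W)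
  rw [TensorProduct.tmul_zero]
  have h3 : Submodule.span L' {z : L' ⊗[L] A | IsGroupLikeElem L' z} ≤
      LinearMap.ker (W.mkQ.baseChange L') := by
    rw [Submodule.span_le]
    intro z hz
    obtain ⟨g₀, hg₀, rfl⟩ := glike_descend hA L' (isNilpotent_ker_lmul' L L') hz
    simp [(Submodule.Quotient.mk_eq_zero W).2 (Submodule.subset_span hg₀)]
  simpa using h3 hx

theorem isDiag_of_tower (L L' : Type u) [Field L] [Field L'] [Algebra k L] [Algebra k L']
    [Algebra L L'] [IsScalarTower k L L'] [IsPurelyInseparable L L'] (S : Finset C)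
    (hS : Algebra.adjoin k (S : Set C) = ⊤) (h : SGA3b.IsMultType k C)
    (hz : ∀ c ∈ S, (1 : L') ⊗ₜ[k] c ∈
        Submodule.span L' {x : L' ⊗[k] C | IsGroupLikeElem L' x}) :
    SGA3b.IsDiag L (L ⊗[k] C) := by
  let i : C →ₐ[k] L ⊗[k] C := Algebra.TensorProduct.includeRight
  refine isDiag_of_span_glike (i '' S) ?_ ?_
  · rw [eq_top_iff]
    rintro x -
    induction x using TensorProduct.induction_on with
    | zero => exact zero_mem _
    | tmul l c =>
      rw [show l ⊗ₜ[k] c = l • ((1 : L) ⊗ₜ[k] c) by rw [TensorProduct.smul_tmul', smul_eq_mul, mul_one]]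
      refine Subalgebra.smul_mem _ ?_ l
      have hc : c ∈ Algebra.adjoin k (S : Set C) := by rw [hS]; trivial
      exact Algebra.adjoin_le (S := ((Algebra.adjoin L (i '' S)).restrictScalars k).comap i)
        (fun s hs => Algebra.subset_adjoin ⟨s, hs, rfl⟩) hc
    | add a b ha hb => exact add_mem ha hb
  rintro _ ⟨c, hc, rfl⟩
  refine span_glike_descend (isMultType_baseChange L h) L' ?_
  let E := (cancelBC k C L L').symm
  have h1 : E ((1 : L') ⊗ₜ[k] c) = (1 : L') ⊗ₜ[L] ((1 : L) ⊗ₜ[k] c) := by
    refine (cancelBC k C L L').injective (((cancelBC k C L L').apply_symm_apply _).trans ?_)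
    exact ((cancelBC_tmul k C L L' _ _ _).trans (by rw [one_smul])).symm
  show (1 : L') ⊗ₜ[L] ((1 : L) ⊗ₜ[k] c) ∈ _
  rw [← h1]
  have := Submodule.mem_map_of_mem (f := (E : L' ⊗[k] C ≃ₐ[L'] L' ⊗[L] (L ⊗[k] C)).toLinearMap) (hz c hc)
  rw [Submodule.map_span] at this
  refine Submodule.span_mono ?_ this
  rintro _ ⟨x, hx, rfl⟩
  exact hx.map E

/-- Over a field, multiplicative type and finite type: split by a finite separable extension. -/
theorem exists_separable_isDiag (hft : Algebra.FiniteType k C) (h : SGA3b.IsMultType k C) :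
    ∃ (L : Type u) (_ : Field L) (_ : Algebra k L),
      Module.Finite k L ∧ Algebra.IsSeparable k L ∧ SGA3b.IsDiagFT L (L ⊗[k] C) := by
  obtain ⟨S, hS⟩ := hft.out
  obtain ⟨L', _, _, _, hz⟩ := exists_finite_field_span S h
  let L := separableClosure k L'
  obtain ⟨M, _, ⟨e⟩⟩ : SGA3b.IsDiag L (L ⊗[k] C) := isDiag_of_tower L L' S hS h hz
  haveI : Module.Finite k L := IntermediateField.finiteDimensional_left _
  haveI : Algebra.FiniteType L (MonoidAlgebra L M) :=
    (Algebra.FiniteType.baseChange (R := k) L (A := C)).equiv (e : _ ≃ₐ[L] _)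
  exact ⟨L, inferInstance, inferInstance, inferInstance, inferInstance, M, inferInstance,
    Group.fg_iff_monoid_fg.mpr (MonoidAlgebra.fg_of_finiteType (R := L)), ⟨e⟩⟩

/-- Over a field, multiplicative type and finite type imply isotrivial. -/
theorem isIsotrivial_of_field (hft : Algebra.FiniteType k C) (h : SGA3b.IsMultType k C) :
    SGA3b.IsIsotrivial k C := by
  obtain ⟨L, _, _, _, _, hd⟩ := exists_separable_isDiag hft h
  obtain ⟨M, _, -, e⟩ := hd
  haveI : Algebra.FormallyEtale k L := Algebra.FormallyEtale.of_isSeparable k L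
  haveI : Algebra.FinitePresentation k L :=
    Algebra.FinitePresentation.of_finiteType.1 inferInstance
  haveI : Algebra.Etale k L := {}
  exact ⟨L, inferInstance, inferInstance, inferInstance, inferInstance, inferInstance,
    M, inferInstance, e⟩

/-- Closed subgroups of groups of multiplicative type over a field. -/
theorem isMultType_quot_of_field (hft : Algebra.FiniteType k C) (h : SGA3b.IsMultType k C)
    (J : Ideal C) [J.IsHopfIdeal k] : SGA3b.IsMultType k (C ⧸ J) := by
  obtain ⟨L, _, _, _, _, M, _, -, ⟨e⟩⟩ := exists_separable_isDiag hft h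
  haveI : Algebra.FormallyEtale k L := Algebra.FormallyEtale.of_isSeparable k L
  haveI : Algebra.FinitePresentation k L :=
    Algebra.FinitePresentation.of_finiteType.1 inferInstance
  haveI : Algebra.Etale k L := {}
  refine isMultType_of_isIsotrivial ⟨L, inferInstance, inferInstance, inferInstance, inferInstance,
    inferInstance, ?_⟩
  let q : L ⊗[k] C →ₐc[L] L ⊗[k] (C ⧸ J) := bcMap L (Bialgebra.Quotient.mkBialgHom (R := k) J)
  have hq : Function.Surjective q := fun z => by
    induction z using TensorProduct.induction_on with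
    | zero => exact ⟨0, map_zero q⟩
    | tmul l y =>
      obtain ⟨c, rfl⟩ := Ideal.Quotient.mk_surjective y
      exact ⟨l ⊗ₜ[k] c, rfl⟩
    | add a b ha hb =>
      obtain ⟨x, rfl⟩ := ha
      obtain ⟨y, rfl⟩ := hb
      exact ⟨x + y, map_add q x y⟩
  refine isDiag_of_span_glike (k := L) Set.univ (Algebra.adjoin_univ L _) ?_
  rintro y -
  obtain ⟨x, rfl⟩ := hq y
  obtain ⟨z, hz⟩ : ∃ z, e.symm z = x := ⟨e x, e.symm_apply_apply x⟩
  subst hz
  induction z using MonoidAlgebra.induction_linear with
  | zero => simp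
  | add a b ha hb => simp only [map_add]; exact add_mem ha hb
  | single m r =>
    rw [show MonoidAlgebra.single m r = r • MonoidAlgebra.single m (1 : L) by simp]
    simp only [map_smul]
    exact Submodule.smul_mem _ _ (Submodule.subset_span
      (((MonoidAlgebra.isGroupLikeElem_single_one (R := L) (A := L) m).map e.symm).map q))

end Groth.Agent.MultTypeLib
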