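import Groth.Agent.Lib.MultType.Basic

/-!
# A bialgebra map of group algebras bijective on field points is bijective
-/

universe u

open TensorProduct

namespace Groth.Agent.MultTypeLib

variable {R : Type*} [CommRing R]

open scoped Classical in
/-- Group-like elements of a monoid algebra are sums of orthogonal idempotents times basis. -/
theorem coeff_mul_coeff_of_glike {N : Type*} [CommMonoid N] {x : MonoidAlgebra R N}
    (hx : IsGroupLikeElem R x) (n n' : N) :
    x.coeff n * x.coeff n' = if n = n' then x.coeff n else 0 := by
  let c : N → MonoidAlgebra R N →ₗ[R] R := fun k =>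
    Finsupp.lapply k ∘ₗ (MonoidAlgebra.coeffLinearEquiv R).toLinearMap
  let P : MonoidAlgebra R N ⊗[R] MonoidAlgebra R N →ₗ[R] R :=
    LinearMap.mul' R R ∘ₗ TensorProduct.map (c n) (c n')
  have hP : ∀ y, P (Coalgebra.comul (R := R) y) = if n = n' then c n y else 0 := by
    intro y
    induction y using MonoidAlgebra.induction_linear with
    | zero => simp
    | add x y hx hy => rw [map_add, map_add, hx, hy]; split_ifs <;> simp
    | single k r =>
      rcases eq_or_ne n n' with h | h
      · subst h
        rcases eq_or_ne k n with h2 | h2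
        · subst h2; simp [P, c]
        · simp [P, c, Ne.symm h2]
      · rw [if_neg h]
        rcases eq_or_ne k n with h2 | h2
        · subst h2; simp [P, c, Ne.symm h]
        · simp [P, c, Ne.symm h2]
  have := hP x
  rw [hx.comul_eq_tmul_self] at this
  simpa [P, c] using this

open scoped Classical in
theorem sum_coeff_of_glike {N : Type*} [CommMonoid N] {x : MonoidAlgebra R N}
    (hx : IsGroupLikeElem R x) : x.coeff.sum (fun _ r => r) = 1 := by
  have : ∀ y : MonoidAlgebra R N, Coalgebra.counit (R := R) y = y.coeff.sum (fun _ r => r) := by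
    intro y
    induction y using MonoidAlgebra.induction_linear with
    | zero => simp
    | add x y hx hy =>
      rw [map_add, hx, hy, MonoidAlgebra.coeff_add,
        Finsupp.sum_add_index (fun _ _ => rfl) (fun _ _ _ _ => rfl)]
    | single k r => simp
  rw [← this, hx.counit_eq_one]

theorem eq_zero_of_isIdempotentElem_of_forall_mem {e : R} (he : IsIdempotentElem e)
    (h : ∀ p : PrimeSpectrum R, e ∈ p.asIdeal) : e = 0 := by
  have : IsNilpotent e := nilpotent_iff_mem_prime.mpr fun p hp => h ⟨p, hp⟩
  obtain ⟨n, hn⟩ := this
  rcases n with _ | n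
  · simpa using congrArg (e * ·) hn
  · rwa [he.pow_succ_eq] at hn

variable {R : Type u} [CommRing R] {M N : Type*} [CommMonoid M] [CommMonoid N]

/-- A bialgebra map of monoid algebras which is bijective after every residue field is bijective. -/
theorem bijective_of_residueField (Φ : MonoidAlgebra R M →ₐc[R] MonoidAlgebra R N)
    (h : ∀ (p : Ideal R) [p.IsPrime], Function.Bijective
      ((Φ : MonoidAlgebra R M →ₗ[R] MonoidAlgebra R N).baseChange p.ResidueField)) :
    Function.Bijective Φ := by
  classical
  let e : M → N → R := fun m n => (Φ (MonoidAlgebra.single m 1)).coeff n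
  have hgl : ∀ m, IsGroupLikeElem R (Φ (MonoidAlgebra.single m (1 : R))) := fun m =>
    (MonoidAlgebra.isGroupLikeElem_single_one (R := R) (A := R) m).map Φ
  have horth : ∀ m n n', e m n * e m n' = if n = n' then e m n else 0 := fun m n n' =>
    coeff_mul_coeff_of_glike (hgl m) n n'
  have hidem : ∀ m n, IsIdempotentElem (e m n) := fun m n => by
    show _ = _
    rw [horth, if_pos rfl]
  have hΦ : ∀ m r, Φ (MonoidAlgebra.single m r) = r • Φ (MonoidAlgebra.single m 1) := by
    intro m r
    rw [← map_smul]
    simp
  -- every `n` is hit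
  have hcov : ∀ n (p : PrimeSpectrum R), ∃ m, e m n ∉ p.asIdeal := by
    intro n p
    by_contra hcon
    push Not at hcon
    obtain ⟨z, hz⟩ := (h p.asIdeal).2 ((1 : p.asIdeal.ResidueField) ⊗ₜ[R] MonoidAlgebra.single n 1)
    let g : p.asIdeal.ResidueField ⊗[R] MonoidAlgebra R N →ₗ[R] p.asIdeal.ResidueField :=
      (TensorProduct.rid R p.asIdeal.ResidueField).toLinearMap ∘ₗ
        (Finsupp.lapply n ∘ₗ (MonoidAlgebra.coeffLinearEquiv R).toLinearMap).lTensor _
    have hg : ∀ z, g ((Φ : MonoidAlgebra R M →ₗ[R] MonoidAlgebra R N).baseChange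
        p.asIdeal.ResidueField z) = 0 := by
      intro z
      induction z using TensorProduct.induction_on with
      | zero => simp
      | add x y hx hy => simp only [map_add, hx, hy, add_zero]
      | tmul c x =>
        induction x using MonoidAlgebra.induction_linear with
        | zero => simp
        | add x y hx hy => rw [TensorProduct.tmul_add, map_add, map_add, hx, hy, add_zero]
        | single m r =>
          have he : e m n • c = 0 := by
            rw [Algebra.smul_def, Ideal.algebraMap_residueField_eq_zero.mpr (hcon m), zero_mul]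
          show (((Φ (MonoidAlgebra.single m r)).coeff n : R) • c) = 0
          rw [hΦ]
          simp only [MonoidAlgebra.coeff_smul, Finsupp.smul_apply, smul_eq_mul, mul_smul]
          rw [he, smul_zero]
    have := hg z
    rw [hz] at this
    simp [g] at this
  -- and only once
  have huniq : ∀ m m' n, m ≠ m' → e m n * e m' n = 0 := by
    intro m m' n hne
    refine eq_zero_of_isIdempotentElem_of_forall_mem ((hidem m n).mul (hidem m' n)) fun p => ?_
    let t := e m n * e m' n
    have h1 : ∀ k, t • Φ (MonoidAlgebra.single k (1 : R)) = Φ (MonoidAlgebra.single k t) := fun k =>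
      (hΦ k t).symm
    have h2 : Φ (MonoidAlgebra.single m t) = Φ (MonoidAlgebra.single m' t) := by
      rw [← h1, ← h1]
      ext k
      simp only [MonoidAlgebra.coeff_smul, Finsupp.smul_apply, smul_eq_mul]
      show t * e m k = t * e m' k
      rcases eq_or_ne n k with h3 | h3
      · subst h3
        show e m n * e m' n * e m n = e m n * e m' n * e m' n
        rw [mul_right_comm, horth, if_pos rfl, mul_assoc, horth, if_pos rfl]
      · show e m n * e m' n * e m k = e m n * e m' n * e m' k
        rw [mul_right_comm, horth, if_neg h3, mul_assoc, horth, if_neg h3]; simp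
    have h4 : (1 : p.asIdeal.ResidueField) ⊗ₜ[R] MonoidAlgebra.single m t =
        (1 : p.asIdeal.ResidueField) ⊗ₜ[R] MonoidAlgebra.single m' t := by
      refine (h p.asIdeal).1 ?_
      simp only [LinearMap.baseChange_tmul]
      exact congrArg _ h2
    let g : p.asIdeal.ResidueField ⊗[R] MonoidAlgebra R M →ₗ[R] p.asIdeal.ResidueField :=
      (TensorProduct.rid R p.asIdeal.ResidueField).toLinearMap ∘ₗ
        (Finsupp.lapply m ∘ₗ (MonoidAlgebra.coeffLinearEquiv R).toLinearMap).lTensor _
    have := congrArg g h4
    simp [g, hne, ← Algebra.algebraMap_eq_smul_one] at this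
    exact this
  -- finite columns, summing to one
  have hcol : ∀ n, ∃ t : Finset M, ∑ m ∈ t, e m n = 1 ∧ ∀ m ∉ t, e m n = 0 := by
    intro n
    have hspan : Ideal.span (Set.range fun m => e m n) = ⊤ := by
      by_contra hne
      obtain ⟨p, hp, hle⟩ := Ideal.exists_le_maximal _ hne
      obtain ⟨m, hm⟩ := hcov n ⟨p, hp.isPrime⟩
      exact hm (hle (Ideal.subset_span ⟨m, rfl⟩))
    obtain ⟨s, hs, hs'⟩ := (Ideal.span_eq_top_iff_finite _).mp hspan
    choose f hf using fun x : s => hs x.2
    let t : Finset M := Finset.univ.image f
    have hkill : ∀ r : R, (∀ m ∈ t, e m n * r = 0) → r = 0 := by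
      intro r hr
      have : Ideal.span (s : Set R) ≤ LinearMap.ker (LinearMap.mulRight R r) := by
        refine Ideal.span_le.mpr fun x hx => ?_
        show x * r = 0
        have h0 := hr (f ⟨x, hx⟩) (Finset.mem_image_of_mem f (Finset.mem_univ _))
        rwa [show e (f ⟨x, hx⟩) n = x from hf ⟨x, hx⟩] at h0
      have h1 : (1 : R) ∈ LinearMap.ker (LinearMap.mulRight R r) := this (by rw [hs']; trivial)
      simpa using h1
    refine ⟨t, ?_, fun m hm => hkill _ fun m' hm' => huniq m' m n fun h => hm (h ▸ hm')⟩
    refine sub_eq_zero.mp (hkill _ fun m hm => ?_)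
    rw [mul_sub, mul_one, Finset.mul_sum, Finset.sum_eq_single_of_mem m hm
      (fun m' _ hne => huniq m m' n hne.symm), (hidem m n).eq, sub_self]
  choose t ht ht' using hcol
  let ψ : MonoidAlgebra R N →ₗ[R] MonoidAlgebra R M :=
    (Finsupp.linearCombination R fun n => ∑ m ∈ t n, MonoidAlgebra.single m (e m n)) ∘ₗ
      (MonoidAlgebra.coeffLinearEquiv R).toLinearMap
  have hψ : ∀ n r, ψ (MonoidAlgebra.single n r) =
      r • ∑ m ∈ t n, MonoidAlgebra.single m (e m n) := fun n r => by simp [ψ]
  have hright : ∀ y, Φ (ψ y) = y := by
    intro y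
    induction y using MonoidAlgebra.induction_linear with
    | zero => simp
    | add x y hx hy => rw [map_add, map_add, hx, hy]
    | single n r =>
      rw [hψ, map_smul, map_sum]
      conv_rhs => rw [← mul_one r, ← MonoidAlgebra.smul_single']
      congr 1
      ext k
      simp only [MonoidAlgebra.coeff_sum, Finsupp.finsetSum_apply, MonoidAlgebra.coeff_single,
        Finsupp.single_apply]
      rw [Finset.sum_congr rfl (fun m _ => show (Φ (MonoidAlgebra.single m (e m n))).coeff k =
        if n = k then e m n else 0 from by
          rw [hΦ]; simp only [MonoidAlgebra.coeff_smul, Finsupp.smul_apply, smul_eq_mul]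
          exact horth m n k)]
      split_ifs with hk
      · exact ht n
      · simp
  have hleft : ∀ x, ψ (Φ x) = x := by
    intro x
    induction x using MonoidAlgebra.induction_linear with
    | zero => simp
    | add x y hx hy => rw [map_add, map_add, hx, hy]
    | single m r =>
      rw [hΦ, map_smul]
      conv_rhs => rw [← mul_one r, ← MonoidAlgebra.smul_single']
      congr 1
      rw [← MonoidAlgebra.sum_coeff_single (Φ (MonoidAlgebra.single m 1)), Finsupp.sum, map_sum]
      have hsum : ∀ n, ψ (MonoidAlgebra.single n (e m n)) =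
          MonoidAlgebra.single m (e m n) := by
        intro n
        rw [hψ, Finset.smul_sum, Finset.sum_eq_single m]
        · rw [MonoidAlgebra.smul_single', (hidem m n).eq]
        · intro m' _ hne
          rw [MonoidAlgebra.smul_single', huniq m m' n hne.symm]; simp
        · intro hm
          rw [ht' n m hm]; simp
      rw [Finset.sum_congr rfl (fun n _ => hsum n)]
      refine (map_sum (MonoidAlgebra.lsingle (R := R) m) (fun n => e m n) _).symm.trans ?_
      exact congrArg (MonoidAlgebra.single m) (sum_coeff_of_glike (hgl m))
  exact ⟨Function.LeftInverse.injective hleft, Function.RightInverse.surjective hright⟩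

end Groth.Agent.MultTypeLib
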