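import Groth.Agent.Lib.MultType.Basic
import Groth.Agent.Lib.MultType.BijCrit

/-!
# Splittings of groups of multiplicative type, base change, bijectivity criteria
-/

universe u

open TensorProduct

namespace Groth.Agent.MultTypeLib

section BC

variable {R : Type u} [CommRing R] {A B : Type u} [CommRing A] [Bialgebra R A] [CommRing B]
  [Bialgebra R B]

/-- Promote an algebra isomorphism respecting comultiplication on generators. -/
theorem comul_algHom_ext {T : Type u} [CommRing T] [Algebra R T] {X : Type u} [CommRing X]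
    [Algebra R X] [Algebra T X] [IsScalarTower R T X] {f g : T ⊗[R] A →ₐ[T] X}
    (h : ∀ a : A, f ((1 : T) ⊗ₜ[R] a) = g ((1 : T) ⊗ₜ[R] a)) : f = g :=
  Algebra.TensorProduct.ext' fun t a => by
    rw [show t ⊗ₜ[R] a = t • ((1 : T) ⊗ₜ[R] a) by rw [TensorProduct.smul_tmul', smul_eq_mul, mul_one],
      map_smul, map_smul, h]

variable (R) (T T' : Type u) [CommRing T] [CommRing T'] [Algebra R T] [Algebra R T'] [Algebra T T']
  [IsScalarTower R T T'] (A)

/-- Transitivity of base change, as bialgebras. -/
noncomputable def cancelBC : T' ⊗[T] (T ⊗[R] A) ≃ₐc[T'] T' ⊗[R] A :=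
  (BialgEquiv.ofAlgEquiv (Algebra.TensorProduct.cancelBaseChange R T T' T' A).symm
    (by
      refine comul_algHom_ext fun a => ?_
      simp)
    (by
      refine comul_algHom_ext (R := R) (A := A) (T := T')
        (X := (T' ⊗[T] (T ⊗[R] A)) ⊗[T'] (T' ⊗[T] (T ⊗[R] A))) fun a => ?_
      simp [← (Coalgebra.Repr.arbitrary R a).eq, TensorProduct.tmul_sum])).symm

theorem cancelBC_tmul (t' : T') (t : T) (a : A) :
    cancelBC R A T T' (t' ⊗ₜ[T] (t ⊗ₜ[R] a)) = (t • t') ⊗ₜ[R] a :=
  Algebra.TensorProduct.cancelBaseChange_tmul R T T' T' A t' t a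

variable {R A T}

/-- Base change of a bialgebra isomorphism. -/
noncomputable def bcEquiv (e : A ≃ₐc[R] B) : T' ⊗[R] A ≃ₐc[T'] T' ⊗[R] B :=
  BialgEquiv.ofAlgEquiv (Algebra.TensorProduct.congr AlgEquiv.refl (e : A ≃ₐ[R] B))
    (by
      refine comul_algHom_ext fun a => ?_
      simp)
    (by
      refine comul_algHom_ext fun a => ?_
      have h : TensorProduct.map (e : A →ₗ[R] B) (e : A →ₗ[R] B) (Coalgebra.comul (R := R) a) =
          Coalgebra.comul (R := R) (e a) := CoalgHomClass.map_comp_comul_apply e a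
      simp [← h, ← (Coalgebra.Repr.arbitrary R a).eq, TensorProduct.tmul_sum])

theorem bcEquiv_tmul (e : A ≃ₐc[R] B) (t : T') (a : A) : bcEquiv T' e (t ⊗ₜ[R] a) = t ⊗ₜ[R] e a :=
  rfl

variable (R) (M : Type u) [CommMonoid M]

/-- Base change of a group algebra. -/
noncomputable def diagBC : T' ⊗[R] MonoidAlgebra R M ≃ₐc[T'] MonoidAlgebra T' M :=
  BialgEquiv.ofAlgEquiv (MonoidAlgebra.scalarTensorEquiv R T')
    (by
      refine comul_algHom_ext fun a => ?_
      induction a using MonoidAlgebra.induction_linear with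
      | zero => simp
      | add x y hx hy => simp only [TensorProduct.tmul_add, map_add, hx, hy]
      | single k r => simp [MonoidAlgebra.scalarTensorEquiv_tmul, Algebra.smul_def])
    (by
      refine comul_algHom_ext fun a => ?_
      induction a using MonoidAlgebra.induction_linear with
      | zero => simp
      | add x y hx hy => simp only [TensorProduct.tmul_add, map_add, hx, hy]
      | single k r =>
        rw [show MonoidAlgebra.single k r = r • MonoidAlgebra.single k (1 : R) by simp,
          TensorProduct.tmul_smul, ← algebraMap_smul T' r]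
        simp only [map_smul]
        simp [MonoidAlgebra.scalarTensorEquiv_tmul])

theorem diagBC_tmul_single (t : T') (m : M) :
    diagBC R T' M (t ⊗ₜ[R] MonoidAlgebra.single m 1) = MonoidAlgebra.single m t := by
  simp [diagBC, MonoidAlgebra.scalarTensorEquiv_tmul]

end BC

section Diag

variable {R : Type u} [CommRing R] {A : Type u} [CommRing A] [HopfAlgebra R A]

theorem isDiag_baseChange (T T' : Type u) [CommRing T] [CommRing T'] [Algebra R T] [Algebra R T']
    [Algebra T T'] [IsScalarTower R T T'] (h : SGA3b.IsDiag T (T ⊗[R] A)) :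
    SGA3b.IsDiag T' (T' ⊗[R] A) := by
  obtain ⟨M, _, ⟨e⟩⟩ := h
  exact ⟨M, inferInstance, ⟨((cancelBC R A T T').symm.trans (bcEquiv T' e)).trans (diagBC T T' M)⟩⟩

theorem isDiag_baseChange_self (T : Type u) [CommRing T] [Algebra R T] (h : SGA3b.IsDiag R A) :
    SGA3b.IsDiag T (T ⊗[R] A) := by
  obtain ⟨M, _, ⟨e⟩⟩ := h
  exact ⟨M, inferInstance, ⟨(bcEquiv T e).trans (diagBC R T M)⟩⟩

theorem isMultTypeConst_of_isDiag (h : SGA3b.IsDiag R A) : SGA3b.IsMultTypeConst R A :=
  ⟨R, inferInstance, Algebra.id R, inferInstance, isDiag_baseChange_self R h⟩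

theorem isMultType_of_const (h : SGA3b.IsMultTypeConst R A) : SGA3b.IsMultType R A := by
  obtain ⟨T, _, _, _, hd⟩ := h
  refine ⟨{1}, by simp, fun f hf => ?_⟩
  simp only [Set.mem_singleton_iff] at hf
  subst hf
  let L := Localization.Away (1 : R)
  let T' := L ⊗[R] T
  have h1 : SGA3b.IsDiag T' (T' ⊗[R] A) := by
    letI : Algebra T T' := Algebra.TensorProduct.rightAlgebra
    exact isDiag_baseChange T T' hd
  obtain ⟨M, _, ⟨e⟩⟩ := h1
  exact ⟨T', inferInstance, inferInstance, inferInstance, M, inferInstance,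
    ⟨(cancelBC R A L T').trans e⟩⟩

theorem isMultType_of_isDiag (h : SGA3b.IsDiag R A) : SGA3b.IsMultType R A :=
  isMultType_of_const (isMultTypeConst_of_isDiag h)

theorem isMultType_of_isIsotrivial (h : SGA3b.IsIsotrivial R A) : SGA3b.IsMultType R A := by
  obtain ⟨T, i1, i2, _, _, hff, hd⟩ := h
  exact isMultType_of_const ⟨T, i1, i2, hff, hd⟩

end Diag

section Family

variable {R : Type u} [CommRing R]

/-- A ring map from a finite product to a field factors through one projection. -/
theorem exists_proj_of_field {ι : Type*} [Finite ι] {U : ι → Type*} [∀ k, CommRing (U k)]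
    [∀ k, Algebra R (U k)] {K : Type*} [Field K] [Algebra R K] (φ : (Π k, U k) →ₐ[R] K) :
    ∃ k, ∃ ψ : U k →ₐ[R] K, φ = ψ.comp (Pi.evalAlgHom R U k) := by
  classical
  have := Fintype.ofFinite ι
  obtain ⟨k, hk⟩ : ∃ k, φ (Pi.single k 1) ≠ 0 := by
    by_contra hcon
    push Not at hcon
    have : φ (∑ k, Pi.single k 1) = 0 := by rw [map_sum]; exact Finset.sum_eq_zero fun k _ => hcon k
    rw [show (∑ k, Pi.single k (1 : U k)) = (1 : Π k, U k) from
      funext fun i => by simp [Finset.sum_apply]] at this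
    simp at this
  have hk1 : φ (Pi.single k 1) = 1 := by
    have h2 : φ (Pi.single k 1) * φ (Pi.single k 1) = φ (Pi.single k 1) := by
      rw [← map_mul, ← Pi.single_mul, mul_one]
    exact (mul_eq_left₀ hk).mp h2
  let ψ : U k →ₐ[R] K :=
    { toFun := fun u => φ (Pi.single k u)
      map_one' := hk1
      map_mul' := fun u v => by rw [← map_mul, ← Pi.single_mul]
      map_zero' := by simp
      map_add' := fun u v => by rw [Pi.single_add, map_add]
      commutes' := fun r => by
        rw [show Pi.single k (algebraMap R (U k) r) = algebraMap R (Π k, U k) r * Pi.single k 1 from ?_,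
          map_mul, hk1, mul_one, AlgHom.commutes]
        funext i
        rcases eq_or_ne i k with h | h
        · subst h; simp
        · simp [h] }
  refine ⟨k, ψ, AlgHom.ext fun x => ?_⟩
  show φ x = φ (Pi.single k (x k))
  rw [show Pi.single k (x k) = x * Pi.single k 1 from ?_, map_mul, hk1, mul_one]
  funext i
  rcases eq_or_ne i k with h | h
  · subst h; simp
  · simp [h]

theorem faithfullyFlat_pi_tensor {ι κ : Type u} [Finite ι] [Finite κ] (T : ι → Type u)
    (U : κ → Type u) [∀ i, CommRing (T i)] [∀ i, Algebra R (T i)] [∀ k, CommRing (U k)]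
    [∀ k, Algebra R (U k)] [∀ i, Module.Flat R (T i)] [∀ k, Module.Flat R (U k)]
    [Module.FaithfullyFlat R (Π i, T i)] [Module.FaithfullyFlat R (Π k, U k)] :
    Module.FaithfullyFlat R (Π p : ι × κ, T p.1 ⊗[R] U p.2) := by
  refine faithfullyFlat_pi _ fun p => ?_
  have := Module.FaithfullyFlat.trans R (Π i, T i) ((Π i, T i) ⊗[R] (Π k, U k))
  obtain ⟨P, hP⟩ := PrimeSpectrum.comap_surjective_of_faithfullyFlat (A := R)
    (B := (Π i, T i) ⊗[R] (Π k, U k)) p
  let K := P.asIdeal.ResidueField
  obtain ⟨i, ψ, hψ⟩ := exists_proj_of_field (K := K)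
    ((IsScalarTower.toAlgHom R ((Π i, T i) ⊗[R] (Π k, U k)) K).comp Algebra.TensorProduct.includeLeft)
  obtain ⟨k, χ, hχ⟩ := exists_proj_of_field (K := K)
    ((IsScalarTower.toAlgHom R ((Π i, T i) ⊗[R] (Π k, U k)) K).comp Algebra.TensorProduct.includeRight)
  let f : T i ⊗[R] U k →ₐ[R] K := Algebra.TensorProduct.lift ψ χ (fun _ _ => Commute.all _ _)
  refine ⟨(i, k), ⟨RingHom.ker f, RingHom.ker_isPrime _⟩, ?_⟩
  rw [← hP]
  ext r
  show f (algebraMap R _ r) = 0 ↔ algebraMap R ((Π i, T i) ⊗[R] (Π k, U k)) r ∈ P.asIdeal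
  rw [AlgHom.commutes, IsScalarTower.algebraMap_apply R ((Π i, T i) ⊗[R] (Π k, U k)) K,
    Ideal.algebraMap_residueField_eq_zero]

variable {A B : Type u} [CommRing A] [HopfAlgebra R A] [CommRing B] [HopfAlgebra R B]

theorem exists_split_family (h : SGA3b.IsMultType R A) :
    ∃ (ι : Type u) (_ : Finite ι) (T : ι → Type u) (_ : ∀ i, CommRing (T i))
      (_ : ∀ i, Algebra R (T i)), (∀ i, Module.Flat R (T i)) ∧
      Module.FaithfullyFlat R (Π i, T i) ∧ ∀ i, SGA3b.IsDiag (T i) (T i ⊗[R] A) := by
  classical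
  obtain ⟨s, hs, hf⟩ := h
  obtain ⟨t, hts, ht⟩ := (Ideal.span_eq_top_iff_finite s).mp hs
  choose T i1 i2 hff hd using fun f : t => hf f.1 (hts f.2)
  let alg : ∀ f : t, Algebra R (T f) := fun f =>
    ((algebraMap (Localization.Away (f : R)) (T f)).comp
      (algebraMap R (Localization.Away (f : R)))).toAlgebra
  have tower : ∀ f : t, IsScalarTower R (Localization.Away (f : R)) (T f) := fun f =>
    IsScalarTower.of_algebraMap_eq' rfl
  have flat : ∀ f : t, Module.Flat R (T f) := fun f => by
    have := hff f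
    exact Module.Flat.trans R (Localization.Away (f : R)) (T f)
  refine ⟨t, inferInstance, T, i1, alg, flat, ?_, fun f => ?_⟩
  · refine faithfullyFlat_pi _ fun p => ?_
    obtain ⟨f, hf, hfp⟩ : ∃ f ∈ (t : Set R), f ∉ p.asIdeal := by
      by_contra hcon
      push Not at hcon
      exact p.isPrime.ne_top (top_le_iff.mp (ht ▸ Ideal.span_le.mpr hcon))
    refine ⟨⟨f, hf⟩, ?_⟩
    have hp : p ∈ Set.range (PrimeSpectrum.comap (algebraMap R (Localization.Away f))) := by
      rw [PrimeSpectrum.localization_away_comap_range _ f]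
      exact hfp
    obtain ⟨q, hq⟩ := hp
    have := hff ⟨f, hf⟩
    obtain ⟨q', hq'⟩ := PrimeSpectrum.comap_surjective_of_faithfullyFlat
      (A := Localization.Away ((⟨f, hf⟩ : t) : R)) (B := T ⟨f, hf⟩) q
    refine ⟨q', ?_⟩
    rw [← hq, ← hq']
    rfl
  · obtain ⟨M, i3, ⟨e⟩⟩ := hd f
    exact ⟨M, i3, ⟨(cancelBC R A (Localization.Away (f : R)) (T f)).symm.trans e⟩⟩

/-- Bijectivity is local for a faithfully flat family. -/
theorem bijective_of_family {ι : Type*} [Finite ι] (T : ι → Type u) [∀ i, CommRing (T i)]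
    [∀ i, Algebra R (T i)] [Module.FaithfullyFlat R (Π i, T i)] {M N : Type u} [AddCommGroup M]
    [Module R M] [AddCommGroup N] [Module R N] (f : M →ₗ[R] N)
    (h : ∀ i, Function.Bijective (f.lTensor (T i))) : Function.Bijective f := by
  classical
  have := Fintype.ofFinite ι
  have zero : ∀ {P : Type u} [AddCommGroup P] [Module R P] (z : (Π i, T i) ⊗[R] P),
      (∀ i, (LinearMap.proj i).rTensor P z = 0) → z = 0 := by
    intro P _ _ z hz
    have hid : ∀ z : (Π i, T i) ⊗[R] P,
        (∑ i, (LinearMap.single R T i).rTensor P ((LinearMap.proj i).rTensor P z)) = z := by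
      intro z
      induction z using TensorProduct.induction_on with
      | zero => simp
      | tmul g a =>
        simp only [LinearMap.rTensor_tmul, LinearMap.proj_apply, ← TensorProduct.sum_tmul]
        congr 1
        exact Finset.univ_sum_single g
      | add x y hx hy => simp [Finset.sum_add_distrib, hx, hy]
    rw [← hid z]
    simp [hz]
  refine ⟨(injective_iff_map_eq_zero f).mpr fun x hx => ?_, fun y => ?_⟩
  · refine Module.FaithfullyFlat.tensorProduct_mk_injective (A := R) (B := Π i, T i) M ?_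
    rw [map_zero]
    refine zero _ fun i => (h i).1 ?_
    simp [hx]
  · rw [← LinearMap.mem_range, ← Submodule.Quotient.mk_eq_zero]
    refine Module.FaithfullyFlat.tensorProduct_mk_injective (A := R) (B := Π i, T i) _ ?_
    rw [map_zero]
    refine zero _ fun i => ?_
    obtain ⟨w, hw⟩ := (h i).2 ((1 : T i) ⊗ₜ[R] y)
    have hzero : (LinearMap.range f).mkQ.lTensor (T i) (f.lTensor (T i) w) = 0 := by
      rw [← LinearMap.comp_apply, ← LinearMap.lTensor_comp]
      rw [show (LinearMap.range f).mkQ ∘ₗ f = 0 from LinearMap.ext fun x => by simp]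
      simp
    rw [hw] at hzero
    simpa using hzero

/-- A homomorphism of groups of multiplicative type is an isomorphism if it is one on the
fibres. -/
theorem bijective_of_fields (hA : SGA3b.IsMultType R A) (hB : SGA3b.IsMultType R B)
    (φ : A →ₐc[R] B)
    (h : ∀ (K : Type u) [Field K] [Algebra R K],
      Function.Bijective ((φ : A →ₗ[R] B).baseChange K)) : Function.Bijective φ := by
  obtain ⟨ι, _, T, _, _, _, _, hdA⟩ := exists_split_family hA
  obtain ⟨κ, _, U, _, _, _, _, hdB⟩ := exists_split_family hB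
  have := faithfullyFlat_pi_tensor (R := R) T U
  refine bijective_of_family (fun p : ι × κ => T p.1 ⊗[R] U p.2) (φ : A →ₗ[R] B) fun p => ?_
  let W := T p.1 ⊗[R] U p.2
  letI : Algebra (U p.2) W := Algebra.TensorProduct.rightAlgebra
  obtain ⟨M, _, ⟨eA⟩⟩ := isDiag_baseChange (T p.1) W (hdA p.1)
  obtain ⟨N, _, ⟨eB⟩⟩ := isDiag_baseChange (U p.2) W (hdB p.2)
  let φW : W ⊗[R] A →ₐc[W] W ⊗[R] B := Bialgebra.TensorProduct.map (BialgHom.id W W) φ
  let Φ : MonoidAlgebra W M →ₐc[W] MonoidAlgebra W N :=
    (eB.toBialgHom.comp φW).comp eA.symm.toBialgHom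
  have hΦ : Function.Bijective Φ := by
    refine bijective_of_residueField Φ fun q _ => ?_
    let K := q.ResidueField
    have hsq : ∀ z : K ⊗[W] (W ⊗[R] A), cancelBC R B W K ((φW : W ⊗[R] A →ₗ[W] W ⊗[R] B).baseChange K z) =
        (φ : A →ₗ[R] B).baseChange K (cancelBC R A W K z) := by
      intro z
      induction z using TensorProduct.induction_on with
      | zero => simp
      | add x y hx hy => simp only [map_add, hx, hy]
      | tmul k x =>
        induction x using TensorProduct.induction_on with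
        | zero => simp
        | add x y hx hy => simp only [TensorProduct.tmul_add, map_add, hx, hy]
        | tmul w a => simp [φW, cancelBC_tmul]
    have h1 : Function.Bijective ((φW : W ⊗[R] A →ₗ[W] W ⊗[R] B).baseChange K) := by
      have h2 : Function.Bijective fun z => (φ : A →ₗ[R] B).baseChange K (cancelBC R A W K z) :=
        (h K).comp (cancelBC R A W K).bijective
      simp only [← hsq] at h2
      exact ((cancelBC R B W K).bijective.of_comp_iff' _).mp h2
    let lA : MonoidAlgebra W M ≃ₗ[W] W ⊗[R] A :=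
      (eA.symm : MonoidAlgebra W M ≃ₐ[W] W ⊗[R] A).toLinearEquiv
    let lB : W ⊗[R] B ≃ₗ[W] MonoidAlgebra W N :=
      (eB : W ⊗[R] B ≃ₐ[W] MonoidAlgebra W N).toLinearEquiv
    have h3 := ((lB.baseChange W K).bijective.comp h1).comp (lA.baseChange W K).bijective
    convert h3
    ext z
    induction z using TensorProduct.induction_on with
    | zero => simp
    | add x y hx hy =>
      simp only [Function.comp_apply] at hx hy
      simp only [Function.comp_apply, map_add, hx, hy]
    | tmul k x => simp [Φ, lA, lB]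
  have h4 : Function.Bijective φW := by
    have h5 : Function.Bijective fun z => eB.symm (Φ (eA z)) :=
      (eB.symm.bijective.comp hΦ).comp eA.bijective
    convert h5 using 1
    funext z
    show φW z = eB.symm (eB (φW (eA.symm (eA z))))
    rw [BialgEquiv.symm_apply_apply, BialgEquiv.symm_apply_apply]
  convert h4
  ext z
  induction z using TensorProduct.induction_on with
  | zero => simp
  | add x y hx hy => simp only [map_add, hx, hy]
  | tmul k x => simp [φW]

end Family

end Groth.Agent.MultTypeLib
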