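import Groth.Agent.Lib.MultType.Quot

/-!
# Kernels of homomorphisms from groups of multiplicative type
-/

universe u

open TensorProduct WithConv

namespace Groth.Agent.MultTypeLib

variable {R : Type u} [CommRing R] {A : Type u} [CommRing A] [HopfAlgebra R A]

/-- Diagonalisability near every prime of a faithfully flat family suffices. -/
theorem isMultType_of_local {ι : Type u} [Finite ι] (T : ι → Type u) [∀ i, CommRing (T i)]
    [∀ i, Algebra R (T i)] [∀ i, Module.Flat R (T i)] [Module.FaithfullyFlat R (Π i, T i)]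
    (h : ∀ (i : ι) (q : Ideal (T i)), q.IsPrime →
      ∃ s ∉ q, SGA3b.IsDiag (Localization.Away s) (Localization.Away s ⊗[R] A)) :
    SGA3b.IsMultType R A := by
  classical
  have hspan : ∀ i, ∃ t : Finset (T i), Ideal.span (t : Set (T i)) = ⊤ ∧
      ∀ s ∈ t, SGA3b.IsDiag (Localization.Away s) (Localization.Away s ⊗[R] A) := by
    intro i
    let S := {s : T i | SGA3b.IsDiag (Localization.Away s) (Localization.Away s ⊗[R] A)}
    have : Ideal.span S = ⊤ := by
      by_contra hne
      obtain ⟨q, hq, hle⟩ := Ideal.exists_le_maximal _ hne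
      obtain ⟨s, hs, hd⟩ := h i q hq.isPrime
      exact hs (hle (Ideal.subset_span hd))
    obtain ⟨t, hts, ht⟩ := (Ideal.span_eq_top_iff_finite S).mp this
    exact ⟨t, ht, fun s hs => hts hs⟩
  choose t ht hd using hspan
  let U : (Σ i, {s // s ∈ t i}) → Type u := fun x => Localization.Away (x.2.1)
  haveI : ∀ x, Module.Flat R (U x) := fun x =>
    Module.Flat.trans R (T x.1) (Localization.Away (x.2.1))
  haveI : Module.FaithfullyFlat R (Π x, U x) := by
    refine faithfullyFlat_pi U fun p => ?_
    obtain ⟨Q, hQ⟩ := PrimeSpectrum.comap_surjective_of_faithfullyFlat (A := R) (B := Π i, T i) p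
    obtain ⟨i, ψ, hψ⟩ := exists_proj_of_field (K := Q.asIdeal.ResidueField)
      (IsScalarTower.toAlgHom R (Π i, T i) Q.asIdeal.ResidueField)
    let q : PrimeSpectrum (T i) := ⟨RingHom.ker ψ, RingHom.ker_isPrime _⟩
    obtain ⟨s, hs, hsq⟩ : ∃ s ∈ t i, s ∉ q.asIdeal := by
      by_contra hcon
      push Not at hcon
      exact q.isPrime.ne_top (top_le_iff.mp (ht i ▸ Ideal.span_le.mpr hcon))
    obtain ⟨q', hq'⟩ : q ∈ Set.range (PrimeSpectrum.comap (algebraMap (T i) (Localization.Away s))) := by
      rw [PrimeSpectrum.localization_away_comap_range _ s]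
      exact hsq
    refine ⟨⟨i, s, hs⟩, q', ?_⟩
    have hR : PrimeSpectrum.comap (algebraMap R (U ⟨i, s, hs⟩)) q' =
        PrimeSpectrum.comap (algebraMap R (T i)) q := by
      rw [← hq']
      rfl
    rw [hR, ← hQ]
    ext r
    show ψ (algebraMap R (T i) r) = 0 ↔ algebraMap R (Π i, T i) r ∈ Q.asIdeal
    rw [AlgHom.commutes, IsScalarTower.algebraMap_apply R (Π i, T i) Q.asIdeal.ResidueField,
      Ideal.algebraMap_residueField_eq_zero]
  exact isMultType_of_family U fun x => hd x.1 x.2.1 x.2.2

theorem coeff_sub_counit {T : Type u} [CommRing T] {M : Type u} [CommGroup M] (N : Subgroup M)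
    (y : MonoidAlgebra T M) :
    MonoidAlgebra.mapDomainRingHom T (QuotientGroup.mk' N) y -
        algebraMap T _ (Coalgebra.counit (R := T) y) =
      y.coeff.sum fun m r => MonoidAlgebra.single (QuotientGroup.mk' N m) r -
        MonoidAlgebra.single 1 r := by
  induction y using MonoidAlgebra.induction_linear with
  | zero => simp
  | add a b ha hb =>
    rw [map_add, map_add, map_add, add_sub_add_comm, ha, hb, MonoidAlgebra.coeff_add,
      Finsupp.sum_add_index' (by simp) fun m r r' => by
        rw [MonoidAlgebra.single_add, MonoidAlgebra.single_add]; abel]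
  | single m r => simp

variable {C : Type u} [CommRing C] [HopfAlgebra R C]

set_option maxHeartbeats 800000 in
theorem exists_isDiag_kernel_near {T : Type u} [CommRing T] [Algebra R T] {M : Type u} [CommGroup M]
    (e : T ⊗[R] A ≃ₐc[T] MonoidAlgebra T M) [Algebra.FiniteType R C] (φ : C →ₐc[R] A)
    (J : Ideal A) [J.IsHopfIdeal R]
    (hJ : J = Ideal.map φ (RingHom.ker (Bialgebra.counitAlgHom R C)))
    (q : Ideal T) [q.IsPrime] :
    ∃ s ∉ q, SGA3b.IsDiag (Localization.Away s) (Localization.Away s ⊗[R] (A ⧸ J)) := by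
  classical
  let Φ : T ⊗[R] C →ₐc[T] MonoidAlgebra T M := e.toBialgHom.comp (bcMap T φ)
  have hΦ : ∀ x, Φ x = e (bcMap T φ x) := fun _ => rfl
  let N := imgSubgroup Φ q
  obtain ⟨gC, hgC⟩ := (inferInstance : Algebra.FiniteType R C).out
  -- support
  let supp : Finset M := gC.biUnion fun c => (Φ ((1 : T) ⊗ₜ[R] c)).coeff.support
  let M₀ := Subgroup.closure (supp : Set M)
  have hrange : ∀ x, ∀ m ∉ M₀, (Φ x).coeff m = 0 := by
    let S : Subalgebra T (MonoidAlgebra T M) :=
      (MonoidAlgebra.mapDomainAlgHom T T M₀.subtype).range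
    have hS : ∀ y : MonoidAlgebra T M, y ∈ S → ∀ m ∉ M₀, y.coeff m = 0 := by
      rintro _ ⟨z, rfl⟩ m hm
      show (MonoidAlgebra.mapDomainAlgHom T T M₀.subtype z).coeff m = 0
      have : (MonoidAlgebra.mapDomainAlgHom T T M₀.subtype z).coeff =
          Finsupp.mapDomain M₀.subtype z.coeff := rfl
      rw [this]
      exact Finsupp.mapDomain_of_notMem_range _ _ (by
        rintro ⟨w, rfl⟩
        exact hm w.2)
    have hmem : ∀ x, Φ x ∈ S := by
      intro x
      induction x using TensorProduct.induction_on with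
      | zero => rw [map_zero]; exact S.zero_mem
      | add a b ha hb => rw [map_add]; exact S.add_mem ha hb
      | tmul t c =>
        rw [show t ⊗ₜ[R] c = t • ((1 : T) ⊗ₜ[R] c) by rw [TensorProduct.smul_tmul', smul_eq_mul, mul_one],
          map_smul]
        refine S.smul_mem ?_ t
        let f : C →ₐ[R] MonoidAlgebra T M :=
          ((Φ : T ⊗[R] C →ₐ[T] MonoidAlgebra T M).restrictScalars R).comp
            Algebra.TensorProduct.includeRight
        have hle : Algebra.adjoin R (gC : Set C) ≤ (S.restrictScalars R).comap f := by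
          refine Algebra.adjoin_le fun c hc => ?_
          show Φ ((1 : T) ⊗ₜ[R] c) ∈ S
          rw [← MonoidAlgebra.sum_coeff_single (Φ ((1 : T) ⊗ₜ[R] c))]
          refine S.sum_mem fun m hm => ?_
          have hm0 : m ∈ M₀ :=
            Subgroup.subset_closure (Finset.mem_coe.2 (Finset.mem_biUnion.2 ⟨c, hc, hm⟩))
          exact ⟨MonoidAlgebra.single (⟨m, hm0⟩ : M₀) _, MonoidAlgebra.mapDomain_single⟩
        exact hle (hgC ▸ trivial : c ∈ Algebra.adjoin R (gC : Set C))
    exact fun x => hS _ (hmem x)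
  have hNle : N ≤ M₀ := by
    intro m hm
    by_contra hm0
    refine hm fun r hr => ?_
    obtain ⟨x, hx⟩ := hr
    have := hrange x m hm0
    rw [show Φ x = MonoidAlgebra.single m r from hx] at this
    simp only [MonoidAlgebra.coeff_single, Finsupp.single_eq_same] at this
    rw [this]
    exact q.zero_mem
  haveI hfg : AddGroup.FG (Additive M₀) := by
    haveI : Group.FG M₀ := (Group.fg_iff_subgroup_fg M₀).2 ⟨supp, rfl⟩
    infer_instance
  have hNfg : (N.subgroupOf M₀).FG := by
    haveI : Module.Finite ℤ (Additive M₀) := Module.Finite.iff_addGroup_fg.2 hfg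
    haveI : IsNoetherian ℤ (Additive M₀) := isNoetherian_of_isNoetherianRing_of_finite ℤ _
    rw [Subgroup.fg_iff_add_fg]
    exact (Submodule.fg_iff_addSubgroup_fg _).1
      (IsNoetherian.noetherian (AddSubgroup.toIntSubmodule (Subgroup.toAddSubgroup (N.subgroupOf M₀))))
  obtain ⟨G₀, hG₀⟩ := hNfg
  let G : Finset M := G₀.image M₀.subtype
  have hG : Subgroup.closure (G : Set M) = N := by
    rw [Finset.coe_image, ← MonoidHom.map_closure, hG₀, Subgroup.subgroupOf_map_subtype,
      inf_eq_left.2 hNle]
  -- the part outside `N` is killed near `q`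
  let Wp := Localization.AtPrime q
  let qW : MonoidAlgebra T M →+* MonoidAlgebra Wp (M ⧸ N) :=
    (MonoidAlgebra.mapRingHom (M ⧸ N) (algebraMap T Wp)).comp
      (MonoidAlgebra.mapDomainRingHom T (QuotientGroup.mk' N))
  let ψ : Wp ⊗[T] (T ⊗[R] C) →ₐc[Wp] MonoidAlgebra Wp (M ⧸ N) :=
    (MonoidAlgebra.mapDomainBialgHom Wp (QuotientGroup.mk' N)).comp
      ((diagBC T Wp M).toBialgHom.comp (bcMap Wp Φ))
  have hψ : ∀ x, ψ ((1 : Wp) ⊗ₜ[T] x) = qW (Φ x) := by
    intro x
    show MonoidAlgebra.mapDomainBialgHom Wp (QuotientGroup.mk' N)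
      (diagBC T Wp M ((1 : Wp) ⊗ₜ[T] Φ x)) = _
    induction Φ x using MonoidAlgebra.induction_linear with
    | zero => simp
    | add a b ha hb => simp only [TensorProduct.tmul_add, map_add, ha, hb]
    | single m r =>
      simp [qW, diagBC, MonoidAlgebra.scalarTensorEquiv_tmul, Algebra.smul_def]
  have hkey : ∀ z, ψ z = algebraMap Wp _ (Coalgebra.counit (R := Wp) z) := by
    refine bialgHom_eq_counit_of_mod_maximal
      (isMultType_of_isDiag ⟨M ⧸ N, inferInstance, ⟨BialgEquiv.refl _ _⟩⟩)
      (Or.inr inferInstance) ψ fun z => ?_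
    induction z using TensorProduct.induction_on with
    | zero => simp
    | add a b ha hb =>
      rw [map_add, map_add, map_add, add_sub_add_comm]
      exact Submodule.add_mem _ ha hb
    | tmul w x =>
      rw [show w ⊗ₜ[T] x = w • ((1 : Wp) ⊗ₜ[T] x) by rw [TensorProduct.smul_tmul', smul_eq_mul, mul_one],
        map_smul, map_smul, smul_eq_mul, map_mul, ← Algebra.smul_def, ← smul_sub]
      refine Submodule.smul_mem _ _ ?_
      have hε : Coalgebra.counit (R := Wp) ((1 : Wp) ⊗ₜ[T] x) =
          algebraMap T Wp (Coalgebra.counit (R := T) (Φ x)) := by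
        rw [show Coalgebra.counit (R := T) (Φ x) = Coalgebra.counit (R := T) x from
          CoalgHomClass.counit_comp_apply Φ x]
        simp [Algebra.algebraMap_eq_smul_one]
      rw [hψ, hε]
      have : qW (Φ x) - algebraMap Wp _ (algebraMap T Wp (Coalgebra.counit (R := T) (Φ x))) =
          MonoidAlgebra.mapRingHom (M ⧸ N) (algebraMap T Wp)
            ((Φ x).coeff.sum fun m r => MonoidAlgebra.single (QuotientGroup.mk' N m) r -
              MonoidAlgebra.single 1 r) := by
        rw [← coeff_sub_counit, map_sub]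
        simp [qW, MonoidAlgebra.coe_algebraMap]
      rw [this, map_finsuppSum]
      refine Submodule.sum_mem _ fun m _ => ?_
      simp only [map_sub, MonoidAlgebra.mapRingHom_single]
      by_cases hm : m ∈ N
      · simp [(QuotientGroup.eq_one_iff m).2 hm]
      · have hmem : (Φ x).coeff m ∈ q := by
          by_contra hnm
          exact hm (SetLike.not_le_iff_exists.2 ⟨_, coeff_mem_imgIdeal Φ x m, hnm⟩)
        have hr : algebraMap T Wp ((Φ x).coeff m) ∈ IsLocalRing.maximalIdeal Wp := by
          rw [← Localization.AtPrime.map_eq_maximalIdeal]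
          exact Ideal.mem_map_of_mem _ hmem
        generalize algebraMap T Wp ((Φ x).coeff m) = r at hr ⊢
        rw [show MonoidAlgebra.single (QuotientGroup.mk' N m) r - MonoidAlgebra.single 1 r =
          r • (MonoidAlgebra.single (QuotientGroup.mk' N m) (1 : Wp) - MonoidAlgebra.single 1 1) by
            simp [smul_sub]]
        exact Submodule.smul_mem_smul hr Submodule.mem_top
  let d : C → MonoidAlgebra T (M ⧸ N) := fun c =>
    MonoidAlgebra.mapDomainRingHom T (QuotientGroup.mk' N) (Φ ((1 : T) ⊗ₜ[R] c)) -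
      algebraMap T _ (algebraMap R T (Coalgebra.counit (R := R) c))
  have hkill : ∀ c, ∃ u ∉ q, ∀ k, u * (d c).coeff k = 0 := by
    intro c
    have h0 : MonoidAlgebra.mapRingHom (M ⧸ N) (algebraMap T Wp) (d c) = 0 := by
      have := hkey ((1 : Wp) ⊗ₜ[T] ((1 : T) ⊗ₜ[R] c))
      rw [hψ] at this
      simp only [d, map_sub]
      rw [show MonoidAlgebra.mapRingHom (M ⧸ N) (algebraMap T Wp)
          (MonoidAlgebra.mapDomainRingHom T (QuotientGroup.mk' N) (Φ ((1 : T) ⊗ₜ[R] c))) =
          qW (Φ ((1 : T) ⊗ₜ[R] c)) from rfl, this]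
      simp [MonoidAlgebra.coe_algebraMap, IsScalarTower.algebraMap_apply R T Wp, Algebra.smul_def]
    have : ∀ k, ∃ u ∉ q, u * (d c).coeff k = 0 := fun k => by
      have hk := congrArg (fun z => z.coeff k) h0
      simp only [MonoidAlgebra.coeff_mapRingHom, MonoidAlgebra.coeff_zero, Finsupp.zero_apply] at hk
      obtain ⟨u, hu⟩ := (IsLocalization.map_eq_zero_iff q.primeCompl Wp _).1 hk
      exact ⟨u, u.2, hu⟩
    choose u hu hu' using this
    refine ⟨∏ k ∈ (d c).coeff.support, u k, ?_, fun k => ?_⟩
    · intro hmem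
      obtain ⟨k, -, hk⟩ := (Ideal.IsPrime.prod_mem_iff).1 hmem
      exact hu k hk
    · by_cases hk : k ∈ (d c).coeff.support
      · rw [← Finset.prod_erase_mul _ _ hk, mul_assoc, hu', mul_zero]
      · rw [Finsupp.notMem_support_iff.1 hk, mul_zero]
  choose u hu hu' using hkill
  have hGa : ∀ n : {n // n ∈ G}, ∃ a ∉ q, a ∈ imgIdeal Φ n.1 := fun n => by
    have : n.1 ∈ N := hG ▸ Subgroup.subset_closure n.2
    obtain ⟨a, ha, haq⟩ := SetLike.not_le_iff_exists.1 this
    exact ⟨a, haq, ha⟩
  choose a ha ha' using hGa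
  let s : T := (∏ c ∈ gC, u c) * ∏ n : {n // n ∈ G}, a n
  refine ⟨s, ?_, ?_⟩
  · intro hmem
    rcases Ideal.IsPrime.mem_or_mem inferInstance hmem with h | h
    · obtain ⟨c, -, hc⟩ := (Ideal.IsPrime.prod_mem_iff).1 h
      exact hu c hc
    · obtain ⟨c, -, hc⟩ := (Ideal.IsPrime.prod_mem_iff).1 h
      exact ha c hc
  · let W := Localization.Away s
    have hs : IsUnit (algebraMap T W s) := IsLocalization.Away.algebraMap_isUnit s
    let eW : W ⊗[R] A ≃ₐc[W] MonoidAlgebra W M :=
      (cancelBC R A T W).symm.trans ((bcEquiv W e).trans (diagBC T W M))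
    have hsymm : ∀ a : A, (cancelBC R A T W).symm ((1 : W) ⊗ₜ[R] a) =
        (1 : W) ⊗ₜ[T] ((1 : T) ⊗ₜ[R] a) := fun a => by
      rw [← (cancelBC R A T W).symm_apply_apply ((1 : W) ⊗ₜ[T] ((1 : T) ⊗ₜ[R] a)), cancelBC_tmul,
        one_smul]
    have heW : ∀ a : A, eW ((1 : W) ⊗ₜ[R] a) =
        MonoidAlgebra.mapRingHom M (algebraMap T W) (e ((1 : T) ⊗ₜ[R] a)) := by
      intro a
      show diagBC T W M (bcEquiv W e ((cancelBC R A T W).symm ((1 : W) ⊗ₜ[R] a))) = _
      rw [hsymm, bcEquiv_tmul]
      induction e ((1 : T) ⊗ₜ[R] a) using MonoidAlgebra.induction_linear with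
      | zero => simp
      | add a b ha hb => simp only [TensorProduct.tmul_add, map_add, ha, hb]
      | single m r => simp [diagBC, MonoidAlgebra.scalarTensorEquiv_tmul, Algebra.smul_def]
    have hcomm : ∀ y : MonoidAlgebra T M,
        MonoidAlgebra.mapDomainRingHom W (QuotientGroup.mk' N)
          (MonoidAlgebra.mapRingHom M (algebraMap T W) y) =
        MonoidAlgebra.mapRingHom (M ⧸ N) (algebraMap T W)
          (MonoidAlgebra.mapDomainRingHom T (QuotientGroup.mk' N) y) := by
      intro y
      induction y using MonoidAlgebra.induction_linear with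
      | zero => simp
      | add a b ha hb => simp only [map_add, ha, hb]
      | single m r => simp
    refine isDiag_quot_of_subgroup J eW N G hG ?_ ?_
    · let χ : C →ₐ[R] MonoidAlgebra W (M ⧸ N) :=
        (((MonoidAlgebra.mapDomainBialgHom W (QuotientGroup.mk' N)).comp eW.toBialgHom :
          W ⊗[R] A →ₐ[W] MonoidAlgebra W (M ⧸ N)).restrictScalars R).comp
          (Algebra.TensorProduct.includeRight.comp (φ : C →ₐ[R] A))
      let η : C →ₐ[R] MonoidAlgebra W (M ⧸ N) :=
        (Algebra.ofId R _).comp (Bialgebra.counitAlgHom R C)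
      have hχη : χ = η := by
        refine AlgHom.ext_of_adjoin_eq_top hgC fun c hc => ?_
        show MonoidAlgebra.mapDomainRingHom W (QuotientGroup.mk' N) (eW ((1 : W) ⊗ₜ[R] φ c)) =
          algebraMap R _ (Coalgebra.counit (R := R) c)
        have h1 : e ((1 : T) ⊗ₜ[R] φ c) = Φ ((1 : T) ⊗ₜ[R] c) := rfl
        rw [heW, hcomm, h1]
        have h2 : MonoidAlgebra.mapRingHom (M ⧸ N) (algebraMap T W) (d c) = 0 := by
          apply MonoidAlgebra.coeff_injective
          refine Finsupp.ext fun k => ?_
          rw [MonoidAlgebra.coeff_mapRingHom, MonoidAlgebra.coeff_zero, Finsupp.zero_apply]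
          have hsk : s * (d c).coeff k = 0 := by
            simp only [s]
            rw [← Finset.prod_erase_mul _ _ hc]
            linear_combination ((∏ x ∈ gC.erase c, u x) * ∏ n : {n // n ∈ G}, a n) * hu' c k
          exact (hs.mul_right_eq_zero).1 (by rw [← map_mul, hsk, map_zero])
        simp only [d, map_sub] at h2
        rw [sub_eq_zero] at h2
        rw [h2]
        simp [MonoidAlgebra.coe_algebraMap, IsScalarTower.algebraMap_apply R T W]
      intro x hx
      rw [hJ] at hx
      have hle : Ideal.map φ (RingHom.ker (Bialgebra.counitAlgHom R C)) ≤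
          RingHom.ker ((((MonoidAlgebra.mapDomainBialgHom W (QuotientGroup.mk' N)).comp eW.toBialgHom :
          W ⊗[R] A →ₐ[W] MonoidAlgebra W (M ⧸ N)).restrictScalars R).comp
          Algebra.TensorProduct.includeRight) := by
        refine Ideal.map_le_iff_le_comap.2 fun c hc => ?_
        have h3 := AlgHom.congr_fun hχη c
        have h4 : η c = 0 := by
          show algebraMap R _ (Bialgebra.counitAlgHom R C c) = 0
          rw [RingHom.mem_ker.1 hc, map_zero]
        rw [h4] at h3
        exact h3
      exact hle hx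
    · intro n hn
      let K := J.map (Algebra.TensorProduct.includeRight : A →ₐ[R] W ⊗[R] A)
      show eW.symm _ ∈ K
      obtain ⟨x, hx⟩ := ha' ⟨n, hn⟩
      have hau : IsUnit (algebraMap T W (a ⟨n, hn⟩)) := by
        have : a ⟨n, hn⟩ ∣ s :=
          (Finset.dvd_prod_of_mem _ (Finset.mem_univ _)).mul_left _
        exact isUnit_of_dvd_unit (map_dvd (algebraMap T W) this) hs
      have hxε : Coalgebra.counit (R := T) x = a ⟨n, hn⟩ := by
        have h1 := CoalgHomClass.counit_comp_apply Φ x
        rw [show Φ x = MonoidAlgebra.single n (a ⟨n, hn⟩) from hx] at h1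
        simpa using h1.symm
      let θ : T ⊗[R] A →ₐ[R] W ⊗[R] A :=
        Algebra.TensorProduct.map (IsScalarTower.toAlgHom R T W) (AlgHom.id R A)
      have hθ : ∀ y : T ⊗[R] A, eW (θ y) = MonoidAlgebra.mapRingHom M (algebraMap T W) (e y) := by
        intro y
        induction y using TensorProduct.induction_on with
        | zero => simp
        | add x y hx hy => simp only [map_add, hx, hy]
        | tmul t a =>
          rw [show θ (t ⊗ₜ[R] a) = algebraMap T W t • ((1 : W) ⊗ₜ[R] a) by
              simp [θ, TensorProduct.smul_tmul', Algebra.smul_def],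
            map_smul, heW, show t ⊗ₜ[R] a = t • ((1 : T) ⊗ₜ[R] a) by
              rw [TensorProduct.smul_tmul', smul_eq_mul, mul_one],
            map_smul, Algebra.smul_def, Algebra.smul_def, map_mul]
          simp [MonoidAlgebra.coe_algebraMap]
      have hmem := map_sub_counit_mem (W := T) (φ : C →ₐ[R] A) hJ x
      have hmem' : θ (Algebra.TensorProduct.map (AlgHom.id T T) (φ : C →ₐ[R] A) x -
          algebraMap T _ (Coalgebra.counit (R := T) x)) ∈ K := by
        have := Ideal.mem_map_of_mem θ hmem
        rw [Ideal.map_mapₐ] at this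
        rwa [show θ.comp Algebra.TensorProduct.includeRight =
          Algebra.TensorProduct.includeRight from AlgHom.ext fun a => by simp [θ]] at this
      have hval : eW (θ (Algebra.TensorProduct.map (AlgHom.id T T) (φ : C →ₐ[R] A) x -
          algebraMap T _ (Coalgebra.counit (R := T) x))) =
          algebraMap T W (a ⟨n, hn⟩) • (MonoidAlgebra.single n 1 - 1) := by
        rw [hθ, map_sub, show e (Algebra.TensorProduct.map (AlgHom.id T T) (φ : C →ₐ[R] A) x) =
          MonoidAlgebra.single n (a ⟨n, hn⟩) from hx, AlgHomClass.commutes, hxε, map_sub]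
        simp [MonoidAlgebra.coe_algebraMap, smul_sub, MonoidAlgebra.one_def]
        simp [Algebra.smul_def, mul_sub, MonoidAlgebra.single_mul_single, MonoidAlgebra.one_def]
      rw [← eW.symm_apply_apply (θ _)] at hmem'
      rw [hval, map_smul] at hmem'
      obtain ⟨v, hv⟩ := hau
      have := K.mul_mem_left (algebraMap W _ (↑v⁻¹ : W)) hmem'
      rw [← hv, mul_smul_comm, ← Algebra.smul_def, smul_smul, Units.mul_inv, one_smul] at this
      exact this

/-- Kernels of homomorphisms out of groups of multiplicative type into affine groups of finite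
type are of multiplicative type. -/
theorem isMultType_quot_aug (hA : SGA3b.IsMultType R A) [Algebra.FiniteType R C]
    (φ : C →ₐc[R] A) (J : Ideal A) [J.IsHopfIdeal R]
    (hJ : J = Ideal.map φ (RingHom.ker (Bialgebra.counitAlgHom R C))) :
    SGA3b.IsMultType R (A ⧸ J) := by
  obtain ⟨ι, _, T, _, _, _, hff, hd⟩ := exists_split_family hA
  refine isMultType_of_local T fun i q hq => ?_
  obtain ⟨M, _, ⟨e⟩⟩ := hd i
  exact exists_isDiag_kernel_near e φ J hJ q

end Groth.Agent.MultTypeLib
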