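import Groth.Agent.Lib.MultType.Kernel
import Mathlib.RingTheory.Finiteness.Descent
import Mathlib.GroupTheory.FiniteAbelian.Basic

/-!
# Torsion subgroups of groups of multiplicative type
-/

universe u

open TensorProduct WithConv

namespace Groth.Agent.MultTypeLib

variable {R : Type u} [CommRing R] {A : Type u} [CommRing A] [HopfAlgebra R A]

theorem map_comp_apply {T : Type u} [CommRing T] [Algebra R T] {B D E : Type u} [CommRing B]
    [CommRing D] [CommRing E] [Algebra R B] [Algebra R D] [Algebra R E] (g : D →ₐ[R] E)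
    (f : B →ₐ[R] D) (z : T ⊗[R] B) :
    Algebra.TensorProduct.map (AlgHom.id T T) (g.comp f) z =
      Algebra.TensorProduct.map (AlgHom.id T T) g (Algebra.TensorProduct.map (AlgHom.id T T) f z) := by
  induction z using TensorProduct.induction_on with
  | zero => simp
  | tmul a b => simp
  | add a b ha hb => simp only [map_add, ha, hb]

/-- The power map on group-like elements. -/
theorem map_powConv_glike (T : Type u) [CommRing T] [Algebra R T] (n : ℕ) {y : T ⊗[R] A}
    (hy : IsGroupLikeElem T y) :
    Algebra.TensorProduct.map (AlgHom.id T T) (SGA3b.powConv R A n) y = y ^ n := by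
  have hg := (glk_iff T y).2 hy
  induction n with
  | zero =>
    have : ∀ z : T ⊗[R] A, Algebra.TensorProduct.map (AlgHom.id T T) (SGA3b.powConv R A 0) z =
        algebraMap T (T ⊗[R] A) (Coalgebra.counit (R := T) z) := by
      intro z
      induction z using TensorProduct.induction_on with
      | zero => simp
      | tmul t a =>
        have h0 : SGA3b.powConv R A 0 a = algebraMap R A (Coalgebra.counit (R := R) a) := rfl
        rw [Algebra.TensorProduct.map_tmul, h0, Algebra.algebraMap_eq_smul_one (R := R),
          TensorProduct.tmul_smul]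
        simp [Algebra.algebraMap_eq_smul_one, TensorProduct.smul_tmul',
          Algebra.TensorProduct.one_def]
      | add a b ha hb => simp only [map_add, ha, hb]
    rw [this, hy.counit_eq_one, map_one, pow_zero]
  | succ n ih =>
    have hs : SGA3b.powConv R A (n + 1) = (Algebra.TensorProduct.lift (SGA3b.powConv R A n)
        (AlgHom.id R A) (fun _ _ => Commute.all _ _)).comp (Bialgebra.comulAlgHom R A) := by
      refine AlgHom.ext fun a => ?_
      show (toConv (AlgHom.id R A) ^ (n + 1)) a = _
      rw [pow_succ, AlgHom.convMul_apply]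
      rfl
    let L := Algebra.TensorProduct.lift (SGA3b.powConv R A n) (AlgHom.id R A)
      (fun _ _ => Commute.all _ _)
    have hΔ : ∀ z : T ⊗[R] A,
        Algebra.TensorProduct.map (AlgHom.id T T) (Bialgebra.comulAlgHom R A) z =
        Algebra.TensorProduct.map (AlgHom.id R T) (Bialgebra.comulAlgHom R A) z := by
      intro z
      induction z using TensorProduct.induction_on with
      | zero => simp
      | tmul a b => simp
      | add a b ha hb => simp only [map_add, ha, hb]
    have h1 : ∀ z : T ⊗[R] A, Algebra.TensorProduct.map (AlgHom.id T T) L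
        (Algebra.TensorProduct.map (AlgHom.id R T) (Algebra.TensorProduct.includeLeft (S := R)) z) =
        Algebra.TensorProduct.map (AlgHom.id T T) (SGA3b.powConv R A n) z := by
      intro z
      induction z using TensorProduct.induction_on with
      | zero => simp
      | tmul a b => simp [L]
      | add a b ha hb => simp only [map_add, ha, hb]
    have h2 : ∀ z : T ⊗[R] A, Algebra.TensorProduct.map (AlgHom.id T T) L
        (Algebra.TensorProduct.map (AlgHom.id R T) Algebra.TensorProduct.includeRight z) = z := by
      intro z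
      induction z using TensorProduct.induction_on with
      | zero => simp
      | tmul a b => simp [L]
      | add a b ha hb => simp only [map_add, ha, hb]
    rw [hs, map_comp_apply, hΔ, hg.2, map_mul, h1, h2, ih, pow_succ]

variable {T : Type u} [CommRing T] [Algebra R T] {M : Type u} [CommGroup M]

theorem equiv_map_powConv (e : T ⊗[R] A ≃ₐc[T] MonoidAlgebra T M) (n : ℕ) (z : T ⊗[R] A) :
    e (Algebra.TensorProduct.map (AlgHom.id T T) (SGA3b.powConv R A n) z) =
      MonoidAlgebra.mapDomainRingHom T (powMonoidHom n : M →* M) (e z) := by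
  obtain ⟨y, rfl⟩ : ∃ y, e.symm y = z := ⟨e z, e.symm_apply_apply z⟩
  rw [e.apply_symm_apply]
  induction y using MonoidAlgebra.induction_linear with
  | zero => simp
  | add a b ha hb => simp only [map_add, ha, hb]
  | single m r =>
    rw [show MonoidAlgebra.single m r = r • MonoidAlgebra.single m (1 : T) by simp, map_smul,
      map_smul, map_powConv_glike T n
        ((MonoidAlgebra.isGroupLikeElem_single_one (R := T) (A := T) m).map e.symm),
      map_smul, map_pow, e.apply_symm_apply, MonoidAlgebra.single_pow, one_pow]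
    simp

/-- The torsion ideal dies in `T[M/Mⁿ]`. -/
theorem torsion_le_ker (e : T ⊗[R] A ≃ₐc[T] MonoidAlgebra T M) (n : ℕ) {d : A}
    (hd : d ∈ SGA3b.torsionIdeal R A n) :
    MonoidAlgebra.mapDomainRingHom T (QuotientGroup.mk' (powMonoidHom n : M →* M).range)
      (e ((1 : T) ⊗ₜ[R] d)) = 0 := by
  let N := (powMonoidHom n : M →* M).range
  let F : A →+* MonoidAlgebra T (M ⧸ N) :=
    (MonoidAlgebra.mapDomainRingHom T (QuotientGroup.mk' N)).comp
      (((e : T ⊗[R] A →ₐ[T] MonoidAlgebra T M) : T ⊗[R] A →+* MonoidAlgebra T M).comp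
        (Algebra.TensorProduct.includeRight : A →ₐ[R] T ⊗[R] A).toRingHom)
  have hle : SGA3b.torsionIdeal R A n ≤ RingHom.ker F := by
    refine Ideal.map_le_iff_le_comap.2 fun c hc => ?_
    show MonoidAlgebra.mapDomainRingHom T (QuotientGroup.mk' N)
      (e ((1 : T) ⊗ₜ[R] SGA3b.powConv R A n c)) = 0
    rw [show (1 : T) ⊗ₜ[R] SGA3b.powConv R A n c =
      Algebra.TensorProduct.map (AlgHom.id T T) (SGA3b.powConv R A n) ((1 : T) ⊗ₜ[R] c) by simp,
      equiv_map_powConv]
    have key : ∀ y : MonoidAlgebra T M, MonoidAlgebra.mapDomainRingHom T (QuotientGroup.mk' N)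
        (MonoidAlgebra.mapDomainRingHom T (powMonoidHom n : M →* M) y) =
        MonoidAlgebra.single 1 (Coalgebra.counit (R := T) y) := by
      intro y
      induction y using MonoidAlgebra.induction_linear with
      | zero => simp
      | add a b ha hb => simp only [map_add, ha, hb, MonoidAlgebra.single_add]
      | single m r =>
        have hm : (QuotientGroup.mk (m ^ n) : M ⧸ N) = 1 := (QuotientGroup.eq_one_iff _).2 ⟨m, rfl⟩
        simp [hm]
    rw [key, CoalgHomClass.counit_comp_apply e]
    have hc0 : Coalgebra.counit (R := R) c = 0 := hc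
    simp [hc0]
  exact hle hd

/-- The torsion quotient is split with group `M/Mⁿ`. -/
theorem nonempty_torsion_equiv (e : T ⊗[R] A ≃ₐc[T] MonoidAlgebra T M) (n : ℕ) (J : Ideal A)
    [J.IsHopfIdeal R] (hJ : J = SGA3b.torsionIdeal R A n) :
    Nonempty (T ⊗[R] (A ⧸ J) ≃ₐc[T] MonoidAlgebra T (M ⧸ (powMonoidHom n : M →* M).range)) := by
  refine nonempty_quot_equiv_of_subgroup J e _ ((powMonoidHom n : M →* M).range : Set M)
    (Subgroup.closure_eq _) (fun d hd => ?_) ?_
  · exact torsion_le_ker e n (hJ ▸ hd)
  · rintro _ ⟨m, rfl⟩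
    have h := map_sub_counit_mem (W := T) (SGA3b.powConv R A n) (J := J) hJ
      (e.symm (MonoidAlgebra.single m (1 : T)))
    rw [show Coalgebra.counit (R := T) (e.symm (MonoidAlgebra.single m (1 : T))) = 1 from
        ((MonoidAlgebra.isGroupLikeElem_single_one (R := T) (A := T) m).map e.symm).counit_eq_one,
      map_one, map_powConv_glike T n
        ((MonoidAlgebra.isGroupLikeElem_single_one (R := T) (A := T) m).map e.symm),
      ← map_pow, MonoidAlgebra.single_pow, one_pow, ← map_one e.symm, ← map_sub] at h
    exact h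

theorem group_fg_of_diag [Nontrivial T] (hft : Algebra.FiniteType R A)
    (e : T ⊗[R] A ≃ₐc[T] MonoidAlgebra T M) : Group.FG M := by
  have h : Algebra.FiniteType T (MonoidAlgebra T M) :=
    (inferInstance : Algebra.FiniteType T (T ⊗[R] A)).equiv (e : T ⊗[R] A ≃ₐ[T] MonoidAlgebra T M)
  exact MonoidAlgebra.finiteType_iff_group_fg.1 h

theorem finite_quot_pow [Group.FG M] {n : ℕ} (hn : 0 < n) :
    Finite (M ⧸ (powMonoidHom n : M →* M).range) := by
  haveI : Group.FG (M ⧸ (powMonoidHom n : M →* M).range) := inferInstance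
  refine CommGroup.finite_of_fg_torsion _ fun g => ?_
  obtain ⟨m, rfl⟩ := QuotientGroup.mk_surjective g
  exact isOfFinOrder_iff_pow_eq_one.2 ⟨n, hn, (QuotientGroup.eq_one_iff _).2 ⟨m, rfl⟩⟩

theorem finite_of_family {ι : Type u} [Finite ι] (U : ι → Type u) [∀ i, CommRing (U i)]
    [∀ i, Algebra R (U i)] [Module.FaithfullyFlat R (Π i, U i)] (X : Type u) [AddCommGroup X]
    [Module R X] (h : ∀ i, Module.Finite (U i) (U i ⊗[R] X)) : Module.Finite R X := by
  classical
  have := Fintype.ofFinite ι
  let P := Π i, U i
  suffices hP : Module.Finite P (P ⊗[R] X) from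
    Module.Finite.of_finite_tensorProduct_of_faithfullyFlat P
  choose g hg using fun i => (Module.finite_def.1 (h i))
  let lift : ∀ i, U i ⊗[R] X → P ⊗[R] X := fun i => (LinearMap.single R U i).rTensor X
  refine ⟨⟨Finset.univ.biUnion fun i => (g i).image (lift i), ?_⟩⟩
  rw [eq_top_iff]
  intro z _
  rw [← sum_single_proj z]
  refine Submodule.sum_mem _ fun i _ => ?_
  have hz : (LinearMap.proj (R := R) (φ := U) i).rTensor X z ∈
      Submodule.span (U i) (g i : Set (U i ⊗[R] X)) := by rw [hg i]; trivial
  generalize (LinearMap.proj (R := R) (φ := U) i).rTensor X z = w at hz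
  induction hz using Submodule.span_induction with
  | mem x hx =>
    refine Submodule.subset_span ?_
    simp only [Finset.coe_biUnion, Finset.coe_image, Set.mem_iUnion]
    exact ⟨i, Finset.mem_coe.2 (Finset.mem_univ i), x, hx, rfl⟩
  | zero => simp
  | add x y _ _ hx hy => rw [map_add]; exact Submodule.add_mem _ hx hy
  | smul r x _ hx =>
    have : ∀ x : U i ⊗[R] X, (LinearMap.single R U i).rTensor X (r • x) =
        (Pi.single i r : P) • (LinearMap.single R U i).rTensor X x := by
      intro x
      induction x using TensorProduct.induction_on with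
      | zero => simp
      | tmul a b =>
        simp only [TensorProduct.smul_tmul', LinearMap.rTensor_tmul, LinearMap.single_apply,
          smul_eq_mul, Pi.single_mul]
      | add a b ha hb => simp only [smul_add, map_add, ha, hb]
    rw [this]
    exact Submodule.smul_mem _ _ hx

theorem torsion_isMultType_and_finite (hft : Algebra.FiniteType R A) (h : SGA3b.IsMultType R A)
    (n : ℕ) (hn : 0 < n) (J : Ideal A) [J.IsHopfIdeal R] (hJ : J = SGA3b.torsionIdeal R A n) :
    SGA3b.IsMultType R (A ⧸ J) ∧ Module.Finite R (A ⧸ J) := by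
  obtain ⟨ι, _, U, _, _, _, hff, hd⟩ := exists_split_family h
  refine ⟨isMultType_of_family U fun i => ?_, finite_of_family U (A ⧸ J) fun i => ?_⟩
  · obtain ⟨M, _, ⟨e⟩⟩ := hd i
    exact ⟨_, inferInstance, nonempty_torsion_equiv e n J hJ⟩
  · rcases subsingleton_or_nontrivial (U i) with hs | hs
    · haveI : Subsingleton (U i ⊗[R] (A ⧸ J)) := Module.subsingleton (U i) _
      infer_instance
    obtain ⟨M, _, ⟨e⟩⟩ := hd i
    haveI := group_fg_of_diag hft e
    haveI := finite_quot_pow (M := M) hn
    obtain ⟨f⟩ := nonempty_torsion_equiv e n J hJ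
    haveI : Module.Finite (U i) (MonoidAlgebra (U i) (M ⧸ (powMonoidHom n : M →* M).range)) :=
      Module.Finite.equiv (MonoidAlgebra.coeffLinearEquiv (U i)).symm
    exact Module.Finite.equiv
      (f : U i ⊗[R] (A ⧸ J) ≃ₐ[U i] MonoidAlgebra (U i) (M ⧸ (powMonoidHom n : M →* M).range)).toLinearEquiv.symm

end Groth.Agent.MultTypeLib
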