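import Groth.Agent.Lib.MultType.EtaleLift
import Groth.Agent.Lib.MultType.Kernel
import Groth.Agent.Lib.MultType.Torsion
import Groth.Agent.Lib.MultType.Field

/-!
# Groups of multiplicative type and of finite type are quasi-isotrivial
-/

universe u

open TensorProduct WithConv HopfAlgebra

namespace Groth.Agent.MultTypeLib

variable {R : Type u} [CommRing R] {A : Type u} [CommRing A] [HopfAlgebra R A]

theorem isHopfIdeal_map_aug {C : Type u} [CommRing C] [HopfAlgebra R C] (φ : C →ₐc[R] A) :
    (Ideal.map φ (RingHom.ker (Bialgebra.counitAlgHom R C))).IsHopfIdeal R := by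
  set J := Ideal.map φ (RingHom.ker (Bialgebra.counitAlgHom R C))
  refine { counit_eq_zero := ?_, map_mkQ_comul_eq_zero := ?_, antipode_mem := ?_ }
  · intro x hx
    have hle : J ≤ RingHom.ker (Bialgebra.counitAlgHom R A) := Ideal.map_le_iff_le_comap.2 fun c hc => by
      show Coalgebra.counit (R := R) (φ c) = 0
      rw [CoalgHomClass.counit_comp_apply φ]
      exact hc
    exact hle hx
  · intro x hx
    let π : A →ₐ[R] A ⧸ J := Ideal.Quotient.mkₐ R J
    let F : A →ₐ[R] (A ⧸ J) ⊗[R] (A ⧸ J) :=
      (Algebra.TensorProduct.map π π).comp (Bialgebra.comulAlgHom R A)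
    have hπ : ∀ c : C, π (φ c) = algebraMap R (A ⧸ J) (Coalgebra.counit (R := R) c) := fun c => by
      have h : c - algebraMap R C (Coalgebra.counit c) ∈ RingHom.ker (Bialgebra.counitAlgHom R C) := by
        simp [RingHom.mem_ker]
      have h2 : π (φ (c - algebraMap R C (Coalgebra.counit c))) = 0 :=
        Ideal.Quotient.eq_zero_iff_mem.2 (Ideal.mem_map_of_mem φ h)
      rw [map_sub, map_sub, sub_eq_zero, AlgHomClass.commutes, AlgHomClass.commutes] at h2
      exact h2
    have hle : J ≤ RingHom.ker F := Ideal.map_le_iff_le_comap.2 fun c hc => by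
      show Algebra.TensorProduct.map π π (Coalgebra.comul (R := R) (φ c)) = 0
      rw [← CoalgHomClass.map_comp_comul_apply φ]
      have e : ∀ z : C ⊗[R] C, Algebra.TensorProduct.map π π
          (TensorProduct.map (φ : C →ₗ[R] A) (φ : C →ₗ[R] A) z) =
          algebraMap R _ (LinearMap.mul' R R
            (TensorProduct.map (Coalgebra.counit (R := R)) (Coalgebra.counit (R := R)) z)) := by
        intro z
        induction z using TensorProduct.induction_on with
        | zero => simp
        | tmul a b =>
          simp [hπ, Algebra.algebraMap_eq_smul_one, TensorProduct.smul_tmul_smul,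
            Algebra.TensorProduct.one_def]
          rw [← TensorProduct.smul_tmul', smul_smul, mul_comm]
        | add a b ha hb => simp only [map_add, ha, hb]
      rw [e]
      have h0 : LinearMap.mul' R R (TensorProduct.map (Coalgebra.counit (R := R))
          (Coalgebra.counit (R := R)) (Coalgebra.comul (R := R) c)) = Coalgebra.counit (R := R) c := by
        have := congrArg (Coalgebra.counit (R := R)) (Coalgebra.sum_counit_smul (Coalgebra.Repr.arbitrary R c))
        rw [← (Coalgebra.Repr.arbitrary R c).eq]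
        simpa [map_sum] using this
      rw [h0, show Coalgebra.counit (R := R) c = 0 from hc, map_zero]
    have h3 := hle hx
    have e2 : ∀ z : A ⊗[R] A, TensorProduct.map (J.restrictScalars R).mkQ (J.restrictScalars R).mkQ z = 0 ↔
        Algebra.TensorProduct.map π π z = 0 := by
      intro z
      let ψ : (A ⧸ J.restrictScalars R) ≃ₗ[R] A ⧸ J := Submodule.Quotient.restrictScalarsEquiv R J
      have : TensorProduct.congr ψ ψ (TensorProduct.map (J.restrictScalars R).mkQ (J.restrictScalars R).mkQ z) =
          Algebra.TensorProduct.map π π z := by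
        induction z using TensorProduct.induction_on with
        | zero => simp
        | tmul a b => rfl
        | add a b ha hb => simp only [map_add, ha, hb]
      rw [← this, LinearEquiv.map_eq_zero_iff]
    exact (e2 _).2 h3
  · intro x hx
    have hle : J ≤ J.comap (antipodeAlgHom R A) := Ideal.map_le_iff_le_comap.2 fun c hc => by
      show antipode R (φ c) ∈ J
      rw [← bialgHom_map_antipode]
      refine Ideal.mem_map_of_mem φ ?_
      show Coalgebra.counit (R := R) (antipode R c) = 0
      rw [HopfAlgebra.counit_antipode]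
      exact hc
    exact hle hx

/-- A surjection of group algebras over a field with isomorphic finitely generated groups. -/
theorem bijective_of_surjective_diag {K : Type u} [Field K] {M N : Type u} [CommGroup M] [CommGroup N]
    [Group.FG M] (c : M ≃* N) (Ψ : MonoidAlgebra K M →ₐc[K] MonoidAlgebra K N)
    (h : Function.Surjective Ψ) : Function.Bijective Ψ := by
  obtain ⟨χ, rfl⟩ := (MonoidAlgebra.mapDomainBialgHomEquiv (R := K)).surjective Ψ
  simp only [MonoidAlgebra.mapDomainBialgHomEquiv_apply] at h ⊢
  have hsurj : Function.Surjective χ := by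
    intro n
    obtain ⟨z, hz⟩ := h (MonoidAlgebra.single n 1)
    have h1 : (Finsupp.mapDomain χ z.coeff) n ≠ 0 := by
      have h2 := congrArg (fun w => w.coeff n) hz
      simp only [MonoidAlgebra.coeff_single, Finsupp.single_eq_same] at h2
      rw [show Finsupp.mapDomain χ z.coeff n = 1 from h2]
      exact one_ne_zero
    by_contra hne
    exact h1 (Finsupp.mapDomain_of_notMem_range _ _ fun ⟨m, hm⟩ => hne ⟨m, hm⟩)
  have hinj : Function.Injective χ := by
    haveI : AddGroup.FG (Additive M) := inferInstance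
    haveI : Module.Finite ℤ (Additive M) := Module.Finite.iff_addGroup_fg.2 inferInstance
    let g : Additive M →ₗ[ℤ] Additive M :=
      (MonoidHom.toAdditive (c.symm.toMonoidHom.comp χ)).toIntLinearMap
    have hg : Function.Injective g :=
      OrzechProperty.injective_of_surjective_endomorphism g fun y => by
        obtain ⟨m, hm⟩ := hsurj (c y.toMul)
        exact ⟨Additive.ofMul m, by
          show Additive.ofMul (c.symm (χ m)) = y
          rw [hm, c.symm_apply_apply]; rfl⟩
    intro a b hab
    have h2 : g (Additive.ofMul a) = g (Additive.ofMul b) := by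
      show Additive.ofMul (c.symm (χ a)) = Additive.ofMul (c.symm (χ b))
      rw [hab]
    exact Additive.ofMul.injective (hg h2)
  refine ⟨fun x y hxy => MonoidAlgebra.coeff_injective ?_, h⟩
  exact Finsupp.mapDomain_injective hinj (congrArg MonoidAlgebra.coeff hxy)

theorem exists_field_over {L T : Type u} [CommRing L] [CommRing T] [Algebra L T]
    [Module.FaithfullyFlat L T] (P : PrimeSpectrum L) :
    ∃ (K : Type u) (_ : Field K) (_ : Algebra L K) (_ : Algebra T K) (_ : IsScalarTower L T K),
      RingHom.ker (algebraMap L K) = P.asIdeal := by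
  obtain ⟨Q, hQ⟩ := PrimeSpectrum.comap_surjective_of_faithfullyFlat (A := L) (B := T) P
  refine ⟨Q.asIdeal.ResidueField, inferInstance, inferInstance, inferInstance, inferInstance, ?_⟩
  rw [IsScalarTower.algebraMap_eq L T Q.asIdeal.ResidueField, ← RingHom.comap_ker,
    Ideal.ker_algebraMap_residueField, ← hQ]
  rfl

theorem away_mul_data {f f' : R} {p : Ideal R} [p.IsPrime] (hf : f ∉ p) (hf' : f' ∉ p) :
    f * f' ∉ p ∧ IsUnit (algebraMap R (Localization.Away (f * f')) f) ∧
      IsUnit (algebraMap R (Localization.Away (f * f')) f') :=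
  ⟨Ideal.IsPrime.mul_notMem inferInstance hf hf',
    isUnit_of_dvd_unit (map_dvd _ (dvd_mul_right f f')) (IsLocalization.Away.algebraMap_isUnit _),
    isUnit_of_dvd_unit (map_dvd _ (dvd_mul_left f' f)) (IsLocalization.Away.algebraMap_isUnit _)⟩

theorem exists_const_at (h : SGA3b.IsMultType R A) (p : Ideal R) [p.IsPrime] :
    ∃ f ∉ p, ∀ (L : Type u) [CommRing L] [Algebra R L], IsUnit (algebraMap R L f) →
      ∃ (T : Type u) (_ : CommRing T) (_ : Algebra R T) (_ : Algebra L T) (_ : IsScalarTower R L T),
        Module.FaithfullyFlat L T ∧ SGA3b.IsDiag T (T ⊗[R] A) := by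
  obtain ⟨s, hs, hd⟩ := h
  obtain ⟨f, hfs, hfp⟩ : ∃ f ∈ s, f ∉ p := by
    by_contra hcon
    push Not at hcon
    exact Ideal.IsPrime.ne_top' (I := p) (top_le_iff.mp (hs ▸ Ideal.span_le.mpr hcon))
  refine ⟨f, hfp, fun L _ _ hu => ?_⟩
  obtain ⟨T₀, _, _, hff, hd₀⟩ := hd f hfs
  let W := Localization.Away f
  letI algWL : Algebra W L := (IsLocalization.Away.lift (S := W) f hu).toAlgebra
  haveI : IsScalarTower R W L := IsScalarTower.of_algebraMap_eq' (IsLocalization.Away.lift_comp f hu).symm
  let T := L ⊗[W] T₀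
  letI : Algebra T₀ T := Algebra.TensorProduct.rightAlgebra
  letI algRT₀ : Algebra R T₀ := ((algebraMap W T₀).comp (algebraMap R W)).toAlgebra
  haveI : IsScalarTower R W T₀ := IsScalarTower.of_algebraMap_eq' rfl
  haveI : IsScalarTower R T₀ T := IsScalarTower.of_algebraMap_eq fun r => by
    rw [IsScalarTower.algebraMap_apply R W T₀, ← IsScalarTower.algebraMap_apply W T₀ T,
      ← IsScalarTower.algebraMap_apply R W T]
  haveI : IsScalarTower R L T := IsScalarTower.of_algebraMap_eq fun r => by
    rw [IsScalarTower.algebraMap_apply R W L, ← IsScalarTower.algebraMap_apply W L T,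
      ← IsScalarTower.algebraMap_apply R W T]
  exact ⟨T, inferInstance, inferInstance, inferInstance, inferInstance, inferInstance,
    isDiag_baseChange T₀ T (isDiag_of_tensor_tensor W T₀ hd₀)⟩

set_option maxHeartbeats 1000000 in
/-- A comparison map that is bijective on one fibre is an isomorphism nearby. -/
theorem exists_bijective_nhd (h : SGA3b.IsMultType R A) (p : Ideal R) [p.IsPrime] {M : Type u}
    [CommGroup M] [Group.FG M] (Φ : MonoidAlgebra R M →ₐc[R] A)
    (hΦ : Function.Surjective ((Φ : MonoidAlgebra R M →ₗ[R] A).baseChange p.ResidueField))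
    (hM : ∃ (K : Type u) (_ : Field K) (_ : Algebra R K), RingHom.ker (algebraMap R K) = p ∧
      Nonempty (K ⊗[R] A ≃ₐc[K] MonoidAlgebra K M)) :
    ∃ t ∉ p, Function.Bijective (bcMap (Localization.Away t) Φ) := by
  classical
  let J := Ideal.map Φ (RingHom.ker (Bialgebra.counitAlgHom R (MonoidAlgebra R M)))
  haveI : J.IsHopfIdeal R := isHopfIdeal_map_aug Φ
  haveI : Algebra.FiniteType R (MonoidAlgebra R M) := by
    haveI : Monoid.FG M := Group.fg_iff_monoid_fg.1 inferInstance
    infer_instance
  have hAJ : SGA3b.IsMultType R (A ⧸ J) := isMultType_quot_aug h Φ J rfl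
  obtain ⟨f, hf, hfL⟩ := exists_const_at h p
  obtain ⟨f', hf', hfL'⟩ := exists_const_at hAJ p
  obtain ⟨hp, hu, hu'⟩ := away_mul_data hf hf'
  refine ⟨f * f', hp, ?_⟩
  let L := Localization.Away (f * f')
  obtain ⟨T, _, _, _, _, hT, N, _, ⟨eA⟩⟩ := hfL L hu
  obtain ⟨T', _, _, _, _, hT', N', _, ⟨eJ⟩⟩ := hfL' L hu'
  obtain ⟨P, hP⟩ : ∃ P : PrimeSpectrum L, P.asIdeal.comap (algebraMap R L) = p := by
    have : (⟨p, inferInstance⟩ : PrimeSpectrum R) ∈ Set.range (PrimeSpectrum.comap (algebraMap R L)) := by
      rw [PrimeSpectrum.localization_away_comap_range L (f * f')]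
      exact hp
    obtain ⟨P, hP⟩ := this
    exact ⟨P, congrArg PrimeSpectrum.asIdeal hP⟩
  -- the quotient is trivial
  have hsurjK : ∀ (K : Type u) [Field K] [Algebra R K], RingHom.ker (algebraMap R K) = p →
      Function.Surjective ((Φ : MonoidAlgebra R M →ₗ[R] A).baseChange K) := by
    intro K _ _ hker z
    let ι : p.ResidueField →ₐ[R] K := Ideal.ResidueField.liftₐ p (Algebra.ofId R K) (le_of_eq hker.symm)
      fun x hx => isUnit_iff_ne_zero.2 fun h0 => hx (hker ▸ h0)
    induction z using TensorProduct.induction_on with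
    | zero => exact ⟨0, map_zero _⟩
    | add a b ha hb =>
      obtain ⟨x, rfl⟩ := ha
      obtain ⟨y, rfl⟩ := hb
      exact ⟨x + y, map_add _ x y⟩
    | tmul c a =>
      obtain ⟨w, hw⟩ := hΦ ((1 : p.ResidueField) ⊗ₜ[R] a)
      refine ⟨c • Algebra.TensorProduct.map ι (AlgHom.id R _) w, ?_⟩
      have : ∀ w, (Φ : MonoidAlgebra R M →ₗ[R] A).baseChange K (Algebra.TensorProduct.map ι (AlgHom.id R _) w) =
          Algebra.TensorProduct.map ι (AlgHom.id R A)
            ((Φ : MonoidAlgebra R M →ₗ[R] A).baseChange p.ResidueField w) := by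
        intro w
        induction w using TensorProduct.induction_on with
        | zero => simp
        | tmul x y => simp
        | add x y hx hy => simp only [map_add, hx, hy]
      rw [map_smul, this, hw, Algebra.TensorProduct.map_tmul, map_one, TensorProduct.smul_tmul']
      simp
  have hker : ∀ d : MonoidAlgebra R M, Coalgebra.counit (R := R) d = 0 → Φ d ∈ J := fun d hd =>
    Ideal.mem_map_of_mem Φ hd
  have hN' : ∀ n : N', n = 1 := by
    obtain ⟨K, _, _, _, _, hK⟩ := exists_field_over (T := T') P
    letI algRK : Algebra R K := ((algebraMap L K).comp (algebraMap R L)).toAlgebra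
    haveI : IsScalarTower R L K := IsScalarTower.of_algebraMap_eq' rfl
    haveI : IsScalarTower R T' K := IsScalarTower.of_algebraMap_eq fun r => by
      rw [IsScalarTower.algebraMap_apply R L K, IsScalarTower.algebraMap_apply L T' K,
        ← IsScalarTower.algebraMap_apply R L T']
    have hkp : RingHom.ker (algebraMap R K) = p := by
      rw [IsScalarTower.algebraMap_eq R L K, ← RingHom.comap_ker, hK, hP]
    let eK : K ⊗[R] (A ⧸ J) ≃ₐc[K] MonoidAlgebra K N' :=
      (cancelBC R (A ⧸ J) T' K).symm.trans ((bcEquiv K eJ).trans (diagBC T' K N'))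
    have hscal : ∀ z : K ⊗[R] (A ⧸ J), ∃ c : K, z = c • (1 : K ⊗[R] (A ⧸ J)) := by
      intro z
      obtain ⟨a, rfl⟩ : ∃ a : K ⊗[R] A, Algebra.TensorProduct.map (AlgHom.id R K) (Ideal.Quotient.mkₐ R J) a = z :=
        TensorProduct.map_surjective Function.surjective_id Ideal.Quotient.mk_surjective z
      obtain ⟨w, rfl⟩ := hsurjK K hkp a
      induction w using TensorProduct.induction_on with
      | zero => exact ⟨0, by simp⟩
      | add a b ha hb =>
        obtain ⟨c, hc⟩ := ha
        obtain ⟨c', hc'⟩ := hb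
        exact ⟨c + c', by rw [map_add, map_add, hc, hc', add_smul]⟩
      | tmul c d =>
        refine ⟨c * algebraMap R K (Coalgebra.counit (R := R) d), ?_⟩
        have h0 : Ideal.Quotient.mk J (Φ d) = algebraMap R (A ⧸ J) (Coalgebra.counit (R := R) d) := by
          have := hker (d - algebraMap R _ (Coalgebra.counit d)) (by simp)
          rw [map_sub, AlgHomClass.commutes] at this
          exact Ideal.Quotient.eq.2 this
        simp only [LinearMap.baseChange_tmul, Algebra.TensorProduct.map_tmul, AlgHom.id_apply,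
          Ideal.Quotient.mkₐ_eq_mk]
        show c ⊗ₜ[R] Ideal.Quotient.mk J (Φ d) = _
        rw [h0, Algebra.algebraMap_eq_smul_one, TensorProduct.tmul_smul, Algebra.TensorProduct.one_def,
          TensorProduct.smul_tmul', TensorProduct.smul_tmul', smul_eq_mul, mul_one, Algebra.smul_def, mul_comm]
    intro n
    obtain ⟨c, hc⟩ := hscal (eK.symm (MonoidAlgebra.single n 1))
    have h1 := congrArg eK hc
    rw [eK.apply_symm_apply, map_smul, map_one, MonoidAlgebra.one_def, MonoidAlgebra.smul_single] at h1
    by_contra hne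
    have h2 := congrArg (fun z => z.coeff n) h1
    simp [Finsupp.single_eq_of_ne hne] at h2
  have hJ1 : ∀ a : A, (1 : L) ⊗ₜ[R] (Ideal.Quotient.mk J a) =
      algebraMap R L (Coalgebra.counit (R := R) a) ⊗ₜ[R] (1 : A ⧸ J) := by
    intro a
    rw [← sub_eq_zero]
    refine Module.FaithfullyFlat.tensorProduct_mk_injective (A := L) (B := T') _ ?_
    rw [map_zero]
    refine (cancelBC R (A ⧸ J) L T').injective (Eq.trans ?_ (map_zero (cancelBC R (A ⧸ J) L T')).symm)
    show cancelBC R (A ⧸ J) L T' ((1 : T') ⊗ₜ[L] (_ - _)) = 0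
    rw [TensorProduct.tmul_sub, map_sub, cancelBC_tmul, cancelBC_tmul]
    have hz : ∀ z : T' ⊗[R] (A ⧸ J), z = algebraMap T' _ (Coalgebra.counit (R := T') z) := by
      intro z
      obtain ⟨y, rfl⟩ : ∃ y, eJ.symm y = z := ⟨eJ z, eJ.symm_apply_apply z⟩
      induction y using MonoidAlgebra.induction_linear with
      | zero => simp
      | add a b ha hb => simp only [map_add, ← ha, ← hb]
      | single m r =>
        rw [hN' m, show MonoidAlgebra.single (1 : N') r = algebraMap T' (MonoidAlgebra T' N') r by
          simp [MonoidAlgebra.coe_algebraMap], AlgHomClass.commutes, Bialgebra.counit_algebraMap]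
    have h1 := hz ((1 : T') ⊗ₜ[R] Ideal.Quotient.mk J a)
    have hq : Coalgebra.counit (R := R) (Ideal.Quotient.mk J a) = Coalgebra.counit (R := R) a :=
      CoalgHomClass.counit_comp_apply (Bialgebra.Quotient.mkBialgHom (R := R) J) a
    rw [one_smul, h1]
    rw [show Coalgebra.counit (R := T') ((1 : T') ⊗ₜ[R] Ideal.Quotient.mk J a) =
        algebraMap R T' (Coalgebra.counit (R := R) a) by simp [hq, Algebra.algebraMap_eq_smul_one],
      Algebra.smul_def, mul_one, ← IsScalarTower.algebraMap_apply R L T']
    exact sub_self _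
  -- surjectivity
  let ΦL : L ⊗[R] MonoidAlgebra R M →ₐc[L] L ⊗[R] A := bcMap L Φ
  have hmono : ∀ (U : Type u) [CommRing U] [Algebra L U],
      Function.Injective (fun x : L ⊗[R] A →ₐ[L] U => x.comp (ΦL : L ⊗[R] MonoidAlgebra R M →ₐ[L] L ⊗[R] A)) := by
    intro U _ _ x y hxy
    let pre : WithConv (L ⊗[R] A →ₐ[L] U) →* WithConv (L ⊗[R] MonoidAlgebra R M →ₐ[L] U) :=
      { toFun := fun z => toConv (z.ofConv.comp (ΦL : L ⊗[R] MonoidAlgebra R M →ₐ[L] L ⊗[R] A))
        map_one' := by
          apply ofConv_injective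
          refine AlgHom.ext fun c => ?_
          show algebraMap L U (Coalgebra.counit (R := L) (ΦL c)) = algebraMap L U (Coalgebra.counit (R := L) c)
          rw [CoalgHomClass.counit_comp_apply ΦL]
        map_mul' := fun f g => by
          apply ofConv_injective
          exact AlgHom.convMul_comp_bialgHom_distrib f g ΦL }
    let z := toConv x * (toConv y)⁻¹
    have hz : pre z = 1 := by
      have : pre (toConv x) = pre (toConv y) := congrArg toConv hxy
      simp only [z, map_mul, map_inv, this, mul_inv_cancel]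
    letI algRU : Algebra R U := ((algebraMap L U).comp (algebraMap R L)).toAlgebra
    haveI : IsScalarTower R L U := IsScalarTower.of_algebraMap_eq' rfl
    let ζ : A →ₐ[R] U := (z.ofConv.restrictScalars R).comp Algebra.TensorProduct.includeRight
    have hζ : J ≤ RingHom.ker ζ := Ideal.map_le_iff_le_comap.2 fun d hd => by
      show z.ofConv ((1 : L) ⊗ₜ[R] Φ d) = 0
      have h1 := DFunLike.congr_fun (congrArg WithConv.ofConv hz) ((1 : L) ⊗ₜ[R] d)
      have hd0 : Coalgebra.counit (R := R) d = 0 := hd
      refine h1.trans ?_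
      show algebraMap L U (Coalgebra.counit (R := L) ((1 : L) ⊗ₜ[R] d)) = 0
      simp [hd0]
    let ξ : L ⊗[R] (A ⧸ J) →ₐ[R] U :=
      Algebra.TensorProduct.lift (IsScalarTower.toAlgHom R L U) (Ideal.Quotient.liftₐ J ζ fun d hd => hζ hd)
        (fun _ _ => Commute.all _ _)
    have hz1 : z = 1 := by
      apply ofConv_injective
      refine comul_algHom_ext fun a => ?_
      show z.ofConv ((1 : L) ⊗ₜ[R] a) = algebraMap L U (Coalgebra.counit (R := L) ((1 : L) ⊗ₜ[R] a))
      have h1 := congrArg ξ (hJ1 a)
      simp only [ξ, Algebra.TensorProduct.lift_tmul, map_one, one_mul, mul_one] at h1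
      refine Eq.trans h1 ?_
      simp [Algebra.algebraMap_eq_smul_one, ← IsScalarTower.algebraMap_apply R L U]
    exact toConv_injective (mul_inv_eq_one.1 hz1)
  have hsurj : Function.Surjective ΦL := surjective_of_mono (isMultType_baseChange L h) ΦL hmono
  let Ψ : MonoidAlgebra L M →ₐc[L] L ⊗[R] A := ΦL.comp (diagBC R L M).symm.toBialgHom
  have hΨ : Function.Surjective Ψ := hsurj.comp (diagBC R L M).symm.surjective
  -- the two groups agree
  obtain ⟨c⟩ : Nonempty (M ≃* N) := by
    obtain ⟨K₀, _, _, hK₀, ⟨e₀⟩⟩ := hM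
    obtain ⟨K, _, _, _, _, hK⟩ := exists_field_over (T := T) P
    letI algRK : Algebra R K := ((algebraMap L K).comp (algebraMap R L)).toAlgebra
    haveI : IsScalarTower R L K := IsScalarTower.of_algebraMap_eq' rfl
    haveI : IsScalarTower R T K := IsScalarTower.of_algebraMap_eq fun r => by
      rw [IsScalarTower.algebraMap_apply R L K, IsScalarTower.algebraMap_apply L T K,
        ← IsScalarTower.algebraMap_apply R L T]
    have hkp : RingHom.ker (algebraMap R K) = p := by
      rw [IsScalarTower.algebraMap_eq R L K, ← RingHom.comap_ker, hK, hP]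
    let ι₀ : p.ResidueField →ₐ[R] K₀ := Ideal.ResidueField.liftₐ p (Algebra.ofId R K₀) (le_of_eq hK₀.symm)
      fun x hx => isUnit_iff_ne_zero.2 fun h0 => hx (hK₀ ▸ h0)
    let ι₁ : p.ResidueField →ₐ[R] K := Ideal.ResidueField.liftₐ p (Algebra.ofId R K) (le_of_eq hkp.symm)
      fun x hx => isUnit_iff_ne_zero.2 fun h0 => hx (hkp ▸ h0)
    letI : Algebra p.ResidueField K₀ := ι₀.toRingHom.toAlgebra
    letI : Algebra p.ResidueField K := ι₁.toRingHom.toAlgebra
    haveI : IsScalarTower R p.ResidueField K₀ := IsScalarTower.of_algebraMap_eq fun r => (ι₀.commutes r).symm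
    haveI : IsScalarTower R p.ResidueField K := IsScalarTower.of_algebraMap_eq fun r => (ι₁.commutes r).symm
    haveI : Nontrivial (K₀ ⊗[p.ResidueField] K) :=
      Algebra.TensorProduct.nontrivial_of_algebraMap_injective_of_flat_left p.ResidueField K₀ K
        (algebraMap p.ResidueField K).injective
    let g : K₀ ⊗[R] K →ₐ[R] K₀ ⊗[p.ResidueField] K :=
      Algebra.TensorProduct.lift
        ((Algebra.TensorProduct.includeLeft (S := p.ResidueField)).restrictScalars R)
        ((Algebra.TensorProduct.includeRight (R := p.ResidueField) (A := K₀) (B := K)).restrictScalars R)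
        (fun _ _ => Commute.all _ _)
    haveI : Nontrivial (K₀ ⊗[R] K) := g.toRingHom.domain_nontrivial
    exact nonempty_mulEquiv_of_nontrivial e₀ ((cancelBC R A T K).symm.trans ((bcEquiv K eA).trans (diagBC T K N)))
  haveI : Module.FaithfullyFlat L (PUnit.{u+1} → T) :=
    faithfullyFlat_pi (fun _ : PUnit.{u+1} => T) fun P =>
      ⟨⟨⟩, PrimeSpectrum.comap_surjective_of_faithfullyFlat P⟩
  have hbij : Function.Bijective Ψ := by
    refine bijective_of_family (fun _ : PUnit.{u+1} => T) (Ψ : MonoidAlgebra L M →ₗ[L] L ⊗[R] A) fun _ => ?_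
    let ΨT : MonoidAlgebra T M →ₐc[T] MonoidAlgebra T N :=
      (((cancelBC R A L T).trans eA).toBialgHom.comp (bcMap T Ψ)).comp (diagBC L T M).symm.toBialgHom
    have hΨT : Function.Surjective ΨT := by
      refine ((((cancelBC R A L T).trans eA).surjective.comp ?_).comp (diagBC L T M).symm.surjective)
      exact LinearMap.lTensor_surjective T (g := (Ψ : MonoidAlgebra L M →ₗ[L] L ⊗[R] A)) hΨ
    have hT : Function.Bijective ΨT := by
      refine bijective_of_residueField ΨT fun Q _ => ?_
      let K := Q.ResidueField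
      let χ : MonoidAlgebra K M →ₐc[K] MonoidAlgebra K N :=
        ((diagBC T K N).toBialgHom.comp (bcMap K ΨT)).comp (diagBC T K M).symm.toBialgHom
      have hb : Function.Surjective (bcMap K ΨT) :=
        LinearMap.lTensor_surjective K (g := (ΨT : MonoidAlgebra T M →ₗ[T] MonoidAlgebra T N)) hΨT
      have hχ : Function.Bijective χ := bijective_of_surjective_diag c χ
        (((diagBC T K N).surjective.comp hb).comp (diagBC T K M).symm.surjective)
      have h2 : Function.Bijective (bcMap K ΨT) :=
        ((diagBC T K N).bijective.of_comp_iff' _).mp (((diagBC T K M).symm.bijective.of_comp_iff _).mp hχ)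
      exact h2
    have h2 : Function.Bijective (bcMap T Ψ) :=
      (((cancelBC R A L T).trans eA).bijective.of_comp_iff' _).mp
        (((diagBC L T M).symm.bijective.of_comp_iff _).mp hT)
    exact h2
  exact ((diagBC R L M).symm.bijective.of_comp_iff ΦL).mp hbij

theorem exists_isDiag_nhd (h : SGA3b.IsMultType R A) (p : Ideal R) [p.IsPrime] {M : Type u}
    [CommGroup M] [Group.FG M] (Φ : MonoidAlgebra R M →ₐc[R] A)
    (hΦ : Function.Surjective ((Φ : MonoidAlgebra R M →ₗ[R] A).baseChange p.ResidueField))
    (hM : ∃ (K : Type u) (_ : Field K) (_ : Algebra R K), RingHom.ker (algebraMap R K) = p ∧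
      Nonempty (K ⊗[R] A ≃ₐc[K] MonoidAlgebra K M)) :
    ∃ t ∉ p, SGA3b.IsDiag (Localization.Away t) (Localization.Away t ⊗[R] A) := by
  obtain ⟨t, ht, hb⟩ := exists_bijective_nhd h p Φ hΦ hM
  exact ⟨t, ht, M, inferInstance, ⟨(BialgEquiv.ofBijective (bcMap (Localization.Away t) Φ) hb).symm.trans
    (diagBC R (Localization.Away t) M)⟩⟩

/-- Base change of group-like elements, as a homomorphism. -/
noncomputable def glHom {T T' : Type u} [CommRing T] [CommRing T'] [Algebra R T] [Algebra R T']
    (f : T →ₐ[R] T') : GroupLike T (T ⊗[R] A) →* GroupLike T' (T' ⊗[R] A) where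
  toFun g := ⟨Algebra.TensorProduct.map f (AlgHom.id R A) g.val, glike_map f g.2⟩
  map_one' := by ext; exact map_one _
  map_mul' a b := by ext; exact map_mul _ _ _

theorem glHom_val {T T' : Type u} [CommRing T] [CommRing T'] [Algebra R T] [Algebra R T']
    (f : T →ₐ[R] T') (g : GroupLike T (T ⊗[R] A)) :
    (glHom f g).val = Algebra.TensorProduct.map f (AlgHom.id R A) g.val := rfl

/-- The group-like elements given by a diagonalisation. -/
noncomputable def diagGlike {T : Type u} [CommRing T] [Algebra R T] {M : Type u} [CommGroup M]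
    (e : T ⊗[R] A ≃ₐc[T] MonoidAlgebra T M) : M →* GroupLike T (T ⊗[R] A) where
  toFun m := ⟨e.symm (MonoidAlgebra.single m 1),
    (MonoidAlgebra.isGroupLikeElem_single_one (R := T) (A := T) m).map e.symm⟩
  map_one' := by
    ext
    show e.symm (MonoidAlgebra.single 1 1) = 1
    rw [← MonoidAlgebra.one_def, map_one]
  map_mul' a b := by
    ext
    show e.symm (MonoidAlgebra.single (a * b) 1) = e.symm _ * e.symm _
    rw [← map_mul, MonoidAlgebra.single_mul_single, mul_one]

/-- A group algebra mapping to given group-like elements. -/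
noncomputable def bialgOfGlike {M : Type u} [CommGroup M] (G : M →* GroupLike R A) :
    MonoidAlgebra R M →ₐc[R] A :=
  BialgHom.ofAlgHom (MonoidAlgebra.lift R A M ((GroupLike.valMonoidHom R A).comp G))
    (MonoidAlgebra.algHom_ext (fun m => by simp [GroupLike.valMonoidHom, (G m).2.counit_eq_one]) (by ext))
    (MonoidAlgebra.algHom_ext (fun m => by simp [GroupLike.valMonoidHom, (G m).2.comul_eq_tmul_self]) (by ext))

theorem bialgOfGlike_single {M : Type u} [CommGroup M] (G : M →* GroupLike R A) (m : M) :
    bialgOfGlike G (MonoidAlgebra.single m 1) = (G m).val := by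
  simp [bialgOfGlike, GroupLike.valMonoidHom]

theorem cancelBC_one_tmul {T T' : Type u} [CommRing T] [CommRing T'] [Algebra R T] [Algebra R T']
    [Algebra T T'] [IsScalarTower R T T'] (x : T ⊗[R] A) :
    cancelBC R A T T' ((1 : T') ⊗ₜ[T] x) =
      Algebra.TensorProduct.map (IsScalarTower.toAlgHom R T T') (AlgHom.id R A) x := by
  induction x using TensorProduct.induction_on with
  | zero => simp
  | tmul b c => rw [cancelBC_tmul]; simp [Algebra.smul_def]
  | add x y hx hy => simp only [TensorProduct.tmul_add, map_add, hx, hy]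

/-- A diagonalisation transported along an algebra map, with its group-like elements. -/
theorem exists_diag_map {T T' : Type u} [CommRing T] [CommRing T'] [Algebra R T] [Algebra R T']
    (f : T →ₐ[R] T') {M : Type u} [CommGroup M] (e : T ⊗[R] A ≃ₐc[T] MonoidAlgebra T M) :
    ∃ e' : T' ⊗[R] A ≃ₐc[T'] MonoidAlgebra T' M, ∀ m, e'.symm (MonoidAlgebra.single m 1) =
      Algebra.TensorProduct.map f (AlgHom.id R A) (e.symm (MonoidAlgebra.single m 1)) := by
  letI : Algebra T T' := f.toRingHom.toAlgebra
  haveI : IsScalarTower R T T' := IsScalarTower.of_algebraMap_eq fun r => (f.commutes r).symm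
  let e' := (cancelBC R A T T').symm.trans ((bcEquiv T' e).trans (diagBC T T' M))
  refine ⟨e', fun m => ?_⟩
  apply (show Function.Injective ⇑e' from e'.injective)
  rw [e'.apply_symm_apply]
  have h1 := cancelBC_one_tmul (R := R) (A := A) (T' := T') (e.symm (MonoidAlgebra.single m (1 : T)))
  rw [show IsScalarTower.toAlgHom R T T' = f from AlgHom.ext fun _ => rfl] at h1
  rw [← h1]
  show _ = diagBC T T' M (bcEquiv T' e ((cancelBC R A T T').symm (cancelBC R A T T' _)))
  rw [BialgEquiv.symm_apply_apply, bcEquiv_tmul, e.apply_symm_apply, diagBC_tmul_single]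

theorem exists_lift_of_ker_le {F M G : Type*} [Group F] [Group M] [Group G] (π : F →* M)
    (hπ : Function.Surjective π) (g : F →* G) (hk : ∀ w, π w = 1 → g w = 1) :
    ∃ f : M →* G, ∀ w, f (π w) = g w :=
  ⟨(QuotientGroup.lift π.ker g fun w hw => MonoidHom.mem_ker.2 (hk w (MonoidHom.mem_ker.1 hw))).comp (QuotientGroup.quotientKerEquivOfSurjective π hπ).symm.toMonoidHom,
    fun w => by
      have : (QuotientGroup.quotientKerEquivOfSurjective π hπ).symm (π w) = QuotientGroup.mk w := by
        rw [MulEquiv.symm_apply_eq]; rfl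
      simp [this]⟩

/-- Relations among group-like elements that hold at a prime hold nearby. -/
theorem exists_smul_sub_one_eq_zero (h : SGA3b.IsMultType R A) {B : Type u} [CommRing B] [Algebra R B]
    (q : Ideal B) [q.IsPrime] {g : B ⊗[R] A} (hg : IsGroupLikeElem B g)
    (hg1 : Algebra.TensorProduct.map (IsScalarTower.toAlgHom R B q.ResidueField) (AlgHom.id R A) g = 1) :
    ∃ t ∉ q, t • (g - 1) = 0 := by
  let S := Localization.AtPrime q
  obtain ⟨j, hj⟩ := exists_isInt_of_isMultType (isMultType_baseChange S h)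
  let θS : B →ₐ[R] S := IsScalarTower.toAlgHom R B S
  have h1 : Algebra.TensorProduct.map θS (AlgHom.id R A) g = 1 := by
    refine glike_eq_of_mod hj (K := IsLocalRing.maximalIdeal S) (fun r hr => ?_) (glike_map θS hg)
      IsGroupLikeElem.one ?_
    · by_contra hnu
      have h2 := Submodule.sub_mem _ ((IsLocalRing.mem_maximalIdeal _).2 hnu) hr
      rw [add_sub_cancel_right] at h2
      exact (IsLocalRing.maximalIdeal S).ne_top_iff_one.1 (IsLocalRing.maximalIdeal.isMaximal S).ne_top h2
    · rw [sub_mem_KT_iff_one_tmul_eq]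
      apply (show Function.Injective ⇑(cancelBC R A S (S ⧸ IsLocalRing.maximalIdeal S)) from
        (cancelBC R A S (S ⧸ IsLocalRing.maximalIdeal S)).injective)
      rw [cancelBC_one_tmul, cancelBC_one_tmul, map_map_id, map_one]
      exact hg1
  obtain ⟨t, ht, h0⟩ := map_eq_zero_iff_exists_smul (R := R) (L := S) q.primeCompl A
    (z := g - 1) (by
      have : ∀ x : B ⊗[R] A, θS.toLinearMap.rTensor A x = Algebra.TensorProduct.map θS (AlgHom.id R A) x := by
        intro x
        induction x using TensorProduct.induction_on with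
        | zero => simp
        | tmul a b => simp
        | add a b ha hb => simp only [map_add, ha, hb]
      show θS.toLinearMap.rTensor A _ = 0
      rw [this, map_sub, h1, map_one, sub_self])
  exact ⟨t, ht, h0⟩

set_option maxHeartbeats 1000000 in
/-- A diagonalisation of a fibre gives a homomorphism to the group-like elements on an étale
neighbourhood. -/
theorem exists_glike_hom (h : SGA3b.IsMultType R A) {B : Type u} [CommRing B] [Algebra R B]
    (q : Ideal B) [q.IsPrime] {M : Type u} [CommGroup M] [Group.FG M]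
    (e1 : q.ResidueField ⊗[R] A ≃ₐc[q.ResidueField] MonoidAlgebra q.ResidueField M) :
    ∃ (W : Type u) (_ : CommRing W) (_ : Algebra R W) (_ : Algebra B W) (_ : IsScalarTower R B W)
      (_ : Algebra.Etale B W) (qW : Ideal W) (_ : qW.IsPrime), qW.comap (algebraMap B W) = q ∧
      ∃ (Gb : M →* GroupLike W (W ⊗[R] A))
        (e3 : qW.ResidueField ⊗[R] A ≃ₐc[qW.ResidueField] MonoidAlgebra qW.ResidueField M),
        ∀ m, Algebra.TensorProduct.map (IsScalarTower.toAlgHom R W qW.ResidueField) (AlgHom.id R A)
          (Gb m).val = e3.symm (MonoidAlgebra.single m 1) := by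
  classical
  obtain ⟨s, hs, hsfin⟩ := Group.fg_iff.1 (inferInstance : Group.FG M)
  obtain ⟨n, v, hv⟩ : ∃ (n : ℕ) (v : Fin n → M), Set.range v = s := by
    haveI := hsfin.fintype
    exact ⟨Fintype.card s, fun i => ((Fintype.equivFin s).symm i : M), by
      ext x; constructor
      · rintro ⟨i, rfl⟩; exact ((Fintype.equivFin s).symm i).2
      · intro hx; exact ⟨Fintype.equivFin s ⟨x, hx⟩, by simp⟩⟩
  obtain ⟨R2, _, _, _, _, _, q2, _, hq2, ε, g, hε, hg, hgy⟩ :=
    exists_etale_glikes h q n (fun i => (diagGlike e1 (v i)).val) fun i => (diagGlike e1 (v i)).2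
  -- words in the generators
  let F := Multiplicative (Fin n → ℤ)
  let gG : Fin n → GroupLike R2 (R2 ⊗[R] A) := fun i => ⟨g i, hg i⟩
  let π : F →* M :=
    { toFun := fun w => ∏ i, v i ^ (w.toAdd i)
      map_one' := Finset.prod_eq_one fun i _ => zpow_zero _
      map_mul' := fun a b => by
        rw [← Finset.prod_mul_distrib]
        exact Finset.prod_congr rfl fun i _ => zpow_add _ _ _ }
  let G : F →* GroupLike R2 (R2 ⊗[R] A) :=
    { toFun := fun w => ∏ i, gG i ^ (w.toAdd i)
      map_one' := Finset.prod_eq_one fun i _ => zpow_zero _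
      map_mul' := fun a b => by
        rw [← Finset.prod_mul_distrib]
        exact Finset.prod_congr rfl fun i _ => zpow_add _ _ _ }
  have hπ : Function.Surjective π := by
    rw [← MonoidHom.range_eq_top, eq_top_iff, ← hs, Subgroup.closure_le, ← hv]
    rintro _ ⟨i, rfl⟩
    refine ⟨Multiplicative.ofAdd (Pi.single i 1), ?_⟩
    simp only [π, MonoidHom.coe_mk, OneHom.coe_mk, toAdd_ofAdd]
    rw [Finset.prod_eq_single i (fun k _ hk => by simp [Pi.single_eq_of_ne hk]) (by simp)]
    simp
  let θ2 : R2 →ₐ[R] q2.ResidueField := IsScalarTower.toAlgHom R R2 q2.ResidueField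
  have hfib : ∀ w, glHom θ2 (G w) = glHom ε (diagGlike e1 (π w)) := by
    intro w
    simp only [G, π, MonoidHom.coe_mk, OneHom.coe_mk, map_prod, map_zpow]
    refine Finset.prod_congr rfl fun i _ => congrArg (fun x => x ^ (w.toAdd i)) ?_
    exact GroupLike.val_injective (hgy i)
  -- relations die near `q2`
  have hrel : ∀ w ∈ π.ker, ∃ t ∉ q2, t • ((G w).val - 1) = 0 := fun w hw =>
    exists_smul_sub_one_eq_zero h q2 (G w).2 (by
      have h2 : (glHom θ2 (G w)).val = 1 := by
        rw [hfib, MonoidHom.mem_ker.1 hw, map_one, map_one]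
        rfl
      exact h2)
  have hkerfg : π.ker.FG := by
    rw [Subgroup.fg_iff_add_fg]
    exact (Submodule.fg_iff_addSubgroup_fg _).1
      (IsNoetherian.noetherian (AddSubgroup.toIntSubmodule (Subgroup.toAddSubgroup π.ker :
        AddSubgroup (Additive F))))
  obtain ⟨Sk, hSk⟩ := hkerfg
  choose! t ht htw using hrel
  let T0 : R2 := ∏ w ∈ Sk, t w
  have hT0 : T0 ∉ q2 := fun hmem => by
    obtain ⟨w, hwS, hw⟩ := (Ideal.IsPrime.prod_mem_iff).1 hmem
    exact ht w (hSk ▸ Subgroup.subset_closure hwS) hw
  let W := Localization.Away T0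
  let θW : R2 →ₐ[R] W := IsScalarTower.toAlgHom R R2 W
  let GW : F →* GroupLike W (W ⊗[R] A) := (glHom θW).comp G
  have hkill : π.ker ≤ GW.ker := by
    rw [← hSk, Subgroup.closure_le]
    intro w hwS
    have hw : w ∈ π.ker := hSk ▸ Subgroup.subset_closure hwS
    refine MonoidHom.mem_ker.2 (GroupLike.val_injective ?_)
    show Algebra.TensorProduct.map θW (AlgHom.id R A) (G w).val = 1
    have hu : IsUnit (θW (t w)) :=
      isUnit_of_dvd_unit (map_dvd θW (Finset.dvd_prod_of_mem t hwS)) (IsLocalization.Away.algebraMap_isUnit T0)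
    have h1 := congrArg (Algebra.TensorProduct.map θW (AlgHom.id R A)) (htw w hw)
    have hsm : ∀ x : R2 ⊗[R] A, Algebra.TensorProduct.map θW (AlgHom.id R A) (t w • x) =
        θW (t w) • Algebra.TensorProduct.map θW (AlgHom.id R A) x := by
      intro x
      induction x using TensorProduct.induction_on with
      | zero => simp
      | tmul a b => simp [TensorProduct.smul_tmul']
      | add a b ha hb => simp only [smul_add, map_add, ha, hb]
    rw [hsm, map_zero, IsUnit.smul_eq_zero hu, map_sub, map_one, sub_eq_zero] at h1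
    exact h1
  have hk1 : ∀ w, π w = 1 → GW w = 1 := fun w hw => MonoidHom.mem_ker.1 (hkill (MonoidHom.mem_ker.2 hw))
  obtain ⟨Gb, hGb⟩ := exists_lift_of_ker_le (F := F) (M := M) (G := GroupLike W (W ⊗[R] A)) π hπ GW hk1
  let qW : Ideal W := q2.map (algebraMap R2 W)
  have hdisj : Disjoint (Submonoid.powers T0 : Set R2) (q2 : Set R2) :=
    (Ideal.disjoint_powers_iff_notMem _ (Ideal.IsPrime.isRadical inferInstance)).2 hT0
  haveI : qW.IsPrime := IsLocalization.isPrime_of_isPrime_disjoint (Submonoid.powers T0) W q2 inferInstance hdisj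
  have hqW : qW.comap (algebraMap R2 W) = q2 :=
    IsLocalization.comap_map_of_isPrime_disjoint (Submonoid.powers T0) W inferInstance hdisj
  let ε3 : q2.ResidueField →ₐ[R] qW.ResidueField :=
    Ideal.ResidueField.mapₐ q2 qW θW hqW.symm
  obtain ⟨e3, he3⟩ := exists_diag_map (ε3.comp ε) e1
  have hfibW : ∀ m, Algebra.TensorProduct.map (IsScalarTower.toAlgHom R W qW.ResidueField) (AlgHom.id R A)
      (Gb m).val = e3.symm (MonoidAlgebra.single m 1) := by
    intro m
    obtain ⟨w, rfl⟩ := hπ m
    rw [hGb, he3, ← map_map_id ε ε3]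
    show Algebra.TensorProduct.map _ _ (Algebra.TensorProduct.map θW (AlgHom.id R A) (G w).val) =
      Algebra.TensorProduct.map ε3 (AlgHom.id R A) (glHom ε (diagGlike e1 (π w))).val
    rw [← hfib, glHom_val, map_map_id, map_map_id]
    congr 1
    congr 1
    refine AlgHom.ext fun b => ?_
    exact (Ideal.ResidueField.map_algebraMap q2 qW _ _ b).symm
  haveI : Algebra.Etale R2 W := Algebra.Etale.of_isLocalizationAway T0
  haveI : Algebra.Etale B W := Algebra.Etale.comp B R2 W
  refine ⟨W, inferInstance, inferInstance, inferInstance, inferInstance, inferInstance, qW,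
    inferInstance, ?_, Gb, e3, hfibW⟩
  rw [IsScalarTower.algebraMap_eq B R2 W, ← Ideal.comap_comap, hqW, hq2]

/-- Group-like elements giving a diagonalisation of one fibre give one nearby. -/
theorem exists_isDiag_of_glike_hom (h : SGA3b.IsMultType R A) {W : Type u} [CommRing W] [Algebra R W]
    (qW : Ideal W) [qW.IsPrime] {M : Type u} [CommGroup M] [Group.FG M]
    (Gb : M →* GroupLike W (W ⊗[R] A))
    (e3 : qW.ResidueField ⊗[R] A ≃ₐc[qW.ResidueField] MonoidAlgebra qW.ResidueField M)
    (hfibW : ∀ m, Algebra.TensorProduct.map (IsScalarTower.toAlgHom R W qW.ResidueField) (AlgHom.id R A)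
      (Gb m).val = e3.symm (MonoidAlgebra.single m 1)) :
    ∃ t ∉ qW, SGA3b.IsDiag (Localization.Away t) (Localization.Away t ⊗[R] A) := by
  let Φ := bialgOfGlike Gb
  have hsurj : Function.Surjective ((Φ : MonoidAlgebra W M →ₗ[W] W ⊗[R] A).baseChange qW.ResidueField) := by
    intro z
    obtain ⟨y, rfl⟩ : ∃ y, (cancelBC R A W qW.ResidueField).symm (e3.symm y) = z :=
      ⟨e3 (cancelBC R A W qW.ResidueField z), by simp⟩
    induction y using MonoidAlgebra.induction_linear with
    | zero => exact ⟨0, by simp⟩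
    | add a b ha hb =>
      obtain ⟨x, hx⟩ := ha
      obtain ⟨x', hx'⟩ := hb
      exact ⟨x + x', by simp only [map_add, hx, hx']⟩
    | single m r =>
      refine ⟨r ⊗ₜ[W] MonoidAlgebra.single m 1, ?_⟩
      rw [show MonoidAlgebra.single m r = r • MonoidAlgebra.single m (1 : qW.ResidueField) by simp,
        map_smul, map_smul, LinearMap.baseChange_tmul]
      rw [show (Φ : MonoidAlgebra W M →ₗ[W] W ⊗[R] A) (MonoidAlgebra.single m 1) = (Gb m).val from
        bialgOfGlike_single Gb m, ← hfibW, ← cancelBC_one_tmul, BialgEquiv.symm_apply_apply,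
        TensorProduct.smul_tmul', smul_eq_mul, mul_one]
  obtain ⟨t', ht', hd⟩ := exists_isDiag_nhd (isMultType_baseChange W h) qW Φ hsurj
    ⟨qW.ResidueField, inferInstance, inferInstance, Ideal.ker_algebraMap_residueField qW,
      ⟨(cancelBC R A W qW.ResidueField).trans e3⟩⟩
  exact ⟨t', ht', isDiag_of_tensor_tensor W (Localization.Away t') hd⟩

/-- Diagonalisability on some étale neighbourhood of each point. -/
theorem exists_etale_isDiag (hft : Algebra.FiniteType R A) (h : SGA3b.IsMultType R A) (p : Ideal R)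
    [p.IsPrime] :
    ∃ (R' : Type u) (_ : CommRing R') (_ : Algebra R R') (_ : Algebra.Etale R R') (q : Ideal R')
      (_ : q.IsPrime), q.comap (algebraMap R R') = p ∧ SGA3b.IsDiag R' (R' ⊗[R] A) := by
  classical
  let k := p.ResidueField
  obtain ⟨L, _, _, _, _, M, _, hMfg, ⟨eL⟩⟩ := exists_separable_isDiag (k := k) (C := k ⊗[R] A)
    inferInstance (isMultType_baseChange k h)
  haveI : Group.FG M := hMfg
  letI algRL : Algebra R L := ((algebraMap k L).comp (algebraMap R k)).toAlgebra
  haveI : IsScalarTower R k L := IsScalarTower.of_algebraMap_eq' rfl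
  obtain ⟨R1, _, _, _, q1, _, hq1, ⟨φ⟩⟩ := exists_etale_residueField_ext p L
  obtain ⟨e1, -⟩ := exists_diag_map φ ((cancelBC R A k L).symm.trans eL)
  obtain ⟨W, _, _, _, _, _, qW, _, hqW, Gb, e3, hfibW⟩ := exists_glike_hom h q1 e1
  obtain ⟨t', ht', hd⟩ := exists_isDiag_of_glike_hom h qW Gb e3 hfibW
  let R' := Localization.Away t'
  let q' : Ideal R' := qW.map (algebraMap W R')
  have hdisj' : Disjoint (Submonoid.powers t' : Set W) (qW : Set W) :=
    (Ideal.disjoint_powers_iff_notMem _ (Ideal.IsPrime.isRadical inferInstance)).2 ht'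
  haveI : q'.IsPrime := IsLocalization.isPrime_of_isPrime_disjoint (Submonoid.powers t') R' qW inferInstance hdisj'
  have hq' : q'.comap (algebraMap W R') = qW :=
    IsLocalization.comap_map_of_isPrime_disjoint (Submonoid.powers t') R' inferInstance hdisj'
  haveI : Algebra.Etale R W := Algebra.Etale.comp R R1 W
  haveI : Algebra.Etale W R' := Algebra.Etale.of_isLocalizationAway t'
  haveI : Algebra.Etale R R' := Algebra.Etale.comp R W R'
  refine ⟨R', inferInstance, inferInstance, inferInstance, q', inferInstance, ?_, hd⟩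
  rw [IsScalarTower.algebraMap_eq R W R', ← Ideal.comap_comap, hq', IsScalarTower.algebraMap_eq R R1 W,
    ← Ideal.comap_comap, hqW, hq1]

/-- Groups of multiplicative type and finite type are quasi-isotrivial. -/
theorem isQuasiIsotrivial_of_finiteType (hft : Algebra.FiniteType R A) (h : SGA3b.IsMultType R A) :
    SGA3b.IsQuasiIsotrivial R A := by
  refine ⟨{f : R | SGA3b.IsQuasiIsotrivialConst (Localization.Away f) (Localization.Away f ⊗[R] A)}, ?_,
    fun f hf => hf⟩
  by_contra hne
  obtain ⟨p, hp, hle⟩ := Ideal.exists_le_maximal _ hne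
  haveI := hp.isPrime
  obtain ⟨R', _, _, _, q, _, hq, hd⟩ := exists_etale_isDiag hft h p
  have hopen : IsOpen (Set.range (PrimeSpectrum.comap (algebraMap R R'))) :=
    (PrimeSpectrum.isOpenMap_comap_of_hasGoingDown_of_finitePresentation).isOpen_range
  have hmem : (⟨p, hp.isPrime⟩ : PrimeSpectrum R) ∈ Set.range (PrimeSpectrum.comap (algebraMap R R')) :=
    ⟨⟨q, inferInstance⟩, PrimeSpectrum.ext hq⟩
  obtain ⟨_, ⟨_, ⟨f, rfl⟩, rfl⟩, hfp, hsub⟩ :=
    PrimeSpectrum.isBasis_basic_opens.exists_subset_of_mem_open hmem hopen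
  refine hfp (hle (Ideal.subset_span ?_))
  let L := Localization.Away f
  let T := L ⊗[R] R'
  haveI : Module.FaithfullyFlat L T := by
    refine Module.FaithfullyFlat.of_comap_surjective fun P => ?_
    have h1 : PrimeSpectrum.comap (algebraMap R L) P ∈ (PrimeSpectrum.basicOpen f : Set (PrimeSpectrum R)) := by
      rw [← PrimeSpectrum.localization_away_comap_range L f]
      exact ⟨P, rfl⟩
    obtain ⟨Q, hQ⟩ := hsub h1
    let K := Q.asIdeal.ResidueField
    have hu : IsUnit (algebraMap R K f) := isUnit_iff_ne_zero.2 fun h0 => by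
      rw [IsScalarTower.algebraMap_apply R R' K, Ideal.algebraMap_residueField_eq_zero] at h0
      have h2 : f ∈ (PrimeSpectrum.comap (algebraMap R R') Q).asIdeal := h0
      rw [hQ] at h2
      exact h1 h2
    let ℓ : L →ₐ[R] K :=
      { IsLocalization.Away.lift f hu with
        commutes' := fun r => IsLocalization.Away.lift_eq f hu r }
    let g : T →ₐ[R] K :=
      Algebra.TensorProduct.lift ℓ (IsScalarTower.toAlgHom R R' K) (fun _ _ => Commute.all _ _)
    refine ⟨⟨RingHom.ker g, RingHom.ker_isPrime _⟩, ?_⟩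
    refine PrimeSpectrum.localization_comap_injective L (Submonoid.powers f) ?_
    refine Eq.trans ?_ hQ
    ext r
    show g (algebraMap L T (algebraMap R L r)) = 0 ↔ algebraMap R R' r ∈ Q.asIdeal
    rw [← IsScalarTower.algebraMap_apply R L T, AlgHom.commutes,
      IsScalarTower.algebraMap_apply R R' K, Ideal.algebraMap_residueField_eq_zero]
  letI : Algebra R' T := Algebra.TensorProduct.rightAlgebra
  exact ⟨T, inferInstance, inferInstance, inferInstance, inferInstance,
    isDiag_tensor_tensor L T (isDiag_baseChange R' T hd)⟩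

end Groth.Agent.MultTypeLib
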