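import Groth.Agent.Lib.MultType.Lift

/-!
# Lifting group-like elements along nil ideals
-/

open TensorProduct HopfAlgebra

namespace Groth.Agent.MultTypeLib

variable {R : Type*} [CommRing R] {H : Type*} [CommRing H] [HopfAlgebra R H] {j : H →ₗ[R] R}

/-- Membership in `I • ⊤` only involves finitely many elements of `I`. -/
theorem exists_finset_mem_KT {M : Type*} [AddCommGroup M] [Module R M] {I : Ideal R} {x : M}
    (h : x ∈ KT I M) : ∃ t : Finset R, (t : Set R) ⊆ I ∧ x ∈ KT (Ideal.span (t : Set R)) M := by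
  classical
  refine Submodule.smul_induction_on h (fun r hr m _ => ⟨{r}, by simpa using hr, ?_⟩)
    (fun a b ⟨s, hs, ha⟩ ⟨t, ht, hb⟩ => ⟨s ∪ t, by
      rw [Finset.coe_union]; exact Set.union_subset hs ht, ?_⟩)
  · exact Submodule.smul_mem_smul (Ideal.subset_span (by simp)) trivial
  · exact add_mem (KT_mono (Ideal.span_mono (by simp)) ha)
      (KT_mono (Ideal.span_mono (by simp)) hb)

/-- Elements of `I • ⊤` of an algebra are nilpotent when `I` is nil. -/
theorem isNilpotent_of_mem_KT {A : Type*} [CommRing A] [Algebra R A] {I : Ideal R}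
    (hI : ∀ x ∈ I, IsNilpotent x) {x : A} (h : x ∈ KT I A) : IsNilpotent x := by
  refine Submodule.smul_induction_on h (fun r hr m _ => ?_)
    (fun a b ha hb => (Commute.all a b).isNilpotent_add ha hb)
  rw [Algebra.smul_def]
  exact (Commute.all _ _).isNilpotent_mul_right ((hI r hr).map (algebraMap R A))

theorem glike_eq_of_mod (hj : IsInt j) {K : Ideal R} (hK : ∀ r ∈ K, IsUnit (1 + r)) {a b : H}
    (ha : IsGroupLikeElem R a) (hb : IsGroupLikeElem R b) (h : a - b ∈ KT K H) : a = b := by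
  have hc : IsGroupLikeElem R (a * antipode R b) := ha.mul hb.antipode
  have h1 : a * antipode R b - 1 ∈ KT K H := by
    rw [← hb.mul_antipode_cancel, ← sub_mul]
    exact mul_mem_KT_right _ h
  have h2 := avg_comul hj (a * antipode R b)
  rw [hc.comul_eq_tmul_self, avg_tmul] at h2
  have h3 : IsUnit (j (a * antipode R b)) := by
    have := mem_KT_ring.mp (map_mem_KT j h1)
    rw [map_sub, hj.one] at this
    simpa using hK _ this
  have h4 : a * antipode R b = 1 := h3.smul_left_cancel.mp h2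
  calc a = a * (antipode R b * b) := by rw [hb.antipode_mul_cancel, mul_one]
    _ = b := by rw [← mul_assoc, h4, one_mul]

theorem glike_eq_of_nil (hj : IsInt j) {I : Ideal R} (hI : ∀ x ∈ I, IsNilpotent x) {a b : H}
    (ha : IsGroupLikeElem R a) (hb : IsGroupLikeElem R b) (h : a - b ∈ KT I H) : a = b :=
  glike_eq_of_mod hj (fun r hr => (hI r hr).isUnit_one_add) ha hb h

theorem glike_lift_step (hj : IsInt j) {K : Ideal R} {a b : H} (hab : a * b = 1)
    (h : Coalgebra.comul (R := R) a - a ⊗ₜ[R] a ∈ KT K (H ⊗[R] H)) :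
    ∃ a' : H, a' - a ∈ KT K H ∧
      Coalgebra.comul (R := R) a' - a' ⊗ₜ[R] a' ∈ KT (K * K) (H ⊗[R] H) := by
  let g : H ⊗[R] H := Coalgebra.comul (R := R) a * ((1 : H) ⊗ₜ[R] b)
  have hg : g - a ⊗ₜ[R] (1 : H) ∈ KT K (H ⊗[R] H) := by
    have := mul_mem_KT_right ((1 : H) ⊗ₜ[R] b) h
    rwa [sub_mul, Algebra.TensorProduct.tmul_mul_tmul, mul_one, hab] at this
  refine ⟨avg j H g, ?_, ?_⟩
  · have := map_mem_KT (avg j H) hg
    rwa [map_sub, avg_tmul, hj.one, one_smul] at this
  let As := (Algebra.TensorProduct.assoc R R R H H H).symm.toAlgHom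
  let Δ : H →ₐ[R] H ⊗[R] H := Bialgebra.comulAlgHom R H
  let α : H ⊗[R] H →ₐ[R] (H ⊗[R] H) ⊗[R] H := As.comp (Algebra.TensorProduct.map (AlgHom.id R H) Δ)
  let β : H ⊗[R] H →ₐ[R] (H ⊗[R] H) ⊗[R] H := Algebra.TensorProduct.map Δ (AlgHom.id R H)
  let γ : H ⊗[R] H →ₐ[R] (H ⊗[R] H) ⊗[R] H := As.comp Algebra.TensorProduct.includeRight
  have hco : α (Δ a) = β (Δ a) := by
    show (TensorProduct.assoc R H H H).symm (Coalgebra.comul.lTensor H (Coalgebra.comul (R := R) a)) =
      Coalgebra.comul.rTensor H (Coalgebra.comul (R := R) a)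
    rw [← Coalgebra.coassoc_apply, LinearEquiv.symm_apply_apply]
  have hid : β g = α g * γ g := by
    have hb1 : β ((1 : H) ⊗ₜ[R] b) = γ ((1 : H) ⊗ₜ[R] b) := by
      simp [β, γ, As, Δ, Algebra.TensorProduct.one_def]
    have ha1 : α ((1 : H) ⊗ₜ[R] b) * γ (Δ a) = 1 := by
      have : α ((1 : H) ⊗ₜ[R] b) = γ (Δ b) := by simp [α, γ, As]
      rw [this, ← map_mul, ← map_mul, mul_comm, hab, map_one, map_one]
    show β (Δ a * _) = α (Δ a * _) * γ (Δ a * _)
    rw [map_mul, map_mul, map_mul, hco, hb1, mul_assoc,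
      ← mul_assoc (α ((1 : H) ⊗ₜ[R] b)) (γ (Δ a)), ha1, one_mul]
  have hβ : ∀ z, avg j (H ⊗[R] H) (β z) = Δ (avg j H z) := by
    intro z
    induction z using TensorProduct.induction_on with
    | zero => simp
    | tmul x y => simp [β, avg_tmul]
    | add x y hx hy => simp [hx, hy]
  have hγ : ∀ z, avg j (H ⊗[R] H) (γ z) = (1 : H) ⊗ₜ[R] avg j H z := by
    intro z
    induction z using TensorProduct.induction_on with
    | zero => simp
    | tmul x y => simp [γ, As, avg_tmul]
    | add x y hx hy => simp [hx, hy, TensorProduct.tmul_add]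
  have hα : ∀ z, avg j (H ⊗[R] H) (α z) = avg j H z ⊗ₜ[R] (1 : H) := by
    intro z
    induction z using TensorProduct.induction_on with
    | zero => simp
    | tmul x y =>
      have : ∀ w, avg j (H ⊗[R] H) (As (x ⊗ₜ[R] w)) = x ⊗ₜ[R] avg j H w := by
        intro w
        induction w using TensorProduct.induction_on with
        | zero => simp
        | tmul p q => simp [As, avg_tmul]
        | add p q hp hq => simp [TensorProduct.tmul_add, hp, hq]
      show avg j (H ⊗[R] H) (As (x ⊗ₜ[R] Coalgebra.comul (R := R) y)) = _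
      rw [this, avg_comul hj]
      simp [avg_tmul, TensorProduct.smul_tmul']
    | add x y hx hy => simp [hx, hy, TensorProduct.add_tmul]
  have hx : α g - (a ⊗ₜ[R] (1 : H)) ⊗ₜ[R] (1 : H) ∈ KT K _ := by
    have := map_mem_KT α.toLinearMap hg
    simp only [AlgHom.toLinearMap_apply, map_sub] at this
    rwa [show α (a ⊗ₜ[R] (1 : H)) = (a ⊗ₜ[R] (1 : H)) ⊗ₜ[R] (1 : H) by
      simp [α, As, Δ, Algebra.TensorProduct.one_def]] at this
  have hy : γ g - ((1 : H) ⊗ₜ[R] a) ⊗ₜ[R] (1 : H) ∈ KT K _ := by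
    have := map_mem_KT γ.toLinearMap hg
    simp only [AlgHom.toLinearMap_apply, map_sub] at this
    rwa [show γ (a ⊗ₜ[R] (1 : H)) = ((1 : H) ⊗ₜ[R] a) ⊗ₜ[R] (1 : H) by simp [γ, As]] at this
  have := avg_mul_sub_mem hj hx hy
  rw [← hid, hβ, hα, hγ, Algebra.TensorProduct.tmul_mul_tmul, mul_one, one_mul] at this
  exact this

theorem exists_glike_lift (hj : IsInt j) {I : Ideal R} (hI : ∀ x ∈ I, IsNilpotent x) {a : H}
    (hε : Coalgebra.counit (R := R) a - 1 ∈ I)
    (h : Coalgebra.comul (R := R) a - a ⊗ₜ[R] a ∈ KT I (H ⊗[R] H)) :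
    ∃ g : H, IsGroupLikeElem R g ∧ g - a ∈ KT I H := by
  obtain ⟨t, ht, htd⟩ := exists_finset_mem_KT h
  let J := Ideal.span (t : Set R)
  have hJI : J ≤ I := Ideal.span_le.mpr ht
  obtain ⟨n, hn⟩ : IsNilpotent J := (Ideal.FG.isNilpotent_iff_le_nilradical ⟨t, rfl⟩).mpr
    fun x hx => hI x (hJI hx)
  -- elements congruent to `a` are units
  have hunit : ∀ c : H, c - a ∈ KT I H → IsUnit c := by
    intro c hc
    have hac : ∀ d : H, d - a ∈ KT I H → Coalgebra.comul (R := R) d - d ⊗ₜ[R] d ∈ KT I (H ⊗[R] H) := by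
      intro d hd
      have h1 := map_mem_KT (Coalgebra.comul (R := R) (A := H)) hd
      have h2 : d ⊗ₜ[R] d - a ⊗ₜ[R] a ∈ KT I (H ⊗[R] H) := by
        have : d ⊗ₜ[R] d - a ⊗ₜ[R] a = (d - a) ⊗ₜ[R] d + a ⊗ₜ[R] (d - a) := by
          rw [TensorProduct.sub_tmul, TensorProduct.tmul_sub]; abel
        rw [this]
        exact add_mem (bilin_mem_KT_left (TensorProduct.mk R H H) _ hd)
          (bilin_mem_KT_right (TensorProduct.mk R H H) _ hd)
      have := sub_mem (add_mem h1 h) h2
      convert this using 1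
      rw [map_sub]; abel
    have h1 := map_mem_KT (LinearMap.mul' R H ∘ₗ (antipode R).rTensor H) (hac c hc)
    simp only [LinearMap.comp_apply, map_sub, LinearMap.rTensor_tmul, LinearMap.mul'_apply,
      mul_antipode_rTensor_comul_apply] at h1
    have h2 : Coalgebra.counit (R := R) c - 1 ∈ I := by
      have := mem_KT_ring.mp (map_mem_KT (Coalgebra.counit (R := R) (A := H)) hc)
      rw [map_sub] at this
      simpa using add_mem this hε
    have h3 : algebraMap R H (Coalgebra.counit (R := R) c) - 1 ∈ KT I H := by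
      rw [← (algebraMap R H).map_one, ← map_sub, Algebra.algebraMap_eq_smul_one]
      exact Submodule.smul_mem_smul h2 trivial
    have h4 : IsUnit (antipode R c * c) := by
      have := isNilpotent_of_mem_KT hI (sub_mem h3 h1)
      have e : antipode R c * c = 1 + (algebraMap R H (Coalgebra.counit (R := R) c) - 1 -
          (algebraMap R H (Coalgebra.counit (R := R) c) - antipode R c * c)) := by abel
      rw [e]
      exact this.isUnit_one_add
    exact isUnit_of_mul_isUnit_right h4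
  have : ∀ k : ℕ, ∃ c : H, c - a ∈ KT I H ∧
      Coalgebra.comul (R := R) c - c ⊗ₜ[R] c ∈ KT (J ^ (k + 1)) (H ⊗[R] H) := by
    intro k
    induction k with
    | zero => exact ⟨a, by simp, by simpa using htd⟩
    | succ k ih =>
      obtain ⟨c, hc, hd⟩ := ih
      obtain ⟨b, hb⟩ := isUnit_iff_exists_inv.mp (hunit c hc)
      obtain ⟨c', hc', hd'⟩ := glike_lift_step hj hb hd
      refine ⟨c', ?_, KT_mono ?_ hd'⟩
      · rw [← sub_add_sub_cancel c' c a]
        exact add_mem (KT_mono ((Ideal.pow_le_self (Nat.succ_ne_zero k)).trans hJI) hc') hc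
      · rw [pow_succ (n := k + 1)]
        exact Ideal.mul_mono_right (Ideal.pow_le_self (Nat.succ_ne_zero k))
  obtain ⟨g, hg, hd⟩ := this n
  rw [show J ^ (n + 1) = ⊥ by rw [pow_succ, hn]; simp, KT_bot, Submodule.mem_bot, sub_eq_zero] at hd
  refine ⟨g, ⟨?_, hd⟩, hg⟩
  have h1 := Coalgebra.rTensor_counit_comul (R := R) g
  rw [hd, LinearMap.rTensor_tmul] at h1
  have h2 := congrArg (TensorProduct.lid R H) h1
  simp only [TensorProduct.lid_tmul, one_smul] at h2
  have h3 : algebraMap R H (Coalgebra.counit (R := R) g) = 1 := by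
    rw [Algebra.smul_def] at h2
    exact (hunit g hg).mul_eq_right.mp h2
  have h4 := congrArg (Coalgebra.counit (R := R)) h3
  simpa using h4

end Groth.Agent.MultTypeLib
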