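import Groth.Agent.Lib.MultType.Lift

/-!
# Base change of the integral; lifting between quotient base changes
-/

universe u

open TensorProduct

namespace Groth.Agent.MultTypeLib

variable {A : Type u} [CommRing A] {B : Type u} [CommRing B] [Bialgebra A B]
  (Q : Type u) [CommRing Q] [Algebra A Q]

/-- `b ⊗ b' ↦ (1 ⊗ b) ⊗ (1 ⊗ b')`. -/
noncomputable def inclTwo : B ⊗[A] B →ₗ[A] (Q ⊗[A] B) ⊗[Q] (Q ⊗[A] B) :=
  TensorProduct.mapOfCompatibleSMul Q A A (Q ⊗[A] B) (Q ⊗[A] B) ∘ₗ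
    TensorProduct.map (TensorProduct.mk A Q B 1) (TensorProduct.mk A Q B 1)

theorem inclTwo_tmul (x y : B) :
    inclTwo Q (x ⊗ₜ[A] y) = ((1 : Q) ⊗ₜ[A] x) ⊗ₜ[Q] ((1 : Q) ⊗ₜ[A] y) := by
  simp [inclTwo]

theorem comul_one_tmul (b : B) : Coalgebra.comul (R := Q) ((1 : Q) ⊗ₜ[A] b) =
    inclTwo Q (Coalgebra.comul (R := A) b) := by
  simp [← (Coalgebra.Repr.arbitrary A b).eq, TensorProduct.tmul_sum, inclTwo]

variable {Q}

theorem IsInt.baseChange {j : B →ₗ[A] A} (hj : IsInt j) :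
    IsInt ((TensorProduct.AlgebraTensorModule.rid A Q Q).toLinearMap ∘ₗ j.baseChange Q) := by
  let J := (TensorProduct.AlgebraTensorModule.rid A Q Q).toLinearMap ∘ₗ j.baseChange Q
  have hJ : ∀ b, J ((1 : Q) ⊗ₜ[A] b) = algebraMap A Q (j b) := fun b => by
    simp [J, Algebra.algebraMap_eq_smul_one]
  let Ψ : A ⊗[A] B →ₗ[A] Q ⊗[Q] (Q ⊗[A] B) :=
    TensorProduct.mapOfCompatibleSMul Q A A Q (Q ⊗[A] B) ∘ₗ
      TensorProduct.map (Algebra.linearMap A Q) (TensorProduct.mk A Q B 1)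
  have hsq : ∀ z : B ⊗[A] B, J.rTensor (Q ⊗[A] B) (inclTwo Q z) = Ψ (j.rTensor B z) := by
    intro z
    induction z using TensorProduct.induction_on with
    | zero => simp
    | tmul x y => simp [inclTwo, Ψ, hJ]
    | add x y hx hy => simp [hx, hy]
  have hc : ∀ z : B ⊗[A] B, TensorProduct.comm Q _ _ (inclTwo Q z) =
      inclTwo Q (TensorProduct.comm A B B z) := by
    intro z
    induction z using TensorProduct.induction_on with
    | zero => simp
    | tmul x y => simp [inclTwo]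
    | add x y hx hy => simp [hx, hy]
  have h1 : ∀ b, Ψ (j b ⊗ₜ[A] (1 : B)) = J ((1 : Q) ⊗ₜ[A] b) ⊗ₜ[Q] (1 : Q ⊗[A] B) := fun b => by
    simp [Ψ, hJ, Algebra.TensorProduct.one_def]
  refine ⟨?_, fun x => ?_, fun x => ?_⟩
  · show J 1 = 1
    rw [Algebra.TensorProduct.one_def, hJ, hj.one, map_one]
  · show J.rTensor _ _ = J x ⊗ₜ[Q] _
    induction x using TensorProduct.induction_on with
    | zero => simp
    | tmul q b =>
      rw [show q ⊗ₜ[A] b = q • ((1 : Q) ⊗ₜ[A] b) by rw [TensorProduct.smul_tmul', smul_eq_mul, mul_one]]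
      rw [map_smul, map_smul, map_smul, comul_one_tmul, hsq, hj.left, h1, TensorProduct.smul_tmul']
    | add x y hx hy => simp [map_add, hx, hy, TensorProduct.add_tmul]
  · show J.rTensor _ _ = J x ⊗ₜ[Q] _
    induction x using TensorProduct.induction_on with
    | zero => simp
    | tmul q b =>
      rw [show q ⊗ₜ[A] b = q • ((1 : Q) ⊗ₜ[A] b) by rw [TensorProduct.smul_tmul', smul_eq_mul, mul_one]]
      rw [map_smul, map_smul, map_smul, map_smul, comul_one_tmul, hc, hsq, hj.right, h1,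
        TensorProduct.smul_tmul']
    | add x y hx hy => simp [map_add, hx, hy, TensorProduct.add_tmul]

section Quot

variable (B) in
/-- `(A ⧸ L) ⊗ B → (A ⧸ K) ⊗ B`. -/
noncomputable def red {L K : Ideal A} (h : L ≤ K) : (A ⧸ L) ⊗[A] B →ₐ[A] (A ⧸ K) ⊗[A] B :=
  Algebra.TensorProduct.map (Ideal.Quotient.factorₐ A h) (AlgHom.id A B)

theorem red_one_tmul {L K : Ideal A} (h : L ≤ K) (b : B) :
    red B h ((1 : A ⧸ L) ⊗ₜ[A] b) = (1 : A ⧸ K) ⊗ₜ[A] b := by simp [red]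

theorem one_tmul_surjective (L : Ideal A) (x : (A ⧸ L) ⊗[A] B) :
    ∃ b : B, (1 : A ⧸ L) ⊗ₜ[A] b = x :=
  Algebra.TensorProduct.includeRight_surjective _ Ideal.Quotient.mk_surjective x

theorem red_eq_zero_iff {L K : Ideal A} (h : L ≤ K) (x : (A ⧸ L) ⊗[A] B) :
    red B h x = 0 ↔ x ∈ KT (K.map (Ideal.Quotient.mk L)) ((A ⧸ L) ⊗[A] B) := by
  constructor
  · intro hx
    obtain ⟨b, rfl⟩ := one_tmul_surjective L x
    rw [red_one_tmul, ← mem_KT_iff_one_tmul_eq_zero] at hx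
    refine Submodule.smul_induction_on hx (fun k hk m _ => ?_) (fun a b ha hb => ?_)
    · rw [TensorProduct.tmul_smul, ← algebraMap_smul (A ⧸ L) k]
      exact Submodule.smul_mem_smul (Ideal.mem_map_of_mem _ hk) trivial
    · rw [TensorProduct.tmul_add]; exact add_mem ha hb
  · intro hx
    refine Submodule.smul_induction_on hx (fun q hq m _ => ?_) (fun a b ha hb => ?_)
    · obtain ⟨k, hk, rfl⟩ := (Ideal.mem_map_iff_of_surjective _ Ideal.Quotient.mk_surjective).mp hq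
      rw [show (Ideal.Quotient.mk L k) • m = k • m from algebraMap_smul (A ⧸ L) k m, map_smul]
      obtain ⟨b, hb⟩ := one_tmul_surjective K (red B h m)
      rw [← hb, ← TensorProduct.tmul_smul, ← mem_KT_iff_one_tmul_eq_zero]
      exact Submodule.smul_mem_smul hk trivial
    · rw [map_add, ha, hb, add_zero]

variable {C : Type u} [CommRing C] [HopfAlgebra A C]

theorem exists_lift_quot {j : B →ₗ[A] A} (hj : IsInt j) [Algebra.FormallySmooth A C]
    {L K : Ideal A} (hLK : L ≤ K) (hnil : IsNilpotent (K.map (Ideal.Quotient.mk L)))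
    (φ : ((A ⧸ K) ⊗[A] C) →ₐc[A ⧸ K] ((A ⧸ K) ⊗[A] B)) :
    ∃ φ' : ((A ⧸ L) ⊗[A] C) →ₐc[A ⧸ L] ((A ⧸ L) ⊗[A] B),
      ∀ c, red B hLK (φ' ((1 : A ⧸ L) ⊗ₜ[A] c)) = φ ((1 : A ⧸ K) ⊗ₜ[A] c) := by
  let g₀ : C →ₐ[A] (A ⧸ K) ⊗[A] B :=
    ((φ : (A ⧸ K) ⊗[A] C →ₐ[A ⧸ K] (A ⧸ K) ⊗[A] B).restrictScalars A).comp
      Algebra.TensorProduct.includeRight
  have hsurj : Function.Surjective (red B hLK) := fun y => by
    obtain ⟨b, rfl⟩ := one_tmul_surjective K y
    exact ⟨_, red_one_tmul hLK b⟩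
  have hker : IsNilpotent (RingHom.ker (red B hLK)) := by
    obtain ⟨n, hn⟩ := hnil
    have : RingHom.ker (red B hLK) =
        (K.map (Ideal.Quotient.mk L)).map (algebraMap (A ⧸ L) ((A ⧸ L) ⊗[A] B)) := by
      ext x
      rw [RingHom.mem_ker, red_eq_zero_iff, mem_KT_iff_mem_map]
    exact ⟨n, by rw [this, ← Ideal.map_pow, hn]; simp⟩
  let f₀ : C →ₐ[A] (A ⧸ L) ⊗[A] B :=
    Algebra.FormallySmooth.liftOfSurjective g₀ (red B hLK) hsurj hker
  have hf₀ : ∀ c, red B hLK (f₀ c) = φ ((1 : A ⧸ K) ⊗ₜ[A] c) :=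
    Algebra.FormallySmooth.liftOfSurjective_apply g₀ (red B hLK) hsurj hker
  let f : (A ⧸ L) ⊗[A] C →ₐ[A ⧸ L] (A ⧸ L) ⊗[A] B :=
    Algebra.TensorProduct.lift (Algebra.ofId _ _) f₀ (fun _ _ => Commute.all _ _)
  have hf : ∀ c, f ((1 : A ⧸ L) ⊗ₜ[A] c) = f₀ c := fun c => by
    simp [f, ← Algebra.TensorProduct.one_def]
  have hmod : IsHomMod (K.map (Ideal.Quotient.mk L)) f := by
    intro x
    induction x using TensorProduct.induction_on with
    | zero => simp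
    | add x y hx hy => simp only [map_add, add_sub_add_comm]; exact add_mem hx hy
    | tmul q c =>
      rw [show q ⊗ₜ[A] c = q • ((1 : A ⧸ L) ⊗ₜ[A] c) by
        rw [TensorProduct.smul_tmul', smul_eq_mul, mul_one]]
      simp only [map_smul, ← smul_sub]
      refine Submodule.smul_mem _ _ ?_
      choose bf hbf using fun c : C => one_tmul_surjective L (f₀ c)
      let r := Coalgebra.Repr.arbitrary A c
      have h1 : Algebra.TensorProduct.map f f (Coalgebra.comul (R := A ⧸ L) ((1 : A ⧸ L) ⊗ₜ[A] c)) =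
          inclTwo (A ⧸ L) (∑ i ∈ r.index, bf (r.left i) ⊗ₜ[A] bf (r.right i)) := by
        rw [comul_one_tmul, ← r.eq]
        simp [map_sum, inclTwo_tmul, hf, hbf]
      have h2 : Coalgebra.comul (R := A ⧸ L) (f ((1 : A ⧸ L) ⊗ₜ[A] c)) =
          inclTwo (A ⧸ L) (Coalgebra.comul (R := A) (bf c)) := by
        rw [hf, ← hbf, comul_one_tmul]
      rw [h1, h2, ← map_sub]
      have hKb : ∀ c, φ ((1 : A ⧸ K) ⊗ₜ[A] c) = (1 : A ⧸ K) ⊗ₜ[A] bf c := fun c => by
        rw [← hf₀, ← hbf, red_one_tmul]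
      let Θ : ((A ⧸ K) ⊗[A] B) ⊗[A ⧸ K] ((A ⧸ K) ⊗[A] B) →ₐ[A ⧸ K] (A ⧸ K) ⊗[A] (B ⊗[A] B) :=
        Algebra.TensorProduct.lift
          (Algebra.TensorProduct.map (AlgHom.id _ _) (Algebra.TensorProduct.includeLeft (S := A)))
          (Algebra.TensorProduct.map (AlgHom.id _ _) Algebra.TensorProduct.includeRight)
          (fun _ _ => Commute.all _ _)
      have hΘ : ∀ z, Θ (inclTwo (A ⧸ K) z) = (1 : A ⧸ K) ⊗ₜ[A] z := by
        intro z
        induction z using TensorProduct.induction_on with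
        | zero => simp
        | tmul x y => simp [Θ, inclTwo_tmul]
        | add x y hx hy => simp [hx, hy, TensorProduct.tmul_add]
      have hK : Coalgebra.comul (R := A) (bf c) -
          ∑ i ∈ r.index, bf (r.left i) ⊗ₜ[A] bf (r.right i) ∈ KT K (B ⊗[A] B) := by
        rw [sub_mem_KT_iff_one_tmul_eq, ← hΘ, ← comul_one_tmul, ← hKb,
          ← CoalgHomClass.map_comp_comul_apply φ, comul_one_tmul, ← r.eq, ← hΘ]
        refine congrArg Θ ?_
        simp [map_sum, inclTwo_tmul, hKb]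
      refine Submodule.smul_induction_on hK (fun k hk m _ => ?_) (fun a b ha hb => ?_)
      · rw [map_smul, ← algebraMap_smul (A ⧸ L) k]
        exact Submodule.smul_mem_smul (Ideal.mem_map_of_mem _ hk) trivial
      · rw [map_add]; exact add_mem ha hb
  obtain ⟨φ', hφ'⟩ := exists_bialgHom_of_isHomMod hj.baseChange hnil hmod
  refine ⟨φ', fun c => ?_⟩
  have := (red_eq_zero_iff hLK _).mpr (hφ' ((1 : A ⧸ L) ⊗ₜ[A] c))
  rw [map_sub, sub_eq_zero, hf, hf₀] at this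
  exact this

end Quot

end Groth.Agent.MultTypeLib
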