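import Groth.Agent.Lib.MultType.Split
import Groth.Agent.Lib.MultType.GlikeLift
import Groth.Agent.Lib.MultType.QuotLift

/-!
# Diagonalisations lift along nil ideals
-/

universe u

open TensorProduct

namespace Groth.Agent.MultTypeLib

variable {R : Type u} [CommRing R] {A : Type u} [CommRing A] [HopfAlgebra R A]

theorem defects_of_glike_mod {I : Ideal R} {a : A}
    (h : IsGroupLikeElem (R ⧸ I) ((1 : R ⧸ I) ⊗ₜ[R] a)) :
    Coalgebra.counit (R := R) a - 1 ∈ I ∧
      Coalgebra.comul (R := R) a - a ⊗ₜ[R] a ∈ KT I (A ⊗[R] A) := by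
  constructor
  · rw [← Ideal.Quotient.eq, map_one, ← Ideal.Quotient.algebraMap_eq]
    have := h.counit_eq_one
    simpa [Algebra.smul_def] using this
  · let Θ : ((R ⧸ I) ⊗[R] A) ⊗[R ⧸ I] ((R ⧸ I) ⊗[R] A) →ₐ[R ⧸ I] (R ⧸ I) ⊗[R] (A ⊗[R] A) :=
      Algebra.TensorProduct.lift
        (Algebra.TensorProduct.map (AlgHom.id _ _) (Algebra.TensorProduct.includeLeft (S := R)))
        (Algebra.TensorProduct.map (AlgHom.id _ _) Algebra.TensorProduct.includeRight)
        (fun _ _ => Commute.all _ _)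
    have hΘ : ∀ z, Θ (inclTwo (R ⧸ I) z) = (1 : R ⧸ I) ⊗ₜ[R] z := by
      intro z
      induction z using TensorProduct.induction_on with
      | zero => simp
      | tmul x y => simp [Θ, inclTwo_tmul]
      | add x y hx hy => simp [hx, hy, TensorProduct.tmul_add]
    rw [sub_mem_KT_iff_one_tmul_eq, ← hΘ, ← hΘ, inclTwo_tmul, ← comul_one_tmul,
      h.comul_eq_tmul_self]

theorem glike_one_tmul {I : Ideal R} {g : A} (h : IsGroupLikeElem R g) :
    IsGroupLikeElem (R ⧸ I) ((1 : R ⧸ I) ⊗ₜ[R] g) where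
  counit_eq_one := by simp [h.counit_eq_one, ← Algebra.algebraMap_eq_smul_one]
  comul_eq_tmul_self := by rw [comul_one_tmul, h.comul_eq_tmul_self, inclTwo_tmul]

theorem isDiag_of_isDiag_mod_nil {I : Ideal R} (hI : ∀ x ∈ I, IsNilpotent x)
    (h : SGA3b.IsMultType R A) (h0 : SGA3b.IsDiag (R ⧸ I) ((R ⧸ I) ⊗[R] A)) :
    SGA3b.IsDiag R A := by
  obtain ⟨j, hj⟩ := exists_isInt_of_isMultType h
  obtain ⟨M, _, ⟨e₀⟩⟩ := h0
  have hlift : ∀ m : M, ∃ g : A, IsGroupLikeElem R g ∧
      (1 : R ⧸ I) ⊗ₜ[R] g = e₀.symm (MonoidAlgebra.single m 1) := by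
    intro m
    obtain ⟨a, ha⟩ := one_tmul_surjective (B := A) I (e₀.symm (MonoidAlgebra.single m 1))
    have hgl : IsGroupLikeElem (R ⧸ I) ((1 : R ⧸ I) ⊗ₜ[R] a) := by
      rw [ha]
      exact (MonoidAlgebra.isGroupLikeElem_single_one (R := R ⧸ I) (A := R ⧸ I) m).map e₀.symm
    obtain ⟨hε, hΔ⟩ := defects_of_glike_mod hgl
    obtain ⟨g, hg, hga⟩ := exists_glike_lift hj hI hε hΔ
    exact ⟨g, hg, (sub_mem_KT_iff_one_tmul_eq.mp hga).trans ha⟩
  choose g hg hge using hlift
  let F : M →* A :=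
    { toFun := g
      map_one' := glike_eq_of_nil hj hI (hg 1) IsGroupLikeElem.one
        (sub_mem_KT_iff_one_tmul_eq.mpr (by
          rw [hge, ← MonoidAlgebra.one_def, map_one, Algebra.TensorProduct.one_def]))
      map_mul' := fun x y => glike_eq_of_nil hj hI (hg (x * y)) ((hg x).mul (hg y))
        (sub_mem_KT_iff_one_tmul_eq.mpr (by
          rw [hge, show (1 : R ⧸ I) ⊗ₜ[R] (g x * g y) =
            ((1 : R ⧸ I) ⊗ₜ[R] g x) * ((1 : R ⧸ I) ⊗ₜ[R] g y) by simp, hge, hge, ← map_mul,
            MonoidAlgebra.single_mul_single, one_mul])) }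
  let f : MonoidAlgebra R M →ₐ[R] A := MonoidAlgebra.lift R A M F
  let Φ : MonoidAlgebra R M →ₐc[R] A := BialgHom.ofAlgHom f
    (MonoidAlgebra.algHom_ext (fun m => by simp [f, F, (hg m).counit_eq_one]) (by ext))
    (MonoidAlgebra.algHom_ext (fun m => by simp [f, F, (hg m).comul_eq_tmul_self]) (by ext))
  have hΦ : ∀ m, Φ (MonoidAlgebra.single m 1) = g m := fun m => by simp [Φ, f, F]
  have hred : Function.Bijective ((Φ : MonoidAlgebra R M →ₗ[R] A).baseChange (R ⧸ I)) := by
    let d := diagBC R (R ⧸ I) M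
    have h5 : Function.Bijective fun z => e₀.symm (d z) := e₀.symm.bijective.comp d.bijective
    convert h5
    rename_i z
    induction z using TensorProduct.induction_on with
    | zero => simp
    | add x y hx hy => simp only [map_add, hx, hy]
    | tmul q x =>
      induction x using MonoidAlgebra.induction_linear with
      | zero => simp
      | add x y hx hy => simp only [TensorProduct.tmul_add, map_add, hx, hy]
      | single m r =>
        rw [show MonoidAlgebra.single m r = r • MonoidAlgebra.single m (1 : R) by simp,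
          TensorProduct.tmul_smul, ← algebraMap_smul (R ⧸ I) r]
        simp only [map_smul]
        congr 1
        simp only [d, diagBC_tmul_single, LinearMap.baseChange_tmul]
        rw [show MonoidAlgebra.single m q = q • MonoidAlgebra.single m (1 : R ⧸ I) by simp, map_smul,
          ← hge m, TensorProduct.smul_tmul', smul_eq_mul, mul_one]
        exact congrArg (q ⊗ₜ[R] ·) (hΦ m)
  have hbij : Function.Bijective Φ := by
    refine bijective_of_fields (isMultType_of_isDiag ⟨M, inferInstance, ⟨BialgEquiv.refl _ _⟩⟩) h Φ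
      fun K _ _ => ?_
    have hIK : ∀ x ∈ I, algebraMap R K x = 0 := fun x hx =>
      (hI x hx).map (algebraMap R K) |>.eq_zero
    letI : Algebra (R ⧸ I) K := (Ideal.Quotient.lift I (algebraMap R K) hIK).toAlgebra
    have : IsScalarTower R (R ⧸ I) K := IsScalarTower.of_algebraMap_eq fun x => rfl
    let c1 := TensorProduct.AlgebraTensorModule.cancelBaseChange R (R ⧸ I) K K (MonoidAlgebra R M)
    let c2 := TensorProduct.AlgebraTensorModule.cancelBaseChange R (R ⧸ I) K K A
    let e : ((R ⧸ I) ⊗[R] MonoidAlgebra R M) ≃ₗ[R ⧸ I] ((R ⧸ I) ⊗[R] A) :=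
      LinearEquiv.ofBijective _ hred
    let E : K ⊗[R] MonoidAlgebra R M ≃ₗ[K] K ⊗[R] A :=
      c1.symm.trans ((e.baseChange (R ⧸ I) K).trans c2)
    have h6 : (Φ : MonoidAlgebra R M →ₗ[R] A).baseChange K = E.toLinearMap :=
      TensorProduct.AlgebraTensorModule.ext fun k x => by simp [E, c1, c2, e]
    rw [h6]
    exact E.bijective
  exact ⟨M, inferInstance, ⟨(BialgEquiv.ofBijective Φ hbij).symm⟩⟩

end Groth.Agent.MultTypeLib
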