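import Groth.Agent.Lib.MultType.Basic
import Groth.Agent.Lib.Compl.Complete

/-!
# Adic separatedness of split Hopf algebras and their tensor powers
-/

universe u

open TensorProduct

namespace Groth.Agent.MultTypeLib

variable {A : Type u} [CommRing A]

/-- `I`-adically separated. -/
def Sep (I : Ideal A) (P : Type*) [AddCommGroup P] [Module A P] : Prop :=
  ∀ x : P, (∀ n : ℕ, x ∈ KT (I ^ n) P) → x = 0

variable {I : Ideal A} {P Q : Type*} [AddCommGroup P] [Module A P] [AddCommGroup Q] [Module A Q]

theorem Sep.eq (h : Sep I P) {x y : P} (hxy : ∀ n : ℕ, x - y ∈ KT (I ^ n) P) : x = y :=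
  sub_eq_zero.mp (h _ hxy)

theorem Sep.of_injective (f : P →ₗ[A] Q) (hf : Function.Injective f) (h : Sep I Q) : Sep I P :=
  fun x hx => hf (by rw [h (f x) fun n => map_mem_KT f (hx n), map_zero])

theorem Sep.finsupp {ι : Type*} (h : Sep I P) : Sep I (ι →₀ P) :=
  fun x hx => Finsupp.ext fun i => by
    simpa using h _ fun n => map_mem_KT (Finsupp.lapply i) (hx n)

theorem sep_of_finite [IsNoetherianRing A] [IsAdicComplete I A] (N : Type u) [AddCommGroup N]
    [Module A N] [Module.Finite A N] : Sep I N := fun x hx => by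
  have := Compl.isAdicComplete_of_finite I N
  exact IsHausdorff.haus (inferInstance : IsHausdorff I N) x fun n => SModEq.zero.mpr (hx n)

theorem forall_mem_KT_of_succ {x : P} (h : ∀ n : ℕ, x ∈ KT (I ^ (n + 1)) P) (n : ℕ) :
    x ∈ KT (I ^ n) P :=
  KT_mono (Ideal.pow_le_pow_right (Nat.le_succ n)) (h n)

section Split

variable {R' : Type u} [CommRing R'] [Algebra A R'] [Module.FaithfullyFlat A R']
  {B : Type u} [CommRing B] [Algebra A B] {M : Type u}

/-- Reflection of congruences along a faithfully flat extension. -/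
theorem mem_KT_of_one_tmul_mem {K : Ideal A} {x : P} (h : (1 : R') ⊗ₜ[A] x ∈ KT K (R' ⊗[A] P)) :
    x ∈ KT K P := by
  rw [mem_KT_iff_one_tmul_eq_zero] at h ⊢
  refine Module.FaithfullyFlat.tensorProduct_mk_injective (A := A) (B := R') _ ?_
  have h2 := congrArg (TensorProduct.leftComm A (A ⧸ K) R' P) h
  simpa using h2

theorem sep_of_split [IsNoetherianRing A] [IsAdicComplete I A] [Module.Finite A R']
    (e : (R' ⊗[A] B) ≃ₗ[A] (M →₀ R')) :
    Sep I B ∧ Sep I (B ⊗[A] B) ∧ Sep I (B ⊗[A] (R' ⊗[A] R')) := by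
  have hR := sep_of_finite (I := I) R'
  have hB : Sep I B := Sep.of_injective (e.toLinearMap ∘ₗ TensorProduct.mk A R' B 1)
    (e.injective.comp (Module.FaithfullyFlat.tensorProduct_mk_injective B)) hR.finsupp
  refine ⟨hB, ?_, ?_⟩
  · classical
    have hRB : Sep I (R' ⊗[A] B) := Sep.of_injective e.toLinearMap e.injective hR.finsupp
    refine Sep.of_injective
      (((TensorProduct.congr e (LinearEquiv.refl A B)).trans
        (TensorProduct.finsuppLeft A A R' B M)).toLinearMap ∘ₗ
        (TensorProduct.assoc A R' B B).symm.toLinearMap ∘ₗ TensorProduct.mk A R' (B ⊗[A] B) 1)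
      ?_ hRB.finsupp
    rw [LinearMap.coe_comp, LinearMap.coe_comp, LinearEquiv.coe_coe, LinearEquiv.coe_coe]
    exact (LinearEquiv.injective _).comp ((LinearEquiv.injective _).comp
      (Module.FaithfullyFlat.tensorProduct_mk_injective _))
  · classical
    let c : B ⊗[A] (R' ⊗[A] R') ≃ₗ[A] R' ⊗[A] (R' ⊗[A] B) :=
      (TensorProduct.comm A B (R' ⊗[A] R')).trans (TensorProduct.assoc A R' R' B)
    refine Sep.of_injective ((c.trans ((TensorProduct.congr (LinearEquiv.refl A R') e).trans
      (TensorProduct.finsuppRight A A R' R' M))).toLinearMap) (LinearEquiv.injective _)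
      (sep_of_finite (I := I) (R' ⊗[A] R')).finsupp

end Split

end Groth.Agent.MultTypeLib
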