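import Groth.Agent.Lib.MultType.Split
import Groth.Agent.Lib.MultType.QuotLift
import Groth.Agent.Lib.MultType.GlikeLift
import Groth.Agent.Lib.MultType.DiagLift
import Groth.Agent.Lib.MultType.Sep
import Mathlib.RingTheory.TensorProduct.IncludeLeftSubRight

/-!
# Homomorphisms between groups of multiplicative type lift uniquely along nilpotent ideals
-/

universe u

open TensorProduct

namespace Groth.Agent.MultTypeLib

variable {R : Type u} [CommRing R] {A B : Type u} [CommRing A] [CommRing B]

section BC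

variable [Bialgebra R A] [Bialgebra R B] (T : Type u) [CommRing T] [Algebra R T]

/-- Base change of a bialgebra homomorphism. -/
noncomputable def bcMap (f : A →ₐc[R] B) : T ⊗[R] A →ₐc[T] T ⊗[R] B :=
  BialgHom.ofAlgHom (Algebra.TensorProduct.map (AlgHom.id T T) (f : A →ₐ[R] B))
    (by
      refine comul_algHom_ext fun a => ?_
      simp)
    (by
      refine comul_algHom_ext fun a => ?_
      have h : TensorProduct.map (f : A →ₗ[R] B) (f : A →ₗ[R] B) (Coalgebra.comul (R := R) a) =
          Coalgebra.comul (R := R) (f a) := CoalgHomClass.map_comp_comul_apply f a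
      simp [← h, ← (Coalgebra.Repr.arbitrary R a).eq, TensorProduct.tmul_sum])

theorem bcMap_tmul (f : A →ₐc[R] B) (t : T) (a : A) : bcMap T f (t ⊗ₜ[R] a) = t ⊗ₜ[R] f a := rfl

variable (S : Type u) [CommRing S] [Algebra R S] [Algebra S T] [IsScalarTower R S T]

/-- Base change of a homomorphism between base changes. -/
noncomputable def bcHom (f : S ⊗[R] A →ₐc[S] S ⊗[R] B) : T ⊗[R] A →ₐc[T] T ⊗[R] B :=
  (cancelBC R B S T : _ →ₐc[T] _).comp
    ((bcMap T f).comp ((cancelBC R A S T).symm : _ →ₐc[T] _))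

variable {T S}

theorem bcHom_one_tmul {f : S ⊗[R] A →ₐc[S] S ⊗[R] B} {a : A} {b : B}
    (h : f ((1 : S) ⊗ₜ[R] a) = (1 : S) ⊗ₜ[R] b) :
    bcHom T S f ((1 : T) ⊗ₜ[R] a) = (1 : T) ⊗ₜ[R] b := by
  have h1 : (cancelBC R A S T).symm ((1 : T) ⊗ₜ[R] a) = (1 : T) ⊗ₜ[S] ((1 : S) ⊗ₜ[R] a) := by
    refine (cancelBC R A S T).injective (((cancelBC R A S T).apply_symm_apply _).trans ?_)
    exact ((cancelBC_tmul R A S T _ _ _).trans (by rw [one_smul])).symm
  show cancelBC R B S T (bcMap T f ((cancelBC R A S T).symm ((1 : T) ⊗ₜ[R] a))) = _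
  rw [h1, bcMap_tmul, h, cancelBC_tmul, one_smul]

end BC

/-- An element of `R' ⊗ B` with equal images in `(R' ⊗ R') ⊗ B` comes from `B`. -/
theorem exists_one_tmul_of_descent {R' : Type u} [CommRing R'] [Algebra R R']
    [Module.FaithfullyFlat R R'] [Algebra R B] (β : R' ⊗[R] B)
    (h : Algebra.TensorProduct.map (Algebra.TensorProduct.includeLeft (S := R)) (AlgHom.id R B) β =
      Algebra.TensorProduct.map (Algebra.TensorProduct.includeRight (R := R) (A := R'))
        (AlgHom.id R B) β) :
    ∃ x : B, (1 : R') ⊗ₜ[R] x = β := by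
  let γ : B ⊗[R] R' := TensorProduct.comm R R' B β
  have e : ∀ z : R' ⊗[R] B,
      (Algebra.TensorProduct.includeLeftSubRight R R').lTensor B (TensorProduct.comm R R' B z) =
        TensorProduct.comm R _ B
          (Algebra.TensorProduct.map (Algebra.TensorProduct.includeLeft (S := R)) (AlgHom.id R B) z -
            Algebra.TensorProduct.map (Algebra.TensorProduct.includeRight (R := R) (A := R'))
              (AlgHom.id R B) z) := by
    intro z
    induction z using TensorProduct.induction_on with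
    | zero => simp
    | tmul r b => simp [TensorProduct.tmul_sub]
    | add x y hx hy => simp only [map_add, map_sub, hx, hy]; abel
  have hγ : (Algebra.TensorProduct.includeLeftSubRight R R').lTensor B γ = 0 := by
    rw [e, h, sub_self, map_zero]
  have h2 : Algebra.TensorProduct.includeLeftSubRight B (B ⊗[R] R') γ = 0 := by
    rw [← Algebra.TensorProduct.distribBaseChange_includeLeftSubRight_apply, hγ, map_zero]
  obtain ⟨x, hx⟩ := (Algebra.IsEffective.of_faithfullyFlat B (B ⊗[R] R') γ).mp h2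
  refine ⟨x, ?_⟩
  have := congrArg (TensorProduct.comm R R' B).symm hx
  simpa [γ, Algebra.TensorProduct.algebraMap_apply] using this

variable [HopfAlgebra R A] [HopfAlgebra R B]

/-- Homomorphisms out of a diagonalisable group algebra are rigid. -/
theorem eq_of_mod_nil_of_isDiag {C : Type u} [CommRing C] [HopfAlgebra R C] {j : B →ₗ[R] R}
    (hj : IsInt j) (hC : SGA3b.IsDiag R C) {I : Ideal R} (hI : ∀ x ∈ I, IsNilpotent x)
    (φ ψ : C →ₐc[R] B) (h : ∀ c, φ c - ψ c ∈ KT I B) : φ = ψ := by
  obtain ⟨M, _, ⟨e⟩⟩ := hC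
  have key : ∀ y : MonoidAlgebra R M, φ (e.symm y) = ψ (e.symm y) := by
    intro y
    induction y using MonoidAlgebra.induction_linear with
    | zero => simp
    | add x y hx hy => simp only [map_add, hx, hy]
    | single m r =>
      rw [show MonoidAlgebra.single m r = r • MonoidAlgebra.single m (1 : R) by simp]
      simp only [map_smul]
      have hg := (MonoidAlgebra.isGroupLikeElem_single_one (R := R) (A := R) m).map e.symm
      rw [glike_eq_of_nil hj hI (hg.map φ) (hg.map ψ) (h _)]
  exact DFunLike.ext _ _ fun c => by simpa using key (e c)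

theorem nil_map {J : Ideal R} (hJ : IsNilpotent J) (T : Type u) [CommRing T] [Algebra R T] :
    ∀ x ∈ J.map (algebraMap R T), IsNilpotent x := by
  intro x hx
  obtain ⟨n, hn⟩ := hJ
  refine ⟨n, ?_⟩
  have : x ^ n ∈ (J.map (algebraMap R T)) ^ n := Ideal.pow_mem_pow hx n
  rwa [← Ideal.map_pow, hn, Ideal.zero_eq_bot, Ideal.map_bot, Submodule.mem_bot] at this

set_option maxHeartbeats 1000000 in
/-- The lift over an algebra splitting the source. -/
theorem exists_lift_over_of_isDiag {j : B →ₗ[R] R} (hj : IsInt j) {J : Ideal R}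
    (hJ : IsNilpotent J) (R' : Type u) [CommRing R'] [Algebra R R']
    (hA : SGA3b.IsDiag R' (R' ⊗[R] A))
    (φ₀ : ((R ⧸ J) ⊗[R] A) →ₐc[R ⧸ J] ((R ⧸ J) ⊗[R] B)) (bf : A → B)
    (hbf : ∀ a, (1 : R ⧸ J) ⊗ₜ[R] bf a = φ₀ ((1 : R ⧸ J) ⊗ₜ[R] a)) :
    ∃ Φ : R' ⊗[R] A →ₐc[R'] R' ⊗[R] B,
      ∀ a, Φ ((1 : R') ⊗ₜ[R] a) - (1 : R') ⊗ₜ[R] bf a ∈ KT J (R' ⊗[R] B) := by
  classical
  have hnilT : ∀ (T : Type u) [CommRing T] [Algebra R T],
      ∀ x ∈ J.map (algebraMap R T), IsNilpotent x := by
    intro T _ _ x hx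
    obtain ⟨n, hn⟩ := hJ
    refine ⟨n, ?_⟩
    have : x ^ n ∈ (J.map (algebraMap R T)) ^ n := Ideal.pow_mem_pow hx n
    rwa [← Ideal.map_pow, hn, Ideal.zero_eq_bot, Ideal.map_bot, Submodule.mem_bot] at this
  have hKT : ∀ (T : Type u) [CommRing T] [Algebra R T] (x : T ⊗[R] B),
      x ∈ KT J (T ⊗[R] B) → x ∈ KT (J.map (algebraMap R T)) (T ⊗[R] B) := by
    intro T _ _ x hx
    refine Submodule.smul_induction_on hx (fun r hr m _ => ?_) (fun a b ha hb => add_mem ha hb)
    rw [← algebraMap_smul T r m]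
    exact Submodule.smul_mem_smul (Ideal.mem_map_of_mem _ hr) trivial
  -- the lift over R'
  let J' := J.map (algebraMap R R')
  let T0 := R' ⧸ J'
  letI : Algebra (R ⧸ J) T0 := (Ideal.quotientMap J' (algebraMap R R') Ideal.le_comap_map).toAlgebra
  haveI : IsScalarTower R (R ⧸ J) T0 := IsScalarTower.of_algebraMap_eq fun r => rfl
  let f₀ : T0 ⊗[R] A →ₐc[T0] T0 ⊗[R] B := bcHom T0 (R ⧸ J) φ₀
  have hf₀ : ∀ a, f₀ ((1 : T0) ⊗ₜ[R] a) = (1 : T0) ⊗ₜ[R] bf a := fun a =>
    bcHom_one_tmul (hbf a).symm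
  have hj' := hj.baseChange (Q := R')
  obtain ⟨M, _, ⟨e⟩⟩ := hA
  let cA := cancelBC R A R' T0
  let cB := cancelBC R B R' T0
  have hlift : ∀ m : M, ∃ g : R' ⊗[R] B, IsGroupLikeElem R' g ∧
      cB ((1 : T0) ⊗ₜ[R'] g) = f₀ (cA ((1 : T0) ⊗ₜ[R'] e.symm (MonoidAlgebra.single m 1))) := by
    intro m
    let x := cB.symm (f₀ (cA ((1 : T0) ⊗ₜ[R'] e.symm (MonoidAlgebra.single m 1))))
    obtain ⟨a, ha⟩ := one_tmul_surjective (A := R') (B := R' ⊗[R] B) J' x
    have hgl : IsGroupLikeElem T0 ((1 : T0) ⊗ₜ[R'] a) := by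
      rw [ha]
      exact (((glike_one_tmul (I := J')
        ((MonoidAlgebra.isGroupLikeElem_single_one (R := R') (A := R') m).map e.symm)).map cA).map
          f₀).map cB.symm
    obtain ⟨hε, hΔ⟩ := defects_of_glike_mod hgl
    obtain ⟨g, hg, hga⟩ := exists_glike_lift hj' (hnilT R') hε hΔ
    refine ⟨g, hg, ?_⟩
    rw [(sub_mem_KT_iff_one_tmul_eq.mp hga).trans ha]
    exact cB.apply_symm_apply _
  choose g hg hge using hlift
  have huniq : ∀ {u v : R' ⊗[R] B}, IsGroupLikeElem R' u → IsGroupLikeElem R' v →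
      cB ((1 : T0) ⊗ₜ[R'] u) = cB ((1 : T0) ⊗ₜ[R'] v) → u = v := fun hu hv h =>
    glike_eq_of_nil hj' (hnilT R') hu hv (sub_mem_KT_iff_one_tmul_eq.mpr (cB.injective h))
  let F : M →* R' ⊗[R] B :=
    { toFun := g
      map_one' := huniq (hg 1) IsGroupLikeElem.one (by
        rw [hge, ← MonoidAlgebra.one_def, map_one, ← Algebra.TensorProduct.one_def,
          ← Algebra.TensorProduct.one_def, map_one, map_one, map_one])
      map_mul' := fun x y => huniq (hg (x * y)) ((hg x).mul (hg y)) (by
        rw [show (1 : T0) ⊗ₜ[R'] (g x * g y) = ((1 : T0) ⊗ₜ[R'] g x) * ((1 : T0) ⊗ₜ[R'] g y) by simp,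
          map_mul, hge, hge, hge, ← map_mul, ← map_mul,
          Algebra.TensorProduct.tmul_mul_tmul, mul_one, ← map_mul, MonoidAlgebra.single_mul_single,
          one_mul]) }
  let f : MonoidAlgebra R' M →ₐ[R'] R' ⊗[R] B := MonoidAlgebra.lift R' (R' ⊗[R] B) M F
  let Φ0 : MonoidAlgebra R' M →ₐc[R'] R' ⊗[R] B := BialgHom.ofAlgHom f
    (MonoidAlgebra.algHom_ext (fun m => by simp [f, F, (hg m).counit_eq_one]) (by ext))
    (MonoidAlgebra.algHom_ext (fun m => by simp [f, F, (hg m).comul_eq_tmul_self]) (by ext))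
  let Φ : R' ⊗[R] A →ₐc[R'] R' ⊗[R] B := Φ0.comp (e : _ →ₐc[R'] _)
  have hred : ∀ y : R' ⊗[R] A, cB ((1 : T0) ⊗ₜ[R'] Φ y) = f₀ (cA ((1 : T0) ⊗ₜ[R'] y)) := by
    intro y
    obtain ⟨z, hz⟩ : ∃ z, e.symm z = y := ⟨e y, e.symm_apply_apply y⟩
    subst hz
    induction z using MonoidAlgebra.induction_linear with
    | zero => simp
    | add x y hx hy => simp only [map_add, TensorProduct.tmul_add, hx, hy]
    | single m r =>
      rw [show MonoidAlgebra.single m r = r • MonoidAlgebra.single m (1 : R') by simp]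
      simp only [map_smul, TensorProduct.tmul_smul, ← algebraMap_smul T0 r]
      congr 1
      rw [← hge m]
      simp [Φ, Φ0, f, F]
  -- congruences
  have hcong : ∀ a, Φ ((1 : R') ⊗ₜ[R] a) - (1 : R') ⊗ₜ[R] bf a ∈ KT J (R' ⊗[R] B) := by
    intro a
    have h1 := hred ((1 : R') ⊗ₜ[R] a)
    rw [cancelBC_tmul, one_smul, hf₀] at h1
    have h2 : (1 : T0) ⊗ₜ[R'] Φ ((1 : R') ⊗ₜ[R] a) = (1 : T0) ⊗ₜ[R'] ((1 : R') ⊗ₜ[R] bf a) :=
      cB.injective (h1.trans ((cancelBC_tmul R B R' T0 _ _ _).trans (by rw [one_smul])).symm)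
    rw [← sub_mem_KT_iff_one_tmul_eq] at h2
    refine Submodule.smul_induction_on h2 (fun q hq m _ => ?_) (fun a b ha hb => add_mem ha hb)
    induction hq using Submodule.span_induction with
    | mem q hq =>
      obtain ⟨r, hr, rfl⟩ := hq
      rw [algebraMap_smul]
      exact Submodule.smul_mem_smul hr trivial
    | zero => simp
    | add u v _ _ hu hv => rw [add_smul]; exact add_mem hu hv
    | smul c u _ hu =>
      rw [smul_assoc]
      exact map_mem_KT ((LinearMap.lsmul R' (R' ⊗[R] B) c).restrictScalars R) hu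
  exact ⟨Φ, hcong⟩

set_option maxHeartbeats 1000000 in
/-- A homomorphism modulo a nilpotent ideal, out of a group of multiplicative type (split by
the family `T`), lifts. -/
theorem exists_bialgHom_lift_of_family {j : B →ₗ[R] R} (hj : IsInt j) {J : Ideal R}
    (hJ : IsNilpotent J) {ι : Type u} [Finite ι] (T : ι → Type u) [∀ i, CommRing (T i)]
    [∀ i, Algebra R (T i)] [Module.FaithfullyFlat R (Π i, T i)]
    (hA : ∀ i, SGA3b.IsDiag (T i) (T i ⊗[R] A))
    (φ₀ : ((R ⧸ J) ⊗[R] A) →ₐc[R ⧸ J] ((R ⧸ J) ⊗[R] B)) :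
    ∃ φ : A →ₐc[R] B, ∀ a, φ₀ ((1 : R ⧸ J) ⊗ₜ[R] a) = (1 : R ⧸ J) ⊗ₜ[R] φ a := by
  classical
  have := Fintype.ofFinite ι
  choose bf hbf using fun a : A => one_tmul_surjective J (φ₀ ((1 : R ⧸ J) ⊗ₜ[R] a))
  choose Φ hcong using fun i => exists_lift_over_of_isDiag hj hJ (T i) (hA i) φ₀ bf hbf
  let R' := Π i, T i
  let pr : ∀ i, R' →ₐ[R] T i := fun i => Pi.evalAlgHom R T i
  let P : ∀ i, R' ⊗[R] B →ₐ[R] T i ⊗[R] B := fun i =>
    Algebra.TensorProduct.map (pr i) (AlgHom.id R B)
  let β : A → R' ⊗[R] B := fun a =>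
    ∑ i, (LinearMap.single R T i).rTensor B (Φ i ((1 : T i) ⊗ₜ[R] a))
  have hsep : ∀ z : R' ⊗[R] B, (∀ i, P i z = 0) → z = 0 := by
    intro z hz
    have hid : ∀ z : R' ⊗[R] B, (∑ i, (LinearMap.single R T i).rTensor B (P i z)) = z := by
      intro z
      induction z using TensorProduct.induction_on with
      | zero => simp
      | tmul g a =>
        simp only [P, pr, Algebra.TensorProduct.map_tmul, Pi.evalAlgHom_apply, AlgHom.id_apply,
          LinearMap.rTensor_tmul, ← TensorProduct.sum_tmul]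
        congr 1
        exact Finset.univ_sum_single g
      | add x y hx hy => simp only [map_add, Finset.sum_add_distrib, hx, hy]
    rw [← hid z]
    simp [hz]
  have hPβ : ∀ i a, P i (β a) = Φ i ((1 : T i) ⊗ₜ[R] a) := by
    intro i a
    have : ∀ (k : ι) (z : T k ⊗[R] B),
        P i ((LinearMap.single R T k).rTensor B z) =
          if h : k = i then h ▸ z else 0 := by
      intro k z
      by_cases h : k = i
      · subst h
        rw [dif_pos rfl]
        induction z using TensorProduct.induction_on with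
        | zero => simp
        | tmul t b =>
          show (Pi.single (M := T) k t k) ⊗ₜ[R] b = t ⊗ₜ[R] b
          rw [Pi.single_eq_same]
        | add x y hx hy => simp only [map_add, hx, hy]
      · rw [dif_neg h]
        induction z using TensorProduct.induction_on with
        | zero => simp
        | tmul t b =>
          show (Pi.single (M := T) k t i) ⊗ₜ[R] b = 0
          rw [Pi.single_eq_of_ne (Ne.symm h), TensorProduct.zero_tmul]
        | add x y hx hy => simp only [map_add, hx, hy, add_zero]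
    simp only [β, map_sum, this]
    rw [Finset.sum_eq_single i (fun k _ hk => dif_neg hk) (fun h => absurd (Finset.mem_univ i) h),
      dif_pos rfl]
  have hKT : ∀ (T : Type u) [CommRing T] [Algebra R T] (x : T ⊗[R] B),
      x ∈ KT J (T ⊗[R] B) → x ∈ KT (J.map (algebraMap R T)) (T ⊗[R] B) := by
    intro T _ _ x hx
    refine Submodule.smul_induction_on hx (fun r hr m _ => ?_) (fun a b ha hb => add_mem ha hb)
    rw [← algebraMap_smul T r m]
    exact Submodule.smul_mem_smul (Ideal.mem_map_of_mem _ hr) trivial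
  have hdesc : ∀ a, ∃ b : B, (1 : R') ⊗ₜ[R] b = β a := by
    intro a
    apply exists_one_tmul_of_descent
    rw [← sub_eq_zero]
    set z := Algebra.TensorProduct.map (Algebra.TensorProduct.includeLeft (S := R)) (AlgHom.id R B) (β a) -
      Algebra.TensorProduct.map (Algebra.TensorProduct.includeRight (R := R) (A := R')) (AlgHom.id R B) (β a)
    have hsep2 : ∀ z : (R' ⊗[R] R') ⊗[R] B,
        (∀ i k, Algebra.TensorProduct.map (Algebra.TensorProduct.map (pr i) (pr k)) (AlgHom.id R B) z = 0) →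
          z = 0 := by
      intro z hz
      have hid : ∀ z : (R' ⊗[R] R') ⊗[R] B,
          (∑ i, ∑ k, (TensorProduct.map (LinearMap.single R T i) (LinearMap.single R T k)).rTensor B
            (Algebra.TensorProduct.map (Algebra.TensorProduct.map (pr i) (pr k)) (AlgHom.id R B) z)) = z := by
        intro z
        induction z using TensorProduct.induction_on with
        | zero => simp
        | add x y hx hy => simp only [map_add, Finset.sum_add_distrib, hx, hy]
        | tmul g a =>
          simp only [Algebra.TensorProduct.map_tmul, AlgHom.id_apply, LinearMap.rTensor_tmul,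
            ← TensorProduct.sum_tmul]
          congr 1
          induction g using TensorProduct.induction_on with
          | zero => simp
          | add x y hx hy => simp only [map_add, Finset.sum_add_distrib, hx, hy]
          | tmul u v =>
            simp only [pr, Algebra.TensorProduct.map_tmul, Pi.evalAlgHom_apply, TensorProduct.map_tmul,
              ← TensorProduct.tmul_sum, ← TensorProduct.sum_tmul]
            congr 1
            · exact Finset.univ_sum_single u
            · exact Finset.univ_sum_single v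
      rw [← hid z]
      simp [hz]
    refine hsep2 z fun i k => ?_
    let W := T i ⊗[R] T k
    have e1 : ∀ y : R' ⊗[R] B, Algebra.TensorProduct.map (Algebra.TensorProduct.map (pr i) (pr k))
        (AlgHom.id R B) (Algebra.TensorProduct.map (Algebra.TensorProduct.includeLeft (S := R))
          (AlgHom.id R B) y) =
        Algebra.TensorProduct.map (Algebra.TensorProduct.includeLeft (S := R)) (AlgHom.id R B) (P i y) := by
      intro y
      induction y using TensorProduct.induction_on with
      | zero => simp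
      | tmul u b => simp [P, pr]
      | add u v hu hv => simp only [map_add, hu, hv]
    have e2 : ∀ y : R' ⊗[R] B, Algebra.TensorProduct.map (Algebra.TensorProduct.map (pr i) (pr k))
        (AlgHom.id R B) (Algebra.TensorProduct.map (Algebra.TensorProduct.includeRight (R := R) (A := R'))
          (AlgHom.id R B) y) =
        Algebra.TensorProduct.map (Algebra.TensorProduct.includeRight (R := R) (A := T i)) (AlgHom.id R B) (P k y) := by
      intro y
      induction y using TensorProduct.induction_on with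
      | zero => simp
      | tmul u b => simp [P, pr]
      | add u v hu hv => simp only [map_add, hu, hv]
    simp only [z, map_sub, e1, e2, hPβ, sub_eq_zero]
    have hjW := hj.baseChange (Q := W)
    have hW : ∀ (W : Type u) [CommRing W] [Algebra R W], (T i →ₐ[R] W) →
        SGA3b.IsDiag W (W ⊗[R] A) := by
      intro W _ _ p
      letI : Algebra (T i) W := p.toRingHom.toAlgebra
      haveI : IsScalarTower R (T i) W := IsScalarTower.of_algebraMap_eq fun r => (p.commutes r).symm
      exact isDiag_baseChange (T i) W (hA i)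
    have main : ∀ (T₀ : Type u) [CommRing T₀] [Algebra R T₀] (i : ι) (p : T i →ₐ[R] T₀),
        ∃ Ψ : T₀ ⊗[R] A →ₐc[T₀] T₀ ⊗[R] B, ∀ c : A,
        Ψ ((1 : T₀) ⊗ₜ[R] c) =
            Algebra.TensorProduct.map p (AlgHom.id R B) (Φ i ((1 : (T i)) ⊗ₜ[R] c)) ∧
          Ψ ((1 : T₀) ⊗ₜ[R] c) - (1 : T₀) ⊗ₜ[R] bf c ∈ KT (J.map (algebraMap R T₀)) (T₀ ⊗[R] B) := by
      intro T₀ _ _ i p
      letI : Algebra (T i) T₀ := p.toRingHom.toAlgebra
      haveI : IsScalarTower R (T i) T₀ := IsScalarTower.of_algebraMap_eq fun r => (p.commutes r).symm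
      refine ⟨bcHom T₀ (T i) (Φ i), fun c => ?_⟩
      have e1 : ∀ z : (T i) ⊗[R] B, cancelBC R B (T i) T₀ ((1 : T₀) ⊗ₜ[(T i)] z) =
          Algebra.TensorProduct.map p (AlgHom.id R B) z := by
        intro z
        induction z using TensorProduct.induction_on with
        | zero => simp
        | tmul r b => rw [cancelBC_tmul, Algebra.smul_def, mul_one]; rfl
        | add x y hx hy => simp only [TensorProduct.tmul_add, map_add, hx, hy]
      have h0 : bcHom T₀ (T i) (Φ i) ((1 : T₀) ⊗ₜ[R] c) =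
          Algebra.TensorProduct.map p (AlgHom.id R B) (Φ i ((1 : (T i)) ⊗ₜ[R] c)) := by
        have h1 : (cancelBC R A (T i) T₀).symm ((1 : T₀) ⊗ₜ[R] c) =
            (1 : T₀) ⊗ₜ[(T i)] ((1 : (T i)) ⊗ₜ[R] c) := by
          refine (cancelBC R A (T i) T₀).injective (((cancelBC R A (T i) T₀).apply_symm_apply _).trans ?_)
          exact ((cancelBC_tmul R A (T i) T₀ _ _ _).trans (by rw [one_smul])).symm
        show cancelBC R B (T i) T₀ (bcMap T₀ (Φ i) ((cancelBC R A (T i) T₀).symm ((1 : T₀) ⊗ₜ[R] c))) = _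
        rw [h1, bcMap_tmul, e1]
      refine ⟨h0, hKT T₀ _ ?_⟩
      rw [h0]
      have := map_mem_KT (Algebra.TensorProduct.map p (AlgHom.id R B)).toLinearMap (hcong i c)
      rw [map_sub] at this
      simpa only [AlgHom.toLinearMap_apply, Algebra.TensorProduct.map_tmul, map_one,
        AlgHom.id_apply] using this
    obtain ⟨Ψ1, h1⟩ := main W i (Algebra.TensorProduct.includeLeft (S := R))
    obtain ⟨Ψ2, h2⟩ := main W k Algebra.TensorProduct.includeRight
    have hΨ : Ψ1 = Ψ2 := by
      refine eq_of_mod_nil_of_isDiag hjW (hW W Algebra.TensorProduct.includeLeft) (nil_map hJ W) Ψ1 Ψ2 fun x => ?_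
      induction x using TensorProduct.induction_on with
      | zero => simp
      | add x y hx hy => simp only [map_add, add_sub_add_comm]; exact add_mem hx hy
      | tmul t c =>
        rw [show t ⊗ₜ[R] c = t • ((1 : W) ⊗ₜ[R] c) by rw [TensorProduct.smul_tmul', smul_eq_mul, mul_one],
          map_smul, map_smul, ← smul_sub]
        refine Submodule.smul_mem _ _ ?_
        rw [← sub_sub_sub_cancel_right _ _ ((1 : W) ⊗ₜ[R] bf c)]
        exact sub_mem (h1 c).2 (h2 c).2
    exact (h1 a).1.symm.trans ((DFunLike.congr_fun hΨ _).trans (h2 a).1)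
  choose φf hφf using hdesc
  have hφi : ∀ i a, (1 : T i) ⊗ₜ[R] φf a = Φ i ((1 : T i) ⊗ₜ[R] a) := by
    intro i a
    rw [← hPβ, ← hφf]
    simp [P, pr]
  have hinj : Function.Injective fun b : B => (1 : R') ⊗ₜ[R] b :=
    Module.FaithfullyFlat.tensorProduct_mk_injective B
  have hext : ∀ u v : B, (∀ i, (1 : T i) ⊗ₜ[R] u = (1 : T i) ⊗ₜ[R] v) → u = v := by
    intro u v h
    refine hinj (sub_eq_zero.1 (hsep _ fun i => ?_))
    simp [P, pr, h i]
  let φa : A →ₐ[R] B :=
    { toFun := φf
      map_one' := hext _ _ fun i => by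
        rw [hφi, ← Algebra.TensorProduct.one_def, map_one, Algebra.TensorProduct.one_def]
      map_mul' := fun x y => hext _ _ fun i => by
        rw [hφi, show (1 : T i) ⊗ₜ[R] (x * y) = ((1 : T i) ⊗ₜ[R] x) * ((1 : T i) ⊗ₜ[R] y) by simp,
          map_mul, ← hφi, ← hφi, Algebra.TensorProduct.tmul_mul_tmul, mul_one]
      map_zero' := hext _ _ fun i => by
        rw [hφi, TensorProduct.tmul_zero, map_zero, TensorProduct.tmul_zero]
      map_add' := fun x y => hext _ _ fun i => by
        rw [hφi, TensorProduct.tmul_add, map_add, ← hφi, ← hφi, TensorProduct.tmul_add]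
      commutes' := fun r => hext _ _ fun i => by
        rw [hφi, Algebra.algebraMap_eq_smul_one, TensorProduct.tmul_smul,
          ← algebraMap_smul (T i) r, map_smul, algebraMap_smul, ← Algebra.TensorProduct.one_def,
          map_one, Algebra.TensorProduct.one_def, ← TensorProduct.tmul_smul,
          ← Algebra.algebraMap_eq_smul_one] }
  have hext2 : ∀ u v : B ⊗[R] B, (∀ i, inclTwo (A := R) (T i) u = inclTwo (T i) v) → u = v := by
    intro u v huv
    refine Module.FaithfullyFlat.tensorProduct_mk_injective (A := R) (B := R') (B ⊗[R] B) ?_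
    show (1 : R') ⊗ₜ[R] u = (1 : R') ⊗ₜ[R] v
    rw [← sub_eq_zero]
    set w := (1 : R') ⊗ₜ[R] u - (1 : R') ⊗ₜ[R] v
    have hid : ∀ z : R' ⊗[R] (B ⊗[R] B), (∑ i, (LinearMap.single R T i).rTensor (B ⊗[R] B)
        ((pr i).toLinearMap.rTensor (B ⊗[R] B) z)) = z := by
      intro z
      induction z using TensorProduct.induction_on with
      | zero => simp
      | tmul g a =>
        simp only [pr, LinearMap.rTensor_tmul, AlgHom.toLinearMap_apply, Pi.evalAlgHom_apply,
          ← TensorProduct.sum_tmul]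
        congr 1
        exact Finset.univ_sum_single g
      | add x y hx hy => simp only [map_add, Finset.sum_add_distrib, hx, hy]
    rw [← hid w]
    refine Finset.sum_eq_zero fun i _ => ?_
    let Θ : (T i ⊗[R] B) ⊗[T i] (T i ⊗[R] B) →ₐ[T i] T i ⊗[R] (B ⊗[R] B) :=
      Algebra.TensorProduct.lift
        (Algebra.TensorProduct.map (AlgHom.id _ _) (Algebra.TensorProduct.includeLeft (S := R)))
        (Algebra.TensorProduct.map (AlgHom.id _ _) Algebra.TensorProduct.includeRight)
        (fun _ _ => Commute.all _ _)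
    have hΘ : ∀ z, Θ (inclTwo (T i) z) = (1 : T i) ⊗ₜ[R] z := by
      intro z
      induction z using TensorProduct.induction_on with
      | zero => simp
      | tmul x y => simp [Θ, inclTwo_tmul]
      | add x y hx hy => simp [hx, hy, TensorProduct.tmul_add]
    have : (1 : T i) ⊗ₜ[R] u = (1 : T i) ⊗ₜ[R] v := by rw [← hΘ, ← hΘ, huv]
    simp [w, pr, this]
  have hcounit : ∀ a, Coalgebra.counit (R := R) (φf a) = Coalgebra.counit (R := R) a := by
    intro a
    have h1 : ∀ i, algebraMap R (T i) (Coalgebra.counit (φf a)) = algebraMap R (T i) (Coalgebra.counit a) := by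
      intro i
      have h := CoalgHomClass.counit_comp_apply (Φ i) ((1 : T i) ⊗ₜ[R] a)
      rw [← hφi] at h
      simpa [Algebra.algebraMap_eq_smul_one] using h
    exact FaithfulSMul.algebraMap_injective R R' (funext h1)
  refine ⟨BialgHom.ofAlgHom φa (AlgHom.ext fun a => hcounit a) (AlgHom.ext fun a => ?_), fun a => ?_⟩
  · show Algebra.TensorProduct.map φa φa (Coalgebra.comul a) = Coalgebra.comul (φf a)
    refine hext2 _ _ fun i => ?_
    rw [← comul_one_tmul, hφi, ← CoalgHomClass.map_comp_comul_apply (Φ i), comul_one_tmul,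
      ← (Coalgebra.Repr.arbitrary R a).eq]
    simp [map_sum, inclTwo_tmul, φa, ← hφi]
  · show φ₀ ((1 : R ⧸ J) ⊗ₜ[R] a) = (1 : R ⧸ J) ⊗ₜ[R] φf a
    rw [← hbf]
    refine sub_mem_KT_iff_one_tmul_eq.mp (mem_KT_of_one_tmul_mem (R' := R') ?_)
    rw [TensorProduct.tmul_sub, hφf, ← neg_sub]
    refine neg_mem ?_
    have hid : ∀ z : R' ⊗[R] B, (∑ i, (LinearMap.single R T i).rTensor B (P i z)) = z := by
      intro z
      induction z using TensorProduct.induction_on with
      | zero => simp
      | tmul g a =>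
        simp only [P, pr, Algebra.TensorProduct.map_tmul, Pi.evalAlgHom_apply, AlgHom.id_apply,
          LinearMap.rTensor_tmul, ← TensorProduct.sum_tmul]
        congr 1
        exact Finset.univ_sum_single g
      | add x y hx hy => simp only [map_add, Finset.sum_add_distrib, hx, hy]
    rw [← hid (β a - (1 : R') ⊗ₜ[R] bf a)]
    refine Submodule.sum_mem _ fun i _ => map_mem_KT _ ?_
    rw [map_sub, hPβ]
    simpa [P, pr] using hcong i a

/-- Single splitting algebra. -/
theorem exists_bialgHom_lift_of_isMultType {j : B →ₗ[R] R} (hj : IsInt j) {J : Ideal R}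
    (hJ : IsNilpotent J) (hA : SGA3b.IsMultType R A)
    (φ₀ : ((R ⧸ J) ⊗[R] A) →ₐc[R ⧸ J] ((R ⧸ J) ⊗[R] B)) :
    ∃ φ : A →ₐc[R] B, ∀ a, φ₀ ((1 : R ⧸ J) ⊗ₜ[R] a) = (1 : R ⧸ J) ⊗ₜ[R] φ a := by
  obtain ⟨ι, _, T, _, _, -, hff, hd⟩ := exists_split_family hA
  exact exists_bialgHom_lift_of_family hj hJ T hd φ₀

end Groth.Agent.MultTypeLib
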