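import Groth.Agent.Lib.MultType.Field
import Groth.Agent.Lib.MultType.HomLift

/-!
# Multiplicative type from a faithfully flat family of diagonalisations
-/

universe u

open TensorProduct

namespace Groth.Agent.MultTypeLib

variable {R : Type u} [CommRing R] {A : Type u} [CommRing A] [HopfAlgebra R A]

/-- Change of group. -/
noncomputable def mapDomainEquiv (S : Type u) [CommRing S] {M N : Type u} [CommGroup M] [CommGroup N]
    (c : M ≃* N) : MonoidAlgebra S M ≃ₐc[S] MonoidAlgebra S N :=
  BialgEquiv.ofBijective (MonoidAlgebra.mapDomainBialgHom S c.toMonoidHom)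
    (MonoidAlgebra.mapDomainRingEquiv S c).bijective

section Pi

variable {ι : Type u} [Finite ι] {T : ι → Type u} [∀ i, CommRing (T i)] [∀ i, Algebra R (T i)]

theorem sum_single_proj [Fintype ι] [DecidableEq ι] {P : Type u} [AddCommGroup P] [Module R P]
    (z : (Π i, T i) ⊗[R] P) :
    (∑ i, (LinearMap.single R T i).rTensor P ((LinearMap.proj i).rTensor P z)) = z := by
  induction z using TensorProduct.induction_on with
  | zero => simp
  | tmul g a =>
    simp only [LinearMap.rTensor_tmul, LinearMap.proj_apply, ← TensorProduct.sum_tmul]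
    congr 1
    exact Finset.univ_sum_single g
  | add x y hx hy => simp [Finset.sum_add_distrib, hx, hy]

/-- Elements of a tensor product with a finite product are detected by the projections. -/
theorem pi_tensor_ext {P : Type u} [AddCommGroup P] [Module R P] {x y : (Π i, T i) ⊗[R] P}
    (h : ∀ i, (LinearMap.proj (R := R) (φ := T) i).rTensor P x =
      (LinearMap.proj (R := R) (φ := T) i).rTensor P y) : x = y := by
  classical
  have := Fintype.ofFinite ι
  rw [← sum_single_proj x, ← sum_single_proj y]
  simp only [h]

/-- Diagonalisations with one group over the factors give one over the product. -/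
theorem isDiag_pi (M : Type u) [CommGroup M]
    (e : ∀ i, T i ⊗[R] A ≃ₐc[T i] MonoidAlgebra (T i) M) :
    SGA3b.IsDiag (Π i, T i) ((Π i, T i) ⊗[R] A) := by
  classical
  have := Fintype.ofFinite ι
  let P := Π i, T i
  let pr : ∀ i, P →ₐ[R] T i := fun i => Pi.evalAlgHom R T i
  have hpr : ∀ i (g : P), pr i g = g i := fun _ _ => rfl
  let q : ∀ i, P ⊗[R] A →ₐ[R] T i ⊗[R] A := fun i =>
    Algebra.TensorProduct.map (pr i) (AlgHom.id R A)
  have hext : ∀ {x y : P ⊗[R] A}, (∀ i, q i x = q i y) → x = y := fun {x y} h =>
    pi_tensor_ext fun i => by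
      have aux : ∀ z : P ⊗[R] A, (LinearMap.proj (R := R) (φ := T) i).rTensor A z = q i z := by
        intro z
        induction z using TensorProduct.induction_on with
        | zero => simp
        | tmul g a => simp [q, hpr]
        | add x y hx hy => simp only [map_add, hx, hy]
      rw [aux, aux, h]
  have hq_single : ∀ (i : ι) (z : T i ⊗[R] A) (k : ι),
      q k ((LinearMap.single R T i).rTensor A z) = if h : i = k then h ▸ z else 0 := by
    intro i z k
    induction z using TensorProduct.induction_on with
    | zero => split_ifs with h <;> [subst h; skip] <;> simp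
    | tmul g a =>
      simp only [q, pr, LinearMap.rTensor_tmul, Algebra.TensorProduct.map_tmul, AlgHom.id_apply,
        Pi.evalAlgHom_apply, LinearMap.single_apply]
      split_ifs with h
      · subst h
        show Pi.single i g i ⊗ₜ[R] a = _
        rw [Pi.single_eq_same]
      · show Pi.single i g k ⊗ₜ[R] a = 0
        rw [Pi.single_eq_of_ne (Ne.symm h), TensorProduct.zero_tmul]
    | add x y hx hy =>
      rw [map_add, map_add, hx, hy]
      split_ifs with h
      · subst h; rfl
      · simp
  let glue : (∀ i, T i ⊗[R] A) → P ⊗[R] A := fun v => ∑ i, (LinearMap.single R T i).rTensor A (v i)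
  have hglue : ∀ v k, q k (glue v) = v k := fun v k => by
    simp only [glue, map_sum, hq_single]
    rw [Finset.sum_eq_single k (fun i _ hik => by simp [hik]) (by simp)]
    simp
  let g : M → P ⊗[R] A := fun m => glue fun i => (e i).symm (MonoidAlgebra.single m 1)
  let gM : M →* P ⊗[R] A :=
    { toFun := g
      map_one' := hext fun i => by rw [hglue, map_one, ← MonoidAlgebra.one_def, map_one]
      map_mul' := fun a b => hext fun i => by
        rw [map_mul, hglue, hglue, hglue, ← map_mul, MonoidAlgebra.single_mul_single, mul_one] }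
  have hg : ∀ m, IsGroupLikeElem P (g m) := by
    intro m
    have hi : ∀ i, GLk (T i) (q i (g m)) := fun i => by
      rw [hglue]
      exact (glk_iff (T i) _).2 ((MonoidAlgebra.isGroupLikeElem_single_one m).map (e i).symm)
    refine (glk_iff P _).1 ⟨funext fun i => ?_, ?_⟩
    · have := (hi i).1
      rw [counit_map_natural] at this
      exact this
    · have nat : ∀ (i : ι) {D : Type u} [CommRing D] [Algebra R D] (f : A →ₐ[R] D) (z : P ⊗[R] A),
          (LinearMap.proj (R := R) (φ := T) i).rTensor D
            (Algebra.TensorProduct.map (AlgHom.id R P) f z) =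
          Algebra.TensorProduct.map (AlgHom.id R (T i)) f (q i z) := by
        intro i D _ _ f z
        induction z using TensorProduct.induction_on with
        | zero => simp
        | tmul t c => simp [q, hpr]
        | add x y hx hy => simp only [map_add, hx, hy]
      have natm : ∀ (i : ι) (x y : P ⊗[R] (A ⊗[R] A)),
          (LinearMap.proj (R := R) (φ := T) i).rTensor (A ⊗[R] A) (x * y) =
            (LinearMap.proj (R := R) (φ := T) i).rTensor (A ⊗[R] A) x *
            (LinearMap.proj (R := R) (φ := T) i).rTensor (A ⊗[R] A) y := by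
        intro i x y
        have aux : ∀ z, (LinearMap.proj (R := R) (φ := T) i).rTensor (A ⊗[R] A) z =
            Algebra.TensorProduct.map (pr i) (AlgHom.id R (A ⊗[R] A)) z := by
          intro z
          induction z using TensorProduct.induction_on with
          | zero => simp
          | tmul g a => simp [hpr]
          | add x y hx hy => simp only [map_add, hx, hy]
        simp only [aux, map_mul]
      refine pi_tensor_ext fun i => ?_
      rw [natm, nat, nat, nat]
      exact (hi i).2
  let f : MonoidAlgebra P M →ₐ[P] P ⊗[R] A := MonoidAlgebra.lift P (P ⊗[R] A) M gM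
  let Φ : MonoidAlgebra P M →ₐc[P] P ⊗[R] A := BialgHom.ofAlgHom f
    (MonoidAlgebra.algHom_ext (fun m => by simp [f, gM, (hg m).counit_eq_one]) (by ext))
    (MonoidAlgebra.algHom_ext (fun m => by simp [f, gM, (hg m).comul_eq_tmul_self]) (by ext))
  have hΦ : ∀ i x, q i (Φ x) = (e i).symm (MonoidAlgebra.mapRingHom M (pr i).toRingHom x) := by
    intro i x
    induction x using MonoidAlgebra.induction_linear with
    | zero => simp
    | add x y hx hy => simp only [map_add, hx, hy]
    | single m r =>
      rw [MonoidAlgebra.mapRingHom_single,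
        show MonoidAlgebra.single m ((pr i).toRingHom r) = (r i) • MonoidAlgebra.single m (1 : T i) by
          simp [hpr],
        map_smul, ← hglue (fun i => (e i).symm (MonoidAlgebra.single m 1)) i]
      have : Φ (MonoidAlgebra.single m r) = (r ⊗ₜ[R] (1 : A)) * g m := by
        show f _ = _
        simp [f, gM, Algebra.smul_def]
        rfl
      rw [this, map_mul, Algebra.smul_def]
      rfl
  refine ⟨M, inferInstance, ⟨(BialgEquiv.ofBijective Φ ⟨?_, ?_⟩).symm⟩⟩
  · intro x y hxy
    apply MonoidAlgebra.coeff_injective
    refine Finsupp.ext fun m => funext fun i => ?_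
    have := congrArg (q i) hxy
    rw [hΦ, hΦ] at this
    have := congrArg (fun z => z.coeff m) ((e i).symm.injective this)
    simpa [MonoidAlgebra.coeff_mapRingHom, hpr] using this
  · intro z
    let x : MonoidAlgebra P M := ∑ i, (e i (q i z)).coeff.sum fun m r =>
      MonoidAlgebra.single m (Pi.single i r)
    refine ⟨x, hext fun k => ?_⟩
    rw [hΦ]
    have : MonoidAlgebra.mapRingHom M (pr k).toRingHom x = e k (q k z) := by
      simp only [x, map_sum, map_finsuppSum, MonoidAlgebra.mapRingHom_single]
      rw [Finset.sum_eq_single k (fun i _ hik => by simp [hpr, Pi.single_eq_of_ne (Ne.symm hik)])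
        (by simp)]
      simp [hpr, MonoidAlgebra.sum_coeff_single]
    rw [this]
    exact (e k).symm_apply_apply _

end Pi

/-- A group algebra over a field determines the group. -/
theorem nonempty_mulEquiv_of_bialgEquiv {K : Type u} [Field K] {M N : Type u} [CommGroup M]
    [CommGroup N] (h : MonoidAlgebra K M ≃ₐc[K] MonoidAlgebra K N) : Nonempty (M ≃* N) := by
  obtain ⟨f, hf⟩ := (MonoidAlgebra.mapDomainBialgHomEquiv (R := K)).surjective h.toBialgHom
  obtain ⟨g, hg⟩ := (MonoidAlgebra.mapDomainBialgHomEquiv (R := K)).surjective h.symm.toBialgHom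
  simp only [MonoidAlgebra.mapDomainBialgHomEquiv_apply] at hf hg
  refine ⟨MonoidHom.toMulEquiv f g ?_ ?_⟩
  · refine MonoidHom.ext fun m => Finsupp.single_left_injective (one_ne_zero (α := K)) ?_
    have h1 := h.symm_apply_apply (MonoidAlgebra.single m (1 : K))
    change h.symm.toBialgHom (h.toBialgHom _) = _ at h1
    rw [← hf, ← hg] at h1
    simp at h1
    exact congrArg MonoidAlgebra.coeff h1
  · refine MonoidHom.ext fun m => Finsupp.single_left_injective (one_ne_zero (α := K)) ?_
    have h1 := h.apply_symm_apply (MonoidAlgebra.single m (1 : K))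
    change h.toBialgHom (h.symm.toBialgHom _) = _ at h1
    rw [← hf, ← hg] at h1
    simp at h1
    exact congrArg MonoidAlgebra.coeff h1

/-- Two diagonalisations with a common nontrivial extension have the same group. -/
theorem nonempty_mulEquiv_of_nontrivial {T U : Type u} [CommRing T] [CommRing U] [Algebra R T]
    [Algebra R U] [Nontrivial (T ⊗[R] U)] {M N : Type u} [CommGroup M] [CommGroup N]
    (e : T ⊗[R] A ≃ₐc[T] MonoidAlgebra T M) (f : U ⊗[R] A ≃ₐc[U] MonoidAlgebra U N) :
    Nonempty (M ≃* N) := by
  classical
  obtain ⟨m, hm⟩ := Ideal.exists_maximal (T ⊗[R] U)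
  let K := (T ⊗[R] U) ⧸ m
  letI := Ideal.Quotient.field m
  letI : Algebra U (T ⊗[R] U) := Algebra.TensorProduct.rightAlgebra
  let eK : K ⊗[R] A ≃ₐc[K] MonoidAlgebra K M :=
    (cancelBC R A T K).symm.trans ((bcEquiv K e).trans (diagBC T K M))
  let fK : K ⊗[R] A ≃ₐc[K] MonoidAlgebra K N :=
    (cancelBC R A U K).symm.trans ((bcEquiv K f).trans (diagBC U K N))
  let h := eK.symm.trans fK
  exact nonempty_mulEquiv_of_bialgEquiv h

theorem isMultType_of_family {ι : Type u} [Finite ι] (T : ι → Type u) [∀ i, CommRing (T i)]
    [∀ i, Algebra R (T i)] [∀ i, Module.Flat R (T i)] [Module.FaithfullyFlat R (Π i, T i)]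
    (hd : ∀ i, SGA3b.IsDiag (T i) (T i ⊗[R] A)) : SGA3b.IsMultType R A := by
  classical
  have := Fintype.ofFinite ι
  choose M iM he using hd
  let P := Π i, T i
  let S : ι → ι → Prop := fun i k => Nonempty (M i ≃* M k)
  have hidem : ∀ i, ∃ e : R, ∀ k, algebraMap R (T k) e = if S i k then 1 else 0 := by
    intro i
    let u : P := fun k => if S i k then 1 else 0
    obtain ⟨e, he'⟩ := exists_one_tmul_of_descent (B := R) (R' := P) (u ⊗ₜ[R] (1 : R)) (by
      simp only [Algebra.TensorProduct.map_tmul, Algebra.TensorProduct.includeLeft_apply,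
        Algebra.TensorProduct.includeRight_apply, AlgHom.id_apply]
      congr 1
      refine pi_tensor_ext fun k => ?_
      simp only [LinearMap.rTensor_tmul, LinearMap.proj_apply, Pi.one_apply]
      refine (TensorProduct.comm R (T k) P).injective ?_
      refine pi_tensor_ext fun l => ?_
      rcases subsingleton_or_nontrivial (T k ⊗[R] T l) with h | h
      · exact (TensorProduct.comm R (T l) (T k)).injective (Subsingleton.elim _ _)

      · obtain ⟨a⟩ := he k
        obtain ⟨b⟩ := he l
        obtain ⟨c⟩ := nonempty_mulEquiv_of_nontrivial a b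
        have : S i k ↔ S i l := ⟨fun ⟨d⟩ => ⟨d.trans c⟩, fun ⟨d⟩ => ⟨d.trans c.symm⟩⟩
        show (1 : T l) ⊗ₜ[R] (if S i k then (1 : T k) else 0) =
          (if S i l then (1 : T l) else 0) ⊗ₜ[R] (1 : T k)
        simp only [this]
        split_ifs <;> simp)
    refine ⟨e, fun k => ?_⟩
    have h1 := congrArg (TensorProduct.rid R P) he'
    simp only [TensorProduct.rid_tmul] at h1
    rw [← Algebra.algebraMap_eq_smul_one, one_smul] at h1
    exact congrFun h1 k
  choose e hek using hidem
  refine ⟨Set.range e, ?_, ?_⟩
  · by_contra hne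
    obtain ⟨p, hp, hle⟩ := Ideal.exists_le_maximal _ hne
    obtain ⟨Q, hQ⟩ := PrimeSpectrum.comap_surjective_of_faithfullyFlat (A := R) (B := P)
      ⟨p, hp.isPrime⟩
    let K := Q.asIdeal.ResidueField
    obtain ⟨k, ψ, hψ⟩ := exists_proj_of_field (K := K) (IsScalarTower.toAlgHom R P K)
    have h1 : ψ (algebraMap R (T k) (e k)) = 1 := by
      rw [hek, if_pos ⟨MulEquiv.refl _⟩, map_one]
    rw [AlgHom.commutes] at h1
    have h2 : algebraMap R P (e k) ∈ Q.asIdeal := by
      have := hle (Ideal.subset_span ⟨k, rfl⟩)
      have hQ' : Q.asIdeal.comap (algebraMap R P) = p := congrArg PrimeSpectrum.asIdeal hQ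
      rw [← hQ'] at this
      exact this
    rw [IsScalarTower.algebraMap_apply R P K, Ideal.algebraMap_residueField_eq_zero.2 h2] at h1
    exact zero_ne_one h1
  · rintro _ ⟨i, rfl⟩
    let L := Localization.Away (e i)
    let κ := {k // S i k}
    let V : κ → Type u := fun k => L ⊗[R] T k.1
    haveI hff : Module.FaithfullyFlat L (Π k, V k) := by
      refine faithfullyFlat_pi V fun p => ?_
      let p₀ : PrimeSpectrum R := PrimeSpectrum.comap (algebraMap R L) p
      have hp₀ : e i ∉ p₀.asIdeal := fun h =>
        p.isPrime.ne_top (Ideal.eq_top_of_isUnit_mem _ h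
          (IsLocalization.Away.algebraMap_isUnit (e i)))
      obtain ⟨Q, hQ⟩ := PrimeSpectrum.comap_surjective_of_faithfullyFlat (A := R) (B := P) p₀
      let K := Q.asIdeal.ResidueField
      obtain ⟨k, ψ, hψ⟩ := exists_proj_of_field (K := K) (IsScalarTower.toAlgHom R P K)
      have hk : S i k := by
        by_contra hk
        have h1 : ψ (algebraMap R (T k) (e i)) = 0 := by rw [hek, if_neg hk, map_zero]
        rw [AlgHom.commutes, IsScalarTower.algebraMap_apply R P K,
          Ideal.algebraMap_residueField_eq_zero] at h1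
        exact hp₀ (by rw [← hQ]; exact h1)
      have hu : IsUnit (algebraMap R K (e i)) := isUnit_iff_ne_zero.2 fun h => by
        rw [IsScalarTower.algebraMap_apply R P K, Ideal.algebraMap_residueField_eq_zero] at h
        exact hp₀ (by rw [← hQ]; exact h)
      let ℓ : L →ₐ[R] K :=
        { IsLocalization.Away.lift (e i) hu with
          commutes' := fun r => IsLocalization.Away.lift_eq (e i) hu r }
      let g : V ⟨k, hk⟩ →ₐ[R] K :=
        Algebra.TensorProduct.lift ℓ ψ (fun _ _ => Commute.all _ _)
      refine ⟨⟨k, hk⟩, ⟨RingHom.ker g, RingHom.ker_isPrime _⟩, ?_⟩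
      refine PrimeSpectrum.localization_comap_injective L (Submonoid.powers (e i)) ?_
      refine Eq.trans ?_ hQ
      ext r
      show g (algebraMap L (V ⟨k, hk⟩) (algebraMap R L r)) = 0 ↔ algebraMap R P r ∈ Q.asIdeal
      rw [← IsScalarTower.algebraMap_apply R L (V ⟨k, hk⟩), AlgHom.commutes,
        IsScalarTower.algebraMap_apply R P K, Ideal.algebraMap_residueField_eq_zero]
    refine ⟨Π k, V k, inferInstance, inferInstance, hff, ?_⟩
    refine isDiag_congr (cancelBC R A L (Π k, V k)).symm (isDiag_pi (M i) fun k => ?_)
    letI : Algebra (T k.1) (V k) := Algebra.TensorProduct.rightAlgebra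
    let c := Classical.choice k.2
    exact ((cancelBC R A (T k.1) (V k)).symm.trans
      ((bcEquiv (V k) (Classical.choice (he k.1))).trans (diagBC (T k.1) (V k) (M k.1)))).trans
      (mapDomainEquiv (V k) c.symm)

end Groth.Agent.MultTypeLib
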