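import Groth.Agent.Lib.MultType.Base
import Groth.Agent.Lib.MultType.DiagLift
import Groth.Agent.Lib.Hens.EtaleLift
import Groth.Agent.Lib.Hens.PairOps

/-!
# (Quasi-)isotriviality lifts along nil ideals
-/

universe u

open TensorProduct

namespace Groth.Agent.MultTypeLib

theorem comap_map_quot {R : Type u} [CommRing R] {I P : Ideal R} (h : I ≤ P) :
    (P.map (Ideal.Quotient.mk I)).comap (Ideal.Quotient.mk I) = P := by
  rw [Ideal.comap_map_of_surjective' _ Ideal.Quotient.mk_surjective, Ideal.mk_ker, sup_eq_left]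
  exact h

variable {R : Type u} [CommRing R] {A : Type u} [CommRing A] [HopfAlgebra R A]

/-- Lift a splitting over `C` to a lift `E` of `C` along a nil ideal. -/
theorem isDiag_of_lift {I : Ideal R} (hI : ∀ x ∈ I, IsNilpotent x) (h : SGA3b.IsMultType R A)
    {E C : Type u} [CommRing E] [CommRing C] [Algebra R E] [Algebra R C] (φ : E →ₐ[R] C)
    (hφ : Function.Surjective φ) (hker : RingHom.ker φ ≤ I.map (algebraMap R E))
    (hC : SGA3b.IsDiag C (C ⊗[R] A)) : SGA3b.IsDiag E (E ⊗[R] A) := by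
  let J := RingHom.ker φ
  have hnil : ∀ x ∈ J, IsNilpotent x := fun x hx =>
    isNilpotent_of_mem_KT hI (mem_KT_iff_mem_map.mpr (hker hx))
  let e : C ≃ₐ[R] E ⧸ J := (Ideal.quotientKerAlgEquivOfSurjective hφ).symm
  letI : Algebra C (E ⧸ J) := e.toAlgHom.toRingHom.toAlgebra
  have : IsScalarTower R C (E ⧸ J) := IsScalarTower.of_algebraMap_eq fun r => (e.commutes r).symm
  refine isDiag_of_isDiag_mod_nil hnil (isMultType_baseChange E h) ?_
  exact isDiag_tensor_tensor E (E ⧸ J) (isDiag_baseChange C (E ⧸ J) hC)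

theorem faithfullyFlat_of_lift {I : Ideal R} (hI : ∀ x ∈ I, IsNilpotent x) {E : Type u} [CommRing E]
    [Algebra R E] [Module.Flat R E] {C : Type u} [CommRing C] [Algebra R C] (φ : E →ₐ[R] C)
    (h : ∀ p : PrimeSpectrum R, I ≤ p.asIdeal →
      p ∈ Set.range (PrimeSpectrum.comap (algebraMap R C))) : Module.FaithfullyFlat R E := by
  refine Module.FaithfullyFlat.of_comap_surjective fun p => ?_
  obtain ⟨q, hq⟩ := h p fun x hx => nilradical_le_prime p.asIdeal (mem_nilradical.mpr (hI x hx))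
  refine ⟨PrimeSpectrum.comap φ.toRingHom q, ?_⟩
  rw [← hq, ← φ.comp_algebraMap]
  rfl

/-- `A` gets diagonal over lifts of algebras over which its reduction is. -/
def DiagLifts (I : Ideal R) (A : Type u) [CommRing A] [HopfAlgebra R A] : Prop :=
  ∀ (E C : Type u) [CommRing E] [CommRing C] [Algebra R E] [Algebra R C] [Module.Flat R E]
    (φ : E →ₐ[R] C), Function.Surjective φ → RingHom.ker φ ≤ I.map (algebraMap R E) →
      SGA3b.IsDiag C (C ⊗[R] A) → SGA3b.IsDiag E (E ⊗[R] A)

theorem diagLifts_of_isMultType {I : Ideal R} (hI : ∀ x ∈ I, IsNilpotent x)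
    (h : SGA3b.IsMultType R A) : DiagLifts I A :=
  fun _ _ _ _ _ _ _ φ hφ hker hC => isDiag_of_lift hI h φ hφ hker hC

theorem isIsotrivial_of_diagLifts {I : Ideal R} (hI : ∀ x ∈ I, IsNilpotent x)
    (h : DiagLifts I A) (h0 : SGA3b.IsIsotrivial (R ⧸ I) ((R ⧸ I) ⊗[R] A)) :
    SGA3b.IsIsotrivial R A := by
  obtain ⟨C, _, _, _, _, _, hC⟩ := h0
  obtain ⟨B, _, _, _, _, ⟨e⟩⟩ :=
    Hens.exists_finite_etale_lift (Hens.henselianRing_of_nilpotent hI) C
  letI : Algebra R C := ((algebraMap (R ⧸ I) C).comp (Ideal.Quotient.mk I)).toAlgebra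
  have : IsScalarTower R (R ⧸ I) C := IsScalarTower.of_algebraMap_eq' rfl
  let φ : B →ₐ[R] C := (e.toAlgHom.restrictScalars R).comp Algebra.TensorProduct.includeRight
  have hφ : Function.Surjective φ := e.surjective.comp
    (Algebra.TensorProduct.includeRight_surjective _ Ideal.Quotient.mk_surjective)
  have hker : RingHom.ker φ ≤ I.map (algebraMap R B) := fun x hx => by
    rw [← mem_KT_iff_mem_map, mem_KT_iff_one_tmul_eq_zero]
    have h0 : e ((1 : R ⧸ I) ⊗ₜ[R] x) = 0 := hx
    exact e.map_eq_zero_iff.mp h0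
  have : Module.Flat R B := inferInstance
  refine ⟨B, inferInstance, inferInstance, inferInstance, inferInstance,
    faithfullyFlat_of_lift hI φ fun p hp => ?_,
    h B C φ hφ hker (isDiag_of_tensor_tensor (R ⧸ I) C hC)⟩
  obtain ⟨q, hq⟩ := PrimeSpectrum.comap_surjective_of_faithfullyFlat (A := R ⧸ I) (B := C)
    ⟨p.asIdeal.map (Ideal.Quotient.mk I), Ideal.map_isPrime_of_surjective Ideal.Quotient.mk_surjective
      (by rwa [Ideal.mk_ker])⟩
  refine ⟨q, PrimeSpectrum.ext ?_⟩
  have h1 := congrArg (fun x : PrimeSpectrum (R ⧸ I) => x.asIdeal.comap (Ideal.Quotient.mk I)) hq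
  simp only [PrimeSpectrum.comap_asIdeal, Ideal.comap_comap] at h1
  exact h1.trans (comap_map_quot (by assumption))

theorem isQuasiIsotrivial_of_diagLifts {I : Ideal R} (hI : ∀ x ∈ I, IsNilpotent x)
    (h : DiagLifts I A) (h0 : SGA3b.IsQuasiIsotrivial (R ⧸ I) ((R ⧸ I) ⊗[R] A)) :
    SGA3b.IsQuasiIsotrivial R A := by
  obtain ⟨s, hs, hf⟩ := h0
  refine ⟨Ideal.Quotient.mk I ⁻¹' s, ?_, fun f hfs => ?_⟩
  · by_contra hne
    obtain ⟨m, hm, hle⟩ := Ideal.exists_le_maximal _ hne
    have h1 : (Ideal.span s : Ideal (R ⧸ I)) ≤ m.map (Ideal.Quotient.mk I) := Ideal.span_le.mpr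
      fun y hy => by
        obtain ⟨x, rfl⟩ := Ideal.Quotient.mk_surjective y
        exact Ideal.mem_map_of_mem _ (hle (Ideal.subset_span hy))
    rw [hs, top_le_iff] at h1
    have h2 : I ≤ m := fun x hx => (haveI := hm.isPrime; nilradical_le_prime m (mem_nilradical.mpr (hI x hx)))
    have h3 : (m.map (Ideal.Quotient.mk I)).comap (Ideal.Quotient.mk I) = m :=
      comap_map_quot (by assumption)
    rw [h1, Ideal.comap_top] at h3
    exact hm.ne_top h3.symm
  obtain ⟨C, _, _, _, _, hC⟩ := hf _ hfs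
  let L := Localization.Away (Ideal.Quotient.mk I f)
  letI : Algebra (R ⧸ I) C := ((algebraMap L C).comp (algebraMap (R ⧸ I) L)).toAlgebra
  have : IsScalarTower (R ⧸ I) L C := IsScalarTower.of_algebraMap_eq' rfl
  have : Algebra.Etale (R ⧸ I) L := Algebra.Etale.of_isLocalizationAway (Ideal.Quotient.mk I f)
  have : Algebra.Etale (R ⧸ I) C := Algebra.Etale.comp (R ⧸ I) L C
  letI : Algebra R C := ((algebraMap (R ⧸ I) C).comp (Ideal.Quotient.mk I)).toAlgebra
  have : IsScalarTower R (R ⧸ I) C := IsScalarTower.of_algebraMap_eq' rfl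
  obtain ⟨E, _, _, _, φ, hφ, hker⟩ := Hens.exists_etale_lift R I C
  have hfC : IsUnit (algebraMap R C f) := by
    have : algebraMap R C f = algebraMap L C (algebraMap (R ⧸ I) L (Ideal.Quotient.mk I f)) := rfl
    rw [this]
    exact (IsLocalization.Away.algebraMap_isUnit _).map _
  have hnil : ∀ x ∈ RingHom.ker φ, IsNilpotent x := fun x hx =>
    isNilpotent_of_mem_KT hI (mem_KT_iff_mem_map.mpr (hker ▸ hx))
  have hfE : IsUnit (algebraMap R E f) := by
    obtain ⟨c, hc⟩ := isUnit_iff_exists_inv.mp hfC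
    obtain ⟨y, rfl⟩ := hφ c
    have h1 : IsNilpotent (algebraMap R E f * y - 1) := hnil _ (by
      rw [RingHom.mem_ker, map_sub, map_mul, AlgHom.commutes, map_one, hc, sub_self])
    have h2 := h1.isUnit_one_add
    rw [add_sub_cancel] at h2
    exact isUnit_of_mul_isUnit_left h2
  let Rf := Localization.Away f
  letI : Algebra Rf E := (IsLocalization.Away.lift (S := Rf) f hfE).toAlgebra
  have : IsScalarTower R Rf E := IsScalarTower.of_algebraMap_eq fun r =>
    (IsLocalization.Away.lift_eq f _ r).symm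
  have : Algebra.Etale R Rf := Algebra.Etale.of_isLocalizationAway f
  have : Algebra.Etale Rf E := Algebra.Etale.of_restrictScalars R Rf E
  letI : Algebra Rf C := (φ.toRingHom.comp (algebraMap Rf E)).toAlgebra
  have : IsScalarTower R Rf C := IsScalarTower.of_algebraMap_eq fun r => by
    show algebraMap R C r = φ (algebraMap Rf E (algebraMap R Rf r))
    rw [← IsScalarTower.algebraMap_apply, AlgHom.commutes]
  let φ' : E →ₐ[Rf] C := { φ.toRingHom with commutes' := fun _ => rfl }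
  have hI' : ∀ x ∈ I.map (algebraMap R Rf), IsNilpotent x := fun x hx =>
    isNilpotent_of_mem_KT hI (mem_KT_iff_mem_map.mpr hx)
  refine ⟨E, inferInstance, inferInstance, inferInstance,
    faithfullyFlat_of_lift hI' φ' fun p hp => ?_, ?_⟩
  · let p0 := p.asIdeal.comap (algebraMap R Rf)
    have hIp : I ≤ p0 := fun x hx => hp (Ideal.mem_map_of_mem _ hx)
    let p1 : PrimeSpectrum (R ⧸ I) := ⟨p0.map (Ideal.Quotient.mk I),
      Ideal.map_isPrime_of_surjective Ideal.Quotient.mk_surjective (by rwa [Ideal.mk_ker])⟩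
    have hp1 : p1.asIdeal.comap (Ideal.Quotient.mk I) = p0 :=
      comap_map_quot (by assumption)
    obtain ⟨p2, hp2⟩ : p1 ∈ Set.range (PrimeSpectrum.comap (algebraMap (R ⧸ I) L)) := by
      rw [PrimeSpectrum.localization_away_comap_range _ (Ideal.Quotient.mk I f)]
      intro hmem
      have h1 : f ∈ p0 := hp1 ▸ hmem
      exact p.isPrime.ne_top
        (Ideal.eq_top_of_isUnit_mem _ h1 (IsLocalization.Away.algebraMap_isUnit f))
    obtain ⟨q, hq⟩ := PrimeSpectrum.comap_surjective_of_faithfullyFlat (A := L) (B := C) p2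
    refine ⟨q, PrimeSpectrum.localization_comap_injective Rf (Submonoid.powers f)
      (PrimeSpectrum.ext ?_)⟩
    rw [PrimeSpectrum.comap_asIdeal, PrimeSpectrum.comap_asIdeal, Ideal.comap_comap,
      ← IsScalarTower.algebraMap_eq]
    show _ = p0
    rw [← hp1, ← hp2, ← hq]
    rfl
  · refine isDiag_tensor_tensor Rf E ?_
    exact h E C φ hφ hker.le
      (isDiag_of_tensor_tensor (R ⧸ I) C (isDiag_of_tensor_tensor L C hC))

theorem isIsotrivial_of_mod_nil {I : Ideal R} (hI : ∀ x ∈ I, IsNilpotent x)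
    (h : SGA3b.IsMultType R A) (h0 : SGA3b.IsIsotrivial (R ⧸ I) ((R ⧸ I) ⊗[R] A)) :
    SGA3b.IsIsotrivial R A :=
  isIsotrivial_of_diagLifts hI (diagLifts_of_isMultType hI h) h0

theorem isQuasiIsotrivial_of_mod_nil {I : Ideal R} (hI : ∀ x ∈ I, IsNilpotent x)
    (h : SGA3b.IsMultType R A) (h0 : SGA3b.IsQuasiIsotrivial (R ⧸ I) ((R ⧸ I) ⊗[R] A)) :
    SGA3b.IsQuasiIsotrivial R A :=
  isQuasiIsotrivial_of_diagLifts hI (diagLifts_of_isMultType hI h) h0

end Groth.Agent.MultTypeLib
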