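import Groth.Agent.Lib.MultType.FlatLift
import Groth.Agent.Lib.MultType.Isotrivial

/-!
# Flat deformations of groups of multiplicative type along nilpotent ideals
-/

universe u

open TensorProduct

namespace Groth.Agent.MultTypeLib

variable {R : Type u} [CommRing R] {A : Type u} [CommRing A] [HopfAlgebra R A]

theorem isMultType_of_isQuasiIsotrivial (h : SGA3b.IsQuasiIsotrivial R A) :
    SGA3b.IsMultType R A := by
  obtain ⟨s, hs, hf⟩ := h
  refine ⟨s, hs, fun f hfs => ?_⟩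
  obtain ⟨R', _, _, _, hff, hd⟩ := hf f hfs
  exact ⟨R', inferInstance, inferInstance, hff, hd⟩

theorem diagLifts_of_flat [Module.Flat R A] {I : Ideal R} (hI : IsNilpotent I) :
    DiagLifts I A := by
  intro E C _ _ _ _ _ φ hφ hker hC
  let J := RingHom.ker φ
  have hnil : IsNilpotent J := by
    obtain ⟨n, hn⟩ := hI
    refine ⟨n, eq_bot_iff.2 ((Ideal.pow_right_mono hker n).trans ?_)⟩
    rw [← Ideal.map_pow, hn, Ideal.zero_eq_bot, Ideal.map_bot]
  let e : C ≃ₐ[R] E ⧸ J := (Ideal.quotientKerAlgEquivOfSurjective hφ).symm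
  letI : Algebra C (E ⧸ J) := e.toAlgHom.toRingHom.toAlgebra
  have : IsScalarTower R C (E ⧸ J) := IsScalarTower.of_algebraMap_eq fun r => (e.commutes r).symm
  refine isDiag_of_flat_mod_nilpotent hnil ?_
  exact isDiag_tensor_tensor E (E ⧸ J) (isDiag_baseChange C (E ⧸ J) hC)

theorem isQuasiIsotrivial_of_flat [Module.Flat R A] {I : Ideal R} (hI : IsNilpotent I)
    (h0 : SGA3b.IsQuasiIsotrivial (R ⧸ I) ((R ⧸ I) ⊗[R] A)) : SGA3b.IsQuasiIsotrivial R A :=
  isQuasiIsotrivial_of_diagLifts (fun x hx => by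
    obtain ⟨n, hn⟩ := hI
    exact ⟨n, by
      have h := Ideal.pow_mem_pow hx n
      rwa [hn, Ideal.zero_eq_bot, Submodule.mem_bot] at h⟩) (diagLifts_of_flat hI) h0

theorem isIsotrivial_of_flat [Module.Flat R A] {I : Ideal R} (hI : IsNilpotent I)
    (h0 : SGA3b.IsIsotrivial (R ⧸ I) ((R ⧸ I) ⊗[R] A)) : SGA3b.IsIsotrivial R A :=
  isIsotrivial_of_diagLifts (fun x hx => by
    obtain ⟨n, hn⟩ := hI
    exact ⟨n, by
      have h := Ideal.pow_mem_pow hx n
      rwa [hn, Ideal.zero_eq_bot, Submodule.mem_bot] at h⟩) (diagLifts_of_flat hI) h0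

end Groth.Agent.MultTypeLib
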