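import Groth.Agent.Lib.MultType.CoactDesc
import Groth.Agent.Lib.Hens.Finite
import Mathlib.RingTheory.Idempotents

/-!
# Hopf algebras over a finite product of rings
-/

universe u

open TensorProduct HopfAlgebra

set_option backward.isDefEq.respectTransparency false
set_option backward.isDefEq.respectTransparency.types false

namespace Groth.Agent.MultTypeLib

variable {R : Type u} [CommRing R] {ι : Type u} [Fintype ι]

/-- The factor cut out by an idempotent. -/
abbrev Piece (e : ι → R) (j : ι) : Type u := R ⧸ Ideal.span ({1 - e j} : Set R)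

theorem bijective_bcLift_ofId (Q : Type u) [CommRing Q] [Algebra R Q] :
    Function.Bijective (bcLift (R := Q) (Algebra.ofId R Q)) := by
  rw [show bcLift (R := Q) (Algebra.ofId R Q) = (Algebra.TensorProduct.rid R Q Q).toAlgHom from
    comul_algHom_ext fun x => by simp [bcLift_one_tmul, Algebra.algebraMap_eq_smul_one]]
  exact (Algebra.TensorProduct.rid R Q Q).bijective

variable {e : ι → R}

/-- Algebras over a finite product are determined by their factors. -/
theorem bijective_pieces (he : CompleteOrthogonalIdempotents e) {X : Type u} [CommRing X] [Algebra R X]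
    (X' : ι → Type u) [∀ j, CommRing (X' j)] [∀ j, Algebra R (X' j)] [∀ j, Algebra (Piece e j) (X' j)]
    [∀ j, IsScalarTower R (Piece e j) (X' j)] (q : ∀ j, X →ₐ[R] X' j)
    (hq : ∀ j, Function.Bijective (bcLift (R := Piece e j) (q j))) :
    Function.Bijective fun x j => q j x := by
  classical
  have hmul : ∀ j x, q j x = 0 → algebraMap R X (e j) * x = 0 := by
    intro j x hx
    have h1 : (1 : Piece e j) ⊗ₜ[R] x = 0 := (hq j).injective (by rw [bcLift_one_tmul, map_zero, hx])
    have h2 : x ∈ RingHom.ker (Algebra.TensorProduct.includeRight : X →ₐ[R] Piece e j ⊗[R] X) := h1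
    rw [Hens.ker_includeRight_quotient, Ideal.map_span, Set.image_singleton,
      Ideal.mem_span_singleton] at h2
    obtain ⟨y, rfl⟩ := h2
    rw [← mul_assoc, ← map_mul, mul_sub, mul_one, (he.idem j).eq, sub_self, map_zero, zero_mul]
  refine ⟨fun x y hxy => sub_eq_zero.1 ?_, fun z => ?_⟩
  · rw [← one_mul (x - y), ← map_one (algebraMap R X), ← he.complete, map_sum, Finset.sum_mul]
    exact Finset.sum_eq_zero fun j _ => hmul j _ (by rw [map_sub, sub_eq_zero]; exact congrFun hxy j)
  · have hs : ∀ j, ∃ x, q j x = z j := by
      intro j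
      obtain ⟨w, hw⟩ := (hq j).surjective (z j)
      obtain ⟨x, rfl⟩ := Hens.surjective_includeRight_quotient _ X w
      exact ⟨x, (bcLift_one_tmul (q j) x).symm.trans hw⟩
    choose x hx using hs
    refine ⟨∑ k, algebraMap R X (e k) * x k, funext fun j => ?_⟩
    simp only [map_sum, map_mul, AlgHom.commutes]
    have h1 : ∀ k, algebraMap R (X' j) (e k) = if k = j then 1 else 0 := by
      intro k
      rw [IsScalarTower.algebraMap_apply R (Piece e j) (X' j)]
      have hj : algebraMap R (Piece e j) (e j) = 1 :=
        (Ideal.Quotient.eq.2 (Ideal.mem_span_singleton'.2 ⟨-1, by ring⟩)).trans (map_one _)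
      split_ifs with hk
      · rw [hk, hj, map_one]
      · rw [← mul_one (algebraMap R (Piece e j) (e k)), ← hj, ← map_mul, he.ortho hk, map_zero, map_zero]
    simp [h1, hx]

variable (he : CompleteOrthogonalIdempotents e) (A : ι → Type u) [∀ j, CommRing (A j)]
  [∀ j, Algebra R (A j)] [∀ j, HopfAlgebra (Piece e j) (A j)] [∀ j, IsScalarTower R (Piece e j) (A j)]

include he in
theorem bijective_bcLift_eval (j : ι) :
    Function.Bijective (bcLift (R := Piece e j) (Pi.evalAlgHom R A j)) := by
  classical
  refine ⟨fun w w' h => ?_, fun y => ⟨(1 : Piece e j) ⊗ₜ[R] (Pi.single j y : ∀ k, A k), ?_⟩⟩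
  · obtain ⟨x, rfl⟩ := Hens.surjective_includeRight_quotient _ (∀ k, A k) w
    obtain ⟨y, rfl⟩ := Hens.surjective_includeRight_quotient _ (∀ k, A k) w'
    rw [← sub_eq_zero, ← map_sub]
    refine RingHom.mem_ker.1 ((Hens.ker_includeRight_quotient _ (∀ k, A k)).ge ?_)
    rw [Ideal.map_span, Set.image_singleton, Ideal.mem_span_singleton]
    refine ⟨x - y, ?_⟩
    simp only [Algebra.TensorProduct.includeRight_apply, bcLift_one_tmul, Pi.evalAlgHom_apply] at h
    funext k
    simp only [Pi.sub_apply, Pi.mul_apply, map_sub, map_one, Pi.one_apply, Pi.algebraMap_apply]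
    rw [IsScalarTower.algebraMap_apply R (Piece e k) (A k)]
    rcases eq_or_ne k j with rfl | hk
    · rw [h, sub_self, mul_zero]
    · have hk1 : algebraMap R (Piece e k) (e k) = 1 :=
        (Ideal.Quotient.eq.2 (Ideal.mem_span_singleton'.2 ⟨-1, by ring⟩)).trans (map_one _)
      rw [← mul_one (algebraMap R (Piece e k) (e j)), ← hk1, ← map_mul, he.ortho hk.symm, map_zero,
        map_zero, sub_zero, one_mul]
  · rw [bcLift_one_tmul]
    simp

include he in
/-- A family of Hopf algebras over the factors makes one over the product. -/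
theorem exists_prod_hopf :
    ∃ (P : Type u) (_ : CommRing P) (_ : HopfAlgebra R P),
      ∀ j, Nonempty (Piece e j ⊗[R] P ≃ₐc[Piece e j] A j) := by
  classical
  let P := ∀ j, A j
  let p : ∀ j, P →ₐ[R] A j := fun j => Pi.evalAlgHom R A j
  have hp : ∀ j, Function.Bijective (bcLift (R := Piece e j) (p j)) := bijective_bcLift_eval he A
  have hp₂ := fun j => bijective_pairMap (R := Piece e j) (p j) (p j) (hp j) (hp j)
  have hp₃ := fun j => bijective_pairMap (R := Piece e j) (p j)
    (pairMap (R := Piece e j) (p j) (p j)) (hp j) (hp₂ j)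
  have hp₀ : ∀ j, Function.Bijective (bcLift (R := Piece e j) (Algebra.ofId R (Piece e j))) := fun j =>
    bijective_bcLift_ofId (Piece e j)
  have J := bijective_pieces he A p hp
  have J₂ := bijective_pieces he (fun j => A j ⊗[Piece e j] A j) _ hp₂
  have J₃ := bijective_pieces he (fun j => A j ⊗[Piece e j] (A j ⊗[Piece e j] A j)) _ hp₃
  have J₀ := bijective_pieces he (fun j => Piece e j) (fun j => Algebra.ofId R (Piece e j)) hp₀
  have hΔ : ∀ a, ∃ w, ∀ j, pairMap (R := Piece e j) (p j) (p j) w =
      Bialgebra.comulAlgHom (Piece e j) (A j) (p j a) := fun a =>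
    (J₂.surjective _).imp fun w hw j => congrFun hw j
  have hε : ∀ a, ∃ r, ∀ j, algebraMap R (Piece e j) r =
      Bialgebra.counitAlgHom (Piece e j) (A j) (p j a) := fun a =>
    (J₀.surjective _).imp fun w hw j => congrFun hw j
  have hσ : ∀ a, ∃ b, ∀ j, p j b = antipodeAlgHom (Piece e j) (A j) (p j a) := fun a =>
    (J.surjective _).imp fun w hw j => congrFun hw j
  choose dfun hdfun using hΔ
  choose efun hefun using hε
  choose sfun hsfun using hσ
  let Δ : P →ₐ[R] P ⊗[R] P :=
    { toFun := dfun
      map_one' := J₂.injective (funext fun j => by simp only [hdfun, map_one])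
      map_mul' := fun x y => J₂.injective (funext fun j => by simp only [hdfun, map_mul])
      map_zero' := J₂.injective (funext fun j => by simp only [hdfun, map_zero])
      map_add' := fun x y => J₂.injective (funext fun j => by simp only [hdfun, map_add])
      commutes' := fun r => J₂.injective (funext fun j => by
        simp only [hdfun, AlgHom.commutes]
        rw [IsScalarTower.algebraMap_apply R (Piece e j) (A j), AlgHom.commutes,
          ← IsScalarTower.algebraMap_apply]) }
  let ε : P →ₐ[R] R :=
    { toFun := efun
      map_one' := J₀.injective (funext fun j => by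
        simp only [Algebra.ofId_apply, hefun, map_one])
      map_mul' := fun x y => J₀.injective (funext fun j => by
        simp only [Algebra.ofId_apply, hefun, map_mul])
      map_zero' := J₀.injective (funext fun j => by simp only [Algebra.ofId_apply, hefun, map_zero])
      map_add' := fun x y => J₀.injective (funext fun j => by
        simp only [Algebra.ofId_apply, hefun, map_add])
      commutes' := fun r => J₀.injective (funext fun j => by
        simp only [Algebra.ofId_apply, hefun, AlgHom.commutes]
        rw [IsScalarTower.algebraMap_apply R (Piece e j) (A j), AlgHom.commutes]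
        rfl) }
  let σ : P →ₐ[R] P :=
    { toFun := sfun
      map_one' := J.injective (funext fun j => by simp only [hsfun, map_one])
      map_mul' := fun x y => J.injective (funext fun j => by simp only [hsfun, map_mul])
      map_zero' := J.injective (funext fun j => by simp only [hsfun, map_zero])
      map_add' := fun x y => J.injective (funext fun j => by simp only [hsfun, map_add])
      commutes' := fun r => J.injective (funext fun j => by
        simp only [hsfun, AlgHom.commutes]
        rw [IsScalarTower.algebraMap_apply R (Piece e j) (A j), AlgHom.commutes]) }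
  have hd : ∀ j, DataHom Δ ε σ (Bialgebra.comulAlgHom (Piece e j) (A j))
      (Bialgebra.counitAlgHom (Piece e j) (A j)) (antipodeAlgHom (Piece e j) (A j)) (p j) :=
    fun j => ⟨fun a => hdfun a j, fun a => hefun a j, fun a => hsfun a j⟩
  have a1 : coassocL Δ = coassocR Δ := AlgHom.ext fun c => J₃.injective (funext fun j => by
    rw [(hd j).coassocL_map, (hd j).coassocR_map]
    exact Coalgebra.coassoc_apply (p j c))
  have a2 : counitL Δ ε = AlgHom.id R P := AlgHom.ext fun c => J.injective (funext fun j => by
    rw [(hd j).counitL_map]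
    have e1 : ∀ z : A j ⊗[Piece e j] A j,
        Algebra.TensorProduct.map (Bialgebra.counitAlgHom (Piece e j) (A j)) (AlgHom.id (Piece e j) (A j)) z =
        (Coalgebra.counit (R := Piece e j)).rTensor (A j) z := by
      intro z
      induction z using TensorProduct.induction_on with
      | zero => simp
      | add a b ha hb => simp only [map_add, ha, hb]
      | tmul a b => simp
    show Algebra.TensorProduct.lid (Piece e j) (A j)
      (Algebra.TensorProduct.map (Bialgebra.counitAlgHom (Piece e j) (A j))
      (AlgHom.id (Piece e j) (A j)) (Coalgebra.comul (R := Piece e j) (p j c))) = p j c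
    rw [e1, Coalgebra.rTensor_counit_comul]
    simp)
  have a3 : counitR Δ ε = AlgHom.id R P := AlgHom.ext fun c => J.injective (funext fun j => by
    rw [(hd j).counitR_map]
    have e2 : ∀ z : A j ⊗[Piece e j] A j,
        Algebra.TensorProduct.map (AlgHom.id (Piece e j) (A j)) (Bialgebra.counitAlgHom (Piece e j) (A j)) z =
        (Coalgebra.counit (R := Piece e j)).lTensor (A j) z := by
      intro z
      induction z using TensorProduct.induction_on with
      | zero => simp
      | add a b ha hb => simp only [map_add, ha, hb]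
      | tmul a b => simp
    show Algebra.TensorProduct.rid (Piece e j) (Piece e j) (A j)
      (Algebra.TensorProduct.map (AlgHom.id (Piece e j) (A j)) (Bialgebra.counitAlgHom (Piece e j) (A j))
      (Coalgebra.comul (R := Piece e j) (p j c))) = p j c
    rw [e2, Coalgebra.lTensor_counit_comul]
    simp)
  have a4 : antiL Δ σ = (Algebra.ofId R P).comp ε := AlgHom.ext fun c => J.injective (funext fun j => by
    rw [(hd j).antiL_map, AlgHom.comp_apply, Algebra.ofId_apply, (hd j).counit_algebraMap_map]
    have e3 : ∀ z : A j ⊗[Piece e j] A j, Algebra.TensorProduct.lift (antipodeAlgHom (Piece e j) (A j))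
        (AlgHom.id (Piece e j) (A j)) (fun _ _ => Commute.all _ _) z =
        LinearMap.mul' _ (A j) ((antipode (Piece e j)).rTensor (A j) z) := by
      intro z
      induction z using TensorProduct.induction_on with
      | zero => simp
      | add a b ha hb => simp only [map_add, ha, hb]
      | tmul a b => simp
    show Algebra.TensorProduct.lift (antipodeAlgHom (Piece e j) (A j)) (AlgHom.id (Piece e j) (A j))
      (fun _ _ => Commute.all _ _) (Coalgebra.comul (R := Piece e j) (p j c)) = _
    rw [e3, mul_antipode_rTensor_comul_apply]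
    rfl)
  have a5 : antiR Δ σ = (Algebra.ofId R P).comp ε := AlgHom.ext fun c => J.injective (funext fun j => by
    rw [(hd j).antiR_map, AlgHom.comp_apply, Algebra.ofId_apply, (hd j).counit_algebraMap_map]
    have e4 : ∀ z : A j ⊗[Piece e j] A j, Algebra.TensorProduct.lift (AlgHom.id (Piece e j) (A j))
        (antipodeAlgHom (Piece e j) (A j)) (fun _ _ => Commute.all _ _) z =
        LinearMap.mul' _ (A j) ((antipode (Piece e j)).lTensor (A j) z) := by
      intro z
      induction z using TensorProduct.induction_on with
      | zero => simp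
      | add a b ha hb => simp only [map_add, ha, hb]
      | tmul a b => simp
    show Algebra.TensorProduct.lift (AlgHom.id (Piece e j) (A j)) (antipodeAlgHom (Piece e j) (A j))
      (fun _ _ => Commute.all _ _) (Coalgebra.comul (R := Piece e j) (p j c)) = _
    rw [e4, mul_antipode_lTensor_comul_apply]
    rfl)
  letI bi : Bialgebra R P := Bialgebra.ofAlgHom Δ ε a1
    (AlgHom.ext fun x => (Algebra.TensorProduct.lid R P).injective
      ((AlgHom.congr_fun a2 x).trans ((Algebra.TensorProduct.lid R P).apply_symm_apply x).symm))
    (AlgHom.ext fun x => (Algebra.TensorProduct.rid R R P).injective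
      ((AlgHom.congr_fun a3 x).trans ((Algebra.TensorProduct.rid R R P).apply_symm_apply x).symm))
  letI hopf : HopfAlgebra R P := HopfAlgebra.ofAlgHom σ a4 a5
  refine ⟨P, inferInstance, hopf, fun j => ⟨BialgEquiv.ofAlgEquiv (AlgEquiv.ofBijective (bcLift (R := Piece e j) (p j)) (hp j))
    ?_ ?_⟩⟩
  · refine comul_algHom_ext fun x => ?_
    show Coalgebra.counit (R := Piece e j) (bcLift (R := Piece e j) (p j) ((1 : Piece e j) ⊗ₜ[R] x)) =
      Coalgebra.counit (R := Piece e j) ((1 : Piece e j) ⊗ₜ[R] x)
    rw [bcLift_one_tmul, TensorProduct.counit_tmul]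
    simp only [Bialgebra.counit_one, one_smul]
    show _ = ε x • (1 : Piece e j)
    rw [← Algebra.algebraMap_eq_smul_one]
    exact (hefun x j).symm
  · refine comul_algHom_ext fun x => ?_
    show Algebra.TensorProduct.map (bcLift (R := Piece e j) (p j)) (bcLift (R := Piece e j) (p j))
      (Coalgebra.comul (R := Piece e j) ((1 : Piece e j) ⊗ₜ[R] x)) =
      Coalgebra.comul (R := Piece e j) (bcLift (R := Piece e j) (p j) ((1 : Piece e j) ⊗ₜ[R] x))
    rw [bcLift_one_tmul, show Coalgebra.comul (R := Piece e j) (p j x) =
      pairMap (R := Piece e j) (p j) (p j) (Δ x) from (hdfun x j).symm, comul_one_tmul]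
    show Algebra.TensorProduct.map (bcLift (R := Piece e j) (p j)) (bcLift (R := Piece e j) (p j))
      (inclTwo (Piece e j) (Δ x)) = pairMap (R := Piece e j) (p j) (p j) (Δ x)
    induction Δ x using TensorProduct.induction_on with
    | zero => simp
    | add a b ha hb => simp only [map_add, ha, hb]
    | tmul a b => simp [inclTwo_tmul, pairMap_tmul, bcLift_one_tmul]

include he in
omit [∀ j, Algebra R (A j)] [∀ j, IsScalarTower R (Piece e j) (A j)] in
/-- Isomorphisms of Hopf algebras glue along a finite product decomposition of the base. -/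
theorem exists_bialgEquiv_of_pieces {X Y : Type u} [CommRing X] [HopfAlgebra R X] [CommRing Y]
    [HopfAlgebra R Y] (eX : ∀ j, Piece e j ⊗[R] X ≃ₐc[Piece e j] A j)
    (eY : ∀ j, Piece e j ⊗[R] Y ≃ₐc[Piece e j] A j) : Nonempty (X ≃ₐc[R] Y) := by
  classical
  let iY : ∀ j, Y →ₐ[R] Piece e j ⊗[R] Y := fun j => Algebra.TensorProduct.includeRight
  let f : ∀ j, X →ₐ[R] Piece e j ⊗[R] Y := fun j =>
    (((eX j).trans (eY j).symm : Piece e j ⊗[R] X ≃ₐ[Piece e j] Piece e j ⊗[R] Y).toAlgHom.restrictScalars R).comp
      Algebra.TensorProduct.includeRight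
  have hY : ∀ j, Function.Bijective (bcLift (R := Piece e j) (iY j)) := by
    intro j
    rw [show bcLift (R := Piece e j) (iY j) = AlgHom.id _ _ from
      Algebra.TensorProduct.ext (by ext) (AlgHom.ext fun y => bcLift_one_tmul (iY j) y)]
    exact Function.bijective_id
  have hX : ∀ j, Function.Bijective (bcLift (R := Piece e j) (f j)) := by
    intro j
    rw [show bcLift (R := Piece e j) (f j) =
      ((eX j).trans (eY j).symm : Piece e j ⊗[R] X ≃ₐ[Piece e j] Piece e j ⊗[R] Y).toAlgHom from
      Algebra.TensorProduct.ext (by ext) (AlgHom.ext fun y => bcLift_one_tmul (f j) y)]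
    exact ((eX j).trans (eY j).symm).bijective
  have JY := bijective_pieces he (fun j => Piece e j ⊗[R] Y) iY hY
  have JX := bijective_pieces he (fun j => Piece e j ⊗[R] Y) f hX
  have JY₂ := bijective_pieces he
    (fun j => (Piece e j ⊗[R] Y) ⊗[Piece e j] (Piece e j ⊗[R] Y)) _
    (fun j => bijective_pairMap (R := Piece e j) (iY j) (iY j) (hY j) (hY j))
  have hex : ∀ x, ∃ y, ∀ j, iY j y = f j x := fun x =>
    (JY.surjective _).imp fun y hy j => congrFun hy j
  choose φ₀ hφ₀ using hex
  let Φ : X →ₐ[R] Y :=
    { toFun := φ₀
      map_one' := JY.injective (funext fun j => by simp only [hφ₀, map_one])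
      map_mul' := fun x y => JY.injective (funext fun j => by simp only [hφ₀, map_mul])
      map_zero' := JY.injective (funext fun j => by simp only [hφ₀, map_zero])
      map_add' := fun x y => JY.injective (funext fun j => by simp only [hφ₀, map_add])
      commutes' := fun r => JY.injective (funext fun j => by simp only [hφ₀, AlgHom.commutes]) }
  have hΦ : ∀ j x, (1 : Piece e j) ⊗ₜ[R] Φ x = ((eX j).trans (eY j).symm) ((1 : Piece e j) ⊗ₜ[R] x) :=
    fun j x => hφ₀ x j
  have hbij : Function.Bijective Φ := by
    refine ⟨fun x x' h => JX.injective (funext fun j => ?_), fun y => ?_⟩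
    · show f j x = f j x'
      rw [← hφ₀, ← hφ₀]
      exact congrArg (iY j) h
    · obtain ⟨x, hx⟩ := JX.surjective fun j => iY j y
      exact ⟨x, JY.injective (funext fun j => (hφ₀ x j).trans (congrFun hx j))⟩
  refine ⟨BialgEquiv.ofAlgEquiv (AlgEquiv.ofBijective Φ hbij) ?_ ?_⟩
  · refine AlgHom.ext fun x => ?_
    refine (bijective_pieces he (fun j => Piece e j) (fun j => Algebra.ofId R (Piece e j))
      fun j => ?_).injective (funext fun j => ?_)
    · exact bijective_bcLift_ofId (Piece e j)
    have h1 := CoalgHomClass.counit_comp_apply ((eX j).trans (eY j).symm) ((1 : Piece e j) ⊗ₜ[R] x)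
    rw [← hΦ] at h1
    simp only [Algebra.ofId_apply, Algebra.algebraMap_eq_smul_one]
    simpa using h1
  · refine AlgHom.ext fun x => JY₂.injective (funext fun j => ?_)
    have h1 := CoalgHomClass.map_comp_comul_apply ((eX j).trans (eY j).symm) ((1 : Piece e j) ⊗ₜ[R] x)
    rw [← hΦ, comul_one_tmul, comul_one_tmul] at h1
    have hl : ∀ w : Y ⊗[R] Y, pairMap (R := Piece e j) (iY j) (iY j) w = inclTwo (Piece e j) w := by
      intro w
      induction w using TensorProduct.induction_on with
      | zero => simp
      | add a b ha hb => simp only [map_add, ha, hb]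
      | tmul a b => simp [pairMap_tmul, inclTwo_tmul, iY]
    have hr : ∀ w : X ⊗[R] X, pairMap (R := Piece e j) (iY j) (iY j) (Algebra.TensorProduct.map Φ Φ w) =
        TensorProduct.map ((eX j).trans (eY j).symm : _ →ₗ[Piece e j] _)
          ((eX j).trans (eY j).symm : _ →ₗ[Piece e j] _) (inclTwo (Piece e j) w) := by
      intro w
      induction w using TensorProduct.induction_on with
      | zero => simp
      | add a b ha hb => simp only [map_add, ha, hb]
      | tmul a b => simp [pairMap_tmul, inclTwo_tmul, iY, hΦ]
    show pairMap (R := Piece e j) (iY j) (iY j) (Algebra.TensorProduct.map Φ Φ (Coalgebra.comul (R := R) x)) =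
      pairMap (R := Piece e j) (iY j) (iY j) (Coalgebra.comul (R := R) (Φ x))
    rw [hr, hl]
    exact h1

end Groth.Agent.MultTypeLib
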