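import Groth.Agent.Lib.MultType.Base
import Mathlib.RingTheory.Etale.Basic
import Mathlib.RingTheory.RingHom.Etale

/-!
# Transport along isomorphisms of base rings
-/

universe u

open TensorProduct

namespace Groth.Agent.MultTypeLib

theorem isQuasiIsotrivial_transport {A : Type u} [CommRing A] {C : Type u} [CommRing C]
    [HopfAlgebra A C] {Q : Type u} [CommRing Q] [Algebra A Q] {S S' : Type u} [CommRing S]
    [CommRing S'] [Algebra A S] [Algebra A S'] [Algebra S S'] [IsScalarTower A S S']
    [Algebra Q S'] [IsScalarTower A Q S'] (hbij : Function.Bijective (algebraMap S S'))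
    (h : SGA3b.IsQuasiIsotrivial S (S ⊗[A] C)) :
    SGA3b.IsQuasiIsotrivial S' (S' ⊗[Q] (Q ⊗[A] C)) := by
  obtain ⟨s, hs, hf⟩ := h
  refine ⟨algebraMap S S' '' s, by rw [← Ideal.map_span, hs, Ideal.map_top], ?_⟩
  rintro g ⟨f, hfs, rfl⟩
  obtain ⟨T, _, _, _, hff, hd⟩ := hf f hfs
  let g := algebraMap S S' f
  let L := Localization.Away f
  let L' := Localization.Away g
  have hu : IsUnit (algebraMap S L' f) := by
    rw [IsScalarTower.algebraMap_apply S S' L']
    exact IsLocalization.Away.algebraMap_isUnit _
  let φ : L →+* L' := IsLocalization.Away.lift (S := L) f hu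
  let e : S ≃+* S' := RingEquiv.ofBijective _ hbij
  have hφ : Function.Bijective φ := by
    have hmap : (Submonoid.powers f).map e.toMonoidHom = Submonoid.powers g := by
      rw [Submonoid.map_powers]; rfl
    let E : L ≃+* L' := IsLocalization.ringEquivOfRingEquiv L L' e hmap
    have : φ = (E : L →+* L') := by
      refine IsLocalization.ringHom_ext (Submonoid.powers f) (RingHom.ext fun x => ?_)
      simp [φ, E, e, IsLocalization.Away.lift_eq, IsScalarTower.algebraMap_apply S S' L']
    rw [this]
    exact E.bijective
  let E' : L ≃+* L' := RingEquiv.ofBijective φ hφ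
  letI : Algebra L' T := ((algebraMap L T).comp E'.symm.toRingHom).toAlgebra
  letI : Algebra L L' := φ.toAlgebra
  haveI : IsScalarTower L L' T := IsScalarTower.of_algebraMap_eq fun x => by
    show algebraMap L T x = algebraMap L T (E'.symm (φ x))
    rw [show E'.symm (φ x) = x from E'.symm_apply_apply x]
  haveI : IsScalarTower S L L' := IsScalarTower.of_algebraMap_eq fun x =>
    (IsLocalization.Away.lift_eq f hu x).symm
  haveI : Algebra.Etale L' T := by
    rw [← RingHom.etale_algebraMap]
    exact RingHom.Etale.stableUnderComposition _ _ (RingHom.Etale.of_bijective E'.symm.bijective)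
      (RingHom.etale_algebraMap.2 inferInstance)
  haveI : Module.FaithfullyFlat L' T := by
    rw [← RingHom.faithfullyFlat_algebraMap_iff]
    exact RingHom.FaithfullyFlat.stableUnderComposition _ _
      (RingHom.FaithfullyFlat.of_bijective E'.symm.bijective)
      (RingHom.faithfullyFlat_algebraMap_iff.2 hff)
  letI : Algebra A T := ((algebraMap L T).comp (algebraMap A L)).toAlgebra
  haveI : IsScalarTower A L T := IsScalarTower.of_algebraMap_eq' rfl
  haveI : IsScalarTower A L L' := IsScalarTower.of_algebraMap_eq fun x => by
    rw [IsScalarTower.algebraMap_apply A S L, ← IsScalarTower.algebraMap_apply S L L',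
      IsScalarTower.algebraMap_apply A S' L', IsScalarTower.algebraMap_apply A S S',
      ← IsScalarTower.algebraMap_apply S S' L']
  haveI : IsScalarTower A L' T := IsScalarTower.of_algebraMap_eq fun x => by
    rw [IsScalarTower.algebraMap_apply A L L', ← IsScalarTower.algebraMap_apply L L' T]
    rfl
  letI : Algebra S' T := ((algebraMap L' T).comp (algebraMap S' L')).toAlgebra
  haveI : IsScalarTower S' L' T := IsScalarTower.of_algebraMap_eq' rfl
  letI : Algebra S T := ((algebraMap L T).comp (algebraMap S L)).toAlgebra
  haveI : IsScalarTower S L T := IsScalarTower.of_algebraMap_eq' rfl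
  haveI : IsScalarTower A S T := IsScalarTower.of_algebraMap_eq fun x => by
    show algebraMap L T (algebraMap A L x) = algebraMap L T (algebraMap S L (algebraMap A S x))
    rw [← IsScalarTower.algebraMap_apply A S L]
  haveI : IsScalarTower A S' T := IsScalarTower.of_algebraMap_eq fun x => by
    show _ = algebraMap L' T (algebraMap S' L' (algebraMap A S' x))
    rw [← IsScalarTower.algebraMap_apply A S' L', ← IsScalarTower.algebraMap_apply A L' T]
  letI : Algebra Q T := ((algebraMap S' T).comp (algebraMap Q S')).toAlgebra
  haveI : IsScalarTower Q S' T := IsScalarTower.of_algebraMap_eq' rfl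
  haveI : IsScalarTower A Q T := IsScalarTower.of_algebraMap_eq fun x => by
    show _ = algebraMap S' T (algebraMap Q S' (algebraMap A Q x))
    rw [← IsScalarTower.algebraMap_apply A Q S', ← IsScalarTower.algebraMap_apply A S' T]
  exact ⟨T, inferInstance, inferInstance, inferInstance, inferInstance,
    isDiag_tensor_tensor L' T (isDiag_tensor_tensor S' T (isDiag_tensor_tensor Q T
      (isDiag_of_tensor_tensor S T (isDiag_of_tensor_tensor L T hd))))⟩

end Groth.Agent.MultTypeLib
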