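import Groth.Agent.Lib.MultType.TwistApps
import Groth.Agent.Lib.MultType.ProdHopf
import Groth.Agent.Lib.MultType.Family
import Groth.Agent.Lib.MultType.Isotrivial
import Groth.Agent.Lib.MultType.Transport

/-!
# Lifting quasi-isotrivial groups along nil ideals
-/

universe u

open TensorProduct HopfAlgebra

set_option backward.isDefEq.respectTransparency false
set_option backward.isDefEq.respectTransparency.types false

namespace Groth.Agent.MultTypeLib

/-- Products of maps with nil kernels have nil kernels. -/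
theorem nil_pairMap {Q W : Type u} [CommRing Q] [CommRing W] [Algebra Q W]
    (hW : Function.Surjective (algebraMap Q W)) {X Y C D : Type u} [CommRing X] [Algebra Q X] [CommRing Y]
    [Algebra Q Y] [CommRing C] [Algebra W C] [Algebra Q C] [IsScalarTower Q W C] [CommRing D]
    [Algebra W D] [Algebra Q D] [IsScalarTower Q W D] (f : X →ₐ[Q] C) (g : Y →ₐ[Q] D)
    (hf : Function.Surjective f) (hg : Function.Surjective g)
    (hfn : ∀ x ∈ RingHom.ker f, IsNilpotent x) (hgn : ∀ x ∈ RingHom.ker g, IsNilpotent x) :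
    Function.Surjective (pairMap (R := W) f g) ∧
      ∀ x ∈ RingHom.ker (pairMap (R := W) f g), IsNilpotent x := by
  haveI : TensorProduct.CompatibleSMul Q W C D := TensorProduct.CompatibleSMul.of_algebraMap_surjective C D hW
  let e : C ⊗[W] D ≃ₐ[Q] C ⊗[Q] D := Algebra.TensorProduct.equivOfCompatibleSMul Q W Q C D
  have key : ∀ z, e (pairMap (R := W) f g z) = Algebra.TensorProduct.map f g z := by
    intro z
    induction z using TensorProduct.induction_on with
    | zero => simp
    | add a b ha hb => simp only [map_add, ha, hb]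
    | tmul a b => simp [pairMap_tmul, e]; rfl
  refine ⟨fun w => ?_, fun x hx => ?_⟩
  · obtain ⟨z, hz⟩ := TensorProduct.map_surjective (g := f.toLinearMap) (g' := g.toLinearMap) hf hg (e w)
    exact ⟨z, e.injective ((key z).trans hz)⟩
  · have hx' : x ∈ RingHom.ker (Algebra.TensorProduct.map f g) := by
      rw [RingHom.mem_ker, ← key, RingHom.mem_ker.1 hx, map_zero]
    rw [Algebra.TensorProduct.map_ker f g hf hg] at hx'
    refine mem_nilradical.1 (?_ : x ∈ nilradical (X ⊗[Q] Y))
    refine (sup_le ?_ ?_ : _ ≤ nilradical (X ⊗[Q] Y)) hx'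
    · exact Ideal.map_le_iff_le_comap.2 fun a ha =>
        mem_nilradical.2 ((hfn a ha).map (Algebra.TensorProduct.includeLeft : X →ₐ[Q] X ⊗[Q] Y))
    · exact Ideal.map_le_iff_le_comap.2 fun a ha =>
        mem_nilradical.2 ((hgn a ha).map (Algebra.TensorProduct.includeRight : Y →ₐ[Q] X ⊗[Q] Y))

set_option maxHeartbeats 1000000 in
/-- Quasi-isotrivial groups of constant type lift along nil ideals. -/
theorem exists_nil_lift_const {Q W : Type u} [CommRing Q] [CommRing W] [Algebra Q W]
    (hW : Function.Surjective (algebraMap Q W)) (hn : ∀ x ∈ RingHom.ker (algebraMap Q W), IsNilpotent x)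
    {T : Type u} [CommRing T] [Algebra W T] [Algebra.Etale W T] [Module.FaithfullyFlat W T]
    {A₀ : Type u} [CommRing A₀] [HopfAlgebra W A₀] (hd : SGA3b.IsDiag T (T ⊗[W] A₀)) :
    ∃ (E : Type u) (_ : CommRing E) (_ : Algebra Q E) (A : Type u) (_ : CommRing A) (_ : HopfAlgebra Q A),
      Algebra.Etale Q E ∧ Module.FaithfullyFlat Q E ∧ SGA3b.IsDiag E (E ⊗[Q] A) ∧
        Nonempty (W ⊗[Q] A ≃ₐc[W] A₀) := by
  obtain ⟨M, _, ⟨e₀⟩⟩ := hd
  let J := RingHom.ker (algebraMap Q W)
  let j : Q ⧸ J ≃+* W := RingHom.quotientKerEquivOfSurjective hW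
  letI : Algebra Q T := ((algebraMap W T).comp (algebraMap Q W)).toAlgebra
  haveI : IsScalarTower Q W T := IsScalarTower.of_algebraMap_eq' rfl
  letI : Algebra (Q ⧸ J) T := ((algebraMap W T).comp j.toRingHom).toAlgebra
  haveI : IsScalarTower Q (Q ⧸ J) T := IsScalarTower.of_algebraMap_eq fun x => by
    show _ = algebraMap W T (j (Ideal.Quotient.mk J x))
    rfl
  haveI : Algebra.Etale (Q ⧸ J) T := by
    rw [← RingHom.etale_algebraMap]
    exact RingHom.Etale.stableUnderComposition _ _ (RingHom.Etale.of_bijective j.bijective)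
      (RingHom.etale_algebraMap.2 inferInstance)
  obtain ⟨E, _, _, _, φ, hφ, hker⟩ := Hens.exists_etale_lift Q J T
  have hφn : ∀ x ∈ RingHom.ker φ, IsNilpotent x := fun x hx => by
    have hle : J.map (algebraMap Q E) ≤ nilradical E :=
      Ideal.map_le_iff_le_comap.2 fun a ha => mem_nilradical.2 ((hn a ha).map (algebraMap Q E))
    exact mem_nilradical.1 (hle (hker ▸ hx))
  haveI : Module.FaithfullyFlat Q E := faithfullyFlat_of_lift (I := J) hn φ fun p hp => by
    let p' : Ideal (Q ⧸ J) := p.asIdeal.map (Ideal.Quotient.mk J)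
    haveI hp' : p'.IsPrime := Ideal.map_isPrime_of_surjective Ideal.Quotient.mk_surjective (by rwa [Ideal.mk_ker])
    let pW : PrimeSpectrum W := PrimeSpectrum.comap j.symm.toRingHom ⟨p', hp'⟩
    obtain ⟨q, hq⟩ := PrimeSpectrum.comap_surjective_of_faithfullyFlat (A := W) (B := T) pW
    refine ⟨q, ?_⟩
    rw [IsScalarTower.algebraMap_eq Q W T, PrimeSpectrum.comap_comp_apply, hq]
    refine PrimeSpectrum.ext (Ideal.ext fun x => ?_)
    have h1 : (p.asIdeal.map (Ideal.Quotient.mk J)).comap (Ideal.Quotient.mk J) = p.asIdeal :=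
      comap_map_quot hp
    conv_rhs => rw [← h1]
    show j.symm (algebraMap Q W x) ∈ p' ↔ Ideal.Quotient.mk J x ∈ p'
    rw [show j.symm (algebraMap Q W x) = Ideal.Quotient.mk J x from j.injective (j.apply_symm_apply _)]
  obtain ⟨h₂s, h₂n⟩ := nil_pairMap hW φ φ hφ hφ hφn hφn
  obtain ⟨h₃s, h₃n⟩ := nil_pairMap hW φ (pairMap (R := W) φ φ) hφ h₂s hφn h₂n
  obtain ⟨A, _, _, hA, he⟩ := exists_twisted_lift (W := W) φ (idemBij_of_nil _ hφ hφn)
    (idemBij_of_nil _ h₂s h₂n) (idemBij_of_nil _ h₃s h₃n) e₀
  exact ⟨E, inferInstance, inferInstance, A, inferInstance, inferInstance, inferInstance, inferInstance, hA,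
    he⟩

variable {R : Type u} [CommRing R]

theorem span_one_sub_le_ker {κ : Type u} {e : κ → R} {S : Type u} [CommRing S] [Algebra R S] (c : κ)
    (h : algebraMap R S (e c) = 1) : ∀ x ∈ Ideal.span ({1 - e c} : Set R), algebraMap R S x = 0 := by
  intro x hx
  obtain ⟨y, rfl⟩ := Ideal.mem_span_singleton'.1 hx
  rw [map_mul, map_sub, h, map_one, sub_self, mul_zero]

/-- The types of a family of diagonalisations give a decomposition of the base. -/
theorem exists_type_idempotents {W : Type u} [CommRing W] {A₀ : Type u} [CommRing A₀] [HopfAlgebra W A₀]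
    {ι : Type u} [Finite ι] (T : ι → Type u) [∀ i, CommRing (T i)] [∀ i, Algebra W (T i)]
    [Module.FaithfullyFlat W (Π i, T i)] (M : ι → Type u) [∀ i, CommGroup (M i)]
    (d : ∀ i, T i ⊗[W] A₀ ≃ₐc[T i] MonoidAlgebra (T i) (M i)) :
    ∃ (κ : Type u) (_ : Fintype κ) (cls : ι → κ) (e : κ → W), CompleteOrthogonalIdempotents e ∧
      (∀ k, algebraMap W (T k) (e (cls k)) = 1) ∧
      (∀ k c, cls k ≠ c → algebraMap W (T k) (e c) = 0) ∧
      ∀ c, ∃ i, ∀ k, cls k = c → Nonempty (M k ≃* M i) := by
  classical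
  have := Fintype.ofFinite ι
  let P := Π i, T i
  let S : Setoid ι := ⟨fun i k => Nonempty (M i ≃* M k), ⟨fun _ => ⟨MulEquiv.refl _⟩,
    fun ⟨a⟩ => ⟨a.symm⟩, fun ⟨a⟩ ⟨b⟩ => ⟨a.trans b⟩⟩⟩
  let cls : ι → Quotient S := fun i => Quotient.mk S i
  have hidem : ∀ c : Quotient S, ∃ e : W, ∀ k, algebraMap W (T k) e = if cls k = c then 1 else 0 := by
    intro c
    let u : P := fun k => if cls k = c then 1 else 0
    obtain ⟨e, he'⟩ := exists_one_tmul_of_descent (B := W) (R' := P) (u ⊗ₜ[W] (1 : W)) (by
      simp only [Algebra.TensorProduct.map_tmul, Algebra.TensorProduct.includeLeft_apply,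
        Algebra.TensorProduct.includeRight_apply, AlgHom.id_apply]
      congr 1
      refine pi_tensor_ext fun k => ?_
      simp only [LinearMap.rTensor_tmul, LinearMap.proj_apply, Pi.one_apply]
      refine (TensorProduct.comm W (T k) P).injective ?_
      refine pi_tensor_ext fun l => ?_
      rcases subsingleton_or_nontrivial (T k ⊗[W] T l) with h | h
      · exact (TensorProduct.comm W (T l) (T k)).injective (Subsingleton.elim _ _)
      · obtain ⟨b⟩ := nonempty_mulEquiv_of_nontrivial (d k) (d l)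
        have : cls k = cls l := Quotient.sound (show Nonempty (M k ≃* M l) from ⟨b⟩)
        show (1 : T l) ⊗ₜ[W] (if cls k = c then (1 : T k) else 0) =
          (if cls l = c then (1 : T l) else 0) ⊗ₜ[W] (1 : T k)
        simp only [this]
        split_ifs <;> simp)
    refine ⟨e, fun k => ?_⟩
    have h1 := congrArg (TensorProduct.rid W P) he'
    simp only [TensorProduct.rid_tmul] at h1
    rw [← Algebra.algebraMap_eq_smul_one, one_smul] at h1
    exact congrFun h1 k
  choose e he using hidem
  have inj : Function.Injective (algebraMap W P) := FaithfulSMul.algebraMap_injective W P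
  refine ⟨Quotient S, inferInstance, cls, e, ⟨⟨fun c => inj (funext fun k => ?_),
    fun c c' hcc' => inj (funext fun k => ?_)⟩, inj (funext fun k => ?_)⟩,
    fun k => by rw [he, if_pos rfl], fun k c h => by rw [he, if_neg h], fun c => ?_⟩
  · show algebraMap W (T k) (e c * e c) = algebraMap W (T k) (e c)
    rw [map_mul, he]
    split_ifs <;> simp
  · show algebraMap W (T k) (e c * e c') = algebraMap W (T k) 0
    rw [map_mul, he, he, map_zero]
    split_ifs with h1 h2
    · exact absurd (h1.symm.trans h2) hcc'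
    all_goals simp
  · show algebraMap W (T k) (∑ c, e c) = algebraMap W (T k) 1
    simp [he]
  · obtain ⟨i, rfl⟩ := Quotient.exists_rep c
    exact ⟨i, fun k hk => Quotient.exact hk⟩

set_option maxHeartbeats 4000000 in
/-- Quasi-isotrivial groups lift along nil ideals. -/
theorem exists_nil_lift {I : Ideal R} (hI : ∀ x ∈ I, IsNilpotent x) {A₀ : Type u} [CommRing A₀]
    [HopfAlgebra (R ⧸ I) A₀] (h0 : SGA3b.IsQuasiIsotrivial (R ⧸ I) A₀) :
    ∃ (A : Type u) (_ : CommRing A) (_ : HopfAlgebra R A),
      SGA3b.IsMultType R A ∧ Nonempty ((R ⧸ I) ⊗[R] A ≃ₐc[R ⧸ I] A₀) := by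
  classical
  let W := R ⧸ I
  obtain ⟨s, hs, hf⟩ := h0
  obtain ⟨s', hss, hs'⟩ := (Ideal.span_eq_top_iff_finite s).1 hs
  choose T iT iTL hTe hTf hd using fun i : {x // x ∈ s'} => hf i.1 (hss i.2)
  letI := iT
  letI := iTL
  haveI := hTe
  letI : ∀ i, Algebra W (T i) := fun i =>
    ((algebraMap (Localization.Away i.1) (T i)).comp (algebraMap W (Localization.Away i.1))).toAlgebra
  haveI : ∀ i : {x // x ∈ s'}, IsScalarTower W (Localization.Away i.1) (T i) := fun i =>
    IsScalarTower.of_algebraMap_eq' rfl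
  haveI : ∀ i, Algebra.Etale W (T i) := fun i => by
    haveI : Algebra.Etale W (Localization.Away i.1) := Algebra.Etale.of_isLocalizationAway i.1
    exact Algebra.Etale.comp W (Localization.Away i.1) (T i)
  haveI hPff : Module.FaithfullyFlat W (Π i, T i) := faithfullyFlat_pi T fun p => by
    obtain ⟨f, hf2⟩ : ∃ f : {x // x ∈ s'}, f.1 ∉ p.asIdeal := by
      by_contra hne
      push_neg at hne
      exact p.isPrime.ne_top (top_le_iff.1 (hs' ▸ Ideal.span_le.2 fun x hx => hne ⟨x, hx⟩))
    haveI := hTf f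
    obtain ⟨p2, hp2⟩ : p ∈ Set.range (PrimeSpectrum.comap (algebraMap W (Localization.Away f.1))) := by
      rw [PrimeSpectrum.localization_away_comap_range _ f.1]
      exact hf2
    obtain ⟨q, hq⟩ := PrimeSpectrum.comap_surjective_of_faithfullyFlat (A := Localization.Away f.1)
      (B := T f) p2
    refine ⟨f, q, ?_⟩
    rw [← hp2, ← hq]
    rfl
  choose M iM hM using fun i : {x // x ∈ s'} =>
    isDiag_of_tensor_tensor (Localization.Away i.1) (T i) (hd i)
  letI := iM
  obtain ⟨κ, _, cls, ē, hē, hē1, hē0, hrep⟩ :=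
    exists_type_idempotents T M fun i => Classical.choice (hM i)
  choose rep hrep using hrep
  have hnil : ∀ x ∈ RingHom.ker (Ideal.Quotient.mk I), IsNilpotent x := fun x hx =>
    hI x (Ideal.Quotient.eq_zero_iff_mem.1 hx)
  obtain ⟨e, he, hee⟩ := CompleteOrthogonalIdempotents.lift_of_isNilpotent_ker (Ideal.Quotient.mk I) hnil
    hē (fun c => Ideal.Quotient.mk_surjective (ē c))
  have hee' : ∀ c, algebraMap R W (e c) = ē c := fun c => congrFun hee c
  have hone : ∀ c, algebraMap R (Piece ē c) (e c) = 1 := fun c => by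
    rw [IsScalarTower.algebraMap_apply R W (Piece ē c), hee']
    exact (Ideal.Quotient.eq.2 (Ideal.mem_span_singleton'.2 ⟨-1, by ring⟩)).trans (map_one _)
  letI : ∀ c, Algebra (Piece e c) (Piece ē c) := fun c =>
    (Ideal.Quotient.lift _ (algebraMap R (Piece ē c)) (span_one_sub_le_ker c (hone c))).toAlgebra
  haveI : ∀ c, IsScalarTower R (Piece e c) (Piece ē c) := fun c =>
    IsScalarTower.of_algebraMap_eq fun _ => rfl
  have hW : ∀ c, Function.Surjective (algebraMap (Piece e c) (Piece ē c)) := fun c y => by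
    obtain ⟨w, rfl⟩ := Ideal.Quotient.mk_surjective y
    obtain ⟨r, rfl⟩ := Ideal.Quotient.mk_surjective w
    exact ⟨Ideal.Quotient.mk _ r, rfl⟩
  have hker : ∀ c, ∀ x ∈ RingHom.ker (algebraMap (Piece e c) (Piece ē c)), IsNilpotent x := fun c x hx => by
    obtain ⟨r, rfl⟩ := Ideal.Quotient.mk_surjective x
    have hx' : Ideal.Quotient.mk (Ideal.span ({1 - ē c} : Set W)) (Ideal.Quotient.mk I r) = 0 := hx
    obtain ⟨w, hw⟩ := Ideal.mem_span_singleton'.1 (Ideal.Quotient.eq_zero_iff_mem.1 hx')
    obtain ⟨y, rfl⟩ := Ideal.Quotient.mk_surjective w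
    rw [← hee' c, Ideal.Quotient.algebraMap_eq, ← map_one (Ideal.Quotient.mk I), ← map_sub, ← map_mul,
      eq_comm, Ideal.Quotient.eq] at hw
    have h1 : IsNilpotent (r - y * (1 - e c)) := hI _ hw
    have h2 := h1.map (Ideal.Quotient.mk (Ideal.span ({1 - e c} : Set R)))
    rwa [map_sub, Ideal.Quotient.eq_zero_iff_mem.2 (Ideal.mem_span_singleton'.2 ⟨y, rfl⟩), sub_zero] at h2
  have hloc : ∀ c, ∃ (E : Type u) (_ : CommRing E) (_ : Algebra (Piece e c) E) (A : Type u)
      (_ : CommRing A) (_ : HopfAlgebra (Piece e c) A),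
      Algebra.Etale (Piece e c) E ∧ Module.FaithfullyFlat (Piece e c) E ∧
        SGA3b.IsDiag E (E ⊗[Piece e c] A) ∧
        Nonempty (Piece ē c ⊗[Piece e c] A ≃ₐc[Piece ē c] Piece ē c ⊗[W] A₀) := by
    intro c
    let ι' := {k // cls k = c}
    letI : ∀ k : ι', Algebra (Piece ē c) (T k.1) := fun k =>
      (Ideal.Quotient.lift _ (algebraMap W (T k.1))
        (span_one_sub_le_ker c (by simpa only [k.2] using hē1 k.1))).toAlgebra
    haveI : ∀ k : ι', IsScalarTower W (Piece ē c) (T k.1) := fun k =>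
      IsScalarTower.of_algebraMap_eq fun _ => rfl
    haveI : Algebra.FormallyUnramified W (Piece ē c) :=
      Algebra.FormallyUnramified.of_surjective (Algebra.ofId W (Piece ē c)) Ideal.Quotient.mk_surjective
    haveI : Algebra.Etale W (Piece ē c) := by
      haveI : IsLocalization.Away (ē c) (Piece ē c) :=
        IsLocalization.Away.quotient_of_isIdempotentElem (hē.idem c)
      exact Algebra.Etale.of_isLocalizationAway (ē c)
    haveI : ∀ k : ι', Algebra.Etale (Piece ē c) (T k.1) := fun k =>
      Algebra.Etale.of_restrictScalars W (Piece ē c) (T k.1)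
    haveI : Module.FaithfullyFlat (Piece ē c) (Π k : ι', T k.1) := faithfullyFlat_pi _ fun p => by
      obtain ⟨Q, hQ⟩ := PrimeSpectrum.comap_surjective_of_faithfullyFlat (A := W) (B := Π i, T i)
        (PrimeSpectrum.comap (algebraMap W (Piece ē c)) p)
      obtain ⟨k, q, rfl⟩ := (PrimeSpectrum.exists_comap_evalRingHom_eq Q)
      have hk : cls k = c := by
        by_contra hne
        have h1 : ē c ∈ (PrimeSpectrum.comap (algebraMap W (Π i, T i))
            (PrimeSpectrum.comap (Pi.evalRingHom T k) q)).asIdeal := by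
          show algebraMap W (T k) (ē c) ∈ q.asIdeal
          rw [hē0 k c hne]
          exact zero_mem _
        rw [hQ] at h1
        have h2 : algebraMap W (Piece ē c) (ē c) = 1 :=
          (Ideal.Quotient.eq.2 (Ideal.mem_span_singleton'.2 ⟨-1, by ring⟩)).trans (map_one _)
        have h3 : algebraMap W (Piece ē c) (ē c) ∈ p.asIdeal := h1
        rw [h2] at h3
        exact p.isPrime.ne_top ((Ideal.eq_top_iff_one _).2 h3)
      refine ⟨⟨k, hk⟩, q, PrimeSpectrum.comap_injective_of_surjective (algebraMap W (Piece ē c))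
        Ideal.Quotient.mk_surjective ?_⟩
      rw [← hQ]
      rfl
    refine exists_nil_lift_const (hW c) (hker c) (T := Π k : ι', T k.1) ?_
    refine isDiag_pi (M (rep c)) fun k => ?_
    exact (cancelBC W A₀ (Piece ē c) (T k.1)).trans ((Classical.choice (hM k.1)).trans
      (mapDomainEquiv (T k.1) (Classical.choice (hrep c k.1 k.2))))
  choose E iE iEQ A iA iAH hEe hEf hA hiso using hloc
  letI := iE
  letI := iEQ
  letI := iA
  letI := iAH
  haveI := hEe
  letI : ∀ c, Algebra R (A c) := fun c => Algebra.compHom (A c) (algebraMap R (Piece e c))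
  haveI : ∀ c, IsScalarTower R (Piece e c) (A c) := fun c => IsScalarTower.of_algebraMap_eq fun _ => rfl
  obtain ⟨P, _, _, hP⟩ := exists_prod_hopf he A
  refine ⟨P, inferInstance, inferInstance, ?_, exists_bialgEquiv_of_pieces hē
    (fun c => Piece ē c ⊗[W] A₀) (fun c => ?_) (fun c => BialgEquiv.refl _ _)⟩
  · letI : ∀ c, Algebra R (E c) := fun c => Algebra.compHom (E c) (algebraMap R (Piece e c))
    haveI : ∀ c, IsScalarTower R (Piece e c) (E c) := fun c => IsScalarTower.of_algebraMap_eq fun _ => rfl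
    haveI : ∀ c, Module.Flat R (Piece e c) := fun c => by
      haveI : IsLocalization.Away (e c) (Piece e c) :=
        IsLocalization.Away.quotient_of_isIdempotentElem (he.idem c)
      exact IsLocalization.flat (Piece e c) (Submonoid.powers (e c))
    haveI : ∀ c, Module.Flat R (E c) := fun c => Module.Flat.trans R (Piece e c) (E c)
    haveI : Module.FaithfullyFlat R (Π c, E c) := faithfullyFlat_pi _ fun p => by
      obtain ⟨c, hc⟩ : ∃ c, e c ∉ p.asIdeal := by
        by_contra hne
        push_neg at hne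
        exact p.isPrime.ne_top ((Ideal.eq_top_iff_one _).2 (he.complete ▸ sum_mem fun c _ => hne c))
      have hle : Ideal.span ({1 - e c} : Set R) ≤ p.asIdeal := Ideal.span_le.2 (Set.singleton_subset_iff.2
        ((p.isPrime.mem_or_mem (show e c * (1 - e c) ∈ p.asIdeal by
          rw [mul_sub, mul_one, (he.idem c).eq, sub_self]; exact zero_mem _)).resolve_left hc))
      haveI := hEf c
      obtain ⟨q, hq⟩ := PrimeSpectrum.comap_surjective_of_faithfullyFlat (A := Piece e c) (B := E c)
        ⟨p.asIdeal.map (Ideal.Quotient.mk _),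
          Ideal.map_isPrime_of_surjective Ideal.Quotient.mk_surjective (by rwa [Ideal.mk_ker])⟩
      refine ⟨c, q, ?_⟩
      rw [IsScalarTower.algebraMap_eq R (Piece e c) (E c), PrimeSpectrum.comap_comp_apply, hq]
      exact PrimeSpectrum.ext (comap_map_quot hle)
    refine isMultType_of_family E fun c => ?_
    obtain ⟨N, _, ⟨f⟩⟩ := hA c
    exact ⟨N, inferInstance, ⟨((cancelBC R P (Piece e c) (E c)).symm.trans
      (bcEquiv (E c) (Classical.choice (hP c)))).trans f⟩⟩
  · exact (cancelBC R P W (Piece ē c)).trans ((cancelBC R P (Piece e c) (Piece ē c)).symm.trans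
      ((bcEquiv (Piece ē c) (Classical.choice (hP c))).trans (Classical.choice (hiso c))))

end Groth.Agent.MultTypeLib
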