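import Groth.Agent.Lib.MultType.Basic

/-!
# The invariant integral of a group of multiplicative type
-/

universe u

open TensorProduct

namespace Groth.Agent.MultTypeLib

section Def

variable {R : Type*} [CommRing R] {A : Type*} [CommRing A] [Bialgebra R A]
  {S : Type*} [CommRing S] [Algebra R S]

/-- A two-sided invariant, normalised functional with values in `S`. -/
structure IsInt (j : A →ₗ[R] S) : Prop where
  one : j 1 = 1
  left : ∀ a, j.rTensor A (Coalgebra.comul (R := R) a) = j a ⊗ₜ[R] (1 : A)
  right : ∀ a, j.rTensor A (TensorProduct.comm R A A (Coalgebra.comul (R := R) a)) =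
    j a ⊗ₜ[R] (1 : A)

theorem IsInt.unique {j l : A →ₗ[R] S} (hj : IsInt j) (hl : IsInt l) : j = l := by
  ext a
  let μ : (A →ₗ[R] S) → (S ⊗[R] A →ₗ[R] S) := fun m =>
    LinearMap.mul' R S ∘ₗ m.lTensor S
  have h1 := congrArg (μ l) (hj.right a)
  have h2 := congrArg (μ j) (hl.left a)
  have key : ∀ z : A ⊗[R] A, μ l (j.rTensor A (TensorProduct.comm R A A z)) =
      μ j (l.rTensor A z) := by
    intro z
    induction z using TensorProduct.induction_on with
    | zero => simp
    | tmul x y => simp [μ, mul_comm]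
    | add x y hx hy => simp [hx, hy]
  rw [key, h2] at h1
  simpa [μ, hj.one, hl.one] using h1.symm

theorem IsInt.comp {S' : Type*} [CommRing S'] [Algebra R S'] (g : S →ₐ[R] S') {j : A →ₗ[R] S}
    (hj : IsInt j) : IsInt (g.toLinearMap ∘ₗ j) := by
  refine ⟨by simp [hj.one], fun a => ?_, fun a => ?_⟩
  · rw [LinearMap.rTensor_comp, LinearMap.comp_apply, hj.left]; simp
  · rw [LinearMap.rTensor_comp, LinearMap.comp_apply, hj.right]; simp

theorem IsInt.comp_equiv {A' : Type*} [CommRing A'] [Bialgebra R A'] (e : A' ≃ₐc[R] A)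
    {j : A →ₗ[R] S} (hj : IsInt j) : IsInt (j ∘ₗ (e : A' →ₗ[R] A)) := by
  have hinj : Function.Injective (LinearMap.lTensor S (e : A' →ₗ[R] A)) := by
    refine Function.LeftInverse.injective (g := LinearMap.lTensor S (e.symm : A →ₗ[R] A')) fun x => ?_
    induction x using TensorProduct.induction_on with
    | zero => simp
    | tmul x y => simp
    | add x y hx hy => simp [hx, hy]
  have hsq : ∀ z : A' ⊗[R] A',
      LinearMap.lTensor S (e : A' →ₗ[R] A) ((j ∘ₗ (e : A' →ₗ[R] A)).rTensor A' z) =
      j.rTensor A (TensorProduct.map (e : A' →ₗ[R] A) (e : A' →ₗ[R] A) z) := by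
    intro z
    induction z using TensorProduct.induction_on with
    | zero => simp
    | tmul x y => simp
    | add x y hx hy => simp [hx, hy]
  have hΔ : ∀ a, TensorProduct.map (e : A' →ₗ[R] A) (e : A' →ₗ[R] A)
      (Coalgebra.comul (R := R) a) = Coalgebra.comul (R := R) (e a) := fun a =>
    CoalgHomClass.map_comp_comul_apply e a
  refine ⟨by simp [hj.one], fun a => hinj ?_, fun a => hinj ?_⟩
  · rw [hsq, hΔ, hj.left]; simp
  · rw [hsq, TensorProduct.map_comm, hΔ, hj.right]; simp

theorem IsInt.pi {ι : Type*} [Finite ι] {T : ι → Type*} [∀ i, CommRing (T i)]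
    [∀ i, Algebra R (T i)] {j : ∀ i, A →ₗ[R] T i} (hj : ∀ i, IsInt (j i)) :
    IsInt (LinearMap.pi j) := by
  classical
  have := Fintype.ofFinite ι
  have ext' : ∀ x y : (Π i, T i) ⊗[R] A,
      (∀ i, (LinearMap.proj i).rTensor A x = (LinearMap.proj i).rTensor A y) → x = y := by
    intro x y h
    have hid : ∀ z : (Π i, T i) ⊗[R] A,
        (∑ i, (LinearMap.single R T i).rTensor A ((LinearMap.proj i).rTensor A z)) = z := by
      intro z
      induction z using TensorProduct.induction_on with
      | zero => simp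
      | tmul f a =>
        simp only [LinearMap.rTensor_tmul, LinearMap.proj_apply, ← TensorProduct.sum_tmul]
        congr 1
        exact Finset.univ_sum_single f
      | add x y hx hy => simp [Finset.sum_add_distrib, hx, hy]
    rw [← hid x, ← hid y]
    simp_rw [h]
  refine ⟨funext fun i => (hj i).one, fun a => ext' _ _ fun i => ?_, fun a => ext' _ _ fun i => ?_⟩
  · rw [← LinearMap.comp_apply, ← LinearMap.rTensor_comp, LinearMap.proj_pi, (hj i).left]; simp
  · rw [← LinearMap.comp_apply, ← LinearMap.rTensor_comp, LinearMap.proj_pi, (hj i).right]; simp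

theorem IsInt.descend [Module.FaithfullyFlat R S] {j : A →ₗ[R] S} (hj : IsInt j) :
    ∃ j₀ : A →ₗ[R] R, IsInt j₀ := by
  have heq : ∀ a, (j a) ⊗ₜ[R] (1 : S) = (1 : S) ⊗ₜ[R] j a := fun a =>
    LinearMap.congr_fun ((hj.comp (Algebra.TensorProduct.includeLeft (S := R) (B := S))).unique
      (hj.comp (Algebra.TensorProduct.includeRight (A := S)))) a
  have hmem : ∀ a, ∃ r : R, algebraMap R S r = j a := by
    intro a
    have h := (Algebra.IsEffective.of_faithfullyFlat R S) (j a)
    exact h.mp (by rw [Algebra.TensorProduct.includeLeftSubRight_apply, heq a, sub_self])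
  choose f hf using hmem
  have hinj : Function.Injective (algebraMap R S) := FaithfulSMul.algebraMap_injective R S
  let j₀ : A →ₗ[R] R :=
    { toFun := f
      map_add' := fun a b => hinj (by rw [map_add, hf, hf, hf, map_add])
      map_smul' := fun r a => hinj (by
        rw [RingHom.id_apply, smul_eq_mul, map_mul, hf, hf, map_smul, Algebra.smul_def]) }
  have hcomp : (Algebra.linearMap R S) ∘ₗ j₀ = j := LinearMap.ext hf
  have hinj2 : Function.Injective ((Algebra.linearMap R S).rTensor A) := by
    have h := Module.FaithfullyFlat.tensorProduct_mk_injective (A := R) (B := S) A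
    have he : (Algebra.linearMap R S).rTensor A =
        (TensorProduct.mk R S A 1) ∘ₗ (TensorProduct.lid R A).toLinearMap := by
      ext a; simp
    rw [he]
    exact h.comp (LinearEquiv.injective _)
  refine ⟨j₀, hinj ((hf 1).trans (hj.one.trans (map_one _).symm)), fun a => hinj2 ?_,
    fun a => hinj2 ?_⟩
  · rw [← LinearMap.comp_apply, ← LinearMap.rTensor_comp, hcomp, hj.left, LinearMap.rTensor_tmul]
    exact congrArg (· ⊗ₜ[R] (1 : A)) (hf a).symm
  · rw [← LinearMap.comp_apply, ← LinearMap.rTensor_comp, hcomp, hj.right, LinearMap.rTensor_tmul]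
    exact congrArg (· ⊗ₜ[R] (1 : A)) (hf a).symm

end Def

section BaseChange

variable {R : Type*} [CommRing R] {A : Type*} [CommRing A] [Bialgebra R A]
  {R' : Type*} [CommRing R'] [Algebra R R'] {S : Type*} [CommRing S] [Algebra R S]
  [Algebra R' S] [IsScalarTower R R' S]

theorem IsInt.of_baseChange {J : R' ⊗[R] A →ₗ[R'] S} (hJ : IsInt J) :
    IsInt ((J.restrictScalars R) ∘ₗ TensorProduct.mk R R' A 1) := by
  let Φ := TensorProduct.AlgebraTensorModule.cancelBaseChange R R' R' S A
  have hsq : ∀ z : A ⊗[R] A,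
      Φ (J.rTensor (R' ⊗[R] A) (TensorProduct.map (TensorProduct.mk R R' A 1)
        (TensorProduct.mk R R' A 1) z |> TensorProduct.mapOfCompatibleSMul R' R R
          (R' ⊗[R] A) (R' ⊗[R] A))) =
      ((J.restrictScalars R) ∘ₗ TensorProduct.mk R R' A 1).rTensor A z := by
    intro z
    induction z using TensorProduct.induction_on with
    | zero => simp
    | tmul x y => simp [Φ]
    | add x y hx hy => simp [hx, hy]
  have hΔ : ∀ a, Coalgebra.comul (R := R') ((1 : R') ⊗ₜ[R] a) =
      TensorProduct.mapOfCompatibleSMul R' R R (R' ⊗[R] A) (R' ⊗[R] A)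
        (TensorProduct.map (TensorProduct.mk R R' A 1) (TensorProduct.mk R R' A 1)
          (Coalgebra.comul (R := R) a)) := by
    intro a
    simp [← (Coalgebra.Repr.arbitrary R a).eq, TensorProduct.tmul_sum]
  refine ⟨by simpa [Algebra.TensorProduct.one_def] using hJ.one, fun a => ?_, fun a => ?_⟩
  · rw [← hsq, ← hΔ, hJ.left]
    simp [Φ, Algebra.TensorProduct.one_def]
  · rw [← hsq]
    have hc : ∀ z : A ⊗[R] A,
        TensorProduct.mapOfCompatibleSMul R' R R (R' ⊗[R] A) (R' ⊗[R] A)
        (TensorProduct.map (TensorProduct.mk R R' A 1) (TensorProduct.mk R R' A 1)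
          (TensorProduct.comm R A A z)) =
        TensorProduct.comm R' _ _ (TensorProduct.mapOfCompatibleSMul R' R R (R' ⊗[R] A) (R' ⊗[R] A)
        (TensorProduct.map (TensorProduct.mk R R' A 1) (TensorProduct.mk R R' A 1) z)) := by
      intro z
      induction z using TensorProduct.induction_on with
      | zero => simp
      | tmul x y => simp
      | add x y hx hy => simp [hx, hy]
    rw [hc, ← hΔ, hJ.right]
    simp [Φ, Algebra.TensorProduct.one_def]

end BaseChange

section MonoidAlgebra

variable (R : Type*) [CommRing R] (M : Type*) [CommMonoid M]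

/-- The coefficient at `1`. -/
noncomputable def coeffOne : MonoidAlgebra R M →ₗ[R] R :=
  Finsupp.lapply 1 ∘ₗ (MonoidAlgebra.coeffLinearEquiv R).toLinearMap

theorem isInt_coeffOne : IsInt (coeffOne R M) := by
  classical
  have key : ∀ (m : M) (r : R),
      ((coeffOne R M).rTensor (MonoidAlgebra R M)) (MonoidAlgebra.single m r ⊗ₜ[R]
        MonoidAlgebra.single m 1) = coeffOne R M (MonoidAlgebra.single m r) ⊗ₜ[R] 1 := by
    intro m r
    rcases eq_or_ne m 1 with h | h
    · subst h; simp [MonoidAlgebra.one_def]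
    · simp [coeffOne, h]
  have left : ∀ a, (coeffOne R M).rTensor (MonoidAlgebra R M) (Coalgebra.comul (R := R) a) =
      coeffOne R M a ⊗ₜ[R] 1 := by
    intro a
    induction a using MonoidAlgebra.induction_linear with
    | zero => simp
    | add x y hx hy => simp [hx, hy, TensorProduct.add_tmul]
    | single m r =>
      rw [← key]
      rcases eq_or_ne m 1 with h | h
      · subst h
        simp [coeffOne]
        rw [show MonoidAlgebra.single (1 : M) r = r • MonoidAlgebra.single (1 : M) (1 : R) by simp,
          TensorProduct.tmul_smul, TensorProduct.smul_tmul']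
        simp
      · simp [coeffOne, h]
  exact ⟨by simp [coeffOne, MonoidAlgebra.one_def], left, fun a => by
    rw [Coalgebra.comm_comul]; exact left a⟩

end MonoidAlgebra

section MultType

variable {R : Type u} [CommRing R] {A : Type u} [CommRing A] [HopfAlgebra R A]

theorem exists_isInt_of_isMultType (h : SGA3b.IsMultType R A) : ∃ j : A →ₗ[R] R, IsInt j := by
  classical
  obtain ⟨s, hs, hf⟩ := h
  obtain ⟨t, hts, ht⟩ := (Ideal.span_eq_top_iff_finite s).mp hs
  choose T i1 i2 hff M i3 he using fun f : t => hf f.1 (hts f.2)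
  let alg : ∀ f : t, Algebra R (T f) := fun f =>
    ((algebraMap (Localization.Away (f : R)) (T f)).comp
      (algebraMap R (Localization.Away (f : R)))).toAlgebra
  have tower : ∀ f : t, IsScalarTower R (Localization.Away (f : R)) (T f) := fun f =>
    IsScalarTower.of_algebraMap_eq' rfl
  have flat : ∀ f : t, Module.Flat R (T f) := fun f => by
    have := hff f
    exact Module.Flat.trans R (Localization.Away (f : R)) (T f)
  have surj : ∀ p : PrimeSpectrum R, ∃ f : t,
      p ∈ Set.range (PrimeSpectrum.comap (algebraMap R (T f))) := by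
    intro p
    obtain ⟨f, hf, hfp⟩ : ∃ f ∈ (t : Set R), f ∉ p.asIdeal := by
      by_contra hcon
      push Not at hcon
      exact p.isPrime.ne_top (top_le_iff.mp (ht ▸ Ideal.span_le.mpr hcon))
    refine ⟨⟨f, hf⟩, ?_⟩
    have hp : p ∈ Set.range (PrimeSpectrum.comap (algebraMap R (Localization.Away f))) := by
      rw [PrimeSpectrum.localization_away_comap_range _ f]
      exact hfp
    obtain ⟨q, hq⟩ := hp
    have := hff ⟨f, hf⟩
    obtain ⟨q', hq'⟩ := PrimeSpectrum.comap_surjective_of_faithfullyFlat
      (A := Localization.Away ((⟨f, hf⟩ : t) : R)) (B := T ⟨f, hf⟩) q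
    refine ⟨q', ?_⟩
    rw [← hq, ← hq']
    rfl
  have hj : ∀ f : t, ∃ j : A →ₗ[R] T f, IsInt j := fun f => by
    obtain ⟨e⟩ := he f
    exact ⟨_, ((isInt_coeffOne (T f) (M f)).comp_equiv e).of_baseChange.of_baseChange⟩
  choose j hj using hj
  have := faithfullyFlat_pi (R := R) T surj
  exact (IsInt.pi hj).descend

end MultType

end Groth.Agent.MultTypeLib
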