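import Mathlib
import Groth.Prelude.Def_SGA3b

/-!
# Small congruence toolkit for Hopf algebras over a base with an ideal

`K • ⊤` congruences, composition as a monoid hom of convolution monoids, faithfully flat products.
-/

universe u v

open TensorProduct

namespace Groth.Agent.MultTypeLib

variable {R : Type*} [CommRing R]

/-- `x ≡ 0 mod K M`. -/
abbrev KT (K : Ideal R) (M : Type*) [AddCommGroup M] [Module R M] : Submodule R M :=
  K • (⊤ : Submodule R M)

variable {K L : Ideal R} {M N P : Type*} [AddCommGroup M] [Module R M]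
  [AddCommGroup N] [Module R N] [AddCommGroup P] [Module R P]

theorem map_mem_KT (f : M →ₗ[R] N) {x : M} (hx : x ∈ KT K M) : f x ∈ KT K N := by
  have h := Submodule.mem_map_of_mem (f := f) hx
  rw [Submodule.map_smul''] at h
  exact Submodule.smul_mono le_rfl le_top h

theorem bilin_mem_KT (f : M →ₗ[R] N →ₗ[R] P) {x : M} {y : N} (hx : x ∈ KT K M) (hy : y ∈ KT L N) :
    f x y ∈ KT (K * L) P := by
  refine Submodule.smul_induction_on hx ?_ ?_
  · intro r hr m _
    refine Submodule.smul_induction_on hy ?_ ?_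
    · intro s hs n _
      simp only [map_smul, LinearMap.smul_apply, smul_smul]
      rw [mul_comm s r]
      exact Submodule.smul_mem_smul (Ideal.mul_mem_mul hr hs) trivial
    · intro a b ha hb
      rw [map_add]
      exact add_mem ha hb
  · intro a b ha hb
    rw [map_add, LinearMap.add_apply]
    exact add_mem ha hb

theorem bilin_mem_KT_left (f : M →ₗ[R] N →ₗ[R] P) {x : M} (y : N) (hx : x ∈ KT K M) :
    f x y ∈ KT K P := map_mem_KT (f.flip y) hx

theorem bilin_mem_KT_right (f : M →ₗ[R] N →ₗ[R] P) (x : M) {y : N} (hy : y ∈ KT L N) :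
    f x y ∈ KT L P := map_mem_KT (f x) hy

theorem KT_mono (h : K ≤ L) : KT K M ≤ KT L M := Submodule.smul_mono_left h

theorem KT_bot : KT (⊥ : Ideal R) M = ⊥ := Submodule.bot_smul _

theorem mem_KT_ring {r : R} : r ∈ KT K R ↔ r ∈ K := by
  rw [KT, smul_eq_mul, ← Ideal.one_eq_top, mul_one]

theorem mul_mem_KT {A : Type*} [CommRing A] [Algebra R A] {x y : A} (hx : x ∈ KT K A)
    (hy : y ∈ KT L A) : x * y ∈ KT (K * L) A :=
  bilin_mem_KT (LinearMap.mul R A) hx hy

theorem mul_mem_KT_left {A : Type*} [CommRing A] [Algebra R A] (x : A) {y : A}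
    (hy : y ∈ KT L A) : x * y ∈ KT L A :=
  map_mem_KT (LinearMap.mul R A x) hy

theorem mul_mem_KT_right {A : Type*} [CommRing A] [Algebra R A] (x : A) {y : A}
    (hy : y ∈ KT L A) : y * x ∈ KT L A := by
  rw [mul_comm]; exact mul_mem_KT_left x hy

theorem mem_KT_iff_one_tmul_eq_zero {I : Ideal R} {x : M} :
    x ∈ KT I M ↔ (1 : R ⧸ I) ⊗ₜ[R] x = 0 := by
  rw [← (TensorProduct.quotTensorEquivQuotSMul M I).map_eq_zero_iff,
    show (1 : R ⧸ I) = Ideal.Quotient.mk I 1 from rfl,
    TensorProduct.quotTensorEquivQuotSMul_mk_tmul, one_smul, Submodule.Quotient.mk_eq_zero]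

theorem sub_mem_KT_iff_one_tmul_eq {I : Ideal R} {x y : M} :
    x - y ∈ KT I M ↔ (1 : R ⧸ I) ⊗ₜ[R] x = (1 : R ⧸ I) ⊗ₜ[R] y := by
  rw [mem_KT_iff_one_tmul_eq_zero, TensorProduct.tmul_sub, sub_eq_zero]

/-- The ideal of `A` generated by `K`. -/
theorem mem_KT_iff_mem_map {A : Type*} [CommRing A] [Algebra R A] {x : A} :
    x ∈ KT K A ↔ x ∈ Ideal.map (algebraMap R A) K := by
  rw [KT, Ideal.smul_top_eq_map]; rfl

section PostComp

variable {C : Type*} [CommRing C] [Bialgebra R C]
variable {A B : Type*} [CommRing A] [Algebra R A] [CommRing B] [Algebra R B]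

open WithConv

/-- Composition with an algebra map, on convolution monoids. -/
noncomputable def postComp (h : A →ₐ[R] B) :
    WithConv (C →ₐ[R] A) →* WithConv (C →ₐ[R] B) where
  toFun f := toConv (h.comp f.ofConv)
  map_one' := by
    apply ofConv_injective
    ext c
    show h (algebraMap R A (Coalgebra.counit c)) = algebraMap R B (Coalgebra.counit c)
    exact h.commutes _
  map_mul' f g := by
    rw [AlgHom.comp_convMul_distrib]

theorem postComp_apply (h : A →ₐ[R] B) (f : WithConv (C →ₐ[R] A)) :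
    postComp h f = toConv (h.comp f.ofConv) := rfl

theorem postComp_comp {D : Type*} [CommRing D] [Algebra R D] (g : B →ₐ[R] D) (h : A →ₐ[R] B)
    (f : WithConv (C →ₐ[R] A)) : postComp (g.comp h) f = postComp g (postComp h f) := rfl

/-- A coalgebra-compatible map `f` satisfies `Δ ∘ f = ι₁f * ι₂f`; in general the product computes
`(f ⊗ g) ∘ Δ`. -/
theorem ι_mul_ι (f : C →ₐ[R] A) (g : C →ₐ[R] B) :
    (toConv (Algebra.TensorProduct.includeLeft.comp f) : WithConv (C →ₐ[R] A ⊗[R] B)) *
      toConv (Algebra.TensorProduct.includeRight.comp g) =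
      toConv ((Algebra.TensorProduct.map f g).comp (Bialgebra.comulAlgHom R C)) := by
  rw [AlgHom.convMul_def, ofConv_toConv, ofConv_toConv, ← AlgHom.comp_assoc]
  congr 2
  ext c <;> simp

end PostComp

section Group

variable {C : Type*} [CommRing C] [HopfAlgebra R C] {T : Type*} [CommRing T] [Algebra R T]

open WithConv

theorem convInv_mul (f : WithConv (C →ₐ[R] T)) :
    toConv (f.ofConv.comp (HopfAlgebra.antipodeAlgHom R C)) * f = 1 := by
  have h := congrArg (postComp f.ofConv) (AlgHom.antipode_id_cancel (R := R) (A := C))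
  rw [map_mul, map_one] at h
  exact h

/-- Algebra valued points of a Hopf algebra form a group (for any target algebra). -/
noncomputable instance pointsGroup : Group (WithConv (C →ₐ[R] T)) :=
  { (inferInstance : Monoid (WithConv (C →ₐ[R] T))) with
    inv := fun f => toConv (f.ofConv.comp (HopfAlgebra.antipodeAlgHom R C))
    inv_mul_cancel := convInv_mul }

noncomputable instance pointsCommGroup [Coalgebra.IsCocomm R C] :
    CommGroup (WithConv (C →ₐ[R] T)) :=
  { pointsGroup (R := R) (C := C) (T := T) with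
    mul_comm := (inferInstance : CommMonoid (WithConv (C →ₐ[R] T))).mul_comm }

theorem inv_def (f : WithConv (C →ₐ[R] T)) :
    f⁻¹ = toConv (f.ofConv.comp (HopfAlgebra.antipodeAlgHom R C)) := rfl

theorem postComp_inv {T' : Type*} [CommRing T'] [Algebra R T'] (h : T →ₐ[R] T')
    (f : WithConv (C →ₐ[R] T)) : postComp h f⁻¹ = (postComp h f)⁻¹ := rfl

end Group

section FF

open scoped Pointwise

variable {ι : Type*} [Finite ι] (S : ι → Type*) [∀ i, CommRing (S i)] [∀ i, Algebra R (S i)]

theorem flat_pi [∀ i, Module.Flat R (S i)] : Module.Flat R (Π i, S i) := by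
  classical
  have := Fintype.ofFinite ι
  exact Module.Flat.of_linearEquiv (DirectSum.linearEquivFunOnFintype R ι S).symm

theorem faithfullyFlat_pi [∀ i, Module.Flat R (S i)]
    (h : ∀ p : PrimeSpectrum R, ∃ i, p ∈ Set.range (PrimeSpectrum.comap (algebraMap R (S i)))) :
    Module.FaithfullyFlat R (Π i, S i) := by
  have := flat_pi (R := R) S
  refine Module.FaithfullyFlat.of_comap_surjective fun p => ?_
  obtain ⟨i, q, hq⟩ := h p
  refine ⟨PrimeSpectrum.comap (Pi.evalRingHom S i) q, ?_⟩
  rw [← hq]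
  rfl

end FF

end Groth.Agent.MultTypeLib
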