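import Groth.Agent.Lib.MultType.Split
import Groth.Agent.Lib.MultType.HomLift

/-!
# Images of homomorphisms into diagonalisable Hopf algebras; monomorphisms
-/

universe u

open TensorProduct HopfAlgebra WithConv

namespace Groth.Agent.MultTypeLib

variable {R : Type u} [CommRing R] {C : Type u} [CommRing C] [HopfAlgebra R C]

theorem bialgHom_map_antipode {B : Type u} [CommRing B] [HopfAlgebra R B] (φ : C →ₐc[R] B) (c : C) :
    φ (antipode R c) = antipode R (φ c) := by
  let x : WithConv (C →ₐ[R] B) := toConv (φ : C →ₐ[R] B)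
  have h : toConv ((antipodeAlgHom R B).comp (φ : C →ₐ[R] B)) * x = 1 := by
    apply ofConv_injective
    refine AlgHom.ext fun c => ?_
    rw [AlgHom.convMul_apply, AlgHom.convOne_apply]
    have e : ∀ z : C ⊗[R] C, Algebra.TensorProduct.lift ((antipodeAlgHom R B).comp (φ : C →ₐ[R] B))
        (φ : C →ₐ[R] B) (fun _ _ ↦ .all ..) z =
        LinearMap.mul' R B ((antipode R).rTensor B
          (TensorProduct.map (φ : C →ₗ[R] B) (φ : C →ₗ[R] B) z)) := by
      intro z
      induction z using TensorProduct.induction_on with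
      | zero => simp
      | tmul a b => simp
      | add a b ha hb => simp only [map_add, ha, hb]
    simp only [x, ofConv_toConv]
    rw [e, CoalgHomClass.map_comp_comul_apply φ, mul_antipode_rTensor_comul_apply,
      CoalgHomClass.counit_comp_apply φ]
  have h2 : x⁻¹ = toConv ((antipodeAlgHom R B).comp (φ : C →ₐ[R] B)) := inv_eq_of_mul_eq_one_left h
  rw [inv_def] at h2
  exact DFunLike.congr_fun (congrArg WithConv.ofConv h2) c

variable {M : Type u}

/-- Each homogeneous component of an image element is in the image. -/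
theorem single_coeff_mem_range [CommMonoid M] (φ : C →ₐc[R] MonoidAlgebra R M) (c : C) (m : M) :
    MonoidAlgebra.single m ((φ c).coeff m) ∈ (φ : C →ₐ[R] MonoidAlgebra R M).range := by
  let co : MonoidAlgebra R M →ₗ[R] R :=
    Finsupp.lapply m ∘ₗ (MonoidAlgebra.coeffLinearEquiv R).toLinearMap
  let P : MonoidAlgebra R M ⊗[R] MonoidAlgebra R M →ₗ[R] MonoidAlgebra R M :=
    (TensorProduct.rid R _).toLinearMap ∘ₗ co.lTensor _
  have hP : ∀ z : MonoidAlgebra R M,
      P (Coalgebra.comul (R := R) z) = MonoidAlgebra.single m (z.coeff m) := by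
    intro z
    induction z using MonoidAlgebra.induction_linear with
    | zero => simp
    | add x y hx hy => simp [map_add, hx, hy, MonoidAlgebra.single_add]
    | single k r =>
      rcases eq_or_ne k m with h | h
      · subst h; simp [P, co]
      · simp [P, co, Finsupp.single_eq_of_ne (Ne.symm h)]
  rw [← hP, ← CoalgHomClass.map_comp_comul_apply φ]
  induction Coalgebra.comul (R := R) c using TensorProduct.induction_on with
  | zero => simp
  | add x y hx hy => rw [map_add, map_add]; exact Subalgebra.add_mem _ hx hy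
  | tmul x y =>
    refine ⟨co (φ y) • x, ?_⟩
    simp [P, co]

/-- The coefficient ideal at `m` of the image. -/
def imgIdeal [CommMonoid M] (φ : C →ₐc[R] MonoidAlgebra R M) (m : M) : Ideal R where
  carrier := {r : R | (MonoidAlgebra.single m r : MonoidAlgebra R M) ∈ (φ : C →ₐ[R] MonoidAlgebra R M).range}
  add_mem' {a b} ha hb := by
    show (MonoidAlgebra.single m (a + b) : MonoidAlgebra R M) ∈ (φ : C →ₐ[R] MonoidAlgebra R M).range
    rw [MonoidAlgebra.single_add]
    exact Subalgebra.add_mem _ ha hb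
  zero_mem' := by
    show (MonoidAlgebra.single m (0 : R) : MonoidAlgebra R M) ∈ (φ : C →ₐ[R] MonoidAlgebra R M).range
    rw [MonoidAlgebra.single_zero]
    exact Subalgebra.zero_mem _
  smul_mem' r a ha := by
    show (MonoidAlgebra.single m (r • a) : MonoidAlgebra R M) ∈ (φ : C →ₐ[R] MonoidAlgebra R M).range
    rw [show (MonoidAlgebra.single m (r • a) : MonoidAlgebra R M) = r • MonoidAlgebra.single m a by simp]
    exact Subalgebra.smul_mem _ ha r

theorem coeff_mem_imgIdeal [CommMonoid M] (φ : C →ₐc[R] MonoidAlgebra R M) (c : C) (m : M) :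
    (φ c).coeff m ∈ imgIdeal φ m := single_coeff_mem_range φ c m

theorem one_mem_imgIdeal_one [CommMonoid M] (φ : C →ₐc[R] MonoidAlgebra R M) :
    (1 : R) ∈ imgIdeal φ 1 := by
  show (MonoidAlgebra.single 1 (1 : R) : MonoidAlgebra R M) ∈ (φ : C →ₐ[R] MonoidAlgebra R M).range
  rw [← MonoidAlgebra.one_def]
  exact Subalgebra.one_mem _

theorem mul_mem_imgIdeal [CommMonoid M] (φ : C →ₐc[R] MonoidAlgebra R M) {m n : M} {a b : R}
    (ha : a ∈ imgIdeal φ m) (hb : b ∈ imgIdeal φ n) : a * b ∈ imgIdeal φ (m * n) := by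
  show (MonoidAlgebra.single (m * n) (a * b) : MonoidAlgebra R M) ∈ (φ : C →ₐ[R] MonoidAlgebra R M).range
  rw [← MonoidAlgebra.single_mul_single]
  exact Subalgebra.mul_mem _ ha hb

theorem inv_mem_imgIdeal [CommGroup M] (φ : C →ₐc[R] MonoidAlgebra R M) {m : M} {a : R}
    (ha : a ∈ imgIdeal φ m) : a ∈ imgIdeal φ m⁻¹ := by
  obtain ⟨c, hc⟩ := ha
  refine ⟨antipode R c, ?_⟩
  show φ (antipode R c) = _
  rw [bialgHom_map_antipode, show φ c = MonoidAlgebra.single m a from hc,
    MonoidAlgebra.antipode_single]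
  simp

/-- The subgroup of characters seen at the prime `p`. -/
def imgSubgroup [CommGroup M] (φ : C →ₐc[R] MonoidAlgebra R M) (p : Ideal R) [hp : p.IsPrime] :
    Subgroup M where
  carrier := {m | ¬ imgIdeal φ m ≤ p}
  one_mem' := fun h => hp.ne_top ((Ideal.eq_top_iff_one _).2 (h (one_mem_imgIdeal_one φ)))
  mul_mem' {m n} hm hn := by
    obtain ⟨a, ha, hap⟩ := SetLike.not_le_iff_exists.1 hm
    obtain ⟨b, hb, hbp⟩ := SetLike.not_le_iff_exists.1 hn
    exact SetLike.not_le_iff_exists.2 ⟨a * b, mul_mem_imgIdeal φ ha hb, hp.mul_notMem hap hbp⟩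
  inv_mem' {m} hm := by
    obtain ⟨a, ha, hap⟩ := SetLike.not_le_iff_exists.1 hm
    exact SetLike.not_le_iff_exists.2 ⟨a, inv_mem_imgIdeal φ ha, hap⟩

theorem surjective_of_mono_diag [CommGroup M] (φ : C →ₐc[R] MonoidAlgebra R M)
    (hmono : ∀ (T : Type u) [CommRing T] [Algebra R T],
      Function.Injective (fun x : MonoidAlgebra R M →ₐ[R] T => x.comp (φ : C →ₐ[R] _))) :
    Function.Surjective φ := by
  classical
  have hall : ∀ m, imgIdeal φ m = ⊤ := by
    intro m
    by_contra hne
    obtain ⟨p, hp, hle⟩ := Ideal.exists_le_maximal _ hne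
    haveI := hp.isPrime
    let N := imgSubgroup φ p
    let T := MonoidAlgebra (R ⧸ p) (M ⧸ N)
    let g : M →* T := ((MonoidAlgebra.of (R ⧸ p) (M ⧸ N)).comp (QuotientGroup.mk' N))
    let x := MonoidAlgebra.lift R T M g
    let y := MonoidAlgebra.lift R T M 1
    have hxy : x.comp (φ : C →ₐ[R] _) = y.comp (φ : C →ₐ[R] _) := by
      refine AlgHom.ext fun c => ?_
      show x (φ c) = y (φ c)
      rw [← MonoidAlgebra.sum_coeff_single (φ c), map_finsuppSum, map_finsuppSum]
      refine Finsupp.sum_congr fun k _ => ?_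
      simp only [x, y, MonoidAlgebra.lift_single, MonoidHom.one_apply]
      by_cases hk : k ∈ N
      · congr 1
        simp only [g, MonoidHom.comp_apply, QuotientGroup.mk'_apply, (QuotientGroup.eq_one_iff k).2 hk, map_one]
      · have hmem : (φ c).coeff k ∈ p := by
          by_contra hnm
          exact hk (SetLike.not_le_iff_exists.2 ⟨_, coeff_mem_imgIdeal φ c k, hnm⟩)
        have h0 : algebraMap R (R ⧸ p) ((φ c).coeff k) = 0 := Ideal.Quotient.eq_zero_iff_mem.2 hmem
        rw [← algebraMap_smul (R ⧸ p) ((φ c).coeff k), h0, zero_smul,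
          ← algebraMap_smul (R ⧸ p) ((φ c).coeff k), h0, zero_smul]
    have hx := AlgHom.congr_fun (hmono T hxy) (MonoidAlgebra.single m 1)
    simp only [x, y, MonoidAlgebra.lift_single, MonoidHom.one_apply, one_smul] at hx
    have hmN : m ∉ N := fun h => h hle
    have hx' : MonoidAlgebra.single (QuotientGroup.mk m : M ⧸ N) (1 : R ⧸ p) =
        MonoidAlgebra.single 1 1 := by
      rw [← MonoidAlgebra.one_def]; exact hx
    haveI : Nontrivial (R ⧸ p) := Ideal.Quotient.nontrivial_iff.mpr hp.ne_top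
    exact hmN ((QuotientGroup.eq_one_iff m).1
      (Finsupp.single_left_injective one_ne_zero (congrArg MonoidAlgebra.coeff hx')))
  intro z
  induction z using MonoidAlgebra.induction_linear with
  | zero => exact ⟨0, map_zero φ⟩
  | add a b ha hb =>
    obtain ⟨u, rfl⟩ := ha
    obtain ⟨v, rfl⟩ := hb
    exact ⟨u + v, map_add φ u v⟩
  | single m r =>
    have : r ∈ imgIdeal φ m := by rw [hall]; trivial
    exact this

theorem surjective_of_mono {A : Type u} [CommRing A] [HopfAlgebra R A] (h : SGA3b.IsMultType R A)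
    (φ : C →ₐc[R] A)
    (hmono : ∀ (T : Type u) [CommRing T] [Algebra R T],
      Function.Injective (fun x : A →ₐ[R] T => x.comp (φ : C →ₐ[R] A))) :
    Function.Surjective φ := by
  classical
  obtain ⟨ι, _, T, _, _, _, hff, hd⟩ := exists_split_family h
  have := Fintype.ofFinite ι
  intro a
  rw [← Set.mem_range]
  show a ∈ LinearMap.range (φ : C →ₗ[R] A)
  rw [← Submodule.Quotient.mk_eq_zero]
  refine Module.FaithfullyFlat.tensorProduct_mk_injective (A := R) (B := Π i, T i) _ ?_
  show (1 : Π i, T i) ⊗ₜ[R] (LinearMap.range (φ : C →ₗ[R] A)).mkQ a = (1 : Π i, T i) ⊗ₜ[R] 0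
  have hid : ∀ b : A ⧸ LinearMap.range (φ : C →ₗ[R] A), (1 : Π i, T i) ⊗ₜ[R] b =
      ∑ i, (LinearMap.single R T i).rTensor _ ((1 : T i) ⊗ₜ[R] b) := by
    intro b
    simp only [LinearMap.rTensor_tmul, ← TensorProduct.sum_tmul]
    congr 1
    exact (Finset.univ_sum_single (1 : Π i, T i)).symm
  rw [hid, TensorProduct.tmul_zero]
  refine Finset.sum_eq_zero fun i _ => ?_
  obtain ⟨M, _, ⟨e⟩⟩ := hd i
  let φT : T i ⊗[R] C →ₐc[T i] T i ⊗[R] A := bcMap (T i) φ
  let Φ : T i ⊗[R] C →ₐc[T i] MonoidAlgebra (T i) M := e.toBialgHom.comp φT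
  have hΦ : Function.Surjective Φ := by
    refine surjective_of_mono_diag Φ fun U _ _ => fun x y hxy => ?_
    letI : Algebra R U := ((algebraMap (T i) U).comp (algebraMap R (T i))).toAlgebra
    haveI : IsScalarTower R (T i) U := IsScalarTower.of_algebraMap_eq' rfl
    let res : (MonoidAlgebra (T i) M →ₐ[T i] U) → (A →ₐ[R] U) := fun x =>
      ((x.comp (e : T i ⊗[R] A →ₐ[T i] MonoidAlgebra (T i) M)).restrictScalars R).comp
        Algebra.TensorProduct.includeRight
    have h1 : res x = res y := hmono U (AlgHom.ext fun c => by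
      have := AlgHom.congr_fun hxy ((1 : T i) ⊗ₜ[R] c)
      exact this)
    have h2 : x.comp (e : T i ⊗[R] A →ₐ[T i] MonoidAlgebra (T i) M) =
        y.comp (e : T i ⊗[R] A →ₐ[T i] MonoidAlgebra (T i) M) :=
      comul_algHom_ext fun a => AlgHom.congr_fun h1 a
    refine AlgHom.ext fun z => ?_
    obtain ⟨w, rfl⟩ := e.surjective z
    exact AlgHom.congr_fun h2 w
  obtain ⟨w, hw⟩ := hΦ (e ((1 : T i) ⊗ₜ[R] a))
  have hw' : φT w = (1 : T i) ⊗ₜ[R] a := e.injective hw
  have hz : ∀ w : T i ⊗[R] C,
      (LinearMap.range (φ : C →ₗ[R] A)).mkQ.lTensor (T i) (φT w) = 0 := by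
    intro w
    induction w using TensorProduct.induction_on with
    | zero => simp
    | tmul t c =>
      show t ⊗ₜ[R] (LinearMap.range (φ : C →ₗ[R] A)).mkQ (φ c) = 0
      rw [show (LinearMap.range (φ : C →ₗ[R] A)).mkQ (φ c) = 0 from
        (Submodule.Quotient.mk_eq_zero _).2 ⟨c, rfl⟩, TensorProduct.tmul_zero]
    | add x y hx hy => rw [map_add, map_add, hx, hy, add_zero]
  have := hz w
  rw [hw'] at this
  show (LinearMap.single R T i).rTensor _ _ = 0
  rw [show ((1 : T i) ⊗ₜ[R] (LinearMap.range (φ : C →ₗ[R] A)).mkQ a) = 0 from this, map_zero]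

end Groth.Agent.MultTypeLib
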