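import Groth.Agent.Lib.MultType.AdicClopen
import Mathlib.RingTheory.Spectrum.Prime.Topology
import Mathlib.RingTheory.Flat.Localization

/-!
# Isotriviality over an adically complete base from connected fibres
-/

universe u

open TensorProduct

namespace Groth.Agent.MultTypeLib

variable {R : Type u} [CommRing R] {C : Type u} [CommRing C] [HopfAlgebra R C]

theorem eq_zero_or_one_of_connected {S : Type u} [CommRing S] [ConnectedSpace (PrimeSpectrum S)]
    {e : S} (he : IsIdempotentElem e) : e = 0 ∨ e = 1 := by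
  rcases isClopen_iff.1 ((PrimeSpectrum.isClopen_iff (s := (PrimeSpectrum.basicOpen e : Set (PrimeSpectrum S)))).2
    ⟨e, he, rfl⟩) with h | h
  · exact .inl (PrimeSpectrum.basicOpen_injOn_isIdempotentElem he IsIdempotentElem.zero
      (SetLike.coe_injective (by rw [h]; simp)))
  · exact .inr (PrimeSpectrum.basicOpen_injOn_isIdempotentElem he IsIdempotentElem.one
      (SetLike.coe_injective (by rw [h]; simp)))

/-- An idempotent vanishing at the unit section of connected fibres vanishes. -/
theorem eq_zero_of_connected_fibres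
    (hconn : ∀ (p : Ideal R) [p.IsPrime], ConnectedSpace (PrimeSpectrum (p.ResidueField ⊗[R] C)))
    {e : C} (he : IsIdempotentElem e) (hε : Coalgebra.counit (R := R) e = 0) : e = 0 := by
  refine he.eq_zero_of_isNilpotent ?_
  rw [nilpotent_iff_mem_prime]
  intro q hq
  haveI := hq
  let p := q.comap (algebraMap R C)
  haveI := hconn p
  let k := p.ResidueField
  have h0 : (1 : k) ⊗ₜ[R] e = 0 := by
    rcases eq_zero_or_one_of_connected (S := k ⊗[R] C)
      (he.map (Algebra.TensorProduct.includeRight : C →ₐ[R] k ⊗[R] C)) with h | h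
    · exact h
    · exfalso
      have h1 := congrArg (Bialgebra.counitAlgHom k (k ⊗[R] C)) h
      rw [map_one] at h1
      simp [hε] at h1
  let τ : k →ₐ[R] q.ResidueField := Ideal.ResidueField.mapₐ p q (Algebra.ofId R C) rfl
  have h1 := congrArg (Algebra.TensorProduct.lift τ (IsScalarTower.toAlgHom R C q.ResidueField)
    (fun _ _ => Commute.all _ _)) h0
  rw [Algebra.TensorProduct.lift_tmul, map_one, one_mul, map_zero] at h1
  rw [← Ideal.ker_algebraMap_residueField q, RingHom.mem_ker]
  exact h1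

theorem isIsotrivial_congr {C' : Type u} [CommRing C'] [HopfAlgebra R C'] (e : C ≃ₐc[R] C')
    (h : SGA3b.IsIsotrivial R C) : SGA3b.IsIsotrivial R C' := by
  obtain ⟨B, _, _, h1, h2, h3, hd⟩ := h
  exact ⟨B, inferInstance, inferInstance, h1, h2, h3, isDiag_congr (bcEquiv B e) hd⟩

theorem isIsotrivial_of_quot_bot {e : C} (he : e = 0) [(Ideal.span {e}).IsHopfIdeal R]
    (h : SGA3b.IsIsotrivial R (C ⧸ Ideal.span {e})) : SGA3b.IsIsotrivial R C := by
  let π : C →ₐc[R] C ⧸ Ideal.span {e} := Bialgebra.Quotient.mkBialgHom (R := R) (Ideal.span {e})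
  have hπ : Function.Bijective π := by
    refine ⟨fun x y hxy => ?_, Ideal.Quotient.mk_surjective⟩
    have : x - y ∈ Ideal.span {e} := Ideal.Quotient.eq.1 hxy
    rw [he, Ideal.span_singleton_eq_bot.2 rfl, Ideal.mem_bot, sub_eq_zero] at this
    exact this
  exact isIsotrivial_congr (BialgEquiv.ofBijective π hπ).symm h

theorem isIsotrivial_of_fibres_connected [IsNoetherianRing R] {I : Ideal R} [IsAdicComplete I R]
    (hft : Algebra.FiniteType R C)
    (hfl : ∀ (q : Ideal C) [q.IsPrime], Ideal.map (algebraMap R C) I ≤ q →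
      Module.Flat R (Localization.AtPrime q))
    (hconn : ∀ (p : Ideal R) [p.IsPrime], ConnectedSpace (PrimeSpectrum (p.ResidueField ⊗[R] C)))
    (h0 : SGA3b.IsIsotrivial (R ⧸ I) ((R ⧸ I) ⊗[R] C)) : SGA3b.IsIsotrivial R C := by
  obtain ⟨e, he, heI, _, h⟩ := exists_clopen_subgroup hft hfl h0
  refine isIsotrivial_of_quot_bot (eq_zero_of_connected_fibres hconn he ?_) h
  refine eq_zero_of_idem_of_sep (sep_of_finite (I := I) R) (he.map (Bialgebra.counitAlgHom R C)) ?_
  have h1 := map_mem_KT (Coalgebra.counit (R := R) (A := C)) (mem_KT_iff_mem_map.2 heI)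
  rwa [mem_KT_iff_mem_map] at h1

end Groth.Agent.MultTypeLib

namespace Groth.Agent.MultTypeLib

variable {R : Type u} [CommRing R] {C : Type u} [CommRing C] [HopfAlgebra R C]

/-- Renaming the characters, in any universe. -/
noncomputable def mapDomainEquiv' (S : Type u) [CommRing S] {M : Type*} {N : Type*} [CommGroup M]
    [CommGroup N] (c : M ≃* N) : MonoidAlgebra S M ≃ₐc[S] MonoidAlgebra S N :=
  BialgEquiv.ofBijective (MonoidAlgebra.mapDomainBialgHom S c.toMonoidHom)
    (MonoidAlgebra.mapDomainRingEquiv S c).bijective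

/-- An isotrivial group whose reduction modulo an ideal in the radical is a torus is a torus. -/
theorem isTorus_of_mod {I : Ideal R} (hI : I ≤ Ideal.jacobson ⊥) (h : SGA3b.IsIsotrivial R C)
    (h0 : SGA3b.IsTorus (R ⧸ I) ((R ⧸ I) ⊗[R] C)) : SGA3b.IsTorus R C := by
  rcases subsingleton_or_nontrivial R with hR | hR
  · exact ⟨∅, Subsingleton.elim _ _, by simp⟩
  obtain ⟨B, _, _, _, _, hff, M, _, ⟨eB⟩⟩ := h
  obtain ⟨n, ⟨c⟩⟩ : ∃ n : ℕ, Nonempty (M ≃* ULift.{u} (Multiplicative (Fin n → ℤ))) := by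
    haveI hIne : Nontrivial (R ⧸ I) := Ideal.Quotient.nontrivial_iff.mpr fun h => by
      have := Ideal.mem_jacobson_bot.mp (hI (h ▸ Submodule.mem_top : (1 : R) ∈ I)) (-1)
      simp at this
    obtain ⟨s, hs, hf⟩ := h0
    obtain ⟨P, hP⟩ := Ideal.exists_maximal (R ⧸ I)
    obtain ⟨f, hfs, hfP⟩ : ∃ f ∈ s, f ∉ P := by
      by_contra hcon
      push_neg at hcon
      exact hP.ne_top (top_le_iff.1 (hs ▸ Ideal.span_le.2 hcon))
    obtain ⟨T, _, _, hT, n, ⟨eT⟩⟩ := hf f hfs
    let L := Localization.Away f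
    letI : Algebra R T := ((algebraMap L T).comp (algebraMap R L)).toAlgebra
    haveI : IsScalarTower R L T := IsScalarTower.of_algebraMap_eq' rfl
    haveI : Nontrivial T := by
      obtain ⟨Q, hQ⟩ : (⟨P, hP.isPrime⟩ : PrimeSpectrum (R ⧸ I)) ∈
          Set.range (PrimeSpectrum.comap (algebraMap (R ⧸ I) L)) := by
        rw [PrimeSpectrum.localization_away_comap_range L f]
        exact hfP
      obtain ⟨Q', -⟩ := PrimeSpectrum.comap_surjective_of_faithfullyFlat (A := L) (B := T) Q
      exact nontrivial_of_ne (0 : T) 1 fun h01 => Q'.isPrime.ne_top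
        ((Ideal.eq_top_iff_one _).2 (h01 ▸ Q'.asIdeal.zero_mem))
    haveI : Nontrivial (B ⊗[R] T) := Module.FaithfullyFlat.lTensor_nontrivial R B T
    exact ⟨n, nonempty_mulEquiv_of_nontrivial eB
      (((cancelBC R C L T).symm.trans
        ((bcEquiv T (cancelBC R C (R ⧸ I) L).symm).trans eT)).trans
        (mapDomainEquiv' T MulEquiv.ulift.symm))⟩
  refine ⟨{1}, by simp, fun f hf => ?_⟩
  rw [Set.mem_singleton_iff] at hf
  subst hf
  let L := Localization.Away (1 : R)
  let T := L ⊗[R] B
  letI : Algebra B T := Algebra.TensorProduct.rightAlgebra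
  haveI : IsScalarTower R B T := IsScalarTower.of_algebraMap_eq fun r => by
    show _ = (1 : L) ⊗ₜ[R] algebraMap R B r
    rw [Algebra.TensorProduct.algebraMap_apply, Algebra.algebraMap_eq_smul_one (A := L),
      TensorProduct.smul_tmul, ← Algebra.algebraMap_eq_smul_one]
  refine ⟨T, inferInstance, inferInstance, inferInstance, n, ⟨?_⟩⟩
  exact (((cancelBC R C L T).trans ((cancelBC R C B T).symm.trans
    ((bcEquiv T eB).trans (diagBC B T M)))).trans (mapDomainEquiv' T c)).trans
      (mapDomainEquiv' T MulEquiv.ulift)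

end Groth.Agent.MultTypeLib
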