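import Groth.Agent.Lib.MultType.AdicOpen
import Groth.Agent.Lib.MultType.Isotrivial

/-!
# The open and closed isotrivial subgroup over an adically complete base
-/

universe u

open TensorProduct HopfAlgebra

namespace Groth.Agent.MultTypeLib

variable {R : Type u} [CommRing R] {I : Ideal R} {C : Type u} [CommRing C] [HopfAlgebra R C]

/-- A splitting modulo `I` lifts to a finite étale covering along a henselian pair. -/
theorem exists_lift_splitting (H : HenselianRing R I)
    (h0 : SGA3b.IsIsotrivial (R ⧸ I) ((R ⧸ I) ⊗[R] C)) :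
    ∃ (B : Type u) (_ : CommRing B) (_ : Algebra R B), Algebra.Etale R B ∧ Module.Finite R B ∧
      Module.FaithfullyFlat R B ∧
      SGA3b.IsDiag (B ⧸ I.map (algebraMap R B)) ((B ⧸ I.map (algebraMap R B)) ⊗[B] (B ⊗[R] C)) := by
  obtain ⟨C₀, _, _, _, _, _, hC⟩ := h0
  obtain ⟨B, _, _, _, _, ⟨e⟩⟩ := Hens.exists_finite_etale_lift H C₀
  letI : Algebra R C₀ := ((algebraMap (R ⧸ I) C₀).comp (Ideal.Quotient.mk I)).toAlgebra
  have : IsScalarTower R (R ⧸ I) C₀ := IsScalarTower.of_algebraMap_eq' rfl
  let φ : B →ₐ[R] C₀ := (e.toAlgHom.restrictScalars R).comp Algebra.TensorProduct.includeRight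
  have hφ : Function.Surjective φ := e.surjective.comp
    (Algebra.TensorProduct.includeRight_surjective _ Ideal.Quotient.mk_surjective)
  have hker : RingHom.ker φ = I.map (algebraMap R B) := by
    ext x
    rw [← mem_KT_iff_mem_map, mem_KT_iff_one_tmul_eq_zero]
    exact e.map_eq_zero_iff
  have : Module.Flat R B := inferInstance
  have hff : Module.FaithfullyFlat R B := by
    refine ⟨fun m hm htop => ?_⟩
    have hIm : I ≤ m := H.jac.trans (sInf_le ⟨bot_le, hm⟩)
    haveI := hm.isPrime
    obtain ⟨q, hq⟩ := PrimeSpectrum.comap_surjective_of_faithfullyFlat (A := R ⧸ I) (B := C₀)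
      ⟨m.map (Ideal.Quotient.mk I), Ideal.map_isPrime_of_surjective Ideal.Quotient.mk_surjective
        (by rwa [Ideal.mk_ker])⟩
    have h1 : q.asIdeal.comap (algebraMap R C₀) = m := by
      have h2 := congrArg (fun x : PrimeSpectrum (R ⧸ I) => x.asIdeal.comap (Ideal.Quotient.mk I)) hq
      simp only [PrimeSpectrum.comap_asIdeal, Ideal.comap_comap] at h2
      exact h2.trans (comap_map_quot hIm)
    have h3 : m.map (algebraMap R B) ≤ q.asIdeal.comap φ.toRingHom := by
      rw [Ideal.map_le_iff_le_comap, Ideal.comap_comap]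
      conv_lhs => rw [← h1]
      exact le_of_eq (by rw [← φ.comp_algebraMap]; rfl)
    have h4 : (⊤ : Submodule R B) ≤ (q.asIdeal.comap φ.toRingHom).restrictScalars R := by
      rw [← htop, Ideal.smul_top_eq_map]
      exact h3
    exact q.isPrime.ne_top ((Ideal.eq_top_iff_one _).2 (by simpa using h4 (show (1 : B) ∈ ⊤ from trivial)))
  refine ⟨B, inferInstance, inferInstance, inferInstance, inferInstance, hff, ?_⟩
  let J := I.map (algebraMap R B)
  let ec : C₀ ≃ₐ[R] B ⧸ J :=
    (Ideal.quotientKerAlgEquivOfSurjective hφ).symm.trans (Ideal.quotientEquivAlgOfEq R hker)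
  letI : Algebra C₀ (B ⧸ J) := ec.toAlgHom.toRingHom.toAlgebra
  have : IsScalarTower R C₀ (B ⧸ J) := IsScalarTower.of_algebraMap_eq fun r => (ec.commutes r).symm
  exact isDiag_tensor_tensor B (B ⧸ J)
    (isDiag_baseChange C₀ (B ⧸ J) (isDiag_of_tensor_tensor (R ⧸ I) C₀ hC))

variable [IsNoetherianRing R] [IsAdicComplete I R]

set_option maxHeartbeats 1000000 in
/-- An affine group which is flat along an isotrivial closed fibre of multiplicative type contains
an open and closed isotrivial subgroup. -/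
theorem exists_clopen_subgroup (hft : Algebra.FiniteType R C)
    (hfl : ∀ (q : Ideal C) [q.IsPrime], Ideal.map (algebraMap R C) I ≤ q →
      Module.Flat R (Localization.AtPrime q))
    (h0 : SGA3b.IsIsotrivial (R ⧸ I) ((R ⧸ I) ⊗[R] C)) :
    ∃ e : C, IsIdempotentElem e ∧ e ∈ Ideal.map (algebraMap R C) I ∧
      ∃ _ : (Ideal.span {e}).IsHopfIdeal R, SGA3b.IsIsotrivial R (C ⧸ Ideal.span {e}) := by
  classical
  obtain ⟨B, _, _, _, _, hff, M, _, ⟨e₀⟩⟩ :=
    exists_lift_splitting (IsAdicComplete.henselianRing R I) h0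
  haveI : IsNoetherianRing B := IsNoetherianRing.of_finite R B
  haveI := Compl.isAdicComplete_of_finite I B
  haveI : IsAdicComplete (I.map (algebraMap R B)) B := (IsAdicComplete.map_algebraMap_iff (I := I) (M := B)).mpr inferInstance
  haveI := hft
  obtain ⟨φ, eB, hφ, heB, heBI, hker⟩ := exists_open_of_diag (R := B) (C := B ⊗[R] C)
    (I := I.map (algebraMap R B)) inferInstance (fun q _ hq => flatAt_baseChange hfl q hq) e₀
  rw [Ideal.map_map, ← IsScalarTower.algebraMap_eq] at heBI
  let j₁ := Algebra.TensorProduct.map (Algebra.TensorProduct.includeLeft : B →ₐ[R] B ⊗[R] B)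
    (AlgHom.id R C)
  let j₂ := Algebra.TensorProduct.map (Algebra.TensorProduct.includeRight : B →ₐ[R] B ⊗[R] B)
    (AlgHom.id R C)
  have hI : ∀ j : B ⊗[R] C →ₐ[R] (B ⊗[R] B) ⊗[R] C,
      j eB ∈ I.map (algebraMap R ((B ⊗[R] B) ⊗[R] C)) := fun j => by
    have := Ideal.mem_map_of_mem j.toRingHom heBI
    rwa [Ideal.map_map, AlgHom.toRingHom_eq_coe, AlgHom.comp_algebraMap] at this
  have heq : j₁ eB = j₂ eB := by
    have h1 : j₂ eB * j₁ eB = j₂ eB :=
      mul_eq_of_idem (I := I) φ hφ hker heB _ (heB.map j₂) (hI j₂)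
    have h2 : j₁ eB * j₂ eB = j₁ eB :=
      mul_eq_of_idem (I := I) φ hφ hker heB _ (heB.map j₁) (hI j₁)
    rw [← h2, mul_comm, h1]
  obtain ⟨e, he'⟩ := exists_one_tmul_of_descent eB heq
  have hinj : ∀ {x y : C}, (1 : B) ⊗ₜ[R] x = (1 : B) ⊗ₜ[R] y → x = y := fun {x y} h =>
    Module.FaithfullyFlat.tensorProduct_mk_injective (A := R) (B := B) C h
  have he : IsIdempotentElem e := hinj (by
    rw [show (1 : B) ⊗ₜ[R] (e * e) = ((1 : B) ⊗ₜ[R] e) * ((1 : B) ⊗ₜ[R] e) by simp, he', heB.eq])
  have heI : e ∈ I.map (algebraMap R C) := by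
    rw [← mem_KT_iff_mem_map]
    refine mem_KT_of_one_tmul_mem (R' := B) ?_
    rwa [mem_KT_iff_mem_map, he']
  have hε : Coalgebra.counit (R := R) e = 0 := by
    refine eq_zero_of_idem_of_sep (sep_of_finite (I := I) R) (he.map (Bialgebra.counitAlgHom R C)) ?_
    have h1 := map_mem_KT (Coalgebra.counit (R := R) (A := C)) (mem_KT_iff_mem_map.2 heI)
    rwa [mem_KT_iff_mem_map] at h1
  choose g hg using fun m : M => hφ (MonoidAlgebra.single m (1 : B))
  let sB : MonoidAlgebra B M →ₗ[B] B ⊗[R] C :=
    Finsupp.linearCombination B g ∘ₗ (MonoidAlgebra.coeffLinearEquiv B).toLinearMap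
  have hsB : ∀ y, φ (sB y) = y := by
    intro y
    induction y using MonoidAlgebra.induction_linear with
    | zero => simp
    | add a b ha hb => rw [map_add, map_add, ha, hb]
    | single m r => simp [sB, hg]
  have hmem : ∀ z : B ⊗[R] C, φ z = 0 → z * (1 - eB) = 0 := fun z hz => by
    obtain ⟨w, rfl⟩ := Ideal.mem_span_singleton.1 (show z ∈ Ideal.span {eB} from hker ▸ hz)
    rw [mul_right_comm, mul_sub, mul_one, heB.eq, sub_self, zero_mul]
  have heB0 : φ eB = 0 := by
    have : eB ∈ RingHom.ker (φ : B ⊗[R] C →ₐ[B] MonoidAlgebra B M) := by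
      rw [hker]; exact Ideal.subset_span rfl
    exact this
  -- comultiplication
  let X := B ⊗[R] C
  let ι : C ⊗[R] C →ₐ[R] X ⊗[B] X := Algebra.TensorProduct.lift
    ((Algebra.TensorProduct.includeLeft (R := B) (S := R) (A := X) (B := X)).comp
      Algebra.TensorProduct.includeRight)
    (((Algebra.TensorProduct.includeRight (R := B) (A := X) (B := X)).restrictScalars R).comp
      Algebra.TensorProduct.includeRight) (fun _ _ => Commute.all _ _)
  have hι : ∀ z, ι z = inclTwo B z := by
    intro z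
    induction z using TensorProduct.induction_on with
    | zero => simp
    | tmul a b => simp [ι, inclTwo_tmul]; rfl
    | add a b ha hb => simp only [map_add, ha, hb]
  let Θ : X ⊗[B] X →ₐ[B] B ⊗[R] (C ⊗[R] C) := Algebra.TensorProduct.lift
    (Algebra.TensorProduct.map (AlgHom.id _ _) (Algebra.TensorProduct.includeLeft (S := R)))
    (Algebra.TensorProduct.map (AlgHom.id _ _) Algebra.TensorProduct.includeRight)
    (fun _ _ => Commute.all _ _)
  have hΘ : ∀ z, Θ (ι z) = (1 : B) ⊗ₜ[R] z := by
    intro z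
    induction z using TensorProduct.induction_on with
    | zero => simp
    | tmul x y =>
      rw [hι, inclTwo_tmul]
      show Algebra.TensorProduct.lift _ _ _ (((1 : B) ⊗ₜ[R] x) ⊗ₜ[B] ((1 : B) ⊗ₜ[R] y)) = _
      rw [Algebra.TensorProduct.lift_tmul, Algebra.TensorProduct.map_tmul, Algebra.TensorProduct.map_tmul]
      simp
    | add x y hx hy => simp [map_add, hx, hy, TensorProduct.tmul_add]
  have hιinj : Function.Injective ι := fun x y hxy =>
    Module.FaithfullyFlat.tensorProduct_mk_injective (A := R) (B := B) (C ⊗[R] C)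
      ((hΘ x).symm.trans ((congrArg Θ hxy).trans (hΘ y)))
  have hΔ : Coalgebra.comul (R := R) e * ((1 - e) ⊗ₜ[R] (1 - e)) = 0 := by
    refine hιinj ?_
    have hw : ι ((1 - e) ⊗ₜ[R] (1 - e)) = (1 - eB) ⊗ₜ[B] (1 - eB) := by
      rw [hι, inclTwo_tmul, TensorProduct.tmul_sub, he', Algebra.TensorProduct.one_def]
    rw [map_mul, map_zero, hw, hι, ← comul_one_tmul, he']
    have key : ∀ z : X ⊗[B] X, z * ((1 - eB) ⊗ₜ[B] (1 - eB)) =
        TensorProduct.map sB sB (TensorProduct.map (φ : X →ₗ[B] MonoidAlgebra B M)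
          (φ : X →ₗ[B] MonoidAlgebra B M) z) * ((1 - eB) ⊗ₜ[B] (1 - eB)) := by
      intro z
      induction z using TensorProduct.induction_on with
      | zero => simp
      | add x y hx hy => simp only [map_add, add_mul, hx, hy]
      | tmul a b =>
        have ha : ∀ a, a * (1 - eB) = sB (φ a) * (1 - eB) := fun a => by
          rw [← sub_eq_zero, ← sub_mul]
          exact hmem _ (by rw [map_sub, hsB, sub_self])
        simp only [TensorProduct.map_tmul, Algebra.TensorProduct.tmul_mul_tmul, ha a, ha b]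
        rfl
    rw [key, CoalgHomClass.map_comp_comul_apply φ, heB0, map_zero, map_zero, zero_mul]
  have hS : antipode R e * (1 - e) = 0 := by
    refine hinj ?_
    rw [TensorProduct.tmul_zero, show (1 : B) ⊗ₜ[R] (antipode R e * (1 - e)) =
      ((1 : B) ⊗ₜ[R] antipode R e) * ((1 : B) ⊗ₜ[R] (1 - e)) by simp, TensorProduct.tmul_sub, he',
      ← Algebra.TensorProduct.one_def,
      show (1 : B) ⊗ₜ[R] antipode R e = antipode B ((1 : B) ⊗ₜ[R] e) by simp, he']
    exact hmem _ (by rw [bialgHom_map_antipode, heB0, map_zero])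
  haveI hHopf : (Ideal.span {e}).IsHopfIdeal R := by
    refine { counit_eq_zero := ?_, map_mkQ_comul_eq_zero := ?_, antipode_mem := ?_ }
    · intro x hx
      obtain ⟨w, rfl⟩ := Ideal.mem_span_singleton.1 hx
      rw [Bialgebra.counit_mul, hε, zero_mul]
    · intro x hx
      obtain ⟨w, rfl⟩ := Ideal.mem_span_singleton.1 hx
      set J := Ideal.span {e}
      let π : C →ₐ[R] C ⧸ J := Ideal.Quotient.mkₐ R J
      have h3 : Algebra.TensorProduct.map π π (Coalgebra.comul (R := R) (e * w)) = 0 := by
        have h1 := congrArg (Algebra.TensorProduct.map π π) hΔ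
        rw [map_mul, Algebra.TensorProduct.map_tmul, map_sub, map_one,
          show π e = 0 from Ideal.Quotient.eq_zero_iff_mem.2 (Ideal.subset_span rfl), sub_zero,
          ← Algebra.TensorProduct.one_def, mul_one, map_zero] at h1
        rw [Bialgebra.comul_mul, map_mul, h1, zero_mul]
      let ψ : (C ⧸ J.restrictScalars R) ≃ₗ[R] C ⧸ J := Submodule.Quotient.restrictScalarsEquiv R J
      have h4 : ∀ z, TensorProduct.congr ψ ψ
          (TensorProduct.map (J.restrictScalars R).mkQ (J.restrictScalars R).mkQ z) =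
          Algebra.TensorProduct.map π π z := by
        intro z
        induction z using TensorProduct.induction_on with
        | zero => simp
        | tmul a b => rfl
        | add a b ha hb => simp only [map_add, ha, hb]
      exact (LinearEquiv.map_eq_zero_iff _).1 ((h4 _).trans h3)
    · intro x hx
      obtain ⟨w, rfl⟩ := Ideal.mem_span_singleton.1 hx
      refine Ideal.mem_span_singleton.2 ⟨antipode R e * antipode R w, ?_⟩
      rw [mul_sub, mul_one, sub_eq_zero] at hS
      show antipodeAlgHom R C (e * w) = _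
      rw [map_mul]
      show antipode R e * antipode R w = e * (antipode R e * antipode R w)
      rw [← mul_assoc, mul_comm e, ← hS]
  refine ⟨e, he, heI, hHopf, B, inferInstance, inferInstance, inferInstance, inferInstance, hff,
    M, inferInstance, ?_⟩
  let J := Ideal.span {e}
  let π : B ⊗[R] C →ₐc[B] B ⊗[R] (C ⧸ J) := bcMap B (Bialgebra.Quotient.mkBialgHom (R := R) J)
  refine exists_bialgEquiv_of_ker_eq π φ
    (LinearMap.lTensor_surjective B (g := (Bialgebra.Quotient.mkBialgHom (R := R) J : C →ₗ[R] C ⧸ J))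
      Ideal.Quotient.mk_surjective) hφ ?_
  have h : RingHom.ker (Algebra.TensorProduct.map (AlgHom.id R B) (Ideal.Quotient.mkₐ R J)) =
      (RingHom.ker (Ideal.Quotient.mkₐ R J)).map
        (Algebra.TensorProduct.includeRight : C →ₐ[R] B ⊗[R] C) :=
    Algebra.TensorProduct.lTensor_ker (Ideal.Quotient.mkₐ R J) Ideal.Quotient.mk_surjective
  rw [show RingHom.ker (Ideal.Quotient.mkₐ R J) = J from Ideal.mk_ker, Ideal.map_span,
    Set.image_singleton] at h
  rw [hker, ← show (Algebra.TensorProduct.includeRight : C →ₐ[R] B ⊗[R] C) e = eB from he', ← h]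
  rfl

end Groth.Agent.MultTypeLib
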