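import Groth.Agent.Lib.MultType.AdicConn
import Mathlib.RingTheory.Spectrum.Prime.Chevalley
import Mathlib.RingTheory.Adjoin.FGBaseChange
import Mathlib.RingTheory.Jacobson.Ring

/-!
# Idempotents of connected algebras with a rational point after extension of the base field
-/

universe u

open TensorProduct

namespace Groth.Agent.MultTypeLib

section Field

variable {k S : Type u} [Field k] [CommRing S] [Algebra k S] [ConnectedSpace (PrimeSpectrum S)]
  (ε : S →ₐ[k] k)

/-- Connectedness with a rational point persists over finite extensions. -/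
theorem idem_eq_zero_of_finite (L : Type u) [Field L] [Algebra k L] [Module.Finite k L]
    {e : S ⊗[k] L} (he : IsIdempotentElem e)
    (h : Algebra.TensorProduct.map ε (AlgHom.id k L) e = 0) : e = 0 := by
  let π := PrimeSpectrum.comap (algebraMap S (S ⊗[k] L))
  have hfin : (algebraMap S (S ⊗[k] L)).IsIntegral := RingHom.IsIntegral.of_finite
    (RingHom.finite_algebraMap.2 (inferInstance : Module.Finite S (S ⊗[k] L)))
  have hU : IsClopen (π '' (PrimeSpectrum.basicOpen e : Set (PrimeSpectrum (S ⊗[k] L)))) :=
    ⟨PrimeSpectrum.isClosedMap_comap_of_isIntegral _ hfin _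
        ((PrimeSpectrum.isClopen_iff (s := (PrimeSpectrum.basicOpen e : Set (PrimeSpectrum (S ⊗[k] L))))).2
          ⟨e, he, rfl⟩).1,
      PrimeSpectrum.isOpenMap_comap_algebraMap_tensorProduct_of_field _
        (PrimeSpectrum.basicOpen e).isOpen⟩
  rcases isClopen_iff.1 hU with hem | huniv
  · refine he.eq_zero_of_isNilpotent ?_
    rw [Set.image_eq_empty] at hem
    exact PrimeSpectrum.basicOpen_eq_bot_iff e |>.1 (SetLike.coe_injective (by simpa using hem))
  · exfalso
    haveI : (RingHom.ker ε).IsPrime := RingHom.ker_isPrime _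
    let u : PrimeSpectrum S := ⟨RingHom.ker ε, inferInstance⟩
    have hu : u ∈ π '' (PrimeSpectrum.basicOpen e : Set (PrimeSpectrum (S ⊗[k] L))) := by
      rw [huniv]; trivial
    obtain ⟨Q, hQ, hQu⟩ := hu
    apply hQ
    rw [← Ideal.Quotient.eq_zero_iff_mem]
    let ψ : S ⊗[k] L →ₐ[k] (S ⊗[k] L) ⧸ Q.asIdeal := Ideal.Quotient.mkₐ k Q.asIdeal
    have key : ∀ z, ψ z = ψ (Algebra.TensorProduct.map ((Algebra.ofId k S).comp ε) (AlgHom.id k L) z) := by
      intro z
      induction z using TensorProduct.induction_on with
      | zero => simp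
      | add a b ha hb => simp only [map_add, ha, hb]
      | tmul s l =>
        rw [Algebra.TensorProduct.map_tmul, AlgHom.id_apply, ← sub_eq_zero, ← map_sub, ← TensorProduct.sub_tmul]
        refine Ideal.Quotient.eq_zero_iff_mem.2 ?_
        have h1 : s - algebraMap k S (ε s) ∈ RingHom.ker ε := by simp [RingHom.mem_ker]
        have h2 : algebraMap S (S ⊗[k] L) (s - algebraMap k S (ε s)) ∈ Q.asIdeal := by
          have h6 : u.asIdeal = Q.asIdeal.comap (algebraMap S (S ⊗[k] L)) :=
            (congrArg PrimeSpectrum.asIdeal hQu).symm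
          exact (h6.le h1 : _)
        have h3 := Q.asIdeal.mul_mem_right ((1 : S) ⊗ₜ[k] l) h2
        simpa using h3
    have h5 : Algebra.TensorProduct.map ((Algebra.ofId k S).comp ε) (AlgHom.id k L) e =
        Algebra.TensorProduct.map (Algebra.ofId k S) (AlgHom.id k L)
          (Algebra.TensorProduct.map ε (AlgHom.id k L) e) := by
      generalize e = z
      induction z using TensorProduct.induction_on with
      | zero => simp
      | tmul a b => simp
      | add a b ha hb => simp only [map_add, ha, hb]
    have h4 := key e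
    rw [h5, h, map_zero, map_zero] at h4
    exact h4

set_option maxHeartbeats 1000000 in
/-- Connectedness with a rational point persists over every extension of the base field. -/
theorem idem_eq_zero_of_extension [Algebra.FiniteType k S] (L : Type u) [Field L] [Algebra k L]
    {e : S ⊗[k] L} (he : IsIdempotentElem e)
    (h : Algebra.TensorProduct.map ε (AlgHom.id k L) e = 0) : e = 0 := by
  obtain ⟨A, hA, e', he0⟩ := exists_fg_and_mem_baseChange e
  haveI : Algebra.FiniteType k A := A.fg_iff_finiteType.1 hA
  set j := Algebra.TensorProduct.map (AlgHom.id k S) A.val with hjdef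
  obtain rfl : j e' = e := by
    rw [← he0]
    rfl
  have hj : Function.Injective j :=
    Module.Flat.lTensor_preserves_injective_linearMap (M := S) A.val.toLinearMap Subtype.val_injective
  have he' : IsIdempotentElem e' := hj (by
    show j (e' * e') = j e'
    rw [map_mul]
    exact he.eq)
  have hε' : Algebra.TensorProduct.map ε (AlgHom.id k A) e' = 0 := by
    have hj' : Function.Injective (Algebra.TensorProduct.map (AlgHom.id k k) A.val) :=
      Module.Flat.lTensor_preserves_injective_linearMap (M := k) A.val.toLinearMap Subtype.val_injective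
    refine hj' ?_
    rw [map_zero, ← h]
    generalize e' = z
    induction z using TensorProduct.induction_on with
    | zero => simp
    | tmul a b => simp [j]
    | add a b ha hb => simp only [map_add, ha, hb]
  suffices e' = 0 by
    show j e' = 0
    rw [this, map_zero]
  by_contra hne
  have hnu : ¬ IsUnit (1 - e') := fun hu => hne <| by
    have : (1 - e') * e' = 0 := by rw [sub_mul, one_mul, he'.eq, sub_self]
    exact hu.mul_right_eq_zero.1 this
  obtain ⟨Q, hQ, hQe⟩ := exists_max_ideal_of_mem_nonunits hnu
  haveI := hQ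
  letI : Field ((S ⊗[k] A) ⧸ Q) := Ideal.Quotient.field Q
  haveI : Algebra.FiniteType k (S ⊗[k] A) :=
    Algebra.FiniteType.trans (S := S) inferInstance inferInstance
  haveI : Algebra.FiniteType k ((S ⊗[k] A) ⧸ Q) :=
    Algebra.FiniteType.of_surjective (Ideal.Quotient.mkₐ k Q) Ideal.Quotient.mk_surjective
  haveI : Module.Finite k ((S ⊗[k] A) ⧸ Q) := finite_of_finite_type_of_isJacobsonRing _ _
  let g : A →ₐ[k] (S ⊗[k] A) ⧸ Q := (Ideal.Quotient.mkₐ k Q).comp Algebra.TensorProduct.includeRight
  let m := RingHom.ker g
  haveI : m.IsPrime := RingHom.ker_isPrime _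
  let g' : (A ⧸ m) →ₐ[k] (S ⊗[k] A) ⧸ Q := Ideal.Quotient.liftₐ m g fun _ hx => hx
  haveI : Module.Finite k (A ⧸ m) := Module.Finite.of_injective g'.toLinearMap
    ((injective_iff_map_eq_zero g').2 fun x hx => by
      obtain ⟨a, rfl⟩ := Ideal.Quotient.mk_surjective x
      exact Ideal.Quotient.eq_zero_iff_mem.2 hx)
  haveI : Algebra.IsIntegral k (A ⧸ m) := Algebra.IsIntegral.of_finite k _
  letI : Field (A ⧸ m) := (isField_of_isIntegral_of_isField' (Field.toIsField k)).toField
  have h0 : Algebra.TensorProduct.map (AlgHom.id k S) (Ideal.Quotient.mkₐ k m) e' = 0 := by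
    refine idem_eq_zero_of_finite ε (A ⧸ m)
      (he'.map (Algebra.TensorProduct.map (AlgHom.id k S) (Ideal.Quotient.mkₐ k m))) ?_
    rw [← map_zero (Algebra.TensorProduct.map (AlgHom.id k k) (Ideal.Quotient.mkₐ k m)), ← hε']
    generalize e' = z
    induction z using TensorProduct.induction_on with
    | zero => simp
    | tmul a b => simp
    | add a b ha hb => simp only [map_add, ha, hb]
  let L' : S ⊗[k] (A ⧸ m) →ₐ[k] (S ⊗[k] A) ⧸ Q := Algebra.TensorProduct.lift
    ((Ideal.Quotient.mkₐ k Q).comp Algebra.TensorProduct.includeLeft) g' (fun _ _ => Commute.all _ _)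
  have key : ∀ z, L' (Algebra.TensorProduct.map (AlgHom.id k S) (Ideal.Quotient.mkₐ k m) z) =
      Ideal.Quotient.mk Q z := by
    intro z
    induction z using TensorProduct.induction_on with
    | zero => simp
    | tmul a b =>
      simp only [L', Algebra.TensorProduct.map_tmul, Algebra.TensorProduct.lift_tmul]
      show Ideal.Quotient.mk Q (a ⊗ₜ[k] (1 : A)) * Ideal.Quotient.mk Q ((1 : S) ⊗ₜ[k] b) = _
      rw [← map_mul, Algebra.TensorProduct.tmul_mul_tmul, mul_one, one_mul]
    | add a b ha hb => rw [map_add, map_add, map_add, ha, hb]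
  have he0 : e' ∈ Q := by
    rw [← Ideal.Quotient.eq_zero_iff_mem, ← key, h0, map_zero]
  exact hQ.ne_top ((Ideal.eq_top_iff_one _).2 (by simpa using Q.add_mem hQe he0))

end Field

variable {R : Type u} [CommRing R] {C : Type u} [CommRing C] [HopfAlgebra R C]

/-- In a fibre over a field extension of a connected fibre, idempotents vanishing at the unit
point vanish. -/
theorem idem_eq_zero_of_connected_fibre (hft : Algebra.FiniteType R C) (p : Ideal R) [p.IsPrime]
    [ConnectedSpace (PrimeSpectrum (p.ResidueField ⊗[R] C))] (L : Type u) [Field L] [Algebra R L]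
    (hp : RingHom.ker (algebraMap R L) = p) {e : L ⊗[R] C} (he : IsIdempotentElem e)
    (hε : Coalgebra.counit (R := L) e = 0) : e = 0 := by
  let k := p.ResidueField
  let ι : k →ₐ[R] L := Ideal.ResidueField.liftₐ p (Algebra.ofId R L) (le_of_eq hp.symm)
    fun x hx => isUnit_iff_ne_zero.2 fun h0 => hx (hp ▸ h0)
  letI : Algebra k L := ι.toRingHom.toAlgebra
  haveI : IsScalarTower R k L := IsScalarTower.of_algebraMap_eq fun r => (ι.commutes r).symm
  let S := k ⊗[R] C
  let Φ : (S ⊗[k] L) ≃ₐ[k] L ⊗[R] C := (Algebra.TensorProduct.comm k S L).trans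
    ((Algebra.TensorProduct.cancelBaseChange R k k L C).restrictScalars k)
  haveI := hft
  have h1 : Φ.symm e = 0 := by
    refine idem_eq_zero_of_extension (Bialgebra.counitAlgHom k S) L (he.map Φ.symm) ?_
    apply (Algebra.TensorProduct.lid k L).injective
    rw [map_zero, ← hε]
    obtain ⟨z, rfl⟩ := Φ.surjective e
    rw [Φ.symm_apply_apply]
    clear he hε
    induction z using TensorProduct.induction_on with
    | zero => simp
    | add a b ha hb => simp only [map_add, ha, hb]
    | tmul s l =>
      induction s using TensorProduct.induction_on with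
      | zero => simp
      | add a b ha hb => simp only [TensorProduct.add_tmul, map_add, ha, hb]
      | tmul q c =>
        simp [Φ, S, Algebra.smul_def, mul_comm, mul_left_comm, ← IsScalarTower.algebraMap_apply R k L]
  exact Φ.symm.map_eq_zero_iff.1 h1

end Groth.Agent.MultTypeLib
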