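import Groth.Agent.Lib.MultType.AdicTorsion
import Groth.Agent.Lib.MultType.FibreConn

/-!
# Vanishing of the complementary idempotent after base change
-/

universe u

open TensorProduct WithConv

namespace Groth.Agent.MultTypeLib

variable {R : Type u} [CommRing R] {C : Type u} [CommRing C] [HopfAlgebra R C]
  (T : Type u) [CommRing T] [Algebra R T]

/-- Connected fibres kill idempotents vanishing at the unit section, after any base change. -/
theorem idem_eq_zero_of_conn (hft : Algebra.FiniteType R C)
    (hconn : ∀ (p : Ideal R) [p.IsPrime], ConnectedSpace (PrimeSpectrum (p.ResidueField ⊗[R] C)))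
    {e : T ⊗[R] C} (he : IsIdempotentElem e) (hε : Coalgebra.counit (R := T) e = 0) : e = 0 := by
  refine he.eq_zero_of_isNilpotent ?_
  rw [nilpotent_iff_mem_prime]
  intro q hq
  haveI := hq
  let P := q.comap (algebraMap T (T ⊗[R] C))
  let L := P.ResidueField
  let p := RingHom.ker (algebraMap R L)
  haveI : p.IsPrime := RingHom.ker_isPrime _
  haveI := hconn p
  let θ : T ⊗[R] C →ₐ[R] L ⊗[R] C :=
    Algebra.TensorProduct.map (IsScalarTower.toAlgHom R T L) (AlgHom.id R C)
  have hnat : ∀ z, Coalgebra.counit (R := L) (θ z) = algebraMap T L (Coalgebra.counit (R := T) z) := by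
    intro z
    induction z using TensorProduct.induction_on with
    | zero => simp
    | tmul a b => simp [θ, Algebra.smul_def, ← IsScalarTower.algebraMap_apply, mul_comm]
    | add a b ha hb => simp only [map_add, ha, hb]
  have h0 : θ e = 0 := idem_eq_zero_of_connected_fibre hft p L rfl (he.map θ) (by rw [hnat, hε, map_zero])
  let κ : T ⊗[R] C →+* q.ResidueField := algebraMap (T ⊗[R] C) q.ResidueField
  let τ : L →ₐ[T] q.ResidueField := Ideal.ResidueField.mapₐ P q (Algebra.ofId T (T ⊗[R] C)) rfl
  let ρ : L ⊗[R] C →ₐ[R] q.ResidueField := Algebra.TensorProduct.lift (τ.restrictScalars R)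
    ((IsScalarTower.toAlgHom R (T ⊗[R] C) q.ResidueField).comp Algebra.TensorProduct.includeRight)
    (fun _ _ => Commute.all _ _)
  have key : ∀ z, ρ (θ z) = κ z := by
    intro z
    induction z using TensorProduct.induction_on with
    | zero => simp
    | tmul a b =>
      have ha : τ (algebraMap T L a) = κ (algebraMap T (T ⊗[R] C) a) := by
        rw [AlgHom.commutes]
        exact IsScalarTower.algebraMap_apply T (T ⊗[R] C) q.ResidueField a
      simp only [ρ, θ, Algebra.TensorProduct.map_tmul, Algebra.TensorProduct.lift_tmul,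
        AlgHom.restrictScalars_apply, IsScalarTower.toAlgHom_apply, AlgHom.id_apply, AlgHom.comp_apply,
        Algebra.TensorProduct.includeRight_apply, ha]
      rw [← map_mul]
      simp [Algebra.TensorProduct.algebraMap_apply]
    | add a b ha hb => simp only [map_add, ha, hb]
  rw [← Ideal.ker_algebraMap_residueField q, RingHom.mem_ker]
  show κ e = 0
  rw [← key, h0, map_zero]

theorem powConv_baseChange (n : ℕ) (z : T ⊗[R] C) : SGA3b.powConv T (T ⊗[R] C) n z =
    Algebra.TensorProduct.map (AlgHom.id T T) (SGA3b.powConv R C n) z := by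
  induction n generalizing z with
  | zero =>
    induction z using TensorProduct.induction_on with
    | zero => simp
    | add a b ha hb => simp only [map_add, ha, hb]
    | tmul t c =>
      show algebraMap T (T ⊗[R] C) (Coalgebra.counit (R := T) (t ⊗ₜ[R] c)) =
        t ⊗ₜ[R] algebraMap R C (Coalgebra.counit c)
      rw [Algebra.algebraMap_eq_smul_one (R := R), TensorProduct.tmul_smul]
      simp [Algebra.algebraMap_eq_smul_one, TensorProduct.smul_tmul',
        Algebra.TensorProduct.one_def]
  | succ n ih =>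
    induction z using TensorProduct.induction_on with
    | zero => simp
    | add a b ha hb => simp only [map_add, ha, hb]
    | tmul t c =>
      rw [show t ⊗ₜ[R] c = t • ((1 : T) ⊗ₜ[R] c) by simp [TensorProduct.smul_tmul'], map_smul,
        map_smul]
      congr 1
      rw [Algebra.TensorProduct.map_tmul, map_one]
      show (toConv (AlgHom.id T (T ⊗[R] C)) ^ (n + 1)) ((1 : T) ⊗ₜ[R] c) =
        (1 : T) ⊗ₜ[R] (toConv (AlgHom.id R C) ^ (n + 1)) c
      rw [pow_succ, pow_succ, AlgHom.convMul_apply, AlgHom.convMul_apply, comul_one_tmul]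
      induction Coalgebra.comul (R := R) c using TensorProduct.induction_on with
      | zero => simp
      | tmul a b =>
        rw [inclTwo_tmul, Algebra.TensorProduct.lift_tmul, Algebra.TensorProduct.lift_tmul]
        show SGA3b.powConv T (T ⊗[R] C) n ((1 : T) ⊗ₜ[R] a) * ((1 : T) ⊗ₜ[R] b) =
          (1 : T) ⊗ₜ[R] (SGA3b.powConv R C n a * b)
        simp [ih]
      | add a b ha hb => simp only [map_add, TensorProduct.tmul_add, ha, hb]

theorem torsionIdeal_baseChange (n : ℕ) : SGA3b.torsionIdeal T (T ⊗[R] C) n =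
    (SGA3b.torsionIdeal R C n).map (Algebra.TensorProduct.includeRight : C →ₐ[R] T ⊗[R] C) := by
  refine le_antisymm (Ideal.map_le_iff_le_comap.2 fun z hz => ?_)
    (Ideal.map_le_iff_le_comap.2 (Ideal.map_le_iff_le_comap.2 fun c hc => ?_))
  · show SGA3b.powConv T (T ⊗[R] C) n z ∈ (SGA3b.torsionIdeal R C n).map (Algebra.TensorProduct.includeRight : C →ₐ[R] T ⊗[R] C)
    rw [powConv_baseChange]
    have h := map_sub_counit_mem (W := T) (SGA3b.powConv R C n)
      (J := SGA3b.torsionIdeal R C n) rfl z
    rwa [show Coalgebra.counit (R := T) z = 0 from hz, map_zero, sub_zero] at h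
  · show (1 : T) ⊗ₜ[R] SGA3b.powConv R C n c ∈ SGA3b.torsionIdeal T (T ⊗[R] C) n
    have h := Ideal.mem_map_of_mem (SGA3b.powConv T (T ⊗[R] C) n)
      (show (1 : T) ⊗ₜ[R] c ∈ RingHom.ker (Bialgebra.counitAlgHom T (T ⊗[R] C)) by
        simp [RingHom.mem_ker, show Coalgebra.counit (R := R) c = 0 from hc])
    rwa [powConv_baseChange, Algebra.TensorProduct.map_tmul, AlgHom.id_apply] at h

theorem finite_torsion_baseChange (n : ℕ)
    (hfin : Module.Finite R (C ⧸ SGA3b.torsionIdeal R C n)) :
    Module.Finite T ((T ⊗[R] C) ⧸ SGA3b.torsionIdeal T (T ⊗[R] C) n) := by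
  set J' := SGA3b.torsionIdeal T (T ⊗[R] C) n with hJ'
  let f : T ⊗[R] (C ⧸ SGA3b.torsionIdeal R C n) →ₐ[T] (T ⊗[R] C) ⧸ J' :=
    Algebra.TensorProduct.lift (Algebra.ofId T _)
      (Ideal.Quotient.liftₐ _ ((Ideal.Quotient.mkₐ R J').comp Algebra.TensorProduct.includeRight)
        (fun c hc => Ideal.Quotient.eq_zero_iff_mem.2 (by
          rw [hJ', torsionIdeal_baseChange]
          exact Ideal.mem_map_of_mem _ hc)))
      (fun _ _ => Commute.all _ _)
  refine Module.Finite.of_surjective f.toLinearMap fun x => ?_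
  obtain ⟨z, rfl⟩ := Ideal.Quotient.mk_surjective x
  refine ⟨Algebra.TensorProduct.map (AlgHom.id T T) (Ideal.Quotient.mkₐ R _) z, ?_⟩
  show f (Algebra.TensorProduct.map (AlgHom.id T T) (Ideal.Quotient.mkₐ R _) z) = _
  induction z using TensorProduct.induction_on with
  | zero => simp
  | tmul t c =>
    rw [show t ⊗ₜ[R] c = t • ((1 : T) ⊗ₜ[R] c) by simp [TensorProduct.smul_tmul'], map_smul,
      map_smul, ← Ideal.Quotient.mkₐ_eq_mk T, map_smul]
    simp [f]
  | add a b ha hb => simp only [map_add, ha, hb]

/-- An open and closed subgroup of multiplicative type is everything, the torsion being finite. -/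
theorem idem_eq_zero_of_torsion_finite {I : Ideal R} (hI : I ≤ Ideal.jacobson ⊥)
    [Coalgebra.IsCocomm R C] (hft : Algebra.FiniteType R C)
    (hfin : ∀ n : ℕ, 0 < n → Module.Finite R (C ⧸ SGA3b.torsionIdeal R C n))
    {e : C} (he : IsIdempotentElem e) (heI : e ∈ I.map (algebraMap R C))
    (hε : Coalgebra.counit (R := R) e = 0) [(Ideal.span {e}).IsHopfIdeal R]
    (h : SGA3b.IsMultTypeConst R (C ⧸ Ideal.span {e})) : e = 0 := by
  refine he.eq_zero_of_isNilpotent ?_
  rw [nilpotent_iff_mem_prime]
  intro q hq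
  haveI := hq
  rw [← Ideal.ker_algebraMap_residueField q, RingHom.mem_ker]
  exact point_idem_eq_zero hI hft hfin he heI hε h (IsScalarTower.toAlgHom R C q.ResidueField)

end Groth.Agent.MultTypeLib
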