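import Groth.Agent.Lib.MultType.Integral

/-!
# Rigidity of homomorphisms out of groups of multiplicative type, modulo nilpotents
-/

open TensorProduct WithConv

namespace Groth.Agent.MultTypeLib

variable {R : Type*} [CommRing R] {A : Type*} [CommRing A] [Bialgebra R A]

/-- Averaging the last factor. -/
noncomputable def avg (j : A →ₗ[R] R) (P : Type*) [AddCommGroup P] [Module R P] :
    P ⊗[R] A →ₗ[R] P :=
  (TensorProduct.rid R P).toLinearMap ∘ₗ j.lTensor P

theorem avg_tmul (j : A →ₗ[R] R) {P : Type*} [AddCommGroup P] [Module R P] (p : P) (a : A) :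
    avg j P (p ⊗ₜ[R] a) = j a • p := by simp [avg]

theorem avg_comul {j : A →ₗ[R] R} (hj : IsInt j) (a : A) :
    avg j A (Coalgebra.comul (R := R) a) = j a • 1 := by
  have key : ∀ z : A ⊗[R] A, avg j A z =
      TensorProduct.lid R A (j.rTensor A (TensorProduct.comm R A A z)) := by
    intro z
    induction z using TensorProduct.induction_on with
    | zero => simp
    | tmul x y => simp [avg_tmul]
    | add x y hx hy => simp [hx, hy]
  rw [key, hj.right]
  simp

section

variable {j : A →ₗ[R] R} {C : Type*} [CommRing C] [Bialgebra R C]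

/-- One step: `φ - ε` in `K` implies in `K * K`. -/
theorem sub_counit_mem_sq (hj : IsInt j) (φ : C →ₐc[R] A) {K : Ideal R}
    (h : ∀ c, φ c - algebraMap R A (Coalgebra.counit c) ∈ KT K A) (c : C) :
    φ c - algebraMap R A (Coalgebra.counit c) ∈ KT (K * K) A := by
  let η : C →ₗ[R] A := (Algebra.linearMap R A) ∘ₗ (Coalgebra.counit (R := R))
  let d : C →ₗ[R] A := (φ : C →ₗ[R] A) - η
  have hd : ∀ x, d x = φ x - algebraMap R A (Coalgebra.counit x) := fun _ => rfl
  have hη : ∀ x, η x = (Coalgebra.counit (R := R) x) • (1 : A) := fun x =>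
    Algebra.algebraMap_eq_smul_one _
  have hφ : (φ : C →ₗ[R] A) = d + η := (sub_add_cancel _ _).symm
  have hΔ : Coalgebra.comul (R := R) (φ c) =
      TensorProduct.map (φ : C →ₗ[R] A) (φ : C →ₗ[R] A) (Coalgebra.comul (R := R) c) :=
    (CoalgHomClass.map_comp_comul_apply φ c).symm
  have hη' : η = (Algebra.linearMap R A) ∘ₗ (Coalgebra.counit (R := R)) := rfl
  have h1 : TensorProduct.map d η (Coalgebra.comul (R := R) c) = d c ⊗ₜ[R] (1 : A) := by
    rw [hη', ← LinearMap.map_comp_lTensor, LinearMap.comp_apply,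
      Coalgebra.lTensor_counit_comul]
    simp
  have h2 : TensorProduct.map η d (Coalgebra.comul (R := R) c) = (1 : A) ⊗ₜ[R] d c := by
    rw [hη', ← LinearMap.map_comp_rTensor, LinearMap.comp_apply,
      Coalgebra.rTensor_counit_comul]
    simp
  have h3 : TensorProduct.map η η (Coalgebra.comul (R := R) c) = (1 : A) ⊗ₜ[R] η c := by
    nth_rw 1 [hη']
    rw [← LinearMap.map_comp_rTensor, LinearMap.comp_apply,
      Coalgebra.rTensor_counit_comul]
    simp
  have hsum := congrArg (avg j A) hΔ
  rw [avg_comul hj, hφ, TensorProduct.map_add_left, TensorProduct.map_add_right,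
    TensorProduct.map_add_right] at hsum
  simp only [LinearMap.add_apply, map_add, h1, h2, h3, avg_tmul, hj.one, one_smul] at hsum
  have hφc : j (φ c) = j (d c) + j (η c) := by rw [← map_add]; simp [d]
  rw [hφc, add_smul] at hsum
  have hdc : d c = - avg j A (TensorProduct.map d d (Coalgebra.comul (R := R) c)) :=
    eq_neg_of_add_eq_zero_left (by linear_combination (norm := module) -hsum)
  show d c ∈ _
  rw [hdc]
  refine neg_mem (map_mem_KT _ ?_)
  induction (Coalgebra.comul (R := R) c) using TensorProduct.induction_on with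
  | zero => simp
  | tmul x y =>
    rw [TensorProduct.map_tmul]
    exact bilin_mem_KT (TensorProduct.mk R A A) (h x) (h y)
  | add x y hx hy => rw [map_add]; exact add_mem hx hy

theorem eq_counit_of_mod_nilpotent (hj : IsInt j) (φ : C →ₐc[R] A) {I : Ideal R}
    (hI : IsNilpotent I) (h : ∀ c, φ c - algebraMap R A (Coalgebra.counit c) ∈ KT I A) (c : C) :
    φ c = algebraMap R A (Coalgebra.counit c) := by
  obtain ⟨n, hn⟩ := hI
  have : ∀ k : ℕ, ∀ x, φ x - algebraMap R A (Coalgebra.counit x) ∈ KT (I ^ (k + 1)) A := by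
    intro k
    induction k with
    | zero => simpa using h
    | succ k ih =>
      intro x
      refine KT_mono ?_ (sub_counit_mem_sq hj φ ih x)
      rw [pow_succ (n := k + 1)]
      exact Ideal.mul_mono_right (Ideal.pow_le_self (Nat.succ_ne_zero k))
  have hz := this n c
  have hbot : I ^ (n + 1) = ⊥ := by rw [pow_succ, hn]; simp
  rw [hbot, KT_bot, Submodule.mem_bot] at hz
  exact sub_eq_zero.mp hz

end

section Cocomm

variable {R : Type*} [CommRing R] {A : Type*} [CommRing A] [Bialgebra R A]
  {C : Type*} [CommRing C] [HopfAlgebra R C] [Coalgebra.IsCocomm R C]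

/-- The two coordinate maps of a coalgebra-compatible algebra map. -/
theorem postComp_comul (φ : C →ₐc[R] A) :
    postComp (Bialgebra.comulAlgHom R A) (toConv (φ : C →ₐ[R] A)) =
      postComp (Algebra.TensorProduct.includeLeft (S := R)) (toConv (φ : C →ₐ[R] A)) *
        postComp Algebra.TensorProduct.includeRight (toConv (φ : C →ₐ[R] A)) := by
  rw [postComp_apply, postComp_apply, postComp_apply, ι_mul_ι]
  congr 1
  exact AlgHom.ext fun c => (CoalgHomClass.map_comp_comul_apply φ c).symm

/-- The quotient of two homomorphisms into a commutative group. -/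
theorem exists_div_bialgHom (φ ψ : C →ₐc[R] A) :
    ∃ χ : C →ₐc[R] A, toConv (χ : C →ₐ[R] A) =
      toConv (φ : C →ₐ[R] A) * (toConv (ψ : C →ₐ[R] A))⁻¹ := by
  let x := toConv (φ : C →ₐ[R] A) * (toConv (ψ : C →ₐ[R] A))⁻¹
  have h1 : postComp (Bialgebra.comulAlgHom R A) x =
      postComp (Algebra.TensorProduct.includeLeft (S := R)) x *
        postComp Algebra.TensorProduct.includeRight x := by
    simp only [x, map_mul, map_inv, postComp_comul, mul_inv]
    exact mul_mul_mul_comm _ _ _ _
  have h2 : postComp (Bialgebra.counitAlgHom R A) x = 1 := by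
    have : ∀ θ : C →ₐc[R] A, postComp (Bialgebra.counitAlgHom R A) (toConv (θ : C →ₐ[R] A)) = 1 := by
      intro θ
      apply ofConv_injective
      ext c
      exact (CoalgHomClass.counit_comp_apply θ c).trans (by simp)
    simp [x, map_mul, map_inv, this]
  refine ⟨BialgHom.ofAlgHom x.ofConv ?_ ?_, rfl⟩
  · refine AlgHom.ext fun c => ?_
    simpa [postComp_apply] using DFunLike.congr_fun (congrArg WithConv.ofConv h2) c
  · rw [postComp_apply, postComp_apply, postComp_apply, ι_mul_ι] at h1
    exact (congrArg WithConv.ofConv h1).symm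

theorem eq_of_mod_nilpotent {j : A →ₗ[R] R} (hj : IsInt j) (φ ψ : C →ₐc[R] A) {I : Ideal R}
    (hI : IsNilpotent I) (h : ∀ c, φ c - ψ c ∈ KT I A) : φ = ψ := by
  obtain ⟨χ, hχ⟩ := exists_div_bialgHom φ ψ
  let q : A →ₐ[R] (R ⧸ I) ⊗[R] A := Algebra.TensorProduct.includeRight
  have hq : postComp q (toConv (φ : C →ₐ[R] A)) = postComp q (toConv (ψ : C →ₐ[R] A)) := by
    apply ofConv_injective
    ext c
    exact sub_mem_KT_iff_one_tmul_eq.mp (h c)
  have hχ1 : postComp q (toConv (χ : C →ₐ[R] A)) = 1 := by
    rw [hχ, map_mul, map_inv, hq, mul_inv_cancel]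
  have hχ' : toConv (χ : C →ₐ[R] A) = 1 := by
    apply ofConv_injective
    ext c
    refine eq_counit_of_mod_nilpotent hj χ hI (fun x => sub_mem_KT_iff_one_tmul_eq.mpr ?_) c
    have := DFunLike.congr_fun (congrArg WithConv.ofConv hχ1) x
    exact this.trans (q.commutes _).symm
  rw [hχ, mul_inv_eq_one] at hχ'
  exact BialgHom.coe_algHom_injective (toConv_injective hχ')

end Cocomm

end Groth.Agent.MultTypeLib
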