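import Groth.Agent.Lib.MultType.Split
import Groth.Agent.Lib.MultType.Sep
import Groth.Agent.Lib.MultType.Rigidity

/-!
# The pairing of a group of multiplicative type and rigidity over local rings
-/

universe u

open TensorProduct WithConv

namespace Groth.Agent.MultTypeLib

variable {R : Type u} [CommRing R] {A : Type u} [CommRing A] [HopfAlgebra R A]

/-- An element lies in the ideal generated by finitely many of its pairings. -/
theorem exists_finset_pairing (h : SGA3b.IsMultType R A) {j : A →ₗ[R] R} (hj : IsInt j) (z : A) :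
    ∃ s : Finset A, z ∈ KT (Ideal.span ((fun a => j (z * a)) '' (s : Set A))) A := by
  classical
  obtain ⟨ι, _, T, _, _, _, hff, hd⟩ := exists_split_family h
  have := Fintype.ofFinite ι
  have key : ∀ i, ∃ s : Finset A, (1 : T i) ⊗ₜ[R] z ∈
      KT (Ideal.span ((fun a => j (z * a)) '' (s : Set A))) (T i ⊗[R] A) := by
    intro i
    obtain ⟨M, _, ⟨e⟩⟩ := hd i
    let J : T i ⊗[R] A →ₗ[T i] T i := coeffOne (T i) M ∘ₗ (e : T i ⊗[R] A →ₗ[T i] MonoidAlgebra (T i) M)
    have hJ : IsInt J := (isInt_coeffOne (T i) M).comp_equiv e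
    have hJa : ∀ a, J ((1 : T i) ⊗ₜ[R] a) = algebraMap R (T i) (j a) := fun a =>
      LinearMap.congr_fun (hJ.of_baseChange.unique (hj.comp (Algebra.ofId R (T i)))) a
    have hJt : ∀ (t : T i) (a : A),
        J (((1 : T i) ⊗ₜ[R] z) * (t ⊗ₜ[R] a)) = j (z * a) • t := fun t a => by
      rw [Algebra.TensorProduct.tmul_mul_tmul, one_mul,
        show t ⊗ₜ[R] (z * a) = t • ((1 : T i) ⊗ₜ[R] (z * a)) by
          rw [TensorProduct.smul_tmul', smul_eq_mul, mul_one],
        map_smul, hJa, smul_eq_mul, Algebra.smul_def, mul_comm]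
    choose S hS using fun n : M => TensorProduct.exists_finset (R := R)
      (e.symm (MonoidAlgebra.single n⁻¹ (1 : T i)))
    let supp := (e ((1 : T i) ⊗ₜ[R] z)).coeff.support
    refine ⟨supp.biUnion fun n => (S n).image Prod.snd, ?_⟩
    rw [← e.symm_apply_apply ((1 : T i) ⊗ₜ[R] z), ← MonoidAlgebra.sum_coeff_single (e ((1 : T i) ⊗ₜ[R] z)),
      map_finsuppSum]
    refine Submodule.sum_mem _ fun n hn => ?_
    have hc : (e ((1 : T i) ⊗ₜ[R] z)).coeff n = ∑ p ∈ S n, j (z * p.2) • p.1 := by
      have h1 : (e ((1 : T i) ⊗ₜ[R] z)).coeff n =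
          J (((1 : T i) ⊗ₜ[R] z) * e.symm (MonoidAlgebra.single n⁻¹ (1 : T i))) := by
        show _ = coeffOne (T i) M (e (_ * _))
        rw [map_mul, e.apply_symm_apply]
        simp [coeffOne, MonoidAlgebra.coeff_mul_single_eq_coeff_mul n (x := e ((1 : T i) ⊗ₜ[R] z))
          (r := 1) (m₁ := 1) (m := n⁻¹) fun m' _ => by rw [mul_inv_eq_one]]
      rw [h1, hS n, Finset.mul_sum, map_sum]
      exact Finset.sum_congr rfl fun p _ => hJt p.1 p.2
    have h2 : e.symm (MonoidAlgebra.single n ((e ((1 : T i) ⊗ₜ[R] z)).coeff n)) =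
        (e ((1 : T i) ⊗ₜ[R] z)).coeff n • e.symm (MonoidAlgebra.single n (1 : T i)) := by
      rw [← map_smul, MonoidAlgebra.smul_single, smul_eq_mul, mul_one]
    show e.symm (MonoidAlgebra.single n ((e ((1 : T i) ⊗ₜ[R] z)).coeff n)) ∈ _
    rw [h2, hc, Finset.sum_smul]
    refine Submodule.sum_mem _ fun p hp => ?_
    rw [smul_assoc]
    refine Submodule.smul_mem_smul (Ideal.subset_span ⟨p.2, ?_, rfl⟩) Submodule.mem_top
    simp only [Finset.coe_biUnion, Set.mem_iUnion]
    exact ⟨n, hn, Finset.mem_image_of_mem _ hp⟩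
  choose s hs using key
  refine ⟨Finset.univ.biUnion s, ?_⟩
  set K := Ideal.span ((fun a => j (z * a)) '' ((Finset.univ.biUnion s : Finset A) : Set A)) with hK
  rw [mem_KT_iff_one_tmul_eq_zero]
  refine Module.FaithfullyFlat.tensorProduct_mk_injective (A := R) (B := Π i, T i) _ ?_
  show (1 : Π i, T i) ⊗ₜ[R] ((1 : R ⧸ K) ⊗ₜ[R] z) = (1 : Π i, T i) ⊗ₜ[R] 0
  rw [TensorProduct.tmul_zero,
    show (1 : Π i, T i) = ∑ i, LinearMap.single R T i 1 from (Finset.univ_sum_single (1 : Π i, T i)).symm,
    TensorProduct.sum_tmul]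
  refine Finset.sum_eq_zero fun i _ => ?_
  have h0 : ((1 : R ⧸ K) ⊗ₜ[R] ((1 : T i) ⊗ₜ[R] z)) = 0 :=
    mem_KT_iff_one_tmul_eq_zero.1 (KT_mono (Ideal.span_mono (Set.image_mono
      (Finset.coe_subset.2 (Finset.subset_biUnion_of_mem s (Finset.mem_univ i))))) (hs i))
  have h1 : (1 : T i) ⊗ₜ[R] ((1 : R ⧸ K) ⊗ₜ[R] z) = 0 := by
    rw [← TensorProduct.leftComm_tmul (R := R), h0, LinearEquiv.map_zero]
  have h2 := congrArg ((LinearMap.single R T i).rTensor ((R ⧸ K) ⊗[R] A)) h1
  rw [LinearMap.rTensor_tmul, map_zero] at h2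
  exact h2

variable {C : Type u} [CommRing C] [HopfAlgebra R C]

/-- A homomorphism to a group of multiplicative type congruent to the trivial one modulo the
maximal ideal is trivial. -/
theorem bialgHom_eq_counit_of_mod_maximal [IsLocalRing R] (h : SGA3b.IsMultType R A)
    (hC : IsNoetherianRing R ∨ Algebra.FiniteType R C) (φ : C →ₐc[R] A)
    (hs : ∀ c, φ c - algebraMap R A (Coalgebra.counit c) ∈ KT (IsLocalRing.maximalIdeal R) A)
    (c : C) : φ c = algebraMap R A (Coalgebra.counit c) := by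
  classical
  obtain ⟨j, hj⟩ := exists_isInt_of_isMultType h
  let d : C → A := fun c => φ c - algebraMap R A (Coalgebra.counit c)
  choose s hsd using fun c => exists_finset_pairing h hj (d c)
  have hprop : ∃ K : Ideal R, K.FG ∧ (∀ K' : Ideal R, (∀ c, d c ∈ KT K' A) → K ≤ K') ∧
      ∀ c, d c ∈ KT K A := by
    let S : C → Set R := fun c => (fun a => j (d c * a)) '' (s c : Set A)
    have hle : ∀ (t : Set C) (K' : Ideal R), (∀ c, d c ∈ KT K' A) →
        Ideal.span (⋃ c ∈ t, S c) ≤ K' := by
      intro t K' hK'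
      refine Ideal.span_le.2 fun r hr => ?_
      simp only [Set.mem_iUnion] at hr
      obtain ⟨c, -, a, -, rfl⟩ := hr
      have h1 := map_mem_KT (j ∘ₗ LinearMap.mulRight R a) (hK' c)
      simp only [KT] at h1
      simpa using h1
    rcases hC with hR | hC
    · exact ⟨_, IsNoetherian.noetherian _, hle Set.univ, fun c => KT_mono
        (Ideal.span_mono (Set.subset_biUnion_of_mem (u := S) (Set.mem_univ c))) (hsd c)⟩
    · obtain ⟨g, hg⟩ := hC.out
      let K := Ideal.span (⋃ c ∈ (g : Set C), S c)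
      refine ⟨K, Submodule.fg_span (g.finite_toSet.biUnion fun c _ => (s c).finite_toSet.image _),
        hle _, fun c => ?_⟩
      have hc : c ∈ Algebra.adjoin R (g : Set C) := by rw [hg]; trivial
      induction hc using Algebra.adjoin_induction with
      | mem x hx =>
        exact KT_mono (Ideal.span_mono (Set.subset_biUnion_of_mem (u := S) hx)) (hsd x)
      | algebraMap r =>
        have : d (algebraMap R C r) = 0 := by simp only [d, AlgHomClass.commutes, Bialgebra.counit_algebraMap, sub_self]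
        rw [this]; exact Submodule.zero_mem _
      | add x y _ _ hx hy =>
        have : d (x + y) = d x + d y := by simp only [d, map_add]; ring
        rw [this]; exact Submodule.add_mem _ hx hy
      | mul x y _ _ hx hy =>
        have : d (x * y) = φ x * d y + algebraMap R A (Coalgebra.counit y) * d x := by
          simp only [d, Bialgebra.counit_mul, map_mul]; ring
        rw [this]
        exact Submodule.add_mem _ (map_mem_KT (LinearMap.mulLeft R (φ x)) hy)
          (map_mem_KT (LinearMap.mulLeft R _) hx)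
  obtain ⟨K, hfg, hmin, hK⟩ := hprop
  have hsq : K ≤ K * K := hmin _ fun c => sub_counit_mem_sq hj φ hK c
  have hbot : K = ⊥ := Submodule.eq_bot_of_le_smul_of_le_jacobson_bot (IsLocalRing.maximalIdeal R) K hfg
    (hsq.trans (Ideal.mul_mono_left (hmin _ hs))) (IsLocalRing.maximalIdeal_le_jacobson _)
  have := hK c
  rw [hbot] at this
  simpa [KT, d, sub_eq_zero] using this

/-- Two homomorphisms congruent modulo the maximal ideal are equal. -/
theorem bialgHom_eq_of_mod_maximal [IsLocalRing R] [Coalgebra.IsCocomm R C]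
    (h : SGA3b.IsMultType R A) (hC : IsNoetherianRing R ∨ Algebra.FiniteType R C)
    (φ ψ : C →ₐc[R] A) (hs : ∀ c, φ c - ψ c ∈ KT (IsLocalRing.maximalIdeal R) A) : φ = ψ := by
  obtain ⟨χ, hχ⟩ := exists_div_bialgHom φ ψ
  let q : A →ₐ[R] (R ⧸ IsLocalRing.maximalIdeal R) ⊗[R] A := Algebra.TensorProduct.includeRight
  have hq : postComp q (toConv (φ : C →ₐ[R] A)) = postComp q (toConv (ψ : C →ₐ[R] A)) := by
    apply ofConv_injective
    ext c
    exact sub_mem_KT_iff_one_tmul_eq.mp (hs c)
  have hχ1 : postComp q (toConv (χ : C →ₐ[R] A)) = 1 := by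
    rw [hχ, map_mul, map_inv, hq, mul_inv_cancel]
  have hχ' : toConv (χ : C →ₐ[R] A) = 1 := by
    apply ofConv_injective
    ext c
    refine bialgHom_eq_counit_of_mod_maximal h hC χ (fun x => sub_mem_KT_iff_one_tmul_eq.mpr ?_) c
    have := DFunLike.congr_fun (congrArg WithConv.ofConv hχ1) x
    exact this.trans (q.commutes _).symm
  rw [hχ, mul_inv_eq_one] at hχ'
  exact BialgHom.coe_algHom_injective (toConv_injective hχ')

end Groth.Agent.MultTypeLib
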