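import Groth.Agent.Lib.MultType.Family
import Groth.Agent.Lib.MultType.Coef
import Groth.Agent.Lib.MultType.Image

/-!
# Closed subgroups cut out in groups of multiplicative type
-/

universe u

open TensorProduct WithConv

namespace Groth.Agent.MultTypeLib

/-- Surjections with equal kernels have isomorphic targets. -/
theorem exists_bialgEquiv_of_ker_eq {W : Type u} [CommRing W] {X Y Z : Type u} [CommRing X]
    [Bialgebra W X] [CommRing Y] [Bialgebra W Y] [CommRing Z] [Bialgebra W Z] (π : X →ₐc[W] Y)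
    (ρ : X →ₐc[W] Z) (hπ : Function.Surjective π) (hρ : Function.Surjective ρ)
    (hker : RingHom.ker (π : X →ₐ[W] Y) = RingHom.ker (ρ : X →ₐ[W] Z)) :
    Nonempty (Y ≃ₐc[W] Z) := by
  let e : Y ≃ₐ[W] Z := (Ideal.quotientKerAlgEquivOfSurjective (f := (π : X →ₐ[W] Y)) hπ).symm.trans
    ((Ideal.quotientEquivAlgOfEq W hker).trans
      (Ideal.quotientKerAlgEquivOfSurjective (f := (ρ : X →ₐ[W] Z)) hρ))
  have he : ∀ x, e (π x) = ρ x := fun x => by
    have : (Ideal.quotientKerAlgEquivOfSurjective (f := (π : X →ₐ[W] Y)) hπ).symm (π x) =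
        Ideal.Quotient.mk _ x := by
      rw [AlgEquiv.symm_apply_eq]
      rfl
    simp only [e, AlgEquiv.trans_apply, this]
    rfl
  refine ⟨BialgEquiv.ofAlgEquiv e ?_ ?_⟩
  · refine AlgHom.ext fun y => ?_
    obtain ⟨x, rfl⟩ := hπ y
    show Coalgebra.counit (R := W) (e (π x)) = Coalgebra.counit (R := W) (π x)
    rw [he]
    exact (CoalgHomClass.counit_comp_apply ρ x).trans (CoalgHomClass.counit_comp_apply π x).symm
  · refine AlgHom.ext fun y => ?_
    obtain ⟨x, rfl⟩ := hπ y
    show Algebra.TensorProduct.map (e : Y →ₐ[W] Z) (e : Y →ₐ[W] Z)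
      (Coalgebra.comul (R := W) (π x)) = Coalgebra.comul (R := W) (e (π x))
    rw [he, ← CoalgHomClass.map_comp_comul_apply π, ← CoalgHomClass.map_comp_comul_apply ρ]
    generalize Coalgebra.comul (R := W) x = w
    induction w using TensorProduct.induction_on with
    | zero => simp
    | tmul a b => simp [he]
    | add a b ha hb => simp only [map_add, ha, hb]

variable {W : Type u} [CommRing W] {M : Type u} [CommGroup M]

/-- The kernel of `W[M] → W[M/N]`. -/
theorem ker_mapDomain_le {N : Subgroup M} {I : Ideal (MonoidAlgebra W M)}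
    (h : ∀ n ∈ N, MonoidAlgebra.single n (1 : W) - 1 ∈ I) {x : MonoidAlgebra W M}
    (hx : MonoidAlgebra.mapDomainRingHom W (QuotientGroup.mk' N) x = 0) : x ∈ I := by
  let σ : MonoidAlgebra W (M ⧸ N) →ₗ[W] MonoidAlgebra W M :=
    MonoidAlgebra.mapDomainLinearMap W W Quotient.out
  have key : ∀ x, x - σ (MonoidAlgebra.mapDomainRingHom W (QuotientGroup.mk' N) x) ∈ I := by
    intro x
    induction x using MonoidAlgebra.induction_linear with
    | zero => simp
    | add a b ha hb => rw [map_add, map_add, add_sub_add_comm]; exact I.add_mem ha hb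
    | single m r =>
      obtain ⟨n, hn⟩ := QuotientGroup.mk_out_eq_mul N m
      have : σ (MonoidAlgebra.mapDomainRingHom W (QuotientGroup.mk' N) (MonoidAlgebra.single m r)) =
          MonoidAlgebra.single (m * n) r := by
        simp [σ, ← hn]
      rw [this, show MonoidAlgebra.single m r - MonoidAlgebra.single (m * n) r =
        -(MonoidAlgebra.single m r * (MonoidAlgebra.single (n : M) (1 : W) - 1)) by
          rw [mul_sub, MonoidAlgebra.single_mul_single, mul_one, mul_one, neg_sub]]
      exact I.neg_mem (I.mul_mem_left _ (h _ n.2))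
  simpa [hx] using key x

/-- The set of `n` with `n - 1` in an ideal is a subgroup. -/
theorem single_sub_one_mem_closure {I : Ideal (MonoidAlgebra W M)} {G : Set M}
    (h : ∀ n ∈ G, MonoidAlgebra.single n (1 : W) - 1 ∈ I) :
    ∀ n ∈ Subgroup.closure G, MonoidAlgebra.single n (1 : W) - 1 ∈ I := by
  intro n hn
  induction hn using Subgroup.closure_induction with
  | mem x hx => exact h x hx
  | one => simp [MonoidAlgebra.one_def]
  | mul x y _ _ hx hy =>
    rw [show MonoidAlgebra.single (x * y) (1 : W) - 1 = MonoidAlgebra.single x 1 *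
      (MonoidAlgebra.single y 1 - 1) + (MonoidAlgebra.single x 1 - 1) by
        rw [mul_sub, MonoidAlgebra.single_mul_single, mul_one, mul_one]; ring]
    exact I.add_mem (I.mul_mem_left _ hy) hx
  | inv x _ hx =>
    rw [show MonoidAlgebra.single x⁻¹ (1 : W) - 1 =
      -(MonoidAlgebra.single x⁻¹ 1 * (MonoidAlgebra.single x 1 - 1)) by
        rw [mul_sub, MonoidAlgebra.single_mul_single, mul_one, mul_one, inv_mul_cancel,
          ← MonoidAlgebra.one_def, neg_sub]]
    exact I.neg_mem (I.mul_mem_left _ hx)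

variable {R : Type u} [CommRing R] [Algebra R W] {A : Type u} [CommRing A] [HopfAlgebra R A]

/-- Criterion for a Hopf quotient to be diagonalisable over `W`. -/
theorem nonempty_quot_equiv_of_subgroup (J : Ideal A) [J.IsHopfIdeal R]
    (e : W ⊗[R] A ≃ₐc[W] MonoidAlgebra W M) (N : Subgroup M) (G : Set M)
    (hG : Subgroup.closure G = N)
    (h1 : ∀ d ∈ J, MonoidAlgebra.mapDomainRingHom W (QuotientGroup.mk' N) (e ((1 : W) ⊗ₜ[R] d)) = 0)
    (h2 : ∀ n ∈ G, e.symm (MonoidAlgebra.single n 1 - 1) ∈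
      J.map (Algebra.TensorProduct.includeRight : A →ₐ[R] W ⊗[R] A)) :
    Nonempty (W ⊗[R] (A ⧸ J) ≃ₐc[W] MonoidAlgebra W (M ⧸ N)) := by
  let π : W ⊗[R] A →ₐc[W] W ⊗[R] (A ⧸ J) := bcMap W (Bialgebra.Quotient.mkBialgHom (R := R) J)
  let ρ : W ⊗[R] A →ₐc[W] MonoidAlgebra W (M ⧸ N) :=
    (MonoidAlgebra.mapDomainBialgHom W (QuotientGroup.mk' N)).comp e.toBialgHom
  have hπ : Function.Surjective π := fun z => by
    induction z using TensorProduct.induction_on with
    | zero => exact ⟨0, map_zero π⟩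
    | tmul l y =>
      obtain ⟨c, rfl⟩ := Ideal.Quotient.mk_surjective y
      exact ⟨l ⊗ₜ[R] c, rfl⟩
    | add a b ha hb =>
      obtain ⟨x, rfl⟩ := ha
      obtain ⟨y, rfl⟩ := hb
      exact ⟨x + y, map_add π x y⟩
  have hρ : Function.Surjective ρ := fun z => by
    induction z using MonoidAlgebra.induction_linear with
    | zero => exact ⟨0, map_zero ρ⟩
    | add a b ha hb =>
      obtain ⟨x, rfl⟩ := ha
      obtain ⟨y, rfl⟩ := hb
      exact ⟨x + y, map_add ρ x y⟩
    | single g r =>
      obtain ⟨m, rfl⟩ := QuotientGroup.mk'_surjective N g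
      exact ⟨e.symm (MonoidAlgebra.single m r), by simp [ρ]⟩
  have hkπ : RingHom.ker (π : W ⊗[R] A →ₐ[W] W ⊗[R] (A ⧸ J)) =
      J.map (Algebra.TensorProduct.includeRight : A →ₐ[R] W ⊗[R] A) := by
    have h : RingHom.ker (Algebra.TensorProduct.map (AlgHom.id R W) (Ideal.Quotient.mkₐ R J)) =
        (RingHom.ker (Ideal.Quotient.mkₐ R J)).map
          (Algebra.TensorProduct.includeRight : A →ₐ[R] W ⊗[R] A) :=
      Algebra.TensorProduct.lTensor_ker (Ideal.Quotient.mkₐ R J) Ideal.Quotient.mk_surjective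
    rw [show RingHom.ker (Ideal.Quotient.mkₐ R J) = J from Ideal.mk_ker] at h
    rw [← h]
    ext z
    rw [RingHom.mem_ker, RingHom.mem_ker]
    have : ∀ z : W ⊗[R] A, (π : W ⊗[R] A →ₐ[W] W ⊗[R] (A ⧸ J)) z =
        Algebra.TensorProduct.map (AlgHom.id R W) (Ideal.Quotient.mkₐ R J) z := by
      intro z
      induction z using TensorProduct.induction_on with
      | zero => simp
      | tmul a b => rfl
      | add a b ha hb => simp only [map_add, ha, hb]
    rw [this]
  obtain ⟨f⟩ := exists_bialgEquiv_of_ker_eq π ρ hπ hρ (by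
    rw [hkπ]
    refine le_antisymm (Ideal.map_le_iff_le_comap.2 fun d hd => h1 d hd) fun z hz => ?_
    let I := (J.map (Algebra.TensorProduct.includeRight : A →ₐ[R] W ⊗[R] A)).comap
      (e.symm : MonoidAlgebra W M →ₐ[W] W ⊗[R] A)
    have : e z ∈ I := ker_mapDomain_le (N := N)
      (fun n hn => single_sub_one_mem_closure (I := I) h2 n (hG.symm ▸ hn)) hz
    simpa [I] using this)
  exact ⟨f⟩

theorem isDiag_quot_of_subgroup (J : Ideal A) [J.IsHopfIdeal R]
    (e : W ⊗[R] A ≃ₐc[W] MonoidAlgebra W M) (N : Subgroup M) (G : Set M)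
    (hG : Subgroup.closure G = N)
    (h1 : ∀ d ∈ J, MonoidAlgebra.mapDomainRingHom W (QuotientGroup.mk' N) (e ((1 : W) ⊗ₜ[R] d)) = 0)
    (h2 : ∀ n ∈ G, e.symm (MonoidAlgebra.single n 1 - 1) ∈
      J.map (Algebra.TensorProduct.includeRight : A →ₐ[R] W ⊗[R] A)) :
    SGA3b.IsDiag W (W ⊗[R] (A ⧸ J)) :=
  ⟨M ⧸ N, inferInstance, nonempty_quot_equiv_of_subgroup J e N G hG h1 h2⟩

variable {C : Type u} [CommRing C] [Bialgebra R C]

/-- Base change of an augmentation ideal. -/
theorem map_sub_counit_mem (f : C →ₐ[R] A) {J : Ideal A}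
    (hJ : J = Ideal.map f (RingHom.ker (Bialgebra.counitAlgHom R C))) (z : W ⊗[R] C) :
    Algebra.TensorProduct.map (AlgHom.id W W) f z -
      algebraMap W (W ⊗[R] A) (Coalgebra.counit (R := W) z) ∈
      J.map (Algebra.TensorProduct.includeRight : A →ₐ[R] W ⊗[R] A) := by
  induction z using TensorProduct.induction_on with
  | zero => simp
  | add x y hx hy => rw [map_add, map_add, map_add, add_sub_add_comm]; exact Ideal.add_mem _ hx hy
  | tmul t c =>
    have hc : c - algebraMap R C (Coalgebra.counit c) ∈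
        RingHom.ker (Bialgebra.counitAlgHom R C) := by
      simp [RingHom.mem_ker]
    have h := Ideal.mem_map_of_mem
      (Algebra.TensorProduct.includeRight : A →ₐ[R] W ⊗[R] A) (hJ ▸ Ideal.mem_map_of_mem f hc :
        f (c - algebraMap R C (Coalgebra.counit c)) ∈ J)
    have : Algebra.TensorProduct.map (AlgHom.id W W) f (t ⊗ₜ[R] c) -
        algebraMap W (W ⊗[R] A) (Coalgebra.counit (R := W) (t ⊗ₜ[R] c)) =
        (t ⊗ₜ[R] (1 : A)) * ((1 : W) ⊗ₜ[R] f (c - algebraMap R C (Coalgebra.counit c))) := by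
      rw [map_sub, AlgHom.commutes, TensorProduct.tmul_sub, mul_sub]
      simp [Algebra.algebraMap_eq_smul_one, TensorProduct.smul_tmul', TensorProduct.tmul_smul,
        Algebra.TensorProduct.one_def, mul_comm]
    rw [this]
    exact Ideal.mul_mem_left _ _ h

end Groth.Agent.MultTypeLib
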