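import Groth.Agent.Lib.MultType.LocalModel
import Groth.Agent.Lib.MultType.LocalKill
import Groth.Agent.Lib.MultType.AdicClopen
import Groth.Agent.Lib.MultType.Quot
import Groth.Agent.Lib.Compl.Noetherian

/-!
# A local criterion for groups of multiplicative type
-/

universe u

open TensorProduct HopfAlgebra

namespace Groth.Agent.MultTypeLib

section Quotient

variable {R : Type u} [CommRing R] {A B : Type u} [CommRing A] [HopfAlgebra R A] [CommRing B]
  [HopfAlgebra R B]

/-- The kernel of a surjection of Hopf algebras is a Hopf ideal. -/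
theorem isHopfIdeal_of_ker (π : A →ₐc[R] B) (hπ : Function.Surjective π) {J : Ideal A}
    (hJ : ∀ x, x ∈ J ↔ π x = 0) : J.IsHopfIdeal R := by
  refine { counit_eq_zero := ?_, map_mkQ_comul_eq_zero := ?_, antipode_mem := ?_ }
  · intro x hx
    exact (CoalgHomClass.counit_comp_apply π x).symm.trans (by rw [(hJ x).1 hx, map_zero])
  · intro x hx
    let q : A →ₗ[R] B := π
    have hker : LinearMap.ker q = J.restrictScalars R := by
      ext y
      exact (hJ y).symm
    let ψ : (A ⧸ J.restrictScalars R) ≃ₗ[R] B :=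
      (Submodule.quotEquivOfEq _ _ hker.symm).trans (q.quotKerEquivOfSurjective hπ)
    have hψ : ∀ z, TensorProduct.congr ψ ψ
        (TensorProduct.map (J.restrictScalars R).mkQ (J.restrictScalars R).mkQ z) =
        TensorProduct.map q q z := by
      intro z
      induction z using TensorProduct.induction_on with
      | zero => simp
      | add a b ha hb => simp only [map_add, ha, hb]
      | tmul a b => rfl
    refine (TensorProduct.congr ψ ψ).injective ?_
    rw [hψ, map_zero]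
    show TensorProduct.map (π : A →ₗ[R] B) (π : A →ₗ[R] B) (Coalgebra.comul (R := R) x) = 0
    rw [CoalgHomClass.map_comp_comul_apply, (hJ x).1 hx, map_zero]
  · intro x hx
    rw [hJ, bialgHom_map_antipode, (hJ x).1 hx, map_zero]

theorem isMultTypeConst_congr (e : A ≃ₐc[R] B) (h : SGA3b.IsMultTypeConst R A) :
    SGA3b.IsMultTypeConst R B := by
  obtain ⟨R', _, _, hff, hd⟩ := h
  exact ⟨R', inferInstance, inferInstance, hff, isDiag_congr (bcEquiv R' e) hd⟩

theorem isMultTypeConst_baseChange (T : Type u) [CommRing T] [Algebra R T]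
    (h : SGA3b.IsMultTypeConst R A) : SGA3b.IsMultTypeConst T (T ⊗[R] A) := by
  obtain ⟨R', _, _, _, hd⟩ := h
  let T' := T ⊗[R] R'
  letI : Algebra R' T' := Algebra.TensorProduct.rightAlgebra
  exact ⟨T', inferInstance, inferInstance, inferInstance,
    isDiag_tensor_tensor T T' (isDiag_baseChange R' T' hd)⟩

theorem isMultTypeConst_of_baseChange (T : Type u) [CommRing T] [Algebra R T]
    [Module.FaithfullyFlat R T] (h : SGA3b.IsMultTypeConst T (T ⊗[R] A)) :
    SGA3b.IsMultTypeConst R A := by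
  obtain ⟨T', _, _, _, hd⟩ := h
  letI : Algebra R T' := ((algebraMap T T').comp (algebraMap R T)).toAlgebra
  haveI : IsScalarTower R T T' := IsScalarTower.of_algebraMap_eq' rfl
  exact ⟨T', inferInstance, inferInstance, Module.FaithfullyFlat.trans R T T',
    isDiag_of_tensor_tensor T T' hd⟩

theorem isMultTypeConst_of_quot_bot {J : Ideal A} (hJ : J = ⊥) [J.IsHopfIdeal R]
    (h : SGA3b.IsMultTypeConst R (A ⧸ J)) : SGA3b.IsMultTypeConst R A := by
  let π : A →ₐc[R] A ⧸ J := Bialgebra.Quotient.mkBialgHom (R := R) J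
  have hπ : Function.Bijective π := by
    refine ⟨fun x y hxy => ?_, Ideal.Quotient.mk_surjective⟩
    have : x - y ∈ J := Ideal.Quotient.eq.1 hxy
    rwa [hJ, Ideal.mem_bot, sub_eq_zero] at this
  exact isMultTypeConst_congr (BialgEquiv.ofBijective π hπ).symm h

/-- The base change of a quotient of multiplicative type. -/
theorem exists_quot_transport (J : Ideal A) [J.IsHopfIdeal R] (T : Type u) [CommRing T] [Algebra R T]
    {X : Type u} [CommRing X] [HopfAlgebra T X] (ψ : T ⊗[R] A ≃ₐc[T] X) {J' : Ideal X}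
    (hJ' : J' = (J.map (Algebra.TensorProduct.includeRight : A →ₐ[R] T ⊗[R] A)).map
      ((ψ : T ⊗[R] A ≃ₐ[T] X) : T ⊗[R] A →ₐ[T] X).toRingHom)
    (h : SGA3b.IsMultTypeConst R (A ⧸ J)) :
    ∃ _ : J'.IsHopfIdeal T, SGA3b.IsMultTypeConst T (X ⧸ J') := by
  let π₀ : T ⊗[R] A →ₐc[T] T ⊗[R] (A ⧸ J) := bcMap T (Bialgebra.Quotient.mkBialgHom (R := R) J)
  let π : X →ₐc[T] T ⊗[R] (A ⧸ J) := π₀.comp ψ.symm.toBialgHom
  have hπ₀ : Function.Surjective π₀ := fun z => by
    induction z using TensorProduct.induction_on with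
    | zero => exact ⟨0, map_zero π₀⟩
    | tmul l y =>
      obtain ⟨c, rfl⟩ := Ideal.Quotient.mk_surjective y
      exact ⟨l ⊗ₜ[R] c, rfl⟩
    | add a b ha hb =>
      obtain ⟨x, rfl⟩ := ha
      obtain ⟨y, rfl⟩ := hb
      exact ⟨x + y, map_add π₀ x y⟩
  have hπ : Function.Surjective π := hπ₀.comp ψ.symm.surjective
  have hπ₀' : ∀ z : T ⊗[R] A, π₀ z =
      Algebra.TensorProduct.map (AlgHom.id R T) (Ideal.Quotient.mkₐ R J) z := by
    intro z
    induction z using TensorProduct.induction_on with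
    | zero => simp
    | tmul a b => rfl
    | add a b ha hb => simp only [map_add, ha, hb]
  have hk : RingHom.ker (Algebra.TensorProduct.map (AlgHom.id R T) (Ideal.Quotient.mkₐ R J)) =
      J.map (Algebra.TensorProduct.includeRight : A →ₐ[R] T ⊗[R] A) := by
    refine (Algebra.TensorProduct.lTensor_ker (Ideal.Quotient.mkₐ R J) Ideal.Quotient.mk_surjective).trans ?_
    rw [show RingHom.ker (Ideal.Quotient.mkₐ R J) = J from Ideal.mk_ker]
  have hmem : ∀ x, x ∈ J' ↔ π x = 0 := fun x => by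
    rw [hJ', Ideal.mem_map_iff_of_surjective _
      (show Function.Surjective ((ψ : T ⊗[R] A ≃ₐ[T] X) : T ⊗[R] A →ₐ[T] X).toRingHom from
        ψ.surjective), ← hk]
    show _ ↔ π₀ (ψ.symm x) = 0
    rw [hπ₀']
    refine ⟨?_, fun h0 => ⟨ψ.symm x, h0, ?_⟩⟩
    · rintro ⟨z, hz, rfl⟩
      rw [show ψ.symm (((ψ : T ⊗[R] A ≃ₐ[T] X) : T ⊗[R] A →ₐ[T] X).toRingHom z) = z from
        ψ.symm_apply_apply z]
      exact hz
    · exact ψ.apply_symm_apply x
  haveI hH : J'.IsHopfIdeal T := isHopfIdeal_of_ker π hπ hmem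
  refine ⟨hH, ?_⟩
  obtain ⟨f⟩ := exists_bialgEquiv_of_ker_eq π (Bialgebra.Quotient.mkBialgHom (R := T) J') hπ
    Ideal.Quotient.mk_surjective (by
      ext x
      rw [RingHom.mem_ker, RingHom.mem_ker]
      exact (hmem x).symm.trans Ideal.Quotient.eq_zero_iff_mem.symm)
  exact isMultTypeConst_congr f (isMultTypeConst_baseChange T h)

end Quotient

variable {R : Type u} [CommRing R] [IsLocalRing R] {C : Type u} [CommRing C] [HopfAlgebra R C]

/-- The closed fibre of a Noetherian model is isotrivial after completion. -/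
theorem isIsotrivial_closed_fibre {R₁ : Type u} [CommRing R₁] [IsLocalRing R₁] [Algebra R₁ R]
    [IsLocalHom (algebraMap R₁ R)] {C₁ : Type u} [CommRing C₁] [HopfAlgebra R₁ C₁]
    [Algebra.FiniteType R₁ C₁] (e : R ⊗[R₁] C₁ ≃ₐc[R] C)
    (hs : SGA3b.IsMultType (IsLocalRing.ResidueField R) (IsLocalRing.ResidueField R ⊗[R] C))
    (W : Type u) [CommRing W] [Algebra R₁ W] (n : Ideal W) [n.IsMaximal]
    (hn : (IsLocalRing.maximalIdeal R₁).map (algebraMap R₁ W) ≤ n) :
    SGA3b.IsIsotrivial (W ⧸ n) ((W ⧸ n) ⊗[W] (W ⊗[R₁] C₁)) := by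
  obtain ⟨K, _, _, hd⟩ := exists_field_isDiag hs
  letI : Algebra R K :=
    ((algebraMap (IsLocalRing.ResidueField R) K).comp (IsLocalRing.residue R)).toAlgebra
  haveI : IsScalarTower R (IsLocalRing.ResidueField R) K := IsScalarTower.of_algebraMap_eq' rfl
  have hd₁ : SGA3b.IsDiag K (K ⊗[R] C) := isDiag_of_tensor_tensor (IsLocalRing.ResidueField R) K hd
  letI : Algebra R₁ K := ((algebraMap R K).comp (algebraMap R₁ R)).toAlgebra
  haveI : IsScalarTower R₁ R K := IsScalarTower.of_algebraMap_eq' rfl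
  have hd₂ : SGA3b.IsDiag K (K ⊗[R₁] C₁) := isDiag_congr (cancelBC R₁ C₁ R K) (isDiag_congr
    (bcEquiv K e).symm hd₁)
  let k₁ := IsLocalRing.ResidueField R₁
  letI : Algebra k₁ K := ((algebraMap (IsLocalRing.ResidueField R) K).comp
    (IsLocalRing.ResidueField.map (algebraMap R₁ R))).toAlgebra
  haveI : IsScalarTower R₁ k₁ K := IsScalarTower.of_algebraMap_eq fun r => rfl
  have h₁ : SGA3b.IsMultTypeConst k₁ (k₁ ⊗[R₁] C₁) :=
    ⟨K, inferInstance, inferInstance, inferInstance, isDiag_tensor_tensor k₁ K hd₂⟩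
  letI := Ideal.Quotient.field n
  letI : Algebra k₁ (W ⧸ n) := (Ideal.Quotient.lift (IsLocalRing.maximalIdeal R₁)
    ((Ideal.Quotient.mk n).comp (algebraMap R₁ W)) fun x hx =>
      Ideal.Quotient.eq_zero_iff_mem.2 (hn (Ideal.mem_map_of_mem _ hx))).toAlgebra
  haveI : IsScalarTower R₁ k₁ (W ⧸ n) := IsScalarTower.of_algebraMap_eq fun r => rfl
  exact isIsotrivial_of_field inferInstance (isMultType_of_const (isMultTypeConst_congr
    ((cancelBC R₁ C₁ k₁ (W ⧸ n)).trans (cancelBC R₁ C₁ W (W ⧸ n)).symm)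
    (isMultTypeConst_baseChange (W ⧸ n) h₁)))

set_option maxHeartbeats 800000 in
/-- An isotrivial open and closed subgroup of a model gives the type after local base change. -/
theorem isMultTypeConst_of_model {R₁ : Type u} [CommRing R₁] [Algebra R₁ R] {C₁ : Type u} [CommRing C₁]
    [HopfAlgebra R₁ C₁] (e : R ⊗[R₁] C₁ ≃ₐc[R] C) {R₂ : Type u} [CommRing R₂] [Algebra R₁ R₂]
    (m : Ideal R₂) {eh : R₂ ⊗[R₁] C₁} (heh : IsIdempotentElem eh)
    (hehI : eh ∈ m.map (algebraMap R₂ (R₂ ⊗[R₁] C₁))) [(Ideal.span {eh}).IsHopfIdeal R₂]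
    (hiso : SGA3b.IsMultTypeConst R₂ ((R₂ ⊗[R₁] C₁) ⧸ Ideal.span {eh}))
    (T : Type u) [CommRing T] [IsLocalRing T] [Algebra R T] [Module.FaithfullyFlat R T] [Algebra R₂ T]
    [Algebra R₁ T] [IsScalarTower R₁ R T] [IsScalarTower R₁ R₂ T]
    (hm₂ : m ≤ (IsLocalRing.maximalIdeal T).comap (algebraMap R₂ T))
    (hkill : ∀ (T : Type u) [CommRing T] [Algebra R T] [Module.FaithfullyFlat R T] [IsLocalRing T]
      (e : T ⊗[R] C), IsIdempotentElem e →
      e ∈ (IsLocalRing.maximalIdeal T).map (algebraMap T (T ⊗[R] C)) →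
      Coalgebra.counit (R := T) e = 0 → ∀ (_ : (Ideal.span {e}).IsHopfIdeal T),
      SGA3b.IsMultTypeConst T ((T ⊗[R] C) ⧸ Ideal.span {e}) → e = 0) :
    SGA3b.IsMultTypeConst R C := by
  let ψ : T ⊗[R₂] (R₂ ⊗[R₁] C₁) ≃ₐc[T] T ⊗[R] C :=
    (cancelBC R₁ C₁ R₂ T).trans ((cancelBC R₁ C₁ R T).symm.trans (bcEquiv T e))
  let θ : R₂ ⊗[R₁] C₁ →+* T ⊗[R] C :=
    ((ψ : T ⊗[R₂] (R₂ ⊗[R₁] C₁) ≃ₐ[T] T ⊗[R] C) : T ⊗[R₂] (R₂ ⊗[R₁] C₁) →ₐ[T] T ⊗[R] C).toRingHom.comp
      (Algebra.TensorProduct.includeRight :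
        R₂ ⊗[R₁] C₁ →ₐ[R₂] T ⊗[R₂] (R₂ ⊗[R₁] C₁)).toRingHom
  obtain ⟨hH', hconst⟩ := exists_quot_transport (Ideal.span {eh}) T ψ (J' := Ideal.span {θ eh})
    (by rw [Ideal.map_span, Ideal.map_span, Set.image_singleton, Set.image_singleton]; rfl)
    hiso
  haveI := hH'
  have hθ : θ.comp (algebraMap R₂ (R₂ ⊗[R₁] C₁)) =
      (algebraMap T (T ⊗[R] C)).comp (algebraMap R₂ T) := by
    refine RingHom.ext fun x => ?_
    show ψ ((1 : T) ⊗ₜ[R₂] algebraMap R₂ (R₂ ⊗[R₁] C₁) x) = algebraMap T (T ⊗[R] C) (algebraMap R₂ T x)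
    rw [Algebra.algebraMap_eq_smul_one, TensorProduct.tmul_smul, TensorProduct.smul_tmul',
      ← Algebra.algebraMap_eq_smul_one]
    exact AlgHomClass.commutes ψ _
  have hm : θ eh ∈ (IsLocalRing.maximalIdeal T).map (algebraMap T (T ⊗[R] C)) := by
    have h1 := Ideal.mem_map_of_mem θ hehI
    rw [Ideal.map_map, hθ, ← Ideal.map_map] at h1
    exact Ideal.map_mono (Ideal.map_le_iff_le_comap.2 hm₂) h1
  have hε : Coalgebra.counit (R := T) (θ eh) = 0 := by
    have hidem : IsIdempotentElem (Coalgebra.counit (R := T) (θ eh)) :=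
      (heh.map θ).map (Bialgebra.counitAlgHom T (T ⊗[R] C))
    have hmem : Coalgebra.counit (R := T) (θ eh) ∈ IsLocalRing.maximalIdeal T := by
      have h1 := Ideal.mem_map_of_mem (Bialgebra.counitAlgHom T (T ⊗[R] C)).toRingHom hm
      rwa [Ideal.map_map, AlgHom.toRingHom_eq_coe, AlgHom.comp_algebraMap, Algebra.algebraMap_self,
        Ideal.map_id] at h1
    have hu : IsUnit (1 - Coalgebra.counit (R := T) (θ eh)) := by
      by_contra hu
      have h1 : (1 : T) ∈ IsLocalRing.maximalIdeal T := by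
        rw [show (1 : T) = (1 - Coalgebra.counit (R := T) (θ eh)) + Coalgebra.counit (R := T) (θ eh)
          from (sub_add_cancel _ _).symm]
        exact add_mem ((IsLocalRing.mem_maximalIdeal _).2 hu) hmem
      exact (IsLocalRing.maximalIdeal.isMaximal T).ne_top ((Ideal.eq_top_iff_one _).2 h1)
    exact hu.mul_left_eq_zero.1 (by rw [mul_sub, mul_one, hidem.eq, sub_self])
  have h0 := hkill T (θ eh) (heh.map θ) hm hε hH' hconst
  exact isMultTypeConst_of_baseChange T
    (isMultTypeConst_of_quot_bot (Ideal.span_singleton_eq_bot.2 h0) hconst)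


set_option maxHeartbeats 2000000 in
set_option synthInstance.maxHeartbeats 200000 in
/-- A group which is flat along a closed fibre of multiplicative type is of multiplicative type
when it has no non-trivial open and closed subgroup of multiplicative type after a faithfully flat
local base change. -/
theorem isMultTypeConst_of_local (hfp : Algebra.FinitePresentation R C)
    (hfl : ∀ (q : Ideal C) [q.IsPrime], Ideal.map (algebraMap R C) (IsLocalRing.maximalIdeal R) ≤ q →
      Module.Flat R (Localization.AtPrime q))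
    (hs : SGA3b.IsMultType (IsLocalRing.ResidueField R) (IsLocalRing.ResidueField R ⊗[R] C))
    (hkill : ∀ (T : Type u) [CommRing T] [Algebra R T] [Module.FaithfullyFlat R T] [IsLocalRing T]
      (e : T ⊗[R] C), IsIdempotentElem e →
      e ∈ (IsLocalRing.maximalIdeal T).map (algebraMap T (T ⊗[R] C)) →
      Coalgebra.counit (R := T) e = 0 → ∀ (_ : (Ideal.span {e}).IsHopfIdeal T),
      SGA3b.IsMultTypeConst T ((T ⊗[R] C) ⧸ Ideal.span {e}) → e = 0) :
    SGA3b.IsMultTypeConst R C := by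
  obtain ⟨R₁, _, _, _, _, _, C₁, _, _, hC₁, hfl₁, ⟨e⟩⟩ := exists_local_model hfp hfl
  haveI := hC₁
  let R₂ := AdicCompletion (IsLocalRing.maximalIdeal R₁) R₁
  haveI : IsNoetherianRing R₂ :=
    Compl.isNoetherianRing_adicCompletion _ (IsLocalRing.maximalIdeal R₁).fg_of_isNoetherianRing
  have hmax : IsLocalRing.maximalIdeal R₂ =
      (IsLocalRing.maximalIdeal R₁).map (algebraMap R₁ R₂) :=
    AdicCompletion.maximalIdeal_eq_map_of_fg (IsLocalRing.maximalIdeal R₁).fg_of_isNoetherianRing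
  haveI : Module.FaithfullyFlat R₁ R₂ := Module.FaithfullyFlat.of_flat_of_isLocalHom
  obtain ⟨eh, heh, hehI, hH, hiso⟩ := exists_clopen_subgroup (R := R₂) (C := R₂ ⊗[R₁] C₁)
    (I := IsLocalRing.maximalIdeal R₂) inferInstance
    (fun q _ hq => flatAt_baseChange (I := IsLocalRing.maximalIdeal R₁) hfl₁ q (hmax ▸ hq))
    (isIsotrivial_closed_fibre e hs R₂ (IsLocalRing.maximalIdeal R₂) hmax.ge)
  haveI := hH
  have hloc : IsLocalRing.maximalIdeal R₁ ≤ (IsLocalRing.maximalIdeal R).comap (algebraMap R₁ R) :=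
    ((IsLocalRing.local_hom_TFAE (algebraMap R₁ R)).out 0 3).mp ‹_›
  -- a local ring dominating both
  let D := R ⊗[R₁] R₂
  obtain ⟨Q, hQ⟩ := PrimeSpectrum.comap_surjective_of_faithfullyFlat (A := R) (B := D)
    (IsLocalRing.closedPoint R)
  let T := Localization.AtPrime Q.asIdeal
  letI : Algebra R₂ D := Algebra.TensorProduct.rightAlgebra
  haveI : IsScalarTower R₁ R₂ T := IsScalarTower.of_algebraMap_eq fun r => by
    rw [IsScalarTower.algebraMap_apply R₂ D T, ← IsScalarTower.algebraMap_apply R₁ R₂ D,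
      ← IsScalarTower.algebraMap_apply R₁ D T]
  haveI : Module.Flat R T := Module.Flat.trans R D T
  have hQ' : Q.asIdeal.comap (algebraMap R D) = IsLocalRing.maximalIdeal R :=
    congrArg PrimeSpectrum.asIdeal hQ
  have hRT : ∀ r ∈ IsLocalRing.maximalIdeal R, algebraMap R T r ∈ IsLocalRing.maximalIdeal T := by
    intro r hr
    rw [IsScalarTower.algebraMap_apply R D T, ← Localization.AtPrime.map_eq_maximalIdeal]
    exact Ideal.mem_map_of_mem _ (hQ'.symm ▸ hr : r ∈ Q.asIdeal.comap (algebraMap R D))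
  haveI : IsLocalHom (algebraMap R T) :=
    ((IsLocalRing.local_hom_TFAE (algebraMap R T)).out 3 0).mp hRT
  haveI : Module.FaithfullyFlat R T := Module.FaithfullyFlat.of_flat_of_isLocalHom (A := R) (B := T)
  have hR₂T : ∀ x ∈ IsLocalRing.maximalIdeal R₂, algebraMap R₂ T x ∈ IsLocalRing.maximalIdeal T := by
    intro x hx
    rw [hmax] at hx
    have hle : (IsLocalRing.maximalIdeal R₁).map (algebraMap R₁ R₂) ≤
        (IsLocalRing.maximalIdeal T).comap (algebraMap R₂ T) := by
      refine Ideal.map_le_iff_le_comap.2 fun r hr => ?_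
      rw [Ideal.mem_comap, Ideal.mem_comap, ← IsScalarTower.algebraMap_apply,
        IsScalarTower.algebraMap_apply R₁ R T]
      exact hRT _ (hloc hr)
    exact hle hx
  exact isMultTypeConst_of_model e (IsLocalRing.maximalIdeal R₂) heh hehI
    (by
      obtain ⟨B, _, _, _, _, hff, hd⟩ := hiso
      exact ⟨B, inferInstance, inferInstance, hff, hd⟩) T (fun x hx => Ideal.mem_comap.2 (hR₂T x hx)) hkill

end Groth.Agent.MultTypeLib
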