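import Groth.Agent.Lib.MultType.Torsion
import Mathlib.RingTheory.Filtration
import Mathlib.RingTheory.Ideal.Quotient.Index

/-!
# Finiteness and schematic density of torsion subgroups
-/

universe u

open TensorProduct WithConv

namespace Groth.Agent.MultTypeLib

theorem isJacobsonRing_int : IsJacobsonRing ℤ := by
  refine isJacobsonRing_iff_prime_eq.2 fun P hP => ?_
  by_cases hP0 : P = ⊥
  · subst hP0
    refine le_antisymm (fun x hx => ?_) Ideal.le_jacobson
    rw [Ideal.mem_bot]
    have h := Ideal.mem_jacobson_bot.1 hx x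
    rcases Int.isUnit_iff.1 h with h | h <;> nlinarith
  · haveI : P.IsMaximal := hP.isMaximal hP0
    exact Ideal.jacobson_eq_self_of_isMaximal

theorem finiteType_int_toInt {B : Type u} [CommRing B] {inst : Algebra ℤ B}
    (h : @Algebra.FiniteType ℤ B _ _ inst) : @Algebra.FiniteType ℤ B _ _ (Ring.toIntAlgebra B) := by
  rw [Subsingleton.elim (Ring.toIntAlgebra B) inst]
  exact h

theorem finite_quot_of_finiteType_int {B : Type u} [CommRing B] [Algebra.FiniteType ℤ B]
    (Q : Ideal B) [Q.IsMaximal] : Finite (B ⧸ Q) := by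
  letI := Ideal.Quotient.field Q
  haveI := isJacobsonRing_int
  haveI : Algebra.FiniteType ℤ (B ⧸ Q) :=
    Algebra.FiniteType.of_surjective (Ideal.Quotient.mkₐ ℤ Q) Ideal.Quotient.mk_surjective
  haveI : Module.Finite ℤ (B ⧸ Q) := finite_of_finite_type_of_isJacobsonRing ℤ (B ⧸ Q)
  haveI : Algebra.IsIntegral ℤ (B ⧸ Q) := Algebra.IsIntegral.of_finite ℤ (B ⧸ Q)
  have hchar : ¬ Function.Injective (algebraMap ℤ (B ⧸ Q)) := fun h =>
    Int.not_isField (isField_of_isIntegral_of_isField h (Semifield.toIsField _))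
  rw [injective_iff_map_eq_zero] at hchar
  push Not at hchar
  obtain ⟨k, hk, hk0⟩ := hchar
  exact Module.finite_of_fg_torsion (B ⧸ Q) fun {x} => ⟨⟨k, mem_nonZeroDivisors_of_ne_zero hk0⟩, by
    show k • x = 0
    rw [Algebra.smul_def, hk, zero_mul]⟩

/-- In an algebra of finite type over `ℤ`, finite quotients detect zero on `D(a)`. -/
theorem exists_pow_mul_eq_zero_of_finiteType_int {D : Type u} [CommRing D] [Algebra.FiniteType ℤ D]
    (a b : D) (h : ∀ (B' : Type u) [CommRing B'] [Finite B'] (π : D →+* B'), IsUnit (π a) → π b = 0) :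
    ∃ l : ℕ, a ^ l * b = 0 := by
  let B := Localization.Away a
  haveI : Algebra.FiniteType D B := IsLocalization.finiteType_of_monoid_fg (Submonoid.powers a) B
  haveI : Algebra.FiniteType ℤ B := Algebra.FiniteType.trans (inferInstance : Algebra.FiniteType ℤ D) inferInstance
  haveI : IsNoetherianRing B := Algebra.FiniteType.isNoetherianRing ℤ B
  haveI : @Algebra.FiniteType ℤ B _ _ (Ring.toIntAlgebra B) := by
    exact finiteType_int_toInt (B := B) (inferInstance : Algebra.FiniteType ℤ B)
  suffices hb : algebraMap D B b = 0 by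
    obtain ⟨⟨s, l, rfl⟩, hs⟩ := (IsLocalization.map_eq_zero_iff (Submonoid.powers a) B b).1 hb
    exact ⟨l, hs⟩
  refine by_contra fun hne => ?_
  obtain ⟨Q, hQ, hle⟩ := Ideal.exists_le_maximal
    (LinearMap.ker (LinearMap.mulRight B (algebraMap D B b)) : Ideal B) (by
      rw [Ne, Ideal.eq_top_iff_one]
      simpa using hne)
  let BQ := Localization.AtPrime Q
  have hpow : ∀ s : ℕ, algebraMap D B b ∈ Q ^ s := by
    intro s
    haveI := finite_quot_of_finiteType_int Q
    haveI : Finite (B ⧸ Q ^ s) := Ideal.finite_quotient_pow (IsNoetherian.noetherian Q) s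
    exact Ideal.Quotient.eq_zero_iff_mem.1 (h (B ⧸ Q ^ s) ((Ideal.Quotient.mk _).comp (algebraMap D B))
      ((IsLocalization.Away.algebraMap_isUnit (S := B) a).map (Ideal.Quotient.mk (Q ^ s))))
  have hzero : algebraMap B BQ (algebraMap D B b) = 0 := by
    have hmem : algebraMap B BQ (algebraMap D B b) ∈ ⨅ s : ℕ, IsLocalRing.maximalIdeal BQ ^ s := by
      simp only [Submodule.mem_iInf]
      intro s
      rw [← Localization.AtPrime.map_eq_maximalIdeal, ← Ideal.map_pow]
      exact Ideal.mem_map_of_mem _ (hpow s)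
    rwa [Ideal.iInf_pow_eq_bot_of_isLocalRing _ (IsLocalRing.maximalIdeal.isMaximal BQ).ne_top] at hmem
  obtain ⟨u, hu⟩ := (IsLocalization.map_eq_zero_iff Q.primeCompl BQ _).1 hzero
  exact u.2 (hle hu)

variable {R : Type u} [CommRing R] {A : Type u} [CommRing A] [HopfAlgebra R A]
  {M : Type u} [CommGroup M]

/-- An element killed, near `D(a)`, by all `T[M] → T[M/Mⁿ]` is killed by a power of `a`. -/
theorem exists_pow_mul_eq_zero {T : Type u} [CommRing T] [Group.FG M] (a b : MonoidAlgebra T M)
    (h : ∀ n : ℕ, 0 < n → ∃ l : ℕ, MonoidAlgebra.mapDomainRingHom T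
      (QuotientGroup.mk' (powMonoidHom n : M →* M).range) (a ^ l * b) = 0) :
    ∃ l : ℕ, a ^ l * b = 0 := by
  classical
  let S : Finset T := a.coeff.support.image a.coeff ∪ b.coeff.support.image b.coeff
  let R0 : Subalgebra ℤ T := Algebra.adjoin ℤ (S : Set T)
  haveI : Algebra.FiniteType ℤ R0 := (Subalgebra.fg_iff_finiteType _).1 (Subalgebra.fg_adjoin_finset S)
  let ι := MonoidAlgebra.mapRingHom M (R0.val : R0 →ₐ[ℤ] T).toRingHom
  have hι : Function.Injective ι := fun x y hxy => by
    apply MonoidAlgebra.coeff_injective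
    refine Finsupp.ext fun m => Subtype.ext ?_
    simpa [ι, MonoidAlgebra.coeff_mapRingHom] using congrArg (fun z => z.coeff m) hxy
  have hlift : ∀ y : MonoidAlgebra T M, (∀ m ∈ y.coeff.support, y.coeff m ∈ R0) → ∃ y0, ι y0 = y := by
    intro y hy
    refine ⟨∑ m ∈ y.coeff.support.attach, MonoidAlgebra.single m.1 ⟨y.coeff m.1, hy m.1 m.2⟩, ?_⟩
    rw [map_sum]
    conv_rhs => rw [← MonoidAlgebra.sum_coeff_single y]
    simp only [ι, MonoidAlgebra.mapRingHom_single]
    exact Finset.sum_attach y.coeff.support fun m => MonoidAlgebra.single m (y.coeff m)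
  obtain ⟨a0, ha0⟩ := hlift a fun m hm => Algebra.subset_adjoin
    (Finset.mem_coe.2 (Finset.mem_union_left _ (Finset.mem_image_of_mem _ hm)))
  obtain ⟨b0, hb0⟩ := hlift b fun m hm => Algebra.subset_adjoin
    (Finset.mem_coe.2 (Finset.mem_union_right _ (Finset.mem_image_of_mem _ hm)))
  rw [← ha0, ← hb0] at h ⊢
  let D := MonoidAlgebra R0 M
  haveI : Monoid.FG M := Group.fg_iff_monoid_fg.1 inferInstance
  haveI : Algebra.FiniteType R0 D := inferInstance
  haveI hD : Algebra.FiniteType ℤ D :=
    Algebra.FiniteType.trans (inferInstance : Algebra.FiniteType ℤ R0) inferInstance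
  haveI : @Algebra.FiniteType ℤ D _ _ (Ring.toIntAlgebra D) := by
    exact finiteType_int_toInt (B := D) hD
  obtain ⟨l, hl⟩ := exists_pow_mul_eq_zero_of_finiteType_int (D := D) a0 b0 fun B' _ _ π hua => by
    let n := Nat.card B'ˣ
    obtain ⟨l, hl⟩ := h n Nat.card_pos
    let N := (powMonoidHom n : M →* M).range
    have h0 : a0 ^ l * b0 ∈ RingHom.ker π := by
      refine ker_mapDomain_le (N := N) ?_ ?_
      · rintro _ ⟨m, rfl⟩
        rw [RingHom.mem_ker, map_sub, map_one, sub_eq_zero]
        obtain ⟨v, hv⟩ := ((Group.isUnit m).map (MonoidAlgebra.of R0 M)).map π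
        rw [powMonoidHom_apply, ← one_pow n, ← MonoidAlgebra.single_pow, map_pow,
          show π (MonoidAlgebra.single m (1 : R0)) = v from hv.symm,
          ← Units.val_pow_eq_pow_val, pow_card_eq_one', Units.val_one]
      · let j := MonoidAlgebra.mapRingHom (M ⧸ N) (R0.val : R0 →ₐ[ℤ] T).toRingHom
        have hnat : j.comp (MonoidAlgebra.mapDomainRingHom R0 (QuotientGroup.mk' N)) =
            (MonoidAlgebra.mapDomainRingHom T (QuotientGroup.mk' N)).comp ι := by
          refine RingHom.ext fun y => ?_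
          induction y using MonoidAlgebra.induction_linear with
          | zero => simp
          | add x y hx hy => simp only [map_add, hx, hy]
          | single m r => simp [ι, j]
        have h1 : j (MonoidAlgebra.mapDomainRingHom R0 (QuotientGroup.mk' N) (a0 ^ l * b0)) = 0 := by
          rw [← RingHom.comp_apply, hnat, RingHom.comp_apply, map_mul ι, map_pow ι]
          exact hl
        apply MonoidAlgebra.coeff_injective
        refine Finsupp.ext fun k => Subtype.ext ?_
        simpa [j, MonoidAlgebra.coeff_mapRingHom] using congrArg (fun z => z.coeff k) h1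
    have h0' : π (a0 ^ l * b0) = 0 := h0
    rw [map_mul, map_pow] at h0'
    exact (hua.pow l).mul_right_eq_zero.1 h0'
  exact ⟨l, by rw [← map_pow, ← map_mul, hl, map_zero]⟩

theorem one_tmul_eq_zero_of_family {ι : Type u} [Finite ι] (U : ι → Type u) [∀ i, CommRing (U i)]
    [∀ i, Algebra R (U i)] [Module.FaithfullyFlat R (Π i, U i)] {X : Type u} [AddCommGroup X]
    [Module R X] {x : X} (h : ∀ i, (1 : U i) ⊗ₜ[R] x = 0) : x = 0 := by
  refine Module.FaithfullyFlat.tensorProduct_mk_injective (A := R) (B := Π i, U i) X ?_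
  refine pi_tensor_ext fun i => ?_
  simpa using h i

theorem iInf_torsionIdeal_eq_bot (hft : Algebra.FiniteType R A) (h : SGA3b.IsMultType R A) (a : A) :
    ⨅ n : {n : ℕ // 0 < n}, Ideal.map (algebraMap A (Localization.Away a))
      (SGA3b.torsionIdeal R A n.1) = ⊥ := by
  classical
  rw [eq_bot_iff]
  intro x hx
  rw [Ideal.mem_bot]
  obtain ⟨⟨b, s⟩, rfl⟩ := IsLocalization.mk'_surjective (Submonoid.powers a) (S := Localization.Away a) x
  simp only [Submodule.mem_iInf] at hx
  obtain ⟨ι, _, U, _, _, _, hff, hd⟩ := exists_split_family h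
  have key : ∀ i, ∃ l : ℕ, (1 : U i) ⊗ₜ[R] (a ^ l * b) = 0 := by
    intro i
    rcases subsingleton_or_nontrivial (U i) with hs | hs
    · exact ⟨0, @Subsingleton.elim _ (Module.subsingleton (U i) _) _ _⟩
    obtain ⟨M, _, ⟨e⟩⟩ := hd i
    haveI := group_fg_of_diag hft e
    have hmul : ∀ l : ℕ, e ((1 : U i) ⊗ₜ[R] (a ^ l * b)) =
        e ((1 : U i) ⊗ₜ[R] a) ^ l * e ((1 : U i) ⊗ₜ[R] b) := fun l => by
      rw [← map_pow, ← map_mul]
      simp
    obtain ⟨l, hl⟩ := exists_pow_mul_eq_zero (e ((1 : U i) ⊗ₜ[R] a)) (e ((1 : U i) ⊗ₜ[R] b)) fun n hn => by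
      have h1 := hx ⟨n, hn⟩
      rw [IsLocalization.mk'_mem_iff, IsLocalization.algebraMap_mem_map_algebraMap_iff (Submonoid.powers a)] at h1
      obtain ⟨_, ⟨l, rfl⟩, hl⟩ := h1
      exact ⟨l, by rw [← hmul]; exact torsion_le_ker e n hl⟩
    exact ⟨l, e.injective ((hmul l).trans (hl.trans (map_zero e).symm))⟩
  choose l hl using key
  have := Fintype.ofFinite ι
  rw [IsLocalization.mk'_eq_zero_iff]
  refine ⟨⟨a ^ Finset.univ.sup l, _, rfl⟩, one_tmul_eq_zero_of_family (R := R) U fun i => ?_⟩
  have hle : l i ≤ Finset.univ.sup l := Finset.le_sup (Finset.mem_univ i)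
  show (1 : U i) ⊗ₜ[R] (a ^ Finset.univ.sup l * b) = 0
  rw [← Nat.sub_add_cancel hle, pow_add, mul_assoc, ← one_mul (1 : U i),
    ← Algebra.TensorProduct.tmul_mul_tmul, hl i, mul_zero]

theorem finite_iff_killed (hft : Algebra.FiniteType R A) (h : SGA3b.IsMultType R A) :
    Module.Finite R A ↔ ∃ n : ℕ, 0 < n ∧ SGA3b.torsionIdeal R A n = ⊥ := by
  classical
  obtain ⟨ι, _, U, _, _, _, hff, hd⟩ := exists_split_family h
  choose M iM he using hd
  have := Fintype.ofFinite ι
  constructor
  · intro hA
    have hfin : ∀ i, Nontrivial (U i) → Finite (M i) := fun i _ => by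
      obtain ⟨e⟩ := he i
      haveI : Module.Finite (U i) (MonoidAlgebra (U i) (M i)) :=
        Module.Finite.equiv (e : U i ⊗[R] A ≃ₐ[U i] MonoidAlgebra (U i) (M i)).toLinearEquiv
      haveI : Module.Finite (U i) (M i →₀ U i) := Module.Finite.equiv (MonoidAlgebra.coeffLinearEquiv (U i))
      exact Module.Finite.finite_basis (Finsupp.basisSingleOne (ι := M i) (R := U i))
    let c : ι → ℕ := fun i => if Nontrivial (U i) then Nat.card (M i) else 1
    have hc : ∀ i, 0 < c i := fun i => by
      simp only [c]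
      split_ifs with hn
      · haveI := hfin i hn
        exact Nat.card_pos
      · exact one_pos
    refine ⟨∏ i, c i, Finset.prod_pos fun i _ => hc i, ?_⟩
    refine eq_bot_iff.2 fun d hd => ?_
    rw [Ideal.mem_bot]
    refine one_tmul_eq_zero_of_family (R := R) U fun i => ?_
    rcases subsingleton_or_nontrivial (U i) with hs | hs
    · exact @Subsingleton.elim _ (Module.subsingleton (U i) _) _ _
    obtain ⟨e⟩ := he i
    have hN : (powMonoidHom (∏ i, c i) : M i →* M i).range = ⊥ := by
      rw [eq_bot_iff]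
      rintro _ ⟨m, rfl⟩
      haveI := hfin i hs
      rw [Subgroup.mem_bot, powMonoidHom_apply, ← Finset.mul_prod_erase _ _ (Finset.mem_univ i), pow_mul]
      simp only [c, if_pos hs, pow_card_eq_one', one_pow]
    have h0 := torsion_le_ker e (∏ i, c i) hd
    have hinj : Function.Injective (QuotientGroup.mk' (powMonoidHom (∏ i, c i) : M i →* M i).range) := by
      intro x y hxy
      have := QuotientGroup.eq.1 hxy
      rwa [hN, Subgroup.mem_bot, inv_mul_eq_one] at this
    have hinj' := MonoidAlgebra.mapDomain_injective (R := U i) hinj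
    exact e.injective (by
      rw [map_zero]
      exact hinj' (h0.trans (map_zero (MonoidAlgebra.mapDomainRingHom (U i) (QuotientGroup.mk' _))).symm))
  · rintro ⟨n, hn, hbot⟩
    refine finite_of_family U A fun i => ?_
    rcases subsingleton_or_nontrivial (U i) with hs | hs
    · haveI : Subsingleton (U i ⊗[R] A) := Module.subsingleton (U i) _
      infer_instance
    obtain ⟨e⟩ := he i
    haveI := group_fg_of_diag hft e
    have hpow : ∀ m : M i, m ^ n = 1 := fun m => by
      have hy := (MonoidAlgebra.isGroupLikeElem_single_one (R := U i) (A := U i) m).map e.symm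
      have h1 := map_sub_counit_mem (W := U i) (SGA3b.powConv R A n) (J := SGA3b.torsionIdeal R A n) rfl
        (e.symm (MonoidAlgebra.single m (1 : U i)))
      rw [hbot, Ideal.map_bot, Ideal.mem_bot, sub_eq_zero, hy.counit_eq_one, map_one,
        map_powConv_glike (U i) n hy, ← map_pow, MonoidAlgebra.single_pow, one_pow,
        ← map_one e.symm] at h1
      exact Finsupp.single_left_injective (one_ne_zero (α := U i))
        (congrArg MonoidAlgebra.coeff (e.symm.injective h1))
    haveI : Finite (M i) := CommGroup.finite_of_fg_torsion _ fun g =>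
      isOfFinOrder_iff_pow_eq_one.2 ⟨n, hn, hpow g⟩
    haveI : Module.Finite (U i) (MonoidAlgebra (U i) (M i)) :=
      Module.Finite.equiv (MonoidAlgebra.coeffLinearEquiv (U i)).symm
    exact Module.Finite.equiv (e : U i ⊗[R] A ≃ₐ[U i] MonoidAlgebra (U i) (M i)).toLinearEquiv.symm

end Groth.Agent.MultTypeLib
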