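import Groth.Agent.Lib.MultType.GlikePair
import Groth.Agent.Lib.MultType.QuasiIso
import Groth.Agent.Lib.MultType.Isotrivial
import Groth.Agent.Lib.Hens.EtaleLift

/-!
# Splittings and isotriviality lift along henselian pairs
-/

universe u

open TensorProduct

namespace Groth.Agent.MultTypeLib

variable {R : Type u} [CommRing R] {A : Type u} [CommRing A] [HopfAlgebra R A] {I : Ideal R}

set_option maxHeartbeats 1000000 in
/-- A splitting modulo `I` lifts along a henselian pair. -/
theorem isDiag_of_henselianPair (hft : Algebra.FiniteType R A) (h : SGA3b.IsMultType R A)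
    (H : HenselianRing R I) (h0 : SGA3b.IsDiag (R ⧸ I) ((R ⧸ I) ⊗[R] A)) : SGA3b.IsDiag R A := by
  rcases subsingleton_or_nontrivial (R ⧸ I) with hs | hn
  · have hI : I = ⊤ := Ideal.Quotient.subsingleton_iff.mp hs
    refine isDiag_of_isDiag_mod_nil (I := I) (fun x _ => ?_) h h0
    have : Subsingleton R := by
      refine subsingleton_of_zero_eq_one ?_
      have := Ideal.mem_jacobson_bot.mp (H.jac (hI ▸ Submodule.mem_top : (1 : R) ∈ I)) (-1)
      simpa [isUnit_zero_iff] using this
    exact ⟨1, Subsingleton.elim _ _⟩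
  obtain ⟨j, hj⟩ := exists_isInt_of_isMultType h
  obtain ⟨M, _, ⟨e₀⟩⟩ := h0
  haveI : Group.FG M := group_fg_of_diag hft e₀
  have hK : ∀ r ∈ I, IsUnit (1 + r) := fun r hr => by
    simpa [add_comm] using Ideal.mem_jacobson_bot.mp (H.jac hr) 1
  have hlift : ∀ m : M, ∃ g : A, IsGroupLikeElem R g ∧
      (1 : R ⧸ I) ⊗ₜ[R] g = e₀.symm (MonoidAlgebra.single m 1) := by
    intro m
    obtain ⟨a, ha⟩ := one_tmul_surjective (B := A) I (e₀.symm (MonoidAlgebra.single m 1))
    have hgl : IsGroupLikeElem (R ⧸ I) ((1 : R ⧸ I) ⊗ₜ[R] a) := by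
      rw [ha]
      exact (MonoidAlgebra.isGroupLikeElem_single_one (R := R ⧸ I) (A := R ⧸ I) m).map e₀.symm
    obtain ⟨hε, hΔ⟩ := defects_of_glike_mod hgl
    obtain ⟨g, hg, hga⟩ := exists_glike_of_henselian H hj h hε hΔ
    exact ⟨g, hg, (sub_mem_KT_iff_one_tmul_eq.mp hga).trans ha⟩
  choose g hg hge using hlift
  let F : M →* A :=
    { toFun := g
      map_one' := glike_eq_of_mod hj hK (hg 1) IsGroupLikeElem.one
        (sub_mem_KT_iff_one_tmul_eq.mpr (by
          rw [hge, ← MonoidAlgebra.one_def, map_one, Algebra.TensorProduct.one_def]))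
      map_mul' := fun x y => glike_eq_of_mod hj hK (hg (x * y)) ((hg x).mul (hg y))
        (sub_mem_KT_iff_one_tmul_eq.mpr (by
          rw [hge, show (1 : R ⧸ I) ⊗ₜ[R] (g x * g y) =
            ((1 : R ⧸ I) ⊗ₜ[R] g x) * ((1 : R ⧸ I) ⊗ₜ[R] g y) by simp, hge, hge, ← map_mul,
            MonoidAlgebra.single_mul_single, one_mul])) }
  let f : MonoidAlgebra R M →ₐ[R] A := MonoidAlgebra.lift R A M F
  let Φ : MonoidAlgebra R M →ₐc[R] A := BialgHom.ofAlgHom f
    (MonoidAlgebra.algHom_ext (fun m => by simp [f, F, (hg m).counit_eq_one]) (by ext))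
    (MonoidAlgebra.algHom_ext (fun m => by simp [f, F, (hg m).comul_eq_tmul_self]) (by ext))
  have hΦ : ∀ m, Φ (MonoidAlgebra.single m 1) = g m := fun m => by simp [Φ, f, F]
  have hred : ∀ z : (R ⧸ I) ⊗[R] MonoidAlgebra R M,
      (Φ : MonoidAlgebra R M →ₗ[R] A).baseChange (R ⧸ I) z = e₀.symm (diagBC R (R ⧸ I) M z) := by
    intro z
    induction z using TensorProduct.induction_on with
    | zero => simp
    | add x y hx hy => simp only [map_add, hx, hy]
    | tmul q x =>
      induction x using MonoidAlgebra.induction_linear with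
      | zero => simp
      | add x y hx hy => simp only [TensorProduct.tmul_add, map_add, hx, hy]
      | single m r =>
        rw [show MonoidAlgebra.single m r = r • MonoidAlgebra.single m (1 : R) by simp,
          TensorProduct.tmul_smul, ← algebraMap_smul (R ⧸ I) r]
        simp only [map_smul]
        congr 1
        simp only [diagBC_tmul_single, LinearMap.baseChange_tmul]
        rw [show MonoidAlgebra.single m q = q • MonoidAlgebra.single m (1 : R ⧸ I) by simp, map_smul,
          ← hge m, TensorProduct.smul_tmul', smul_eq_mul, mul_one]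
        exact congrArg (q ⊗ₜ[R] ·) (hΦ m)
  have hnhd : ∀ p : Ideal R, p.IsMaximal →
      ∃ t ∉ p, Function.Bijective (bcMap (Localization.Away t) Φ) := by
    intro p hp
    haveI := hp.isPrime
    have hIp : I ≤ p := H.jac.trans (sInf_le ⟨bot_le, hp⟩)
    let k := p.ResidueField
    letI : Algebra (R ⧸ I) k := (Ideal.Quotient.lift I (algebraMap R k) fun x hx => by
      rw [← RingHom.mem_ker, Ideal.ker_algebraMap_residueField]; exact hIp hx).toAlgebra
    have : IsScalarTower R (R ⧸ I) k := IsScalarTower.of_algebraMap_eq fun _ => rfl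
    refine exists_bijective_nhd h p Φ ?_ ⟨k, inferInstance, inferInstance,
      Ideal.ker_algebraMap_residueField p,
      ⟨(cancelBC R A (R ⧸ I) k).symm.trans ((bcEquiv k e₀).trans (diagBC (R ⧸ I) k M))⟩⟩
    intro z
    induction z using TensorProduct.induction_on with
    | zero => exact ⟨0, map_zero _⟩
    | add a b ha hb =>
      obtain ⟨x, rfl⟩ := ha
      obtain ⟨y, rfl⟩ := hb
      exact ⟨x + y, map_add _ x y⟩
    | tmul c a =>
      let π : (R ⧸ I) →ₐ[R] k := IsScalarTower.toAlgHom R (R ⧸ I) k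
      let w := (diagBC R (R ⧸ I) M).symm (e₀ ((1 : R ⧸ I) ⊗ₜ[R] a))
      have hw : (Φ : MonoidAlgebra R M →ₗ[R] A).baseChange (R ⧸ I) w = (1 : R ⧸ I) ⊗ₜ[R] a := by
        rw [hred, BialgEquiv.apply_symm_apply, BialgEquiv.symm_apply_apply]
      have key : ∀ w, (Φ : MonoidAlgebra R M →ₗ[R] A).baseChange k
          (Algebra.TensorProduct.map π (AlgHom.id R _) w) =
          Algebra.TensorProduct.map π (AlgHom.id R A)
            ((Φ : MonoidAlgebra R M →ₗ[R] A).baseChange (R ⧸ I) w) := by
        intro w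
        induction w using TensorProduct.induction_on with
        | zero => simp
        | tmul x y => simp
        | add x y hx hy => simp only [map_add, hx, hy]
      refine ⟨c • Algebra.TensorProduct.map π (AlgHom.id R _) w, ?_⟩
      rw [map_smul, key, hw, Algebra.TensorProduct.map_tmul, map_one, TensorProduct.smul_tmul']
      simp
  let s := {t : R | Function.Bijective (bcMap (Localization.Away t) Φ)}
  have hs : Ideal.span s = ⊤ := by
    by_contra hne
    obtain ⟨p, hp, hle⟩ := Ideal.exists_le_maximal _ hne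
    obtain ⟨t, htp, htb⟩ := hnhd p hp
    exact htp (hle (Ideal.subset_span htb))
  obtain ⟨s', hs's, hs'⟩ := (Ideal.span_eq_top_iff_finite s).1 hs
  haveI : Module.FaithfullyFlat R (Π t : s', Localization.Away t.1) := faithfullyFlat_pi _ fun p => by
    obtain ⟨t, ht, htp⟩ : ∃ t ∈ s', t ∉ p.asIdeal := by
      by_contra hcon
      push_neg at hcon
      exact p.isPrime.ne_top (top_le_iff.1 (hs' ▸ Ideal.span_le.2 hcon))
    refine ⟨⟨t, ht⟩, ?_⟩
    rw [PrimeSpectrum.localization_away_comap_range (Localization.Away t) t]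
    exact htp
  have hbij : Function.Bijective Φ :=
    bijective_of_family (fun t : s' => Localization.Away t.1) (Φ : MonoidAlgebra R M →ₗ[R] A)
      fun t => hs's t.2
  exact ⟨M, inferInstance, ⟨(BialgEquiv.ofBijective Φ hbij).symm⟩⟩

/-- Isotriviality lifts along a henselian pair. -/
theorem isIsotrivial_of_henselianPair (hft : Algebra.FiniteType R A) (h : SGA3b.IsMultType R A)
    (H : HenselianRing R I) (h0 : SGA3b.IsIsotrivial (R ⧸ I) ((R ⧸ I) ⊗[R] A)) :
    SGA3b.IsIsotrivial R A := by
  obtain ⟨C, _, _, _, _, _, hC⟩ := h0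
  obtain ⟨B, _, _, _, _, ⟨e⟩⟩ := Hens.exists_finite_etale_lift H C
  letI : Algebra R C := ((algebraMap (R ⧸ I) C).comp (Ideal.Quotient.mk I)).toAlgebra
  have : IsScalarTower R (R ⧸ I) C := IsScalarTower.of_algebraMap_eq' rfl
  let φ : B →ₐ[R] C := (e.toAlgHom.restrictScalars R).comp Algebra.TensorProduct.includeRight
  have hφ : Function.Surjective φ := e.surjective.comp
    (Algebra.TensorProduct.includeRight_surjective _ Ideal.Quotient.mk_surjective)
  have hker : RingHom.ker φ = I.map (algebraMap R B) := by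
    ext x
    rw [← mem_KT_iff_mem_map, mem_KT_iff_one_tmul_eq_zero]
    exact e.map_eq_zero_iff
  have : Module.Flat R B := inferInstance
  have : Algebra.IsIntegral R B := Algebra.IsIntegral.of_finite R B
  have hff : Module.FaithfullyFlat R B := by
    refine ⟨fun m hm htop => ?_⟩
    haveI := hm.isPrime
    have hIm : I ≤ m := H.jac.trans (sInf_le ⟨bot_le, hm⟩)
    obtain ⟨q, hq⟩ := PrimeSpectrum.comap_surjective_of_faithfullyFlat (A := R ⧸ I) (B := C)
      ⟨m.map (Ideal.Quotient.mk I), Ideal.map_isPrime_of_surjective Ideal.Quotient.mk_surjective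
        (by rwa [Ideal.mk_ker])⟩
    have h1 : q.asIdeal.comap (algebraMap R C) = m := by
      have h2 := congrArg (fun x : PrimeSpectrum (R ⧸ I) => x.asIdeal.comap (Ideal.Quotient.mk I)) hq
      simp only [PrimeSpectrum.comap_asIdeal, Ideal.comap_comap] at h2
      exact h2.trans (comap_map_quot hIm)
    have h3 : m.map (algebraMap R B) ≤ q.asIdeal.comap φ.toRingHom := by
      rw [Ideal.map_le_iff_le_comap, Ideal.comap_comap]
      conv_lhs => rw [← h1]
      exact le_of_eq (by rw [← φ.comp_algebraMap]; rfl)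
    have h4 : (⊤ : Submodule R B) ≤ (q.asIdeal.comap φ.toRingHom).restrictScalars R := by
      rw [← htop, Ideal.smul_top_eq_map]
      exact h3
    exact q.isPrime.ne_top ((Ideal.eq_top_iff_one _).2 (by simpa using h4 (show (1 : B) ∈ ⊤ from trivial)))
  haveI : Algebra.FiniteType B (B ⊗[R] A) := inferInstance
  refine ⟨B, inferInstance, inferInstance, inferInstance, inferInstance, hff,
    isDiag_of_henselianPair inferInstance (isMultType_baseChange B h)
      (Hens.henselianRing_of_isIntegral (B := B) H) ?_⟩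
  let J := I.map (algebraMap R B)
  let ec : C ≃ₐ[R] B ⧸ J :=
    (Ideal.quotientKerAlgEquivOfSurjective hφ).symm.trans (Ideal.quotientEquivAlgOfEq R hker)
  letI : Algebra C (B ⧸ J) := ec.toAlgHom.toRingHom.toAlgebra
  have : IsScalarTower R C (B ⧸ J) := IsScalarTower.of_algebraMap_eq fun r => (ec.commutes r).symm
  exact isDiag_tensor_tensor B (B ⧸ J)
    (isDiag_baseChange C (B ⧸ J) (isDiag_of_tensor_tensor (R ⧸ I) C hC))

end Groth.Agent.MultTypeLib
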