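import Groth.Agent.Lib.MultType.QuotLift
import Groth.Agent.Lib.MultType.Sep
import Groth.Agent.S2978

/-!
# Homomorphisms from isotrivial groups over an adically complete base
-/

universe u

open TensorProduct

namespace Groth.Agent.MultTypeLib

variable {A : Type u} [CommRing A]

/-- A finite faithfully flat splitting of a Hopf algebra. -/
structure Splitting (B : Type u) [CommRing B] [Bialgebra A B] where
  (R' : Type u)
  [cR : CommRing R']
  [aR : Algebra A R']
  [fin : Module.Finite A R']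
  [ff : Module.FaithfullyFlat A R']
  (M : Type u)
  [cM : CommMonoid M]
  e : (R' ⊗[A] B) ≃ₐc[R'] MonoidAlgebra R' M

attribute [instance] Splitting.cR Splitting.aR Splitting.fin Splitting.ff Splitting.cM

variable {B : Type u} [CommRing B]

theorem exists_splitting [HopfAlgebra A B] (h : SGA3b.IsIsotrivial A B) :
    Nonempty (Splitting (A := A) B) := by
  obtain ⟨R', _, _, _, _, _, M, _, ⟨e⟩⟩ := h
  exact ⟨⟨R', M, e⟩⟩

variable [Bialgebra A B]

theorem Splitting.exists_isInt (S : Splitting (A := A) B) : ∃ j : B →ₗ[A] A, IsInt j :=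
  (((isInt_coeffOne S.R' S.M).comp_equiv S.e).of_baseChange).descend

/-- The underlying `A`-linear trivialisation. -/
noncomputable def Splitting.lin (S : Splitting (A := A) B) : (S.R' ⊗[A] B) ≃ₗ[A] (S.M →₀ S.R') :=
  ((S.e : (S.R' ⊗[A] B) ≃ₐ[S.R'] MonoidAlgebra S.R' S.M).toLinearEquiv.restrictScalars A).trans
    (MonoidAlgebra.coeffLinearEquiv A)

theorem Splitting.lin_apply (S : Splitting (A := A) B) (x : S.R' ⊗[A] B) (m : S.M) :
    S.lin x m = (S.e x).coeff m := rfl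

/-- The `m`-th coordinate of an element of `B`. -/
noncomputable def Splitting.κ (S : Splitting (A := A) B) (m : S.M) : B →ₗ[A] S.R' :=
  Finsupp.lapply m ∘ₗ S.lin.toLinearMap ∘ₗ TensorProduct.mk A S.R' B 1

theorem Splitting.κ_apply (S : Splitting (A := A) B) (m : S.M) (b : B) :
    S.κ m b = (S.e ((1 : S.R') ⊗ₜ[A] b)).coeff m := rfl

/-- Pairs of coordinates. -/
noncomputable def Splitting.κ₂ (S : Splitting (A := A) B) (m m' : S.M) : B ⊗[A] B →ₗ[A] S.R' :=
  LinearMap.mul' A S.R' ∘ₗ TensorProduct.map (S.κ m) (S.κ m')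

open scoped Classical in
theorem Splitting.κ₂_comul (S : Splitting (A := A) B) (m m' : S.M) (b : B) :
    S.κ₂ m m' (Coalgebra.comul (R := A) b) = if m = m' then S.κ m b else 0 := by
  let c : S.M → MonoidAlgebra S.R' S.M →ₗ[S.R'] S.R' := fun k =>
    Finsupp.lapply k ∘ₗ (MonoidAlgebra.coeffLinearEquiv S.R').toLinearMap
  let P : MonoidAlgebra S.R' S.M ⊗[S.R'] MonoidAlgebra S.R' S.M →ₗ[S.R'] S.R' :=
    LinearMap.mul' S.R' S.R' ∘ₗ TensorProduct.map (c m) (c m')
  have hP : ∀ x, P (Coalgebra.comul (R := S.R') x) = if m = m' then c m x else 0 := by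
    intro x
    induction x using MonoidAlgebra.induction_linear with
    | zero => simp
    | add x y hx hy => rw [map_add, map_add, hx, hy]; split_ifs <;> simp
    | single k r =>
      rcases eq_or_ne m m' with h | h
      · subst h
        rcases eq_or_ne k m with h2 | h2
        · subst h2; simp [P, c]
        · simp [P, c, Ne.symm h2]
      · rw [if_neg h]
        rcases eq_or_ne k m with h2 | h2
        · subst h2; simp [P, c, Ne.symm h]
        · simp [P, c, Ne.symm h2]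
  have key : ∀ z : B ⊗[A] B,
      P (TensorProduct.map (S.e : S.R' ⊗[A] B →ₗ[S.R'] MonoidAlgebra S.R' S.M)
        (S.e : S.R' ⊗[A] B →ₗ[S.R'] MonoidAlgebra S.R' S.M) (inclTwo S.R' z)) = S.κ₂ m m' z := by
    intro z
    induction z using TensorProduct.induction_on with
    | zero => simp
    | tmul x y => simp [inclTwo_tmul, P, c, Splitting.κ₂, Splitting.κ_apply]
    | add x y hx hy => simp [hx, hy]
  rw [← key, ← comul_one_tmul]
  exact (congrArg P (CoalgHomClass.map_comp_comul_apply S.e _)).trans (hP _)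

variable [IsNoetherianRing A] {I : Ideal A} [IsAdicComplete I A]

theorem Splitting.sep (S : Splitting (A := A) B) :
    Sep I B ∧ Sep I (B ⊗[A] B) ∧ Sep I (B ⊗[A] (S.R' ⊗[A] S.R')) := sep_of_split S.lin

omit [IsNoetherianRing A] in
theorem Splitting.mem_KT_of_forall_coord (S : Splitting (A := A) B) {K : Ideal A}
    {x : S.R' ⊗[A] B} (h : ∀ m, (S.e x).coeff m ∈ KT K S.R') : x ∈ KT K (S.R' ⊗[A] B) := by
  rw [← S.lin.symm_apply_apply x]
  refine map_mem_KT S.lin.symm.toLinearMap ?_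
  rw [← Finsupp.sum_single (S.lin x)]
  exact Submodule.sum_mem _ fun m _ => map_mem_KT (Finsupp.lsingle m) (h m)

/-- An `I`-adically coherent family which is coordinatewise finitely supported comes from `B`. -/
theorem Splitting.exists_limit (S : Splitting (A := A) B) (b : ℕ → B) (a : S.M →₀ S.R')
    (ha : ∀ m n, a m - S.κ m (b n) ∈ KT (I ^ n) S.R') :
    ∃ x : B, ∀ n, x - b n ∈ KT (I ^ n) B := by
  let β : S.R' ⊗[A] B := S.lin.symm a
  have hβ : ∀ n, β - (1 : S.R') ⊗ₜ[A] b n ∈ KT (I ^ n) (S.R' ⊗[A] B) := fun n => by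
    refine S.mem_KT_of_forall_coord fun m => ?_
    rw [← S.lin_apply, map_sub, LinearEquiv.apply_symm_apply]
    exact ha m n
  let γ : B ⊗[A] S.R' := TensorProduct.comm A S.R' B β
  have hγ : (Algebra.TensorProduct.includeLeftSubRight A S.R').lTensor B γ = 0 := by
    refine (Splitting.sep (I := I) S).2.2 _ fun n => ?_
    have h := map_mem_KT ((Algebra.TensorProduct.includeLeftSubRight A S.R').lTensor B ∘ₗ
      (TensorProduct.comm A S.R' B).toLinearMap) (hβ n)
    have e : (Algebra.TensorProduct.includeLeftSubRight A S.R').lTensor B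
        (TensorProduct.comm A S.R' B ((1 : S.R') ⊗ₜ[A] b n)) = 0 := by simp
    rw [LinearMap.comp_apply, LinearEquiv.coe_coe, map_sub, map_sub, e, sub_zero] at h
    exact h
  have h2 : Algebra.TensorProduct.includeLeftSubRight B (B ⊗[A] S.R') γ = 0 := by
    rw [← Algebra.TensorProduct.distribBaseChange_includeLeftSubRight_apply, hγ, map_zero]
  obtain ⟨x, hx⟩ := (Algebra.IsEffective.of_faithfullyFlat B (B ⊗[A] S.R') γ).mp h2
  refine ⟨x, fun n => mem_KT_of_one_tmul_mem (R' := S.R') ?_⟩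
  have hx' : (1 : S.R') ⊗ₜ[A] x = β := by
    have := congrArg (TensorProduct.comm A S.R' B).symm hx
    simpa [γ, Algebra.TensorProduct.algebraMap_apply] using this
  rw [TensorProduct.tmul_sub, hx']
  exact hβ n

variable {C : Type u} [CommRing C] [HopfAlgebra A C]

set_option maxHeartbeats 1000000 in
/-- Formal homomorphisms `H^ → G^` come from homomorphisms, `H` isotrivial. -/
theorem Splitting.exists_bialgHom_of_coherent (S : Splitting (A := A) B)
    (ψ : ∀ n : ℕ, ((A ⧸ I ^ (n + 1)) ⊗[A] C) →ₐc[A ⧸ I ^ (n + 1)] ((A ⧸ I ^ (n + 1)) ⊗[A] B))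
    (hψ : ∀ n c, red B (Ideal.pow_le_pow_right (I := I) (Nat.le_succ (n + 1)))
      (ψ (n + 1) ((1 : A ⧸ I ^ (n + 1 + 1)) ⊗ₜ[A] c)) = ψ n ((1 : A ⧸ I ^ (n + 1)) ⊗ₜ[A] c)) :
    ∃ φ : C →ₐc[A] B, ∀ n c,
      ψ n ((1 : A ⧸ I ^ (n + 1)) ⊗ₜ[A] c) = (1 : A ⧸ I ^ (n + 1)) ⊗ₜ[A] φ c := by
  classical
  choose b hb using fun (n : ℕ) (c : C) =>
    one_tmul_surjective (I ^ (n + 1)) (ψ n ((1 : A ⧸ I ^ (n + 1)) ⊗ₜ[A] c))
  have hcauchy : ∀ c n, b (n + 1) c - b n c ∈ KT (I ^ (n + 1)) B := by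
    intro c n
    rw [sub_mem_KT_iff_one_tmul_eq, hb, ← hψ n c, ← hb (n + 1) c, red_one_tmul]
  have hle : ∀ c {k n : ℕ}, k ≤ n → b n c - b k c ∈ KT (I ^ (k + 1)) B := by
    intro c k n hkn
    induction hkn with
    | refl => simp
    | step hm ih =>
      rename_i n
      rw [← sub_add_sub_cancel (b (n + 1) c) (b n c) (b k c)]
      exact add_mem (KT_mono (Ideal.pow_le_pow_right (by simpa using hm)) (hcauchy c n)) ih
  have hR := Compl.isAdicComplete_of_finite I S.R'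
  have hlim : ∀ c m, ∃ r : S.R', ∀ n, r - S.κ m (b n c) ∈ KT (I ^ n) S.R' := by
    intro c m
    obtain ⟨L, hL⟩ := IsPrecomplete.prec (inferInstance : IsPrecomplete I S.R')
      (f := fun n => S.κ m (b n c)) (fun {k n} hkn => SModEq.sub_mem.mpr (by
        rw [← neg_sub, ← map_sub]
        exact neg_mem (map_mem_KT _ (KT_mono (Ideal.pow_le_pow_right (Nat.le_succ k)) (hle c hkn)))))
    exact ⟨L, fun n => by rw [← neg_sub]; exact neg_mem (SModEq.sub_mem.mp (hL n))⟩
  choose a ha using hlim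
  have hsupp : ∀ c, {m : S.M | a c m ≠ 0}.Finite := by
    intro c
    let r := Coalgebra.Repr.arbitrary A c
    have hsepR := sep_of_finite (I := I) S.R'
    have hdec : ∀ m m', (if m = m' then a c m else 0) =
        ∑ i : r.index, a (r.left i) m * a (r.right i) m' := by
      intro m m'
      refine hsepR.eq fun n => ?_
      have h1 : Coalgebra.comul (R := A) (b n c) -
          ∑ i : r.index, b n (r.left i) ⊗ₜ[A] b n (r.right i) ∈ KT (I ^ (n + 1)) (B ⊗[A] B) := by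
        rw [Finset.univ_eq_attach, Finset.sum_attach r.index
          (fun i => b n (r.left i) ⊗ₜ[A] b n (r.right i))]
        let Θ : ((A ⧸ I ^ (n + 1)) ⊗[A] B) ⊗[A ⧸ I ^ (n + 1)] ((A ⧸ I ^ (n + 1)) ⊗[A] B)
            →ₐ[A ⧸ I ^ (n + 1)] (A ⧸ I ^ (n + 1)) ⊗[A] (B ⊗[A] B) :=
          Algebra.TensorProduct.lift
            (Algebra.TensorProduct.map (AlgHom.id _ _) (Algebra.TensorProduct.includeLeft (S := A)))
            (Algebra.TensorProduct.map (AlgHom.id _ _) Algebra.TensorProduct.includeRight)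
            (fun _ _ => Commute.all _ _)
        have hΘ : ∀ z, Θ (inclTwo (A ⧸ I ^ (n + 1)) z) = (1 : A ⧸ I ^ (n + 1)) ⊗ₜ[A] z := by
          intro z
          induction z using TensorProduct.induction_on with
          | zero => simp
          | tmul x y => simp [Θ, inclTwo_tmul]
          | add x y hx hy => simp [hx, hy, TensorProduct.tmul_add]
        rw [sub_mem_KT_iff_one_tmul_eq, ← hΘ, ← comul_one_tmul, hb,
          ← CoalgHomClass.map_comp_comul_apply (ψ n), comul_one_tmul, ← r.eq, ← hΘ]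
        refine congrArg Θ ?_
        simp [map_sum, inclTwo_tmul, hb]
      have h2 := KT_mono (Ideal.pow_le_pow_right (Nat.le_succ n)) (map_mem_KT (S.κ₂ m m') h1)
      rw [map_sub, map_sum, S.κ₂_comul] at h2
      simp only [Splitting.κ₂, LinearMap.comp_apply, TensorProduct.map_tmul,
        LinearMap.mul'_apply] at h2
      have h3 : (if m = m' then a c m else 0) - (if m = m' then S.κ m (b n c) else 0) ∈
          KT (I ^ n) S.R' := by
        split_ifs
        · exact ha c m n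
        · simp
      have h4 : ∑ i : r.index, a (r.left i) m * a (r.right i) m' -
          ∑ i : r.index, S.κ m (b n (r.left i)) * S.κ m' (b n (r.right i)) ∈ KT (I ^ n) S.R' := by
        rw [← Finset.sum_sub_distrib]
        refine Submodule.sum_mem _ fun i _ => ?_
        rw [show ∀ x x' y y' : S.R', x * y - x' * y' = (x - x') * y + x' * (y - y') by
          intros; ring]
        exact add_mem (mul_mem_KT_right _ (ha _ _ n)) (mul_mem_KT_left _ (ha _ _ n))
      have := sub_mem (add_mem h3 h2) h4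
      convert this using 1
      abel
    have : IsNoetherianRing S.R' := Algebra.FiniteType.isNoetherianRing A S.R'
    have hfin := Groth.Agent.S2978.result S.R' S.M (fun p => if p.1 = p.2 then a c p.1 else 0)
      (fun m m' h => if_neg h) r.index (fun i m => a (r.left i) m) (fun i m => a (r.right i) m)
      (fun m m' => hdec m m')
    refine (hfin.image Prod.fst).subset fun m hm => ⟨(m, m), ?_, rfl⟩
    simpa using hm
  choose x hx using fun c => S.exists_limit (I := I) (fun n => b n c)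
    (Finsupp.ofSupportFinite (a c) (hsupp c)) (fun m n => ha c m n)
  have hx' : ∀ n c, (1 : A ⧸ I ^ (n + 1)) ⊗ₜ[A] x c = ψ n ((1 : A ⧸ I ^ (n + 1)) ⊗ₜ[A] c) := by
    intro n c
    rw [← hb n c, ← sub_mem_KT_iff_one_tmul_eq, ← sub_add_sub_cancel (x c) (b (n + 1) c) (b n c)]
    exact add_mem (hx c (n + 1)) (hcauchy c n)
  have ext' : ∀ y z : B, (∀ n : ℕ, (1 : A ⧸ I ^ (n + 1)) ⊗ₜ[A] y =
      (1 : A ⧸ I ^ (n + 1)) ⊗ₜ[A] z) → y = z := fun y z h =>
    sub_eq_zero.mp ((Splitting.sep (I := I) S).1 _ (forall_mem_KT_of_succ fun n => sub_mem_KT_iff_one_tmul_eq.mpr (h n)))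
  let X : C →ₗ[A] B :=
    { toFun := x
      map_add' := fun p q => ext' _ _ fun n => by
        rw [TensorProduct.tmul_add, hx', hx', hx', TensorProduct.tmul_add, map_add]
      map_smul' := fun r p => ext' _ _ fun n => by
        rw [RingHom.id_apply, TensorProduct.tmul_smul, hx', hx', TensorProduct.tmul_smul,
          ← algebraMap_smul (A ⧸ I ^ (n + 1)) r, map_smul, algebraMap_smul] }
  let f : C →ₐ[A] B := AlgHom.ofLinearMap X
    (ext' _ _ fun n => by
      show (1 : A ⧸ I ^ (n + 1)) ⊗ₜ[A] x 1 = _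
      rw [hx', ← Algebra.TensorProduct.one_def, map_one, Algebra.TensorProduct.one_def])
    (fun p q => ext' _ _ fun n => by
      show (1 : A ⧸ I ^ (n + 1)) ⊗ₜ[A] x (p * q) = (1 : A ⧸ I ^ (n + 1)) ⊗ₜ[A] (x p * x q)
      have e : ∀ u v : C, (1 : A ⧸ I ^ (n + 1)) ⊗ₜ[A] (u * v) =
          ((1 : A ⧸ I ^ (n + 1)) ⊗ₜ[A] u) * ((1 : A ⧸ I ^ (n + 1)) ⊗ₜ[A] v) := fun u v => by simp
      rw [hx', e, map_mul, ← hx', ← hx']
      simp)
  have hmod : IsHomMod (⊥ : Ideal A) f := by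
    intro c
    rw [KT_bot, Submodule.mem_bot, sub_eq_zero]
    refine sub_eq_zero.mp ((Splitting.sep (I := I) S).2.1 _ (forall_mem_KT_of_succ (I := I) fun n => ?_))
    rw [← (Coalgebra.Repr.arbitrary A c).eq, map_sum]
    simp only [Algebra.TensorProduct.map_tmul]
    let Θ : ((A ⧸ I ^ (n + 1)) ⊗[A] B) ⊗[A ⧸ I ^ (n + 1)] ((A ⧸ I ^ (n + 1)) ⊗[A] B)
        →ₐ[A ⧸ I ^ (n + 1)] (A ⧸ I ^ (n + 1)) ⊗[A] (B ⊗[A] B) :=
      Algebra.TensorProduct.lift
        (Algebra.TensorProduct.map (AlgHom.id _ _) (Algebra.TensorProduct.includeLeft (S := A)))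
        (Algebra.TensorProduct.map (AlgHom.id _ _) Algebra.TensorProduct.includeRight)
        (fun _ _ => Commute.all _ _)
    have hΘ : ∀ z, Θ (inclTwo (A ⧸ I ^ (n + 1)) z) = (1 : A ⧸ I ^ (n + 1)) ⊗ₜ[A] z := by
      intro z
      induction z using TensorProduct.induction_on with
      | zero => simp
      | tmul x y => simp [Θ, inclTwo_tmul]
      | add x y hx hy => simp [hx, hy, TensorProduct.tmul_add]
    rw [sub_mem_KT_iff_one_tmul_eq, ← hΘ, ← comul_one_tmul]
    show Θ (Coalgebra.comul (R := A ⧸ I ^ (n + 1)) ((1 : A ⧸ I ^ (n + 1)) ⊗ₜ[A] x c)) = _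
    rw [hx', ← CoalgHomClass.map_comp_comul_apply (ψ n), comul_one_tmul,
      ← (Coalgebra.Repr.arbitrary A c).eq, ← hΘ]
    refine congrArg Θ ?_
    simp [map_sum, inclTwo_tmul, f, X, hx']
  obtain ⟨φ, hφ⟩ := hmod.toBialgHom
  refine ⟨φ, fun n c => ?_⟩
  rw [show φ c = x c from DFunLike.congr_fun hφ c, hx']

set_option maxHeartbeats 1000000 in
theorem Splitting.exists_bialgHom_lift (S : Splitting (A := A) B) [Algebra.FormallySmooth A C]
    (φ₀ : ((A ⧸ I) ⊗[A] C) →ₐc[A ⧸ I] ((A ⧸ I) ⊗[A] B)) :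
    ∃ φ : C →ₐc[A] B, ∀ c : C, φ₀ ((1 : A ⧸ I) ⊗ₜ[A] c) = (1 : A ⧸ I) ⊗ₜ[A] (φ c) := by
  obtain ⟨j, hj⟩ := S.exists_isInt
  have hnil : ∀ {K : Ideal A} {k : ℕ}, I ^ k ≤ K → ∀ n,
      IsNilpotent ((I ^ (n + 1)).map (Ideal.Quotient.mk K)) := fun {K k} hk n => ⟨k, by
    rw [← Ideal.map_pow, ← pow_mul, Ideal.zero_eq_bot, Ideal.map_eq_bot_iff_le_ker, Ideal.mk_ker]
    exact le_trans (Ideal.pow_le_pow_right (Nat.le_mul_of_pos_left k (Nat.succ_pos n))) hk⟩
  obtain ⟨ψ₀, hψ₀⟩ := exists_lift_quot hj (L := I ^ (0 + 1)) (K := I)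
    (le_of_eq (pow_one I)) ⟨1, by
      simp only [zero_add, pow_one, Ideal.zero_eq_bot, Ideal.map_eq_bot_iff_le_ker, Ideal.mk_ker,
        le_refl]⟩ φ₀
  choose next hnext using fun (n : ℕ)
      (φ : ((A ⧸ I ^ (n + 1)) ⊗[A] C) →ₐc[A ⧸ I ^ (n + 1)] ((A ⧸ I ^ (n + 1)) ⊗[A] B)) =>
    exists_lift_quot hj (L := I ^ (n + 1 + 1)) (K := I ^ (n + 1))
      (Ideal.pow_le_pow_right (Nat.le_succ (n + 1))) (hnil (k := n + 1 + 1) le_rfl n) φ
  let ψ : ∀ n : ℕ, ((A ⧸ I ^ (n + 1)) ⊗[A] C) →ₐc[A ⧸ I ^ (n + 1)] ((A ⧸ I ^ (n + 1)) ⊗[A] B) :=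
    fun n => Nat.rec ψ₀ (fun n φ => next n φ) n
  obtain ⟨φ, hφ⟩ := S.exists_bialgHom_of_coherent ψ (fun n c => hnext n (ψ n) c)
  refine ⟨φ, fun c => ?_⟩
  have h0 : ψ₀ ((1 : A ⧸ I ^ (0 + 1)) ⊗ₜ[A] c) = (1 : A ⧸ I ^ (0 + 1)) ⊗ₜ[A] φ c := hφ 0 c
  rw [← hψ₀ c, h0, red_one_tmul]

theorem Splitting.bialgHom_ext (S : Splitting (A := A) B) {φ ψ : C →ₐc[A] B}
    (h : ∀ (n : ℕ) (c : C), (1 : A ⧸ I ^ (n + 1)) ⊗ₜ[A] (φ c) = (1 : A ⧸ I ^ (n + 1)) ⊗ₜ[A] (ψ c)) :
    φ = ψ :=
  DFunLike.ext _ _ fun c => sub_eq_zero.mp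
    ((Splitting.sep (I := I) S).1 _ (forall_mem_KT_of_succ fun n => sub_mem_KT_iff_one_tmul_eq.mpr (h n c)))

end Groth.Agent.MultTypeLib
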