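import Groth.Agent.Lib.MultType.Adic
import Groth.Agent.Lib.MultType.HomLift
import Groth.Agent.Lib.MultType.FlatIso
import Groth.Agent.Lib.MultType.Transport
import Mathlib.RingTheory.Flat.Localization

/-!
# Homomorphisms of formal groups of multiplicative type into affine flat groups
-/

universe u

open TensorProduct

namespace Groth.Agent.MultTypeLib

variable {A : Type u} [CommRing A] {B C : Type u} [CommRing B] [CommRing C]

/-- `C ⊗ A/L` is flat over `A/L` when `C` is flat at all primes containing `I`, `I^k ≤ L`. -/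
theorem flat_quot_of_flatAt [Algebra A C] {I L : Ideal A} {k : ℕ} (hk : I ^ k ≤ L)
    (hfl : ∀ (q : Ideal C) [q.IsPrime], Ideal.map (algebraMap A C) I ≤ q →
      Module.Flat A (Localization.AtPrime q)) :
    Module.Flat (A ⧸ L) ((A ⧸ L) ⊗[A] C) := by
  let IC := Ideal.map (algebraMap A C) I
  let S : Submonoid C :=
    { carrier := {x | x - 1 ∈ IC}
      one_mem' := by simp
      mul_mem' := fun {a b} ha hb => by
        show a * b - 1 ∈ IC
        rw [show a * b - 1 = (a - 1) * b + (b - 1) by ring]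
        exact add_mem (IC.mul_mem_right _ ha) hb }
  let C' := Localization S
  haveI : Module.Flat A C' := by
    refine Module.flat_of_isLocalized_maximal (R := A) (S := C') (M := C')
      (Mₚ := fun P _ => Localization.AtPrime P)
      (fun P _ => Algebra.linearMap C' (Localization.AtPrime P)) fun P hP => ?_
    let q := P.comap (algebraMap C C')
    have hq : IC ≤ q := by
      intro x hx
      by_contra hxP
      obtain ⟨y, hy⟩ := (Ideal.IsMaximal.exists_inv hP (show algebraMap C C' x ∉ P from hxP))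
      obtain ⟨z, hz, hyz⟩ := hy
      obtain ⟨⟨c, s⟩, hcs⟩ := IsLocalization.surj S y
      have hunit : IsUnit (algebraMap C C' ((s : C) - c * x)) :=
        IsLocalization.map_units C' (⟨(s : C) - c * x, by
          show (s : C) - c * x - 1 ∈ IC
          rw [show (s : C) - c * x - 1 = ((s : C) - 1) - c * x by ring]
          exact sub_mem s.2 (IC.mul_mem_left _ hx)⟩ : S)
      refine hP.ne_top (P.eq_top_of_isUnit_mem ?_ hunit)
      rw [map_sub, map_mul, ← hcs, show algebraMap C C' (s : C) - y * algebraMap C C' (s : C) * algebraMap C C' x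
        = algebraMap C C' (s : C) * (1 - y * algebraMap C C' x) by ring]
      refine P.mul_mem_left _ ?_
      rw [← hyz, add_sub_cancel_left]
      exact hz
    haveI : IsLocalization.AtPrime (Localization.AtPrime P) q :=
      IsLocalization.isLocalization_isLocalization_atPrime_isLocalization S _ P
    haveI := hfl q hq
    exact Module.Flat.of_linearEquiv (R := A)
      ((IsLocalization.algEquiv q.primeCompl (Localization.AtPrime P) (Localization.AtPrime q)).toLinearEquiv.restrictScalars A)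
  -- the comparison
  let i : C →ₐ[A] ((A ⧸ L) ⊗[A] C) := Algebra.TensorProduct.includeRight
  have hu : ∀ y : S, IsUnit (i y) := by
    intro y
    have hnil : IsNilpotent (i ((y : C) - 1)) := by
      refine ⟨k, ?_⟩
      have h1 : ((y : C) - 1) ^ k ∈ Ideal.map (algebraMap A C) L := by
        have hy : (y : C) - 1 ∈ IC := y.2
        have := Ideal.pow_mem_pow hy k
        rw [← Ideal.map_pow] at this
        exact Ideal.map_mono hk this
      rw [← map_pow]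
      exact mem_KT_iff_one_tmul_eq_zero.mp (mem_KT_iff_mem_map.mpr h1)
    have := hnil.isUnit_one_add
    rwa [map_sub, map_one, add_sub_cancel] at this
  let g : C' →ₐ[A] ((A ⧸ L) ⊗[A] C) := IsLocalization.liftAlgHom (M := S) (f := i) hu
  let f₁ : ((A ⧸ L) ⊗[A] C) →ₐ[A ⧸ L] (A ⧸ L) ⊗[A] C' :=
    Algebra.TensorProduct.map (AlgHom.id _ _) (IsScalarTower.toAlgHom A C C')
  let f₂ : (A ⧸ L) ⊗[A] C' →ₐ[A ⧸ L] ((A ⧸ L) ⊗[A] C) :=
    Algebra.TensorProduct.lift (Algebra.ofId _ _) g (fun _ _ => Commute.all _ _)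
  have h21 : f₂.comp f₁ = AlgHom.id _ _ := by
    refine Algebra.TensorProduct.ext' fun t c => ?_
    simp [f₁, f₂, g, i, IsLocalization.lift_eq, Algebra.TensorProduct.algebraMap_apply]
  have h12 : f₁.comp f₂ = AlgHom.id _ _ := by
    refine Algebra.TensorProduct.ext' fun t c => ?_
    have hc : f₁ (g c) = (1 : A ⧸ L) ⊗ₜ[A] c := by
      refine AlgHom.congr_fun (IsLocalization.algHom_ext (R := A) S
        (f := (f₁.restrictScalars A).comp g)
        (g := Algebra.TensorProduct.includeRight) ?_) c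
      refine AlgHom.ext fun x => ?_
      show f₁ (g (algebraMap C C' x)) = (1 : A ⧸ L) ⊗ₜ[A] (algebraMap C C' x)
      simp [f₁, g, i, IsLocalization.lift_eq]
    simp [f₂, hc, map_mul, f₁, TensorProduct.smul_tmul', Algebra.TensorProduct.algebraMap_apply]
  exact Module.Flat.of_linearEquiv (AlgEquiv.ofAlgHom f₁ f₂ h12 h21).toLinearEquiv

variable [HopfAlgebra A B] [HopfAlgebra A C]

/-- Lifting along `A/L → A/K` a homomorphism out of a group of multiplicative type. -/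
theorem exists_lift_quot_of_isMultType {j : B →ₗ[A] A} (hj : IsInt j)
    {L K : Ideal A} (hLK : L ≤ K) (hnil : IsNilpotent (K.map (Ideal.Quotient.mk L)))
    (hC : SGA3b.IsMultType (A ⧸ L) ((A ⧸ L) ⊗[A] C))
    (φ : ((A ⧸ K) ⊗[A] C) →ₐc[A ⧸ K] ((A ⧸ K) ⊗[A] B)) :
    ∃ φ' : ((A ⧸ L) ⊗[A] C) →ₐc[A ⧸ L] ((A ⧸ L) ⊗[A] B),
      ∀ c, red B hLK (φ' ((1 : A ⧸ L) ⊗ₜ[A] c)) = φ ((1 : A ⧸ K) ⊗ₜ[A] c) := by
  let Q := A ⧸ L
  let J := K.map (Ideal.Quotient.mk L)
  letI : Algebra (A ⧸ K) (Q ⧸ J) :=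
    (Ideal.Quotient.lift K ((Ideal.Quotient.mk J).comp (Ideal.Quotient.mk L)) fun x hx =>
      Ideal.Quotient.eq_zero_iff_mem.2 (Ideal.mem_map_of_mem _ hx)).toAlgebra
  haveI : IsScalarTower A (A ⧸ K) (Q ⧸ J) := IsScalarTower.of_algebraMap_eq fun r => rfl
  let φ₀ : ((Q ⧸ J) ⊗[Q] (Q ⊗[A] C)) →ₐc[Q ⧸ J] ((Q ⧸ J) ⊗[Q] (Q ⊗[A] B)) :=
    (cancelBC A B Q (Q ⧸ J)).symm.toBialgHom.comp
      ((bcHom (Q ⧸ J) (A ⧸ K) φ).comp (cancelBC A C Q (Q ⧸ J)).toBialgHom)
  obtain ⟨φ', hφ'⟩ := exists_bialgHom_lift_of_isMultType hj.baseChange hnil hC φ₀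
  refine ⟨φ', fun c => ?_⟩
  obtain ⟨b, hb⟩ := one_tmul_surjective K (φ ((1 : A ⧸ K) ⊗ₜ[A] c))
  rw [← hb]
  have h1 : φ₀ ((1 : Q ⧸ J) ⊗ₜ[Q] ((1 : Q) ⊗ₜ[A] c)) = (1 : Q ⧸ J) ⊗ₜ[Q] ((1 : Q) ⊗ₜ[A] b) := by
    simp only [φ₀, BialgHom.comp_apply]
    have e1 : cancelBC A C Q (Q ⧸ J) ((1 : Q ⧸ J) ⊗ₜ[Q] ((1 : Q) ⊗ₜ[A] c)) =
        (1 : Q ⧸ J) ⊗ₜ[A] c :=
      (cancelBC_tmul A C Q (Q ⧸ J) _ _ _).trans (by rw [one_smul])
    refine (congrArg (fun z => (cancelBC A B Q (Q ⧸ J)).symm (bcHom (Q ⧸ J) (A ⧸ K) φ z)) e1).trans ?_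
    refine (congrArg (cancelBC A B Q (Q ⧸ J)).symm (bcHom_one_tmul hb.symm)).trans ?_
    refine (cancelBC A B Q (Q ⧸ J)).injective (((cancelBC A B Q (Q ⧸ J)).apply_symm_apply _).trans ?_)
    exact ((cancelBC_tmul A B Q (Q ⧸ J) _ _ _).trans (by rw [one_smul])).symm
  have h2 := (hφ' ((1 : Q) ⊗ₜ[A] c)).symm.trans h1
  rw [← sub_mem_KT_iff_one_tmul_eq, ← red_eq_zero_iff hLK, map_sub, red_one_tmul, sub_eq_zero] at h2
  exact h2

omit [HopfAlgebra A C] in
/-- Rigidity for sources of multiplicative type, any target with an integral. -/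
theorem eq_of_mod_nilpotent_of_isMultType {D : Type u} [CommRing D] [HopfAlgebra A D]
    {j : B →ₗ[A] A} (hj : IsInt j) (hD : SGA3b.IsMultType A D) {I : Ideal A} (hI : IsNilpotent I)
    (φ ψ : D →ₐc[A] B) (h : ∀ c, φ c - ψ c ∈ KT I B) : φ = ψ := by
  obtain ⟨ι, _, T, _, _, _, hff, hd⟩ := exists_split_family hD
  classical
  have := Fintype.ofFinite ι
  have hT : ∀ i c, (1 : T i) ⊗ₜ[A] φ c = (1 : T i) ⊗ₜ[A] ψ c := by
    intro i c
    have := eq_of_mod_nil_of_isDiag (hj.baseChange (Q := T i)) (hd i) (nil_map hI (T i))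
      (bcMap (T i) φ) (bcMap (T i) ψ) fun x => ?_
    · exact DFunLike.congr_fun this ((1 : T i) ⊗ₜ[A] c)
    induction x using TensorProduct.induction_on with
    | zero => simp
    | add x y hx hy => simp only [map_add, add_sub_add_comm]; exact add_mem hx hy
    | tmul t d =>
      rw [bcMap_tmul, bcMap_tmul, ← TensorProduct.tmul_sub]
      have h1 := map_mem_KT (TensorProduct.mk A (T i) B t) (h d)
      refine Submodule.smul_induction_on
        (p := fun z => z ∈ KT (I.map (algebraMap A (T i))) (T i ⊗[A] B)) h1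
        (fun r hr m _ => ?_) (fun a b ha hb => add_mem ha hb)
      rw [← algebraMap_smul (T i) r m]
      exact Submodule.smul_mem_smul (Ideal.mem_map_of_mem _ hr) trivial
  refine DFunLike.ext _ _ fun c => ?_
  refine Module.FaithfullyFlat.tensorProduct_mk_injective (A := A) (B := Π i, T i) B ?_
  show (1 : Π i, T i) ⊗ₜ[A] φ c = (1 : Π i, T i) ⊗ₜ[A] ψ c
  have hid : ∀ b : B, (1 : Π i, T i) ⊗ₜ[A] b =
      ∑ i, (LinearMap.single A T i).rTensor B ((1 : T i) ⊗ₜ[A] b) := by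
    intro b
    simp only [LinearMap.rTensor_tmul, ← TensorProduct.sum_tmul]
    congr 1
    exact (Finset.univ_sum_single (1 : Π i, T i)).symm
  rw [hid, hid]
  simp only [hT]

variable [IsNoetherianRing A] {I : Ideal A} [IsAdicComplete I A]

omit [HopfAlgebra A B] [IsNoetherianRing A] [IsAdicComplete I A] in
theorem isMultType_quot_pow
    (hfl : ∀ (q : Ideal C) [q.IsPrime], Ideal.map (algebraMap A C) I ≤ q →
      Module.Flat A (Localization.AtPrime q))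
    (h0 : SGA3b.IsQuasiIsotrivial (A ⧸ I) ((A ⧸ I) ⊗[A] C)) (n : ℕ) :
    SGA3b.IsMultType (A ⧸ I ^ (n + 1)) ((A ⧸ I ^ (n + 1)) ⊗[A] C) := by
  let L := I ^ (n + 1)
  let Q := A ⧸ L
  let J := I.map (Ideal.Quotient.mk L)
  haveI : Module.Flat Q (Q ⊗[A] C) := flat_quot_of_flatAt (I := I) (L := L) (k := n + 1) le_rfl hfl
  have hLI : L ≤ I := Ideal.pow_le_self (Nat.succ_ne_zero n)
  have hJ : IsNilpotent J := ⟨n + 1, by
    rw [← Ideal.map_pow, Ideal.zero_eq_bot, Ideal.map_eq_bot_iff_le_ker, Ideal.mk_ker]⟩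
  refine isMultType_of_isQuasiIsotrivial (isQuasiIsotrivial_of_flat hJ ?_)
  -- transport along `A/I ≅ Q/J`
  letI : Algebra (A ⧸ I) (Q ⧸ J) :=
    (Ideal.Quotient.lift I ((Ideal.Quotient.mk J).comp (Ideal.Quotient.mk L)) fun x hx =>
      Ideal.Quotient.eq_zero_iff_mem.2 (Ideal.mem_map_of_mem _ hx)).toAlgebra
  haveI : IsScalarTower A (A ⧸ I) (Q ⧸ J) := IsScalarTower.of_algebraMap_eq fun r => rfl
  exact isQuasiIsotrivial_transport (Q := Q) (S := A ⧸ I) (S' := Q ⧸ J) ⟨fun x y hxy => by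
      obtain ⟨a, rfl⟩ := Ideal.Quotient.mk_surjective x
      obtain ⟨b, rfl⟩ := Ideal.Quotient.mk_surjective y
      have h : Ideal.Quotient.mk L (a - b) ∈ J := by
        rw [map_sub]; exact Ideal.Quotient.eq.1 hxy
      rw [Ideal.mem_quotient_iff_mem hLI] at h
      exact Ideal.Quotient.eq.2 h, fun y => by
      obtain ⟨q, rfl⟩ := Ideal.Quotient.mk_surjective y
      obtain ⟨a, rfl⟩ := Ideal.Quotient.mk_surjective q
      exact ⟨Ideal.Quotient.mk I a, rfl⟩⟩ h0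

set_option maxHeartbeats 1000000 in
theorem Splitting.reduction_bijective (S : Splitting (A := A) B)
    (hfl : ∀ (q : Ideal C) [q.IsPrime], Ideal.map (algebraMap A C) I ≤ q →
      Module.Flat A (Localization.AtPrime q))
    (h0 : SGA3b.IsQuasiIsotrivial (A ⧸ I) ((A ⧸ I) ⊗[A] C)) :
    (∀ φ ψ : C →ₐc[A] B, (∀ c : C, (1 : A ⧸ I) ⊗ₜ[A] (φ c) = (1 : A ⧸ I) ⊗ₜ[A] (ψ c)) → φ = ψ) ∧
    (∀ φ₀ : ((A ⧸ I) ⊗[A] C) →ₐc[A ⧸ I] ((A ⧸ I) ⊗[A] B),
      ∃ φ : C →ₐc[A] B, ∀ c : C, φ₀ ((1 : A ⧸ I) ⊗ₜ[A] c) = (1 : A ⧸ I) ⊗ₜ[A] (φ c)) := by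
  obtain ⟨j, hj⟩ := S.exists_isInt
  have hmt := isMultType_quot_pow (C := C) hfl h0
  refine ⟨fun φ ψ h => S.bialgHom_ext (I := I) fun n c => ?_, fun φ₀ => ?_⟩
  · have hnil : IsNilpotent (I.map (Ideal.Quotient.mk (I ^ (n + 1)))) := ⟨n + 1, by
      rw [← Ideal.map_pow, Ideal.zero_eq_bot, Ideal.map_eq_bot_iff_le_ker, Ideal.mk_ker]⟩
    have := eq_of_mod_nilpotent_of_isMultType (A := A ⧸ I ^ (n + 1)) hj.baseChange (hmt n) hnil
      (bcMap (A ⧸ I ^ (n + 1)) φ) (bcMap (A ⧸ I ^ (n + 1)) ψ) fun x => ?_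
    · exact DFunLike.congr_fun this ((1 : A ⧸ I ^ (n + 1)) ⊗ₜ[A] c)
    induction x using TensorProduct.induction_on with
    | zero => simp
    | add x y hx hy => simp only [map_add, add_sub_add_comm]; exact add_mem hx hy
    | tmul t d =>
      rw [bcMap_tmul, bcMap_tmul, ← red_eq_zero_iff (Ideal.pow_le_self (Nat.succ_ne_zero n)), map_sub]
      obtain ⟨a, rfl⟩ := Ideal.Quotient.mk_surjective t
      rw [show ∀ b : B, (Ideal.Quotient.mk (I ^ (n + 1)) a) ⊗ₜ[A] b =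
        (1 : A ⧸ I ^ (n + 1)) ⊗ₜ[A] (a • b) from fun b => by
          rw [← TensorProduct.smul_tmul, Algebra.smul_def, mul_one]; rfl]
      simp only [red_one_tmul]
      rw [show (Ideal.Quotient.mk (I ^ (n + 1)) a) ⊗ₜ[A] ψ d = (1 : A ⧸ I ^ (n + 1)) ⊗ₜ[A] (a • ψ d) from by
          rw [← TensorProduct.smul_tmul, Algebra.smul_def, mul_one]; rfl]
      rw [red_one_tmul, TensorProduct.tmul_smul, TensorProduct.tmul_smul, h, sub_self]
  have hnil : ∀ {K : Ideal A} {k : ℕ}, I ^ k ≤ K → ∀ n,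
      IsNilpotent ((I ^ (n + 1)).map (Ideal.Quotient.mk K)) := fun {K k} hk n => ⟨k, by
    rw [← Ideal.map_pow, ← pow_mul, Ideal.zero_eq_bot, Ideal.map_eq_bot_iff_le_ker, Ideal.mk_ker]
    exact le_trans (Ideal.pow_le_pow_right (Nat.le_mul_of_pos_left k (Nat.succ_pos n))) hk⟩
  obtain ⟨ψ₀, hψ₀⟩ := exists_lift_quot_of_isMultType hj (L := I ^ (0 + 1)) (K := I)
    (le_of_eq (pow_one I)) ⟨1, by
      simp only [zero_add, pow_one, Ideal.zero_eq_bot, Ideal.map_eq_bot_iff_le_ker, Ideal.mk_ker,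
        le_refl]⟩ (hmt 0) φ₀
  choose next hnext using fun (n : ℕ)
      (φ : ((A ⧸ I ^ (n + 1)) ⊗[A] C) →ₐc[A ⧸ I ^ (n + 1)] ((A ⧸ I ^ (n + 1)) ⊗[A] B)) =>
    exists_lift_quot_of_isMultType hj (L := I ^ (n + 1 + 1)) (K := I ^ (n + 1))
      (Ideal.pow_le_pow_right (Nat.le_succ (n + 1))) (hnil (k := n + 1 + 1) le_rfl n) (hmt (n + 1)) φ
  let ψ : ∀ n : ℕ, ((A ⧸ I ^ (n + 1)) ⊗[A] C) →ₐc[A ⧸ I ^ (n + 1)] ((A ⧸ I ^ (n + 1)) ⊗[A] B) :=
    fun n => Nat.rec ψ₀ (fun n φ => next n φ) n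
  obtain ⟨φ, hφ⟩ := S.exists_bialgHom_of_coherent ψ (fun n c => hnext n (ψ n) c)
  refine ⟨φ, fun c => ?_⟩
  have h0' : ψ₀ ((1 : A ⧸ I ^ (0 + 1)) ⊗ₜ[A] c) = (1 : A ⧸ I ^ (0 + 1)) ⊗ₜ[A] φ c := hφ 0 c
  rw [← hψ₀ c, h0', red_one_tmul]

end Groth.Agent.MultTypeLib
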