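import Groth.Agent.Lib.MultType.OpenImm
import Groth.Agent.Lib.MultType.AdicFlat
import Groth.Agent.Lib.MultType.Quot
import Groth.Agent.Lib.MultType.Image
import Groth.Agent.Lib.MultType.Base
import Groth.Agent.Lib.Hens.EtaleLift
import Groth.Agent.Lib.Compl.Complete
import Mathlib.RingTheory.Henselian
import Mathlib.RingTheory.Localization.BaseChange
import Mathlib.RingTheory.Flat.Localization

/-!
# Open and closed subgroups of multiplicative type over an adically complete base
-/

universe u

open TensorProduct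

namespace Groth.Agent.MultTypeLib

variable {R : Type u} [CommRing R] {I : Ideal R} {C : Type u} [CommRing C] [HopfAlgebra R C]

/-- Flatness at the points over `I` is stable under base change. -/
theorem flatAt_baseChange {B : Type u} [CommRing B] [Algebra R B]
    (hfl : ∀ (q : Ideal C) [q.IsPrime], Ideal.map (algebraMap R C) I ≤ q →
      Module.Flat R (Localization.AtPrime q))
    (q : Ideal (B ⊗[R] C)) [q.IsPrime]
    (hq : Ideal.map (algebraMap B (B ⊗[R] C)) (I.map (algebraMap R B)) ≤ q) :
    Module.Flat B (Localization.AtPrime q) := by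
  let q' : Ideal C := q.comap (Algebra.TensorProduct.includeRight : C →ₐ[R] B ⊗[R] C)
  haveI : q'.IsPrime := Ideal.comap_isPrime _ q
  haveI := hfl q' (Ideal.map_le_iff_le_comap.2 fun r hr => by
    show ((1 : B) ⊗ₜ[R] algebraMap R C r) ∈ q
    have h1 := hq (Ideal.mem_map_of_mem _ (Ideal.mem_map_of_mem _ hr))
    rwa [Algebra.TensorProduct.algebraMap_apply, Algebra.algebraMap_self, RingHom.id_apply,
      Algebra.algebraMap_eq_smul_one, TensorProduct.smul_tmul, ← Algebra.algebraMap_eq_smul_one] at h1)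
  let C' := Localization.AtPrime q'
  let T := Localization.AtPrime q
  letI : Algebra (B ⊗[R] C) (B ⊗[R] C') :=
    (Algebra.TensorProduct.map (AlgHom.id B B) (IsScalarTower.toAlgHom R C C')).toAlgebra
  haveI : IsScalarTower B (B ⊗[R] C) (B ⊗[R] C') := IsScalarTower.of_algebraMap_eq fun b => by
    simp [RingHom.algebraMap_toAlgebra]
  haveI := IsLocalization.tensorProduct_tensorProduct_right R B q'.primeCompl C'
    (by ext; simp [RingHom.algebraMap_toAlgebra])
  have hle : q'.primeCompl.map (Algebra.TensorProduct.includeRight (R := R) (A := B)) ≤ q.primeCompl := by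
    rintro _ ⟨x, hx, rfl⟩
    exact hx
  letI : Algebra (B ⊗[R] C') T := IsLocalization.localizationAlgebraOfSubmonoidLe (B ⊗[R] C') T _ _ hle
  haveI : IsScalarTower (B ⊗[R] C) (B ⊗[R] C') T :=
    IsLocalization.localization_isScalarTower_of_submonoid_le (B ⊗[R] C') T _ _ hle
  haveI : IsLocalization (q.primeCompl.map (algebraMap (B ⊗[R] C) (B ⊗[R] C'))) T :=
    IsLocalization.isLocalization_of_submonoid_le (B ⊗[R] C') T _ _ hle
  haveI : Module.Flat (B ⊗[R] C') T :=
    IsLocalization.flat T (q.primeCompl.map (algebraMap (B ⊗[R] C) (B ⊗[R] C')))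
  haveI : IsScalarTower B (B ⊗[R] C') T := IsScalarTower.of_algebraMap_eq fun b => by
    exact (IsScalarTower.algebraMap_apply B (B ⊗[R] C) T b).trans
      ((IsScalarTower.algebraMap_apply (B ⊗[R] C) (B ⊗[R] C') T (algebraMap B (B ⊗[R] C) b)).trans
        (congrArg (algebraMap (B ⊗[R] C') T)
          (IsScalarTower.algebraMap_apply B (B ⊗[R] C) (B ⊗[R] C') b).symm))
  exact Module.Flat.trans B (B ⊗[R] C') T

theorem isQuasiIsotrivial_of_isDiag (h : SGA3b.IsDiag R C) : SGA3b.IsQuasiIsotrivial R C := by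
  refine ⟨{1}, by simp, fun f hf => ?_⟩
  rw [Set.mem_singleton_iff] at hf
  subst hf
  let L := Localization.Away (1 : R)
  exact ⟨L, inferInstance, Algebra.id L, inferInstance, inferInstance,
    isDiag_baseChange_self L (isDiag_baseChange_self L h)⟩

/-- An idempotent in an adically separated algebra lying in `I` vanishes. -/
theorem eq_zero_of_idem_of_sep {T : Type u} [CommRing T] [Algebra R T] (hT : Sep I T) {x : T}
    (hx : IsIdempotentElem x) (hI : x ∈ I.map (algebraMap R T)) : x = 0 := by
  refine hT _ fun n => ?_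
  rw [mem_KT_iff_mem_map]
  rcases n with _ | n
  · simp [Ideal.map_top]
  · rw [← hx.pow_succ_eq n, Ideal.map_pow]
    exact Ideal.pow_mem_pow hI _

variable [IsNoetherianRing R] [IsAdicComplete I R]

theorem sep_monoidAlgebra (T : Type u) [CommRing T] [Algebra R T] [Module.Finite R T] (M : Type u)
    [CommGroup M] : Sep I (MonoidAlgebra T M) :=
  Sep.of_injective (MonoidAlgebra.coeffLinearEquiv R).toLinearMap
    (MonoidAlgebra.coeffLinearEquiv R).injective ((sep_of_finite T).finsupp)

set_option maxHeartbeats 1000000 in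
/-- The split case. -/
theorem exists_open_of_diag (hft : Algebra.FiniteType R C)
    (hfl : ∀ (q : Ideal C) [q.IsPrime], Ideal.map (algebraMap R C) I ≤ q →
      Module.Flat R (Localization.AtPrime q))
    {M : Type u} [CommGroup M] (e₀ : (R ⧸ I) ⊗[R] C ≃ₐc[R ⧸ I] MonoidAlgebra (R ⧸ I) M) :
    ∃ (φ : C →ₐc[R] MonoidAlgebra R M) (e : C), Function.Surjective φ ∧ IsIdempotentElem e ∧
      e ∈ I.map (algebraMap R C) ∧ RingHom.ker (φ : C →ₐ[R] MonoidAlgebra R M) = Ideal.span {e} := by
  classical
  let S : Splitting (A := R) (MonoidAlgebra R M) := ⟨R, M, diagBC R R M⟩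
  obtain ⟨φ, hφ⟩ := (S.reduction_bijective (I := I) hfl
    (isQuasiIsotrivial_of_isDiag ⟨M, inferInstance, ⟨e₀⟩⟩)).2
    ((diagBC R (R ⧸ I) M).symm.toBialgHom.comp e₀.toBialgHom)
  have hmod : ∀ c, φ c = 0 → c ∈ KT I C := by
    intro c hc
    rw [mem_KT_iff_one_tmul_eq_zero]
    have h1 := hφ c
    rw [hc, TensorProduct.tmul_zero] at h1
    exact e₀.injective ((diagBC R (R ⧸ I) M).symm.injective (h1.trans (by simp)))
  have hunit : ∀ r, r - 1 ∈ I → IsUnit r := fun r hr => by
    simpa using Ideal.mem_jacobson_bot.mp (IsAdicComplete.le_jacobson_bot I hr) 1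
  have hsingle : ∀ m : M, ∃ c, φ c = MonoidAlgebra.single m (1 : R) := by
    intro m
    obtain ⟨c, hc⟩ := one_tmul_surjective (B := C) I
      (e₀.symm (diagBC R (R ⧸ I) M ((1 : R ⧸ I) ⊗ₜ[R] MonoidAlgebra.single m (1 : R))))
    have h1 := hφ c
    rw [hc] at h1
    simp only [BialgHom.comp_apply, BialgEquiv.toBialgHom_eq_coe, BialgHom.coe_coe,
      BialgEquiv.apply_symm_apply, BialgEquiv.symm_apply_apply] at h1
    have h2 : φ c - MonoidAlgebra.single m (1 : R) ∈ KT I (MonoidAlgebra R M) :=
      sub_mem_KT_iff_one_tmul_eq.2 h1.symm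
    have h3 := map_mem_KT (Finsupp.lapply m ∘ₗ (MonoidAlgebra.coeffLinearEquiv R).toLinearMap) h2
    simp [mem_KT_ring] at h3
    obtain ⟨v, hv⟩ := (hunit _ h3).exists_left_inv
    obtain ⟨d, hd⟩ := single_coeff_mem_range φ c m
    refine ⟨v • d, ?_⟩
    rw [map_smul, show φ d = _ from hd, MonoidAlgebra.smul_single, smul_eq_mul, hv]
  choose g hg using hsingle
  let s : MonoidAlgebra R M →ₗ[R] C :=
    Finsupp.linearCombination R g ∘ₗ (MonoidAlgebra.coeffLinearEquiv R).toLinearMap
  have hs : ∀ d, φ (s d) = d := by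
    intro d
    induction d using MonoidAlgebra.induction_linear with
    | zero => simp
    | add a b ha hb => rw [map_add, map_add, ha, hb]
    | single m r => simp [s, hg]
  have hsurj : Function.Surjective φ := fun d => ⟨s d, hs d⟩
  haveI := hft
  haveI : IsNoetherianRing C := Algebra.FiniteType.isNoetherianRing R C
  set N : Ideal C := RingHom.ker (φ : C →ₐ[R] MonoidAlgebra R M)
  let IC := I.map (algebraMap R C)
  have hNI : N ≤ IC • N := by
    intro n hn
    let q : C →ₗ[R] N := LinearMap.codRestrict (N.restrictScalars R)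
      ((LinearMap.id : C →ₗ[R] C) - s ∘ₗ (φ : C →ₐ[R] MonoidAlgebra R M).toLinearMap) (fun c => by
        show φ (c - s (φ c)) = 0
        rw [map_sub, hs, sub_self])
    have hqn : (q n : C) = n := by
      show n - s (φ n) = n
      rw [show φ n = 0 from hn, map_zero, sub_zero]
    have h1 := map_mem_KT q (hmod n hn)
    rw [← hqn]
    refine Submodule.smul_induction_on h1 (fun r hr x _ => ?_) (fun x y hx hy => ?_)
    · show ((r • x : N) : C) ∈ _
      rw [show ((r • x : N) : C) = algebraMap R C r * (x : C) from Algebra.smul_def r (x : C)]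
      exact Submodule.smul_mem_smul (Ideal.mem_map_of_mem _ hr) x.2
    · exact add_mem hx hy
  obtain ⟨f, hf, hf0⟩ := Submodule.exists_sub_one_mem_and_smul_eq_zero_of_fg_of_le_smul IC N
    (IsNoetherian.noetherian N) hNI
  have hεf : IsUnit (Coalgebra.counit (R := R) f) := by
    refine hunit _ ?_
    have h1 := map_mem_KT (Coalgebra.counit (R := R) (A := C)) (mem_KT_iff_mem_map.2 hf)
    rwa [map_sub, Bialgebra.counit_one, mem_KT_ring] at h1
  obtain ⟨e, he, hker⟩ := exists_idem_ker hft φ hsurj s hs (f := f) (fun n hn => hf0 n hn) hεf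
  refine ⟨φ, e, hsurj, he, ?_, hker⟩
  exact mem_KT_iff_mem_map.1 (hmod e (show e ∈ N by rw [show N = Ideal.span {e} from hker]; exact Ideal.subset_span rfl))

set_option maxHeartbeats 1000000 in
/-- The splitting idempotent is the largest idempotent in `I`, also after finite base change. -/
theorem mul_eq_of_idem {B T : Type u} [CommRing B] [Algebra R B] [CommRing T] [Algebra R T]
    [Module.Finite R T] {M : Type u} [CommGroup M]
    (φ : B ⊗[R] C →ₐc[B] MonoidAlgebra B M) (hφ : Function.Surjective φ) {e : B ⊗[R] C}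
    (hker : RingHom.ker (φ : B ⊗[R] C →ₐ[B] MonoidAlgebra B M) = Ideal.span {e})
    (he : IsIdempotentElem e) (i : B →ₐ[R] T) {x : T ⊗[R] C} (hx : IsIdempotentElem x)
    (hxI : x ∈ I.map (algebraMap R (T ⊗[R] C))) :
    x * Algebra.TensorProduct.map i (AlgHom.id R C) e = x := by
  classical
  let j := Algebra.TensorProduct.map i (AlgHom.id R C)
  let ψ : MonoidAlgebra B M →ₐ[R] MonoidAlgebra T M :=
    { MonoidAlgebra.mapRingHom M (i : B →+* T) with
      commutes' := fun r => by
        show MonoidAlgebra.mapRingHom M (i : B →+* T) (algebraMap R (MonoidAlgebra B M) r) = _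
        simp [MonoidAlgebra.coe_algebraMap] }
  let Φ : T ⊗[R] C →ₐ[T] MonoidAlgebra T M := Algebra.TensorProduct.lift (Algebra.ofId T _)
    (ψ.comp (((φ : B ⊗[R] C →ₐ[B] MonoidAlgebra B M).restrictScalars R).comp
      Algebra.TensorProduct.includeRight)) (fun _ _ => Commute.all _ _)
  have hψs : ∀ (b : B) y, ψ (b • y) = i b • ψ y := by
    intro b y
    induction y using MonoidAlgebra.induction_linear with
    | zero => simp
    | add y z hy hz => simp only [smul_add, map_add, hy, hz]
    | single m r => simp [ψ]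
  choose g hg using fun m : M => hφ (MonoidAlgebra.single m (1 : B))
  let σ : MonoidAlgebra T M →ₗ[T] T ⊗[R] C :=
    Finsupp.linearCombination T (fun m => j (g m)) ∘ₗ (MonoidAlgebra.coeffLinearEquiv T).toLinearMap
  let sB : MonoidAlgebra B M →ₗ[B] B ⊗[R] C :=
    Finsupp.linearCombination B g ∘ₗ (MonoidAlgebra.coeffLinearEquiv B).toLinearMap
  have hsB : ∀ y, φ (sB y) = y := by
    intro y
    induction y using MonoidAlgebra.induction_linear with
    | zero => simp
    | add a b ha hb => rw [map_add, map_add, ha, hb]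
    | single m r => simp [sB, hg]
  have hj : ∀ (b : B) z, j (b • z) = i b • j z := by
    intro b z
    induction z using TensorProduct.induction_on with
    | zero => simp
    | tmul t c => simp [j, TensorProduct.smul_tmul']
    | add y z hy hz => simp only [smul_add, map_add, hy, hz]
  have hσ : ∀ y, σ (ψ y) = j (sB y) := by
    intro y
    induction y using MonoidAlgebra.induction_linear with
    | zero => simp
    | add a b ha hb => simp only [map_add, ha, hb]
    | single m r => simp [σ, sB, ψ, hj]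
  have key : ∀ z, z - σ (Φ z) ∈ Ideal.span {j e} := by
    intro z
    induction z using TensorProduct.induction_on with
    | zero => simp
    | add y z hy hz => rw [map_add, map_add, add_sub_add_comm]; exact add_mem hy hz
    | tmul t c =>
      rw [show t ⊗ₜ[R] c = t • ((1 : T) ⊗ₜ[R] c) by simp [TensorProduct.smul_tmul'], map_smul,
        map_smul, ← smul_sub, Algebra.smul_def]
      refine Ideal.mul_mem_left _ _ ?_
      have h1 : Φ ((1 : T) ⊗ₜ[R] c) = ψ (φ ((1 : B) ⊗ₜ[R] c)) := by simp [Φ, ← MonoidAlgebra.one_def]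
      rw [h1, hσ, show (1 : T) ⊗ₜ[R] c = j ((1 : B) ⊗ₜ[R] c) by simp [j], ← map_sub]
      have h2 : (1 : B) ⊗ₜ[R] c - sB (φ ((1 : B) ⊗ₜ[R] c)) ∈ Ideal.span {e} := by
        rw [← hker, RingHom.mem_ker]
        show φ ((1 : B) ⊗ₜ[R] c - sB (φ ((1 : B) ⊗ₜ[R] c))) = 0
        rw [map_sub, hsB, sub_self]
      obtain ⟨w, hw⟩ := Ideal.mem_span_singleton.1 h2
      exact Ideal.mem_span_singleton.2 ⟨j w, by rw [hw, map_mul]⟩
  have hx0 : Φ x = 0 := by
    refine eq_zero_of_idem_of_sep (sep_monoidAlgebra (I := I) T M) (hx.map Φ) ?_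
    have := Ideal.mem_map_of_mem (Φ.restrictScalars R).toRingHom hxI
    rwa [Ideal.map_map, AlgHom.toRingHom_eq_coe, AlgHom.comp_algebraMap] at this
  have h3 := key x
  rw [hx0, map_zero, sub_zero, Ideal.mem_span_singleton] at h3
  obtain ⟨w, hw⟩ := h3
  rw [hw]
  show j e * w * j e = j e * w
  rw [mul_right_comm, (he.map j).eq]

end Groth.Agent.MultTypeLib
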