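import Groth.Agent.Lib.MultType.AdicConn
import Groth.Agent.Lib.MultType.Torsion
import Mathlib.GroupTheory.FiniteAbelian.Basic
import Mathlib.RingTheory.Ideal.MinimalPrime.Noetherian
import Mathlib.RingTheory.HopfAlgebra.Convolution
import Mathlib.RingTheory.Idempotents

/-!
# Isotriviality over an adically complete base from finiteness of the torsion
-/

universe u

open TensorProduct WithConv HopfAlgebra

namespace Groth.Agent.MultTypeLib

/-- A Noetherian ring has finitely many idempotents. -/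
theorem finite_idempotents (S : Type u) [CommRing S] [IsNoetherianRing S] :
    {e : S | IsIdempotentElem e}.Finite := by
  classical
  haveI : Finite (minimalPrimes S) := (minimalPrimes.finite_of_isNoetherianRing S).to_subtype
  refine Set.Finite.of_finite_image (f := fun e : S => {P : minimalPrimes S | e ∈ (P : Ideal S)})
    (Set.toFinite _) fun e he e' he' h => ?_
  refine eq_of_isNilpotent_sub_of_isIdempotentElem he he' ?_
  rw [nilpotent_iff_mem_prime]
  intro q hq
  haveI := hq
  obtain ⟨P, hP, hPq⟩ := Ideal.exists_minimalPrimes_le (show (⊥ : Ideal S) ≤ q from bot_le)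
  refine hPq ?_
  haveI : P.IsPrime := hP.1.1
  have hiff : e ∈ P ↔ e' ∈ P := Set.ext_iff.1 h ⟨P, hP⟩
  by_cases hc : e ∈ P
  · exact P.sub_mem hc (hiff.1 hc)
  · have key : ∀ a : S, IsIdempotentElem a → a ∉ P → 1 - a ∈ P := fun a ha hna =>
      ((Ideal.IsPrime.mem_or_mem (show P.IsPrime from inferInstance)
        (show a * (1 - a) ∈ P by rw [mul_sub, mul_one, ha.eq, sub_self]; exact P.zero_mem)).resolve_left hna)
    have := P.sub_mem (key e' he' (fun h' => hc (hiff.2 h'))) (key e he hc)
    simpa using this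

/-- Roots of characters of a finitely generated abelian group, up to torsion. -/
theorem exists_char_root {M : Type u} [CommGroup M] [Group.FG M] {K : Type u} [Field K]
    [IsAlgClosed K] (χ : M →* Kˣ) {m : ℕ} (hm : 0 < m) :
    ∃ (χ' : M →* Kˣ) (N : ℕ), 0 < N ∧ χ' ^ (m * N) = χ ^ N := by
  classical
  obtain ⟨ι, κ, _, _, p, hp, e, ⟨E⟩⟩ := CommGroup.equiv_free_prod_prod_multiplicative_zmod M
  haveI : ∀ i, NeZero (p i ^ e i) := fun i => ⟨pow_ne_zero _ (hp i).ne_zero⟩
  let F := (i : ι) → Multiplicative (ZMod (p i ^ e i))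
  let χ₁ : (κ → Multiplicative ℤ) →* Kˣ := (χ.comp E.symm.toMonoidHom).comp (MonoidHom.inl _ F)
  have hroot : ∀ k : κ, ∃ r : Kˣ, r ^ m = χ₁ (Pi.mulSingle k (Multiplicative.ofAdd 1)) := fun k => by
    obtain ⟨r, hr⟩ := IsAlgClosed.exists_pow_nat_eq
      ((χ₁ (Pi.mulSingle k (Multiplicative.ofAdd 1)) : Kˣ) : K) hm
    have hr0 : r ≠ 0 := fun h0 => by
      rw [h0, zero_pow hm.ne'] at hr
      exact Units.ne_zero _ hr.symm
    exact ⟨Units.mk0 r hr0, Units.ext (by simpa using hr)⟩
  choose r hr using hroot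
  let χ₀ : (κ → Multiplicative ℤ) →* Kˣ :=
    ∏ k, (zpowersHom Kˣ (r k)).comp (Pi.evalMonoidHom _ k)
  have hχ₀ : χ₀ ^ m = χ₁ := by
    refine MonoidHom.functions_ext Kˣ _ _ fun k x => ?_
    rw [MonoidHom.pow_apply]
    have h1 : χ₀ (Pi.mulSingle k x) = r k ^ (Multiplicative.toAdd x) := by
      simp only [χ₀, MonoidHom.finsetProd_apply, MonoidHom.comp_apply, Pi.evalMonoidHom_apply]
      rw [Finset.prod_eq_single k (fun b _ hb => by simp [hb]) (by simp)]
      simp [zpowersHom_apply]
    have h2 : Pi.mulSingle k x =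
        (Pi.mulSingle k (Multiplicative.ofAdd 1) : κ → Multiplicative ℤ) ^ (Multiplicative.toAdd x) := by
      rw [← Pi.mulSingle_zpow, ← ofAdd_zsmul, smul_eq_mul, mul_one, ofAdd_toAdd]
    rw [h1, h2, map_zpow, ← hr, ← zpow_natCast, ← zpow_mul, ← zpow_natCast (r k) m, ← zpow_mul,
      mul_comm]
  refine ⟨χ₀.comp ((MonoidHom.fst _ F).comp E.toMonoidHom), Fintype.card F, Fintype.card_pos, ?_⟩
  refine MonoidHom.ext fun a => ?_
  obtain ⟨⟨v, w⟩, rfl⟩ := E.symm.surjective a
  simp only [MonoidHom.pow_apply, MonoidHom.comp_apply, MulEquiv.coe_toMonoidHom,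
    MulEquiv.apply_symm_apply, MonoidHom.coe_fst]
  rw [pow_mul, ← MonoidHom.pow_apply χ₀ m v, hχ₀]
  show χ (E.symm (v, 1)) ^ _ = χ (E.symm (v, w)) ^ _
  rw [← map_pow, ← map_pow, ← map_pow, ← map_pow]
  congr 2
  exact Prod.ext rfl ((one_pow _).trans pow_card_eq_one.symm)

variable {R : Type u} [CommRing R] {C : Type u} [CommRing C] [HopfAlgebra R C]
  {K : Type u} [CommRing K] [Algebra R K]

/-- A finitely supported formula for the `n`-th power of a point. -/
theorem comp_powConv (y : C →ₐ[R] K) (n : ℕ) :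
    toConv (y.comp (SGA3b.powConv R C n)) = toConv y ^ n := by
  induction n with
  | zero =>
    apply ofConv_injective
    refine AlgHom.ext fun c => ?_
    show y (algebraMap R C (Coalgebra.counit c)) = algebraMap R K (Coalgebra.counit c)
    rw [AlgHom.commutes]
  | succ n ih =>
    apply ofConv_injective
    refine AlgHom.ext fun c => ?_
    have hs : SGA3b.powConv R C (n + 1) c =
        Algebra.TensorProduct.lift (SGA3b.powConv R C n) (AlgHom.id R C) (fun _ _ => Commute.all _ _)
          (Coalgebra.comul (R := R) c) := by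
      show (toConv (AlgHom.id R C) ^ (n + 1)) c = _
      rw [pow_succ, AlgHom.convMul_apply]
      rfl
    show y (SGA3b.powConv R C (n + 1) c) = (toConv y ^ (n + 1)).ofConv c
    rw [hs, pow_succ, ← ih, AlgHom.convMul_apply]
    induction Coalgebra.comul (R := R) c using TensorProduct.induction_on with
    | zero => simp
    | tmul a b => simp
    | add a b ha hb => simp only [map_add, ha, hb]

/-- An idempotent in `I` vanishes in a finite algebra, `I` lying in the radical. -/
theorem eq_zero_of_idem_of_finite {I : Ideal R} (hI : I ≤ Ideal.jacobson ⊥) {D : Type u} [CommRing D]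
    [Algebra R D] [Module.Finite R D] {x : D} (hx : IsIdempotentElem x)
    (hxI : x ∈ I.map (algebraMap R D)) : x = 0 := by
  have h := Ideal.mem_jacobson_bot.1 (Hens.map_le_jacobson_of_isIntegral (B := D) hI hxI) (-1)
  have h2 : x * (x * -1 + 1) = 0 := by rw [mul_add, mul_one, ← mul_assoc, hx.eq]; simp
  exact h.mul_left_eq_zero.1 h2

/-- A torsion point kills an idempotent lying in `I`. -/
theorem point_idem_eq_zero_of_pow_eq_one {I : Ideal R} (hI : I ≤ Ideal.jacobson ⊥)
    {e : C} (he : IsIdempotentElem e) (heI : e ∈ I.map (algebraMap R C)) {k : ℕ}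
    (hfin : Module.Finite R (C ⧸ SGA3b.torsionIdeal R C k)) {y : C →ₐ[R] K}
    (hy : toConv y ^ k = 1) : y e = 0 := by
  set J := SGA3b.torsionIdeal R C k
  have hJ : J ≤ RingHom.ker y := Ideal.map_le_iff_le_comap.2 fun c hc => by
    show y (SGA3b.powConv R C k c) = 0
    have h := DFunLike.congr_fun (congrArg WithConv.ofConv ((comp_powConv y k).trans hy)) c
    refine h.trans ?_
    show algebraMap R K (Coalgebra.counit (R := R) c) = 0
    rw [show Coalgebra.counit (R := R) c = 0 from hc, map_zero]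
  refine hJ (Ideal.Quotient.eq_zero_iff_mem.1 ?_)
  refine eq_zero_of_idem_of_finite hI (he.map (Ideal.Quotient.mk J)) ?_
  have := Ideal.mem_map_of_mem (Ideal.Quotient.mk J) heI
  rwa [Ideal.map_map, ← Ideal.Quotient.algebraMap_eq, ← IsScalarTower.algebraMap_eq] at this

/-- Some power of a point lies in an open and closed subgroup. -/
theorem exists_pow_point_eq_zero {K : Type u} [Field K] [Algebra R K] (hft : Algebra.FiniteType R C)
    {e : C} (he : IsIdempotentElem e) (hε : Coalgebra.counit (R := R) e = 0) (x : C →ₐ[R] K) :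
    ∃ m : ℕ, 0 < m ∧ (toConv x ^ m).ofConv e = 0 := by
  haveI := hft
  haveI : IsNoetherianRing (K ⊗[R] C) := Algebra.FiniteType.isNoetherianRing K (K ⊗[R] C)
  let t : ℕ → K ⊗[R] C := fun i => transl (toConv x ^ i).ofConv ((1 : K) ⊗ₜ[R] e)
  obtain ⟨i, j, hij, hEq⟩ := Set.Finite.exists_lt_map_eq_of_forall_mem (f := t)
    (fun i => (he.map (Algebra.TensorProduct.includeRight : C →ₐ[R] K ⊗[R] C)).map
      (transl (toConv x ^ i).ofConv))
    (finite_idempotents (K ⊗[R] C))
  refine ⟨j - i, by omega, ?_⟩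
  have h := congrArg (pointEval ((toConv x ^ i)⁻¹).ofConv) hEq
  simp only [t, pointEval_transl, toConv_ofConv] at h
  rw [mul_inv_cancel, ← pow_sub (toConv x) hij.le] at h
  rw [← h]
  show algebraMap R K (Coalgebra.counit (R := R) e) = 0
  rw [hε, map_zero]

set_option maxHeartbeats 1000000 in
theorem point_idem_eq_zero_aux {K : Type u} [Field K] [Algebra R K] [IsAlgClosed K] {B : Type u}
    [CommRing B] [Algebra R B] [Algebra B K] [IsScalarTower R B K]
    {I : Ideal R} (hI : I ≤ Ideal.jacobson ⊥) [Coalgebra.IsCocomm R C] (hft : Algebra.FiniteType R C)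
    (hfin : ∀ n : ℕ, 0 < n → Module.Finite R (C ⧸ SGA3b.torsionIdeal R C n))
    {e : C} (he : IsIdempotentElem e) (heI : e ∈ I.map (algebraMap R C))
    (hε : Coalgebra.counit (R := R) e = 0) [(Ideal.span {e}).IsHopfIdeal R]
    {M : Type u} [CommGroup M] (eB : B ⊗[R] (C ⧸ Ideal.span {e}) ≃ₐc[B] MonoidAlgebra B M)
    (x : C →ₐ[R] K) : x e = 0 := by
  let J := Ideal.span {e}
  let eK : K ⊗[R] (C ⧸ J) ≃ₐc[K] MonoidAlgebra K M :=
    (cancelBC R (C ⧸ J) B K).symm.trans ((bcEquiv K eB).trans (diagBC B K M))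
  haveI : Algebra.FiniteType R (C ⧸ J) :=
    Algebra.FiniteType.of_surjective (Ideal.Quotient.mkₐ R J) Ideal.Quotient.mk_surjective
  haveI : Group.FG M := group_fg_of_diag inferInstance eK
  let Φ : K ⊗[R] C →ₐc[K] MonoidAlgebra K M :=
    eK.toBialgHom.comp (bcMap K (Bialgebra.Quotient.mkBialgHom (R := R) J))
  let pt : (M →* Kˣ) → WithConv (C →ₐ[R] K) := fun χ =>
    toConv ((((MonoidAlgebra.lift K K M ((Units.coeHom K).comp χ)).comp
      (Φ : K ⊗[R] C →ₐ[K] MonoidAlgebra K M)).restrictScalars R).comp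
        Algebra.TensorProduct.includeRight)
  have hpt0 : ∀ χ, (pt χ).ofConv e = 0 := fun χ => by
    have h0 : Bialgebra.Quotient.mkBialgHom (R := R) J e = 0 :=
      Ideal.Quotient.eq_zero_iff_mem.2 (Ideal.subset_span rfl)
    have h1 : Φ ((1 : K) ⊗ₜ[R] e) = 0 := by
      simp only [Φ, BialgHom.comp_apply, bcMap_tmul, h0, TensorProduct.tmul_zero, map_zero]
    show MonoidAlgebra.lift K K M _ (Φ ((1 : K) ⊗ₜ[R] e)) = 0
    rw [h1, map_zero]
  have hptmul : ∀ χ χ', pt (χ * χ') = pt χ * pt χ' := by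
    intro χ χ'
    apply ofConv_injective
    refine AlgHom.ext fun c => ?_
    rw [AlgHom.convMul_apply]
    show MonoidAlgebra.lift K K M ((Units.coeHom K).comp (χ * χ')) (Φ ((1 : K) ⊗ₜ[R] c)) = _
    let L : MonoidAlgebra K M ⊗[K] MonoidAlgebra K M →ₐ[K] K := Algebra.TensorProduct.lift
      (MonoidAlgebra.lift K K M ((Units.coeHom K).comp χ))
      (MonoidAlgebra.lift K K M ((Units.coeHom K).comp χ')) (fun _ _ => Commute.all _ _)
    have hL : ∀ y, MonoidAlgebra.lift K K M ((Units.coeHom K).comp (χ * χ')) y =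
        L (Coalgebra.comul (R := K) y) := by
      intro y
      induction y using MonoidAlgebra.induction_linear with
      | zero => simp
      | add a b ha hb => simp only [map_add, ha, hb]
      | single m r => simp [L, mul_comm, mul_left_comm]
    rw [hL, ← CoalgHomClass.map_comp_comul_apply Φ, comul_one_tmul]
    induction Coalgebra.comul (R := R) c using TensorProduct.induction_on with
    | zero => simp
    | tmul a b => simp [inclTwo_tmul, L, pt]
    | add a b ha hb => simp only [map_add, ha, hb]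
  let Pt : (M →* Kˣ) →* WithConv (C →ₐ[R] K) :=
    { toFun := pt
      map_one' := by
        apply ofConv_injective
        refine AlgHom.ext fun c => ?_
        show MonoidAlgebra.lift K K M ((Units.coeHom K).comp 1) (Φ ((1 : K) ⊗ₜ[R] c)) =
          algebraMap R K (Coalgebra.counit (R := R) c)
        have h1 : ∀ y, MonoidAlgebra.lift K K M ((Units.coeHom K).comp 1) y =
            Coalgebra.counit (R := K) y := by
          intro y
          induction y using MonoidAlgebra.induction_linear with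
          | zero => simp
          | add a b ha hb => simp only [map_add, ha, hb]
          | single m r => simp
        rw [h1, CoalgHomClass.counit_comp_apply Φ]
        simp [Algebra.algebraMap_eq_smul_one]
      map_mul' := hptmul }
  have hsurj : ∀ z : C →ₐ[R] K, z e = 0 → ∃ χ, pt χ = toConv z := by
    intro z hz
    let z' : C ⧸ J →ₐ[R] K := Ideal.Quotient.liftₐ J z fun c hc => by
      obtain ⟨w, rfl⟩ := Ideal.mem_span_singleton.1 hc
      rw [map_mul, hz, zero_mul]
    let Z : MonoidAlgebra K M →ₐ[K] K :=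
      (Algebra.TensorProduct.lift (AlgHom.id K K) z' (fun _ _ => Commute.all _ _)).comp
        (eK.symm : MonoidAlgebra K M →ₐ[K] K ⊗[R] (C ⧸ J))
    let χ : M →* Kˣ := MonoidHom.toHomUnits
      ((Z : MonoidAlgebra K M →* K).comp (MonoidAlgebra.of K M))
    refine ⟨χ, ?_⟩
    have hZ : MonoidAlgebra.lift K K M ((Units.coeHom K).comp χ) = Z :=
      MonoidAlgebra.algHom_ext (fun m => by simp [χ]) (by ext)
    apply ofConv_injective
    refine AlgHom.ext fun c => ?_
    show MonoidAlgebra.lift K K M ((Units.coeHom K).comp χ) (Φ ((1 : K) ⊗ₜ[R] c)) = z c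
    rw [hZ]
    have h1 : eK.symm (Φ ((1 : K) ⊗ₜ[R] c)) = (1 : K) ⊗ₜ[R] (Ideal.Quotient.mk J c) :=
      (eK.symm_apply_apply _).trans (bcMap_tmul K _ _ _)
    refine (congrArg (Algebra.TensorProduct.lift (AlgHom.id K K) z' (fun _ _ => Commute.all _ _)) h1).trans ?_
    rw [Algebra.TensorProduct.lift_tmul, map_one, one_mul]
    exact Ideal.Quotient.lift_mk _ _ _
  obtain ⟨m, hm, hxm⟩ := exists_pow_point_eq_zero hft he hε x
  obtain ⟨χ, hχ⟩ := hsurj _ hxm
  obtain ⟨χ', N, hN, hχ'⟩ := exists_char_root χ hm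
  let y := toConv x * (Pt χ')⁻¹
  have hy : y ^ (m * N) = 1 := by
    rw [mul_pow, inv_pow, ← map_pow, hχ', pow_mul, show Pt (χ ^ N) = Pt χ ^ N from map_pow Pt χ N,
      show Pt χ = toConv x ^ m from hχ, mul_inv_cancel]
  obtain ⟨ψ, hψ⟩ := hsurj y.ofConv (point_idem_eq_zero_of_pow_eq_one hI he heI
    (hfin _ (Nat.mul_pos hm hN)) hy)
  have hx : toConv x = Pt (ψ * χ') := by
    rw [map_mul, show Pt ψ = y from hψ, inv_mul_cancel_right]
  have := hpt0 (ψ * χ')
  rw [show pt (ψ * χ') = toConv x from hx.symm] at this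
  exact this

/-- An open and closed subgroup of multiplicative type contains every geometric point, the torsion
being finite. -/
theorem point_idem_eq_zero {K : Type u} [Field K] [Algebra R K]
    {I : Ideal R} (hI : I ≤ Ideal.jacobson ⊥) [Coalgebra.IsCocomm R C] (hft : Algebra.FiniteType R C)
    (hfin : ∀ n : ℕ, 0 < n → Module.Finite R (C ⧸ SGA3b.torsionIdeal R C n))
    {e : C} (he : IsIdempotentElem e) (heI : e ∈ I.map (algebraMap R C))
    (hε : Coalgebra.counit (R := R) e = 0) [(Ideal.span {e}).IsHopfIdeal R]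
    (h : SGA3b.IsMultTypeConst R (C ⧸ Ideal.span {e})) (x : C →ₐ[R] K) : x e = 0 := by
  obtain ⟨B, _, _, hff, M, _, ⟨eB⟩⟩ := h
  -- a point of `B` in an extension of `K`
  haveI : Nontrivial (B ⊗[R] K) := Module.FaithfullyFlat.lTensor_nontrivial R B K
  haveI : Nontrivial (K ⊗[R] B) := (TensorProduct.comm R K B).toEquiv.nontrivial
  obtain ⟨m, hm⟩ := Ideal.exists_maximal (K ⊗[R] B)
  letI : Field ((K ⊗[R] B) ⧸ m) := Ideal.Quotient.field m
  let K' := AlgebraicClosure ((K ⊗[R] B) ⧸ m)
  let ι : K →ₐ[R] K' := (IsScalarTower.toAlgHom R ((K ⊗[R] B) ⧸ m) K').comp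
    ((Ideal.Quotient.mkₐ R m).comp Algebra.TensorProduct.includeLeft)
  let σ : B →ₐ[R] K' := (IsScalarTower.toAlgHom R ((K ⊗[R] B) ⧸ m) K').comp
    ((Ideal.Quotient.mkₐ R m).comp Algebra.TensorProduct.includeRight)
  letI : Algebra B K' := σ.toRingHom.toAlgebra
  haveI : IsScalarTower R B K' := IsScalarTower.of_algebraMap_eq fun r => (σ.commutes r).symm
  refine ι.toRingHom.injective ?_
  rw [map_zero]
  exact point_idem_eq_zero_aux hI hft hfin he heI hε eB (ι.comp x)

/-- Isotriviality from finiteness of all torsion subgroups. -/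
theorem isIsotrivial_of_torsion_finite [IsNoetherianRing R] {I : Ideal R} [IsAdicComplete I R]
    [Coalgebra.IsCocomm R C] (hft : Algebra.FiniteType R C)
    (hfl : ∀ (q : Ideal C) [q.IsPrime], Ideal.map (algebraMap R C) I ≤ q →
      Module.Flat R (Localization.AtPrime q))
    (hfin : ∀ n : ℕ, 0 < n → Module.Finite R (C ⧸ SGA3b.torsionIdeal R C n))
    (h0 : SGA3b.IsIsotrivial (R ⧸ I) ((R ⧸ I) ⊗[R] C)) : SGA3b.IsIsotrivial R C := by
  obtain ⟨e, he, heI, _, h⟩ := exists_clopen_subgroup hft hfl h0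
  have hε : Coalgebra.counit (R := R) e = 0 := by
    refine eq_zero_of_idem_of_sep (sep_of_finite (I := I) R) (he.map (Bialgebra.counitAlgHom R C)) ?_
    have h1 := map_mem_KT (Coalgebra.counit (R := R) (A := C)) (mem_KT_iff_mem_map.2 heI)
    rwa [mem_KT_iff_mem_map] at h1
  refine isIsotrivial_of_quot_bot (he.eq_zero_of_isNilpotent ?_) h
  rw [nilpotent_iff_mem_prime]
  intro q hq
  haveI := hq
  let k := q.ResidueField
  let K := AlgebraicClosure k
  have := point_idem_eq_zero (K := K) (IsAdicComplete.le_jacobson_bot I) hft hfin he heI hε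
    (by obtain ⟨B, _, _, _, _, hff, hd⟩ := h; exact ⟨B, inferInstance, inferInstance, hff, hd⟩)
    ((IsScalarTower.toAlgHom R k K).comp (IsScalarTower.toAlgHom R C k))
  have h0' : algebraMap C k e = 0 := (algebraMap k K).injective (by simpa using this)
  rw [← Ideal.ker_algebraMap_residueField q, RingHom.mem_ker]
  exact h0'

end Groth.Agent.MultTypeLib
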