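import Groth.Agent.Lib.MultType.Descent
import Groth.Agent.Lib.MultType.HomLift
import Groth.Agent.Lib.MultType.QuotLift
import Groth.Agent.Lib.ModDesc12.Alg

/-!
# Descent of Hopf algebras along faithfully flat maps
-/

universe u

open TensorProduct WithConv HopfAlgebra

namespace Groth.Agent.MultTypeLib

variable {R E : Type u} [CommRing R] [CommRing E] [Algebra R E]

section Fixed

variable {X P : Type u} [CommRing X] [Algebra R X] [CommRing P] [Algebra E P] [Algebra R P]
  [IsScalarTower R E P]

/-- The descended map is injective. -/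
theorem injective_of_bijective_bcLift [Module.FaithfullyFlat R E] (f : X →ₐ[R] P)
    (hf : Function.Bijective (bcLift (R := E) f)) : Function.Injective f := fun x y h =>
  Module.FaithfullyFlat.tensorProduct_mk_injective (A := R) (B := E) X (ext_of_bijective hf h)

/-- The fixed points of a coaction on an extended algebra. -/
theorem exists_of_fixed [Module.FaithfullyFlat R E] (f : X →ₐ[R] P)
    (hf : Function.Bijective (bcLift (R := E) f)) (ρ : P →ₐ[E] E ⊗[R] P)
    (hρ : ∀ x, ρ (f x) = (1 : E) ⊗ₜ[R] f x) {p : P} (hp : ρ p = (1 : E) ⊗ₜ[R] p) :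
    ∃ x, f x = p := by
  obtain ⟨z, rfl⟩ := hf.surjective p
  let F : E ⊗[R] X →ₗ[R] P := (bcLift (R := E) f).toLinearMap.restrictScalars R
  have hF : ∀ w, ρ (bcLift (R := E) f w) = f.toLinearMap.lTensor E w := by
    intro w
    induction w using TensorProduct.induction_on with
    | zero => simp
    | add a b ha hb => simp only [map_add, ha, hb]
    | tmul s x =>
      rw [show s ⊗ₜ[R] x = s • ((1 : E) ⊗ₜ[R] x) by simp [TensorProduct.smul_tmul'], map_smul,
        bcLift_one_tmul, map_smul, hρ]
      simp [TensorProduct.smul_tmul']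
  rw [hF] at hp
  let Fe : (E ⊗[R] X) ≃ₗ[R] P := LinearEquiv.ofBijective F hf
  have key : (TensorProduct.mk R E X 1).lTensor E z = (1 : E) ⊗ₜ[R] z := by
    refine (Fe.lTensor E).injective ?_
    refine Eq.trans ?_ hp
    clear hp
    induction z using TensorProduct.induction_on with
    | zero => simp
    | add a b ha hb => simp only [map_add, ha, hb]
    | tmul s x =>
      simp [Fe, F]
      exact congrArg (s ⊗ₜ[R] ·) (bcLift_one_tmul f x)
  have h2 : Algebra.TensorProduct.map (Algebra.TensorProduct.includeLeft (S := R)) (AlgHom.id R X) z =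
      Algebra.TensorProduct.map (Algebra.TensorProduct.includeRight (R := R) (A := E)) (AlgHom.id R X) z := by
    have h := congrArg (TensorProduct.assoc R E E X).symm key
    refine Eq.trans ?_ (h.trans ?_)
    · clear h key hp
      induction z using TensorProduct.induction_on with
      | zero => simp
      | add a b ha hb => simp only [map_add, ha, hb]
      | tmul s x => simp
    · clear h key hp
      induction z using TensorProduct.induction_on with
      | zero => simp
      | add a b ha hb => simp only [TensorProduct.tmul_add, map_add, ha, hb]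
      | tmul s x => simp
  obtain ⟨x, hx⟩ := exists_one_tmul_of_descent z h2
  exact ⟨x, by rw [← hx, bcLift_one_tmul]⟩

end Fixed

variable {D : Type u} [CommRing D] [HopfAlgebra E D] [Algebra R D] [IsScalarTower R E D]

/-- The coaction on a tensor square. -/
noncomputable def coactTwo (ρ : D →ₐ[E] E ⊗[R] D) : D ⊗[E] D →ₐ[E] E ⊗[R] (D ⊗[E] D) :=
  Algebra.TensorProduct.lift
    ((Algebra.TensorProduct.map (AlgHom.id E E)
      ((Algebra.TensorProduct.includeLeft : D →ₐ[E] D ⊗[E] D).restrictScalars R)).comp ρ)
    ((Algebra.TensorProduct.map (AlgHom.id E E)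
      ((Algebra.TensorProduct.includeRight : D →ₐ[E] D ⊗[E] D).restrictScalars R)).comp ρ)
    (fun _ _ => Commute.all _ _)

/-- A descent datum on a Hopf algebra, as a coaction. -/
structure IsCoact (ρ : D →ₐ[E] E ⊗[R] D) : Prop where
  mul : ∀ x, ModDesc12.mulMap (R := R) (ρ x) = x
  coassoc : ∀ x, LinearMap.lTensor E (ρ.toLinearMap.restrictScalars R) (ρ x) =
    LinearMap.lTensor E (ModDesc12.ι (S := E)) (ρ x)
  counit : ∀ x, Algebra.TensorProduct.map (AlgHom.id E E) ((Bialgebra.counitAlgHom E D).restrictScalars R)
    (ρ x) = Coalgebra.counit (R := E) x ⊗ₜ[R] (1 : E)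
  comul : ∀ x, coactTwo ρ (Coalgebra.comul (R := E) x) =
    Algebra.TensorProduct.map (AlgHom.id E E) ((Bialgebra.comulAlgHom E D).restrictScalars R) (ρ x)
  anti : ∀ x, ρ (antipode E x) =
    Algebra.TensorProduct.map (AlgHom.id E E) ((antipodeAlgHom E D).restrictScalars R) (ρ x)

/-- The fixed subalgebra of a coaction. -/
noncomputable def fixedAlg (ρ : D →ₐ[E] E ⊗[R] D) : Subalgebra R D :=
  AlgHom.equalizer (ρ.restrictScalars R) (Algebra.TensorProduct.includeRight : D →ₐ[R] E ⊗[R] D)

theorem bijective_fixedAlg [Module.Flat R E] {ρ : D →ₐ[E] E ⊗[R] D} (hρ : IsCoact ρ) :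
    Function.Bijective (bcLift (R := E) (fixedAlg ρ).val) := by
  have h := ModDesc12.bijective_mult (R := R) (S := E) (N := D) ρ.toLinearMap hρ.mul hρ.coassoc
  let A' := ModDesc12.fixed (R := R) (S := E) (N := D) ρ.toLinearMap
  let eqA : fixedAlg ρ ≃ₗ[R] A' :=
    LinearEquiv.ofEq (Subalgebra.toSubmodule (fixedAlg ρ)) A' (by
      ext x
      exact (ModDesc12.mem_fixed ρ.toLinearMap x).symm)
  have : ⇑(bcLift (R := E) (fixedAlg ρ).val) =
      ModDesc12.mult (S := E) A' ∘ (eqA.lTensor E) := by
    funext z
    induction z using TensorProduct.induction_on with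
    | zero => simp
    | add a b ha hb => simp only [Function.comp_apply, map_add] at ha hb ⊢; rw [ha, hb]
    | tmul s a =>
      simp only [Function.comp_apply, LinearEquiv.lTensor_tmul, ModDesc12.mult_tmul]
      simp [bcLift, eqA, Algebra.smul_def]
      rfl
  rw [this]
  exact h.comp (eqA.lTensor E).bijective

set_option maxHeartbeats 1000000 in
/-- A descent datum on a Hopf algebra is effective. -/
theorem exists_descended [Module.FaithfullyFlat R E] {ρ : D →ₐ[E] E ⊗[R] D} (hρ : IsCoact ρ) :
    ∃ (A : Type u) (_ : CommRing A) (_ : HopfAlgebra R A) (f : A →ₐ[R] D) (e : E ⊗[R] A ≃ₐc[E] D),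
      (∀ a, e ((1 : E) ⊗ₜ[R] a) = f a) ∧ ∀ a, ρ (f a) = (1 : E) ⊗ₜ[R] f a := by
  let A := fixedAlg ρ
  let f : A →ₐ[R] D := A.val
  have hfix : ∀ a : A, ρ (f a) = (1 : E) ⊗ₜ[R] f a := fun a => a.2
  have hf : Function.Bijective (bcLift (R := E) f) := bijective_fixedAlg hρ
  have hf₂ := bijective_pairMap (R := E) f f hf hf
  have hf₃ := bijective_pairMap (R := E) f (pairMap (R := E) f f) hf hf₂
  have hf₀ : Function.Bijective (bcLift (R := E) (Algebra.ofId R E)) := by
    rw [show bcLift (R := E) (Algebra.ofId R E) = (Algebra.TensorProduct.rid R E E).toAlgHom from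
      comul_algHom_ext fun x => by simp [bcLift_one_tmul, Algebra.algebraMap_eq_smul_one]]
    exact (Algebra.TensorProduct.rid R E E).bijective
  have hfix₂ : ∀ w, coactTwo ρ (pairMap (R := E) f f w) = (1 : E) ⊗ₜ[R] pairMap (R := E) f f w := by
    intro w
    induction w using TensorProduct.induction_on with
    | zero => simp
    | add a b ha hb => simp only [map_add, TensorProduct.tmul_add, ha, hb]
    | tmul a b => simp [coactTwo, pairMap_tmul, hfix]
  have hΔ : ∀ a, ∃ w, pairMap (R := E) f f w = Bialgebra.comulAlgHom E D (f a) := fun a =>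
    exists_of_fixed (pairMap (R := E) f f) hf₂ (coactTwo ρ) hfix₂ (by
      show coactTwo ρ (Coalgebra.comul (R := E) (f a)) = _
      rw [hρ.comul, hfix]
      simp)
  have hε : ∀ a, ∃ r, algebraMap R E r = Bialgebra.counitAlgHom E D (f a) := fun a =>
    exists_of_fixed (Algebra.ofId R E) hf₀ (Algebra.TensorProduct.includeLeft : E →ₐ[E] E ⊗[R] E)
      (fun r => by simp [Algebra.TensorProduct.tmul_one_eq_one_tmul]) (by
      have := hρ.counit (f a)
      rw [hfix, Algebra.TensorProduct.map_tmul] at this
      exact this.symm)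
  have hσ : ∀ a, ∃ b, f b = antipodeAlgHom E D (f a) := fun a =>
    exists_of_fixed f hf ρ hfix (by
      show ρ (antipode E (f a)) = _
      rw [hρ.anti, hfix]
      simp)
  choose dfun hdfun using hΔ
  choose efun hefun using hε
  choose sfun hsfun using hσ
  have inj₂ := injective_of_bijective_bcLift _ hf₂
  have inj₁ := injective_of_bijective_bcLift _ hf
  have inj₀ : Function.Injective (algebraMap R E) := FaithfulSMul.algebraMap_injective R E
  let Δ : A →ₐ[R] A ⊗[R] A :=
    { toFun := dfun
      map_one' := inj₂ (by simp only [hdfun, map_one])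
      map_mul' := fun x y => inj₂ (by simp only [hdfun, map_mul])
      map_zero' := inj₂ (by simp only [hdfun, map_zero])
      map_add' := fun x y => inj₂ (by simp only [hdfun, map_add])
      commutes' := fun r => inj₂ (by
        rw [hdfun, AlgHom.commutes, AlgHom.commutes, IsScalarTower.algebraMap_apply R E D,
          AlgHom.commutes, ← IsScalarTower.algebraMap_apply]) }
  let ε : A →ₐ[R] R :=
    { toFun := efun
      map_one' := inj₀ (by simp only [hefun, map_one])
      map_mul' := fun x y => inj₀ (by simp only [hefun, map_mul])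
      map_zero' := inj₀ (by simp only [hefun, map_zero])
      map_add' := fun x y => inj₀ (by simp only [hefun, map_add])
      commutes' := fun r => inj₀ (by
        rw [hefun, AlgHom.commutes, IsScalarTower.algebraMap_apply R E D, AlgHom.commutes,
          Algebra.algebraMap_self_apply, Algebra.algebraMap_self_apply]) }
  let σ : A →ₐ[R] A :=
    { toFun := sfun
      map_one' := inj₁ (by simp only [hsfun, map_one])
      map_mul' := fun x y => inj₁ (by simp only [hsfun, map_mul])
      map_zero' := inj₁ (by simp only [hsfun, map_zero])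
      map_add' := fun x y => inj₁ (by simp only [hsfun, map_add])
      commutes' := fun r => inj₁ (by
        rw [hsfun, AlgHom.commutes, IsScalarTower.algebraMap_apply R E D, AlgHom.commutes]) }
  have hd : DataHom Δ ε σ (Bialgebra.comulAlgHom E D) (Bialgebra.counitAlgHom E D)
      (antipodeAlgHom E D) f := ⟨hdfun, hefun, hsfun⟩
  have e1 : ∀ z : D ⊗[E] D, Algebra.TensorProduct.map (Bialgebra.counitAlgHom E D) (AlgHom.id E D) z =
      (Coalgebra.counit (R := E)).rTensor D z := by
    intro z
    induction z using TensorProduct.induction_on with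
    | zero => simp
    | add a b ha hb => simp only [map_add, ha, hb]
    | tmul a b => simp
  have e2 : ∀ z : D ⊗[E] D, Algebra.TensorProduct.map (AlgHom.id E D) (Bialgebra.counitAlgHom E D) z =
      (Coalgebra.counit (R := E)).lTensor D z := by
    intro z
    induction z using TensorProduct.induction_on with
    | zero => simp
    | add a b ha hb => simp only [map_add, ha, hb]
    | tmul a b => simp
  have e3 : ∀ z : D ⊗[E] D, Algebra.TensorProduct.lift (antipodeAlgHom E D) (AlgHom.id E D)
      (fun _ _ => Commute.all _ _) z = LinearMap.mul' E D ((antipode E).rTensor D z) := by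
    intro z
    induction z using TensorProduct.induction_on with
    | zero => simp
    | add a b ha hb => simp only [map_add, ha, hb]
    | tmul a b => simp
  have e4 : ∀ z : D ⊗[E] D, Algebra.TensorProduct.lift (AlgHom.id E D) (antipodeAlgHom E D)
      (fun _ _ => Commute.all _ _) z = LinearMap.mul' E D ((antipode E).lTensor D z) := by
    intro z
    induction z using TensorProduct.induction_on with
    | zero => simp
    | add a b ha hb => simp only [map_add, ha, hb]
    | tmul a b => simp
  have a1 : coassocL Δ = coassocR Δ := AlgHom.ext fun c => injective_of_bijective_bcLift _ hf₃ (by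
    rw [hd.coassocL_map, hd.coassocR_map]
    show Algebra.TensorProduct.assoc E E E D D D
      (Algebra.TensorProduct.map (Bialgebra.comulAlgHom E D) (AlgHom.id E D) (Coalgebra.comul (R := E) (f c))) =
      Algebra.TensorProduct.map (AlgHom.id E D) (Bialgebra.comulAlgHom E D) (Coalgebra.comul (R := E) (f c))
    exact Coalgebra.coassoc_apply (f c))
  have a2 : counitL Δ ε = AlgHom.id R A := AlgHom.ext fun c => inj₁ (by
    rw [hd.counitL_map]
    show Algebra.TensorProduct.lid E D (Algebra.TensorProduct.map (Bialgebra.counitAlgHom E D)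
      (AlgHom.id E D) (Coalgebra.comul (R := E) (f c))) = f c
    rw [e1, Coalgebra.rTensor_counit_comul]
    simp)
  have a3 : counitR Δ ε = AlgHom.id R A := AlgHom.ext fun c => inj₁ (by
    rw [hd.counitR_map]
    show Algebra.TensorProduct.rid E E D (Algebra.TensorProduct.map (AlgHom.id E D)
      (Bialgebra.counitAlgHom E D) (Coalgebra.comul (R := E) (f c))) = f c
    rw [e2, Coalgebra.lTensor_counit_comul]
    simp)
  have a4 : antiL Δ σ = (Algebra.ofId R A).comp ε := AlgHom.ext fun c => inj₁ (by
    rw [hd.antiL_map, AlgHom.comp_apply, Algebra.ofId_apply, hd.counit_algebraMap_map]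
    show Algebra.TensorProduct.lift (antipodeAlgHom E D) (AlgHom.id E D) (fun _ _ => Commute.all _ _)
      (Coalgebra.comul (R := E) (f c)) = _
    rw [e3, mul_antipode_rTensor_comul_apply]
    rfl)
  have a5 : antiR Δ σ = (Algebra.ofId R A).comp ε := AlgHom.ext fun c => inj₁ (by
    rw [hd.antiR_map, AlgHom.comp_apply, Algebra.ofId_apply, hd.counit_algebraMap_map]
    show Algebra.TensorProduct.lift (AlgHom.id E D) (antipodeAlgHom E D) (fun _ _ => Commute.all _ _)
      (Coalgebra.comul (R := E) (f c)) = _
    rw [e4, mul_antipode_lTensor_comul_apply]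
    rfl)
  letI bi : Bialgebra R A := Bialgebra.ofAlgHom Δ ε a1
    (AlgHom.ext fun x => (Algebra.TensorProduct.lid R A).injective
      ((AlgHom.congr_fun a2 x).trans ((Algebra.TensorProduct.lid R A).apply_symm_apply x).symm))
    (AlgHom.ext fun x => (Algebra.TensorProduct.rid R R A).injective
      ((AlgHom.congr_fun a3 x).trans ((Algebra.TensorProduct.rid R R A).apply_symm_apply x).symm))
  letI hopf : HopfAlgebra R A := HopfAlgebra.ofAlgHom σ a4 a5
  refine ⟨A, inferInstance, hopf, f, BialgEquiv.ofAlgEquiv (AlgEquiv.ofBijective (bcLift (R := E) f) hf)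
    ?_ ?_, fun a => bcLift_one_tmul f a, hfix⟩
  · refine comul_algHom_ext fun x => ?_
    show Coalgebra.counit (R := E) (bcLift (R := E) f ((1 : E) ⊗ₜ[R] x)) =
      Coalgebra.counit (R := E) ((1 : E) ⊗ₜ[R] x)
    rw [bcLift_one_tmul, TensorProduct.counit_tmul]
    simp only [Bialgebra.counit_one, one_smul]
    show _ = ε x • (1 : E)
    rw [← Algebra.algebraMap_eq_smul_one]
    exact (hefun x).symm
  · refine comul_algHom_ext fun x => ?_
    show Algebra.TensorProduct.map (bcLift (R := E) f) (bcLift (R := E) f)
      (Coalgebra.comul (R := E) ((1 : E) ⊗ₜ[R] x)) =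
      Coalgebra.comul (R := E) (bcLift (R := E) f ((1 : E) ⊗ₜ[R] x))
    rw [bcLift_one_tmul, show Coalgebra.comul (R := E) (f x) = pairMap (R := E) f f (Δ x) from (hdfun x).symm,
      comul_one_tmul]
    show Algebra.TensorProduct.map (bcLift (R := E) f) (bcLift (R := E) f) (inclTwo E (Δ x)) =
      pairMap (R := E) f f (Δ x)
    induction Δ x using TensorProduct.induction_on with
    | zero => simp
    | add a b ha hb => simp only [map_add, ha, hb]
    | tmul a b => simp [inclTwo_tmul, pairMap_tmul, bcLift_one_tmul]

end Groth.Agent.MultTypeLib
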