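import Mathlib.RingTheory.Coalgebra.GroupLike
import Mathlib.RingTheory.Bialgebra.GroupLike
import Mathlib.RingTheory.Bialgebra.MonoidAlgebra
import Mathlib.RingTheory.Idempotents
import Groth.Agent.Lib.Hens.Pair

/-!
# Group-like elements of group algebras
-/

universe u

open TensorProduct

namespace Groth.Agent.MultTypeLib

variable {T T' : Type u} [CommRing T] [CommRing T'] {M : Type u} [CommGroup M]

open scoped Classical in
/-- The coefficients of a group-like element form a partition of unity by idempotents. -/
theorem glike_coeff {x : MonoidAlgebra T M} (hx : IsGroupLikeElem T x) :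
    (∀ k l, x.coeff k * x.coeff l = if k = l then x.coeff k else 0) ∧
      (x.coeff.sum fun _ r => r) = 1 := by
  classical
  let c : M → MonoidAlgebra T M →ₗ[T] T := fun k =>
    Finsupp.lapply k ∘ₗ (MonoidAlgebra.coeffLinearEquiv T).toLinearMap
  refine ⟨fun k l => ?_, ?_⟩
  · have h := congrArg (fun z => LinearMap.mul' T T (TensorProduct.map (c k) (c l) z)) hx.comul_eq_tmul_self
    have key : ∀ y : MonoidAlgebra T M, LinearMap.mul' T T (TensorProduct.map (c k) (c l)
        (Coalgebra.comul (R := T) y)) = if k = l then y.coeff k else 0 := by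
      intro y
      induction y using MonoidAlgebra.induction_linear with
      | zero => simp
      | add p q hp hq =>
        rw [map_add, map_add, map_add, hp, hq]
        split_ifs <;> simp
      | single i r =>
        simp only [MonoidAlgebra.comul_single, CommSemiring.comul_apply, TensorProduct.map_tmul,
          MonoidAlgebra.lsingle_apply, LinearMap.mul'_apply, c, LinearMap.comp_apply,
          LinearEquiv.coe_coe, MonoidAlgebra.coeffLinearEquiv_apply, MonoidAlgebra.coeff_single,
          Finsupp.lapply_apply, Finsupp.single_apply]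
        split_ifs <;> simp_all
    rw [key] at h
    simp only [TensorProduct.map_tmul, LinearMap.mul'_apply] at h
    exact h.symm
  · have key : ∀ y : MonoidAlgebra T M, Coalgebra.counit (R := T) y = y.coeff.sum fun _ r => r := by
      intro y
      induction y using MonoidAlgebra.induction_linear with
      | zero => simp
      | add p q hp hq =>
        rw [map_add, hp, hq, MonoidAlgebra.coeff_add]
        exact (Finsupp.sum_add_index' (h := fun _ r => r) (fun _ => rfl) (fun _ _ _ => rfl)).symm
      | single i r => simp
    rw [← key]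
    exact hx.counit_eq_one

/-- A partition of unity by idempotents gives a group-like element. -/
theorem isGroupLikeElem_of_coeff {x : MonoidAlgebra T M}
    (h : ∀ k l, k ≠ l → x.coeff k * x.coeff l = 0) (hi : ∀ k, x.coeff k * x.coeff k = x.coeff k)
    (h1 : (x.coeff.sum fun _ r => r) = 1) : IsGroupLikeElem T x := by
  classical
  have hx : x = ∑ k ∈ x.coeff.support, x.coeff k • MonoidAlgebra.single k (1 : T) := by
    conv_lhs => rw [← MonoidAlgebra.sum_single x]
    exact Finset.sum_congr rfl fun k _ => by simp
  constructor
  · rw [hx, map_sum]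
    refine Eq.trans ?_ h1
    exact Finset.sum_congr rfl fun k _ => by simp
  · rw [hx, map_sum, TensorProduct.sum_tmul]
    refine Finset.sum_congr rfl fun k hk => ?_
    rw [TensorProduct.tmul_sum, Finset.sum_eq_single k (fun l _ hl => ?_) fun hk' => absurd hk hk']
    · rw [map_smul, ← TensorProduct.smul_tmul', TensorProduct.tmul_smul, smul_smul, hi]
      simp
    · rw [← TensorProduct.smul_tmul', TensorProduct.tmul_smul, smul_smul, h k l hl.symm, zero_smul]

theorem isGroupLikeElem_mapRingHom (f : T →+* T') {x : MonoidAlgebra T M} (hx : IsGroupLikeElem T x) :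
    IsGroupLikeElem T' (MonoidAlgebra.mapRingHom M f x) := by
  classical
  obtain ⟨h, h1⟩ := glike_coeff hx
  have hc : ∀ k, (MonoidAlgebra.mapRingHom M f x).coeff k = f (x.coeff k) := fun k => by simp
  refine isGroupLikeElem_of_coeff (fun k l hkl => ?_) (fun k => ?_) ?_
  · rw [hc, hc, ← map_mul, h, if_neg hkl, map_zero]
  · rw [hc, ← map_mul, h, if_pos rfl]
  · have : (MonoidAlgebra.mapRingHom M f x).coeff = x.coeff.mapRange f (map_zero f) :=
      Finsupp.ext fun k => by simp
    rw [this, Finsupp.sum_mapRange_index (fun _ => rfl), Finsupp.sum, ← map_sum]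
    exact (congrArg f h1).trans (map_one f)

/-- The map on group-like elements induced by a ring map. -/
noncomputable def glMapR (f : T →+* T') :
    GroupLike T (MonoidAlgebra T M) →* GroupLike T' (MonoidAlgebra T' M) where
  toFun g := ⟨MonoidAlgebra.mapRingHom M f g.val, isGroupLikeElem_mapRingHom f g.2⟩
  map_one' := by ext1; exact map_one _
  map_mul' a b := by ext1; exact map_mul _ _ _

theorem glMapR_val (f : T →+* T') (g : GroupLike T (MonoidAlgebra T M)) :
    (glMapR f g).val = MonoidAlgebra.mapRingHom M f g.val := rfl

theorem glMapR_comp {T'' : Type u} [CommRing T''] (g : T' →+* T'') (f : T →+* T')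
    (x : GroupLike T (MonoidAlgebra T M)) : glMapR g (glMapR f x) = glMapR (g.comp f) x := by
  refine GroupLike.val_injective ?_
  rw [glMapR_val, glMapR_val, glMapR_val]
  ext k
  simp

/-- Idempotents lift uniquely along a ring map. -/
def IdemBij (f : T →+* T') : Prop :=
  Set.BijOn f {e | IsIdempotentElem e} {e | IsIdempotentElem e}

theorem idemBij_of_nil (f : T →+* T') (hf : Function.Surjective f)
    (h : ∀ x ∈ RingHom.ker f, IsNilpotent x) : IdemBij f := by
  refine ⟨fun e he => he.map f, fun e he e' he' heq => ?_, fun x hx => ?_⟩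
  · exact eq_of_isNilpotent_sub_of_isIdempotentElem he he' (h _ (by simp [RingHom.mem_ker, heq]))
  · exact exists_isIdempotentElem_eq_of_ker_isNilpotent f h x (hf x) hx

theorem idemBij_of_henselianPair {A : Type u} [CommRing A] {I : Ideal A} (hI : HenselianRing A I)
    [Algebra A T] [Algebra.IsIntegral A T] (f : T →+* T') (hf : Function.Surjective f)
    (hker : RingHom.ker f = I.map (algebraMap A T)) : IdemBij f := by
  have key := Hens.bijOn_idempotents hI (B := T)
  let e : T ⧸ I.map (algebraMap A T) ≃+* T' :=
    (Ideal.quotEquivOfEq hker.symm).trans (RingHom.quotientKerEquivOfSurjective hf)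
  have he : ∀ x, e (Ideal.Quotient.mk _ x) = f x := fun x => rfl
  refine ⟨fun x hx => hx.map f, fun x hx y hy hxy => key.2.1 hx hy (e.injective ?_), fun z hz => ?_⟩
  · rw [he, he, hxy]
  · obtain ⟨x, hx, hxz⟩ := key.2.2 (show IsIdempotentElem (e.symm z) from hz.map e.symm)
    exact ⟨x, hx, by rw [← he, hxz, e.apply_symm_apply]⟩

/-- Group-like elements lift uniquely when idempotents do. -/
theorem glMapR_bijective {f : T →+* T'} (hf : IdemBij f) :
    Function.Bijective (glMapR (M := M) f) := by
  classical
  have hidem : ∀ {S : Type u} [CommRing S] (g : GroupLike S (MonoidAlgebra S M)) (k : M),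
      IsIdempotentElem (g.val.coeff k) := fun {S} _ g k => by
    have := (glike_coeff g.2).1 k k
    rwa [if_pos rfl] at this
  refine ⟨fun a b hab => GroupLike.val_injective (MonoidAlgebra.ext ?_), fun b => ?_⟩
  · refine Finsupp.ext fun k => ?_
    refine hf.2.1 (hidem a k) (hidem b k) ?_
    have := congrArg (fun g => g.val.coeff k) hab
    simpa [glMapR_val] using this
  obtain ⟨hb, hb1⟩ := glike_coeff b.2
  have hex : ∀ k, ∃ e, IsIdempotentElem e ∧ f e = b.val.coeff k := fun k => hf.2.2 (hidem b k)
  choose e he hfe using hex
  let x : MonoidAlgebra T M := ∑ k ∈ b.val.coeff.support, MonoidAlgebra.single k (e k)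
  have hzero : ∀ k, k ∉ b.val.coeff.support → e k = 0 := fun k hk =>
    hf.2.1 (he k) (by simp [IsIdempotentElem]) (by rw [hfe, map_zero, Finsupp.notMem_support_iff.1 hk])
  have hx : ∀ k, x.coeff k = e k := fun k => by
    simp only [x, MonoidAlgebra.coeff_sum, Finsupp.finset_sum_apply, MonoidAlgebra.coeff_single,
      Finsupp.single_apply, Finset.sum_ite_eq']
    split_ifs with hk
    · rfl
    · exact (hzero k hk).symm
  have horth : ∀ k l, k ≠ l → e k * e l = 0 := fun k l hkl => by
    refine hf.2.1 (IsIdempotentElem.mul (he k) (he l)) (by simp [IsIdempotentElem]) ?_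
    rw [map_mul, hfe, hfe, hb, if_neg hkl, map_zero]
  have hsum : (x.coeff.sum fun _ r => r) = 1 := by
    have hsup : x.coeff.support ⊆ b.val.coeff.support := fun k hk => by
      by_contra hk'
      rw [Finsupp.mem_support_iff, hx, hzero k hk'] at hk
      exact hk rfl
    rw [Finsupp.sum_of_support_subset _ hsup _ (fun _ _ => rfl)]
    refine hf.2.1 ?_ (by simp [IsIdempotentElem]) ?_
    · show (∑ k ∈ b.val.coeff.support, x.coeff k) * (∑ k ∈ b.val.coeff.support, x.coeff k) = _
      rw [Finset.sum_mul]
      refine Finset.sum_congr rfl fun k hk => ?_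
      rw [Finset.mul_sum, Finset.sum_eq_single k (fun l _ hl => by rw [hx, hx, horth k l hl.symm])
        fun hk' => absurd hk hk', hx]
      exact he k
    · rw [map_sum, map_one]
      refine Eq.trans (Finset.sum_congr rfl fun k _ => ?_) hb1
      rw [hx, hfe]
  refine ⟨⟨x, isGroupLikeElem_of_coeff (fun k l hkl => by rw [hx, hx]; exact horth k l hkl)
    (fun k => by rw [hx]; exact he k) hsum⟩, GroupLike.val_injective (MonoidAlgebra.ext ?_)⟩
  refine Finsupp.ext fun k => ?_
  simp [glMapR_val, hx, hfe]

end Groth.Agent.MultTypeLib
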