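import Groth.Agent.Lib.MultType.CoactDesc
import Groth.Agent.Lib.MultType.GlikeCoeff

/-!
# Coactions given by locally constant automorphisms of the character group
-/

universe u

open TensorProduct WithConv HopfAlgebra

set_option backward.isDefEq.respectTransparency false
set_option backward.isDefEq.respectTransparency.types false

namespace Groth.Agent.MultTypeLib

variable (R E : Type u) [CommRing R] [CommRing E] [Algebra R E] {M : Type u} [CommGroup M]

-- instance search needs the hints
noncomputable local instance (priority := high) instCommRingPair :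
    CommRing (E ⊗[R] (MonoidAlgebra E M ⊗[E] MonoidAlgebra E M)) :=
  inferInstanceAs (CommRing (E ⊗[R] (MonoidAlgebra E M ⊗[E] MonoidAlgebra E M)))

noncomputable local instance (priority := high) instCommRingTriple :
    CommRing (E ⊗[R] (E ⊗[R] MonoidAlgebra E M)) :=
  inferInstanceAs (CommRing (E ⊗[R] (E ⊗[R] MonoidAlgebra E M)))

/-- `Σ (s ⊗ t) m ↦ Σ s ⊗ t m`. -/
noncomputable def twistMap : MonoidAlgebra (E ⊗[R] E) M →+* E ⊗[R] MonoidAlgebra E M :=
  MonoidAlgebra.liftNCRingHom
    (Algebra.TensorProduct.map (AlgHom.id R E) (IsScalarTower.toAlgHom R E (MonoidAlgebra E M))).toRingHom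
    ((Algebra.TensorProduct.includeRight (R := R) (A := E) (B := MonoidAlgebra E M)).toMonoidHom.comp
      (MonoidAlgebra.of E M))
    (fun _ _ => Commute.all _ _)

theorem twistMap_single_tmul (m : M) (s t : E) :
    twistMap R E (MonoidAlgebra.single m (s ⊗ₜ[R] t)) = s ⊗ₜ[R] MonoidAlgebra.single m t := by
  simp [twistMap, MonoidAlgebra.coe_algebraMap]

/-- `Σ (s ⊗ t ⊗ w) m ↦ Σ s ⊗ t ⊗ w m`. -/
noncomputable def twistMap₃ :
    MonoidAlgebra (E ⊗[R] (E ⊗[R] E)) M →+* E ⊗[R] (E ⊗[R] MonoidAlgebra E M) :=
  MonoidAlgebra.liftNCRingHom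
    (Algebra.TensorProduct.map (AlgHom.id R E) (Algebra.TensorProduct.map (AlgHom.id R E)
      (IsScalarTower.toAlgHom R E (MonoidAlgebra E M)))).toRingHom
    ((Algebra.TensorProduct.includeRight (R := R) (A := E) (B := E ⊗[R] MonoidAlgebra E M)).toMonoidHom.comp
      ((Algebra.TensorProduct.includeRight (R := R) (A := E) (B := MonoidAlgebra E M)).toMonoidHom.comp
        (MonoidAlgebra.of E M)))
    (fun _ _ => Commute.all _ _)

theorem twistMap₃_single_tmul (m : M) (s t w : E) :
    twistMap₃ R E (MonoidAlgebra.single m (s ⊗ₜ[R] (t ⊗ₜ[R] w))) =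
      s ⊗ₜ[R] (t ⊗ₜ[R] MonoidAlgebra.single m w) := by
  simp [twistMap₃, MonoidAlgebra.coe_algebraMap]

/-- The first and second factors. -/
noncomputable def incl12 : E ⊗[R] E →+* E ⊗[R] (E ⊗[R] E) :=
  (Algebra.TensorProduct.map (AlgHom.id R E)
    (Algebra.TensorProduct.includeLeft : E →ₐ[R] E ⊗[R] E)).toRingHom

/-- The second and third factors. -/
noncomputable def incl23 : E ⊗[R] E →+* E ⊗[R] (E ⊗[R] E) :=
  (Algebra.TensorProduct.includeRight (R := R) (A := E) (B := E ⊗[R] E)).toRingHom

/-- The first and third factors. -/
noncomputable def incl13 : E ⊗[R] E →+* E ⊗[R] (E ⊗[R] E) :=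
  (Algebra.TensorProduct.map (AlgHom.id R E)
    (Algebra.TensorProduct.includeRight : E →ₐ[R] E ⊗[R] E)).toRingHom

variable {R E}

/-- The cocycle condition for a twist. -/
structure IsTwist (G : M →* GroupLike (E ⊗[R] E) (MonoidAlgebra (E ⊗[R] E) M)) : Prop where
  unit : ∀ m, MonoidAlgebra.mapRingHom M (Algebra.TensorProduct.lmul' R (S := E)).toRingHom (G m).val =
    MonoidAlgebra.single m 1
  cocycle : ∀ m, MonoidAlgebra.lift (E ⊗[R] (E ⊗[R] E)) (MonoidAlgebra (E ⊗[R] (E ⊗[R] E)) M) M
      ((GroupLike.valMonoidHom _ _).comp ((glMapR (incl23 R E)).comp G)) (glMapR (incl12 R E) (G m)).val =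
    (glMapR (incl13 R E) (G m)).val

/-- The coaction of a twist. -/
noncomputable def twistCoact (G : M →* GroupLike (E ⊗[R] E) (MonoidAlgebra (E ⊗[R] E) M)) :
    MonoidAlgebra E M →ₐ[E] E ⊗[R] MonoidAlgebra E M :=
  MonoidAlgebra.lift E (E ⊗[R] MonoidAlgebra E M) M
    ((twistMap (M := M) R E).toMonoidHom.comp ((GroupLike.valMonoidHom _ _).comp G))

theorem twistCoact_single (G : M →* GroupLike (E ⊗[R] E) (MonoidAlgebra (E ⊗[R] E) M)) (m : M) (t : E) :
    twistCoact G (MonoidAlgebra.single m t) = (t ⊗ₜ[R] 1) * twistMap R E (G m).val := by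
  simp [twistCoact, GroupLike.valMonoidHom, Algebra.smul_def, Algebra.TensorProduct.algebraMap_apply]

theorem twistMap₃_map23 (y : MonoidAlgebra (E ⊗[R] E) M) :
    twistMap₃ R E (MonoidAlgebra.mapRingHom M (incl23 R E) y) = (1 : E) ⊗ₜ[R] twistMap R E y := by
  induction y using MonoidAlgebra.induction_linear with
  | zero => simp
  | add a b ha hb => simp only [map_add, TensorProduct.tmul_add, ha, hb]
  | single k r =>
    induction r using TensorProduct.induction_on with
    | zero => simp
    | add a b ha hb => simp only [MonoidAlgebra.single_add, map_add, TensorProduct.tmul_add, ha, hb]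
    | tmul s t => simp [incl23, twistMap₃_single_tmul, twistMap_single_tmul]

set_option maxHeartbeats 1000000 in
/-- A twist gives a descent datum. -/
theorem isCoact_twistCoact {G : M →* GroupLike (E ⊗[R] E) (MonoidAlgebra (E ⊗[R] E) M)}
    (hG : IsTwist G) : IsCoact (twistCoact G) := by
  classical
  let ρ := twistCoact G
  have hlin : ∀ {P : Type u} [AddCommMonoid P] (F F' : MonoidAlgebra E M → P),
      (∀ a b, F (a + b) = F a + F b) → (∀ a b, F' (a + b) = F' a + F' b) →
      (∀ m t, F (MonoidAlgebra.single m t) = F' (MonoidAlgebra.single m t)) → ∀ x, F x = F' x := by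
    intro P _ F F' hF hF' h x
    induction x using MonoidAlgebra.induction_linear with
    | zero => simpa using h 1 0
    | add a b ha hb => rw [hF, hF', ha, hb]
    | single m t => exact h m t
  refine ⟨?_, ?_, ?_, ?_, ?_⟩
  · -- multiplication
    have key : ∀ (t : E) (y : MonoidAlgebra (E ⊗[R] E) M),
        ModDesc12.mulMap (R := R) ((t ⊗ₜ[R] (1 : MonoidAlgebra E M)) * twistMap R E y) =
          t • MonoidAlgebra.mapRingHom M (Algebra.TensorProduct.lmul' R (S := E)).toRingHom y := by
      intro t y
      induction y using MonoidAlgebra.induction_linear with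
      | zero => simp
      | add a b ha hb => simp only [map_add, mul_add, smul_add, ha, hb]
      | single k r =>
        induction r using TensorProduct.induction_on with
        | zero => simp
        | add a b ha hb => simp only [MonoidAlgebra.single_add, map_add, mul_add, smul_add, ha, hb]
        | tmul s w => simp [twistMap_single_tmul, mul_assoc]
    refine hlin _ _ (fun a b => by simp only [map_add]) (fun _ _ => rfl) fun m t => ?_
    rw [twistCoact_single, key, hG.unit]
    simp
  · -- coassociativity
    have key : ∀ (t : E) (y : MonoidAlgebra (E ⊗[R] E) M),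
        LinearMap.lTensor E (ρ.toLinearMap.restrictScalars R) ((t ⊗ₜ[R] (1 : MonoidAlgebra E M)) * twistMap R E y) =
          (t ⊗ₜ[R] (1 : E ⊗[R] MonoidAlgebra E M)) * twistMap₃ R E
            (MonoidAlgebra.lift (E ⊗[R] (E ⊗[R] E)) (MonoidAlgebra (E ⊗[R] (E ⊗[R] E)) M) M
              ((GroupLike.valMonoidHom _ _).comp ((glMapR (incl23 R E)).comp G))
              (MonoidAlgebra.mapRingHom M (incl12 R E) y)) ∧
        LinearMap.lTensor E (ModDesc12.ι (S := E)) ((t ⊗ₜ[R] (1 : MonoidAlgebra E M)) * twistMap R E y) =
          (t ⊗ₜ[R] (1 : E ⊗[R] MonoidAlgebra E M)) * twistMap₃ R E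
            (MonoidAlgebra.mapRingHom M (incl13 R E) y) := by
      intro t y
      induction y using MonoidAlgebra.induction_linear with
      | zero => simp
      | add a b ha hb => exact ⟨by simp only [map_add, mul_add, ha.1, hb.1], by simp only [map_add, mul_add, ha.2, hb.2]⟩
      | single k r =>
        induction r using TensorProduct.induction_on with
        | zero => simp
        | add a b ha hb =>
          exact ⟨by simp only [MonoidAlgebra.single_add, map_add, mul_add, ha.1, hb.1],
            by simp only [MonoidAlgebra.single_add, map_add, mul_add, ha.2, hb.2]⟩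
        | tmul s w =>
          refine ⟨?_, ?_⟩
          · rw [twistMap_single_tmul, Algebra.TensorProduct.tmul_mul_tmul, one_mul, LinearMap.lTensor_tmul,
              MonoidAlgebra.mapRingHom_single, MonoidAlgebra.lift_single, Algebra.smul_def, map_mul]
            have h1 : twistMap₃ R E (algebraMap (E ⊗[R] (E ⊗[R] E)) (MonoidAlgebra (E ⊗[R] (E ⊗[R] E)) M)
                (incl12 R E (s ⊗ₜ[R] w))) = s ⊗ₜ[R] (w ⊗ₜ[R] (1 : MonoidAlgebra E M)) := by
              simp [incl12, twistMap₃_single_tmul, MonoidAlgebra.coe_algebraMap, MonoidAlgebra.one_def]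
            rw [h1, MonoidHom.comp_apply, MonoidHom.comp_apply]
            show (t * s) ⊗ₜ[R] twistCoact G (MonoidAlgebra.single k w) = _ * (_ *
              twistMap₃ R E (glMapR (incl23 R E) (G k)).val)
            rw [glMapR_val, twistMap₃_map23, twistCoact_single, Algebra.TensorProduct.tmul_mul_tmul,
              Algebra.TensorProduct.tmul_mul_tmul, mul_one, one_mul]
          · simp [twistMap_single_tmul, incl13, twistMap₃_single_tmul, ModDesc12.ι]
    intro x
    revert x
    refine hlin _ _ ?_ ?_ (fun m t => ?_)
    · intro a b; simp only [map_add]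
    · intro a b; simp only [map_add, TensorProduct.add_tmul]
    rw [twistCoact_single, (key t _).1, (key t _).2]
    congr 2
    exact hG.cocycle m
  · -- counit
    have key : ∀ y : MonoidAlgebra (E ⊗[R] E) M, Algebra.TensorProduct.map (AlgHom.id E E)
        ((Bialgebra.counitAlgHom E (MonoidAlgebra E M)).restrictScalars R) (twistMap R E y) =
        Coalgebra.counit (R := E ⊗[R] E) y := by
      intro y
      induction y using MonoidAlgebra.induction_linear with
      | zero => simp
      | add a b ha hb => simp only [map_add, ha, hb]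
      | single k r =>
        induction r using TensorProduct.induction_on with
        | zero => simp
        | add a b ha hb => simp only [MonoidAlgebra.single_add, map_add, ha, hb]
        | tmul s w => simp [twistMap_single_tmul]
    intro x
    revert x
    refine hlin _ _ ?_ ?_ (fun m t => ?_)
    · intro a b; simp only [map_add]
    · intro a b; simp only [map_add, TensorProduct.add_tmul]
    rw [twistCoact_single, map_mul, key, (G m).2.counit_eq_one]
    simp
  · -- comultiplication
    intro x
    revert x
    refine hlin _ _ ?_ ?_ (fun m t => ?_)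
    · intro a b; simp only [map_add]
    · intro a b; simp only [map_add, TensorProduct.add_tmul]
    obtain ⟨horth, -⟩ := glike_coeff (G m).2
    let y := (G m).val
    let il : MonoidAlgebra E M →ₐ[R] MonoidAlgebra E M ⊗[E] MonoidAlgebra E M :=
      (Algebra.TensorProduct.includeLeft : MonoidAlgebra E M →ₐ[E] MonoidAlgebra E M ⊗[E] MonoidAlgebra E M).restrictScalars R
    let ir : MonoidAlgebra E M →ₐ[R] MonoidAlgebra E M ⊗[E] MonoidAlgebra E M :=
      (Algebra.TensorProduct.includeRight : MonoidAlgebra E M →ₐ[E] MonoidAlgebra E M ⊗[E] MonoidAlgebra E M).restrictScalars R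
    let F : E ⊗[R] E →ₐ[R] E ⊗[R] (MonoidAlgebra E M ⊗[E] MonoidAlgebra E M) :=
      Algebra.TensorProduct.map (AlgHom.id R E) (IsScalarTower.toAlgHom R E _)
    let μl := (Algebra.TensorProduct.map (AlgHom.id E E) il)
    let μr := (Algebra.TensorProduct.map (AlgHom.id E E) ir)
    let μd := Algebra.TensorProduct.map (AlgHom.id E E)
      ((Bialgebra.comulAlgHom E (MonoidAlgebra E M)).restrictScalars R)
    let b : M → M → E ⊗[R] (MonoidAlgebra E M ⊗[E] MonoidAlgebra E M) := fun k l =>
      (1 : E) ⊗ₜ[R] (MonoidAlgebra.single k (1 : E) ⊗ₜ[E] MonoidAlgebra.single l (1 : E))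
    have hl : ∀ k r, μl (twistMap R E (MonoidAlgebra.single k r)) = F r * b k 1 := by
      intro k r
      induction r using TensorProduct.induction_on with
      | zero => simp
      | add a c ha hc => simp only [MonoidAlgebra.single_add, map_add, add_mul, ha, hc]
      | tmul s w =>
        simp [μl, il, F, b, twistMap_single_tmul, ← MonoidAlgebra.one_def, MonoidAlgebra.coe_algebraMap,
          MonoidAlgebra.single_mul_single]
    have hr : ∀ k r, μr (twistMap R E (MonoidAlgebra.single k r)) = F r * b 1 k := by
      intro k r
      induction r using TensorProduct.induction_on with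
      | zero => simp
      | add a c ha hc => simp only [MonoidAlgebra.single_add, map_add, add_mul, ha, hc]
      | tmul s w =>
        have h1 : (MonoidAlgebra.single (1 : M) w) ⊗ₜ[E] MonoidAlgebra.single k (1 : E) =
            (1 : MonoidAlgebra E M) ⊗ₜ[E] MonoidAlgebra.single k w := by
          rw [show MonoidAlgebra.single (1 : M) w = w • (1 : MonoidAlgebra E M) by
            simp [MonoidAlgebra.one_def], TensorProduct.smul_tmul]
          simp
        simp [μr, ir, F, b, twistMap_single_tmul, MonoidAlgebra.coe_algebraMap, ← MonoidAlgebra.one_def, ← h1]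
    have hd : ∀ k r, μd (twistMap R E (MonoidAlgebra.single k r)) = F r * b k k := by
      intro k r
      induction r using TensorProduct.induction_on with
      | zero => simp
      | add a c ha hc => simp only [MonoidAlgebra.single_add, map_add, add_mul, ha, hc]
      | tmul s w =>
        simp [μd, F, b, twistMap_single_tmul, MonoidAlgebra.coe_algebraMap, MonoidAlgebra.single_mul_single]
        congr 1
        rw [show MonoidAlgebra.single k w = w • MonoidAlgebra.single k (1 : E) by simp,
          TensorProduct.smul_tmul]
    have hb : ∀ k l, b k 1 * b 1 l = b k l := fun k l => by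
      simp [b, MonoidAlgebra.single_mul_single]
    have hy : μl (twistMap R E y) * μr (twistMap R E y) = μd (twistMap R E y) := by
      have hsum : y = ∑ k ∈ y.coeff.support, MonoidAlgebra.single k (y.coeff k) :=
        (MonoidAlgebra.sum_coeff_single y).symm
      rw [hsum]
      simp only [map_sum, hl, hr, hd, Finset.sum_mul]
      refine Finset.sum_congr rfl fun k hk => ?_
      rw [Finset.mul_sum, Finset.sum_eq_single k (fun l _ hlk => ?_) fun hk' => absurd hk hk']
      · rw [mul_mul_mul_comm, ← map_mul, horth, if_pos rfl, hb]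
      · rw [mul_mul_mul_comm, ← map_mul, horth, if_neg hlk.symm, map_zero, zero_mul]
    rw [twistCoact_single, map_mul, MonoidAlgebra.comul_single, CommSemiring.comul_apply,
      TensorProduct.map_tmul, MonoidAlgebra.lsingle_apply, MonoidAlgebra.lsingle_apply]
    show μl (twistCoact G (MonoidAlgebra.single m 1)) * μr (twistCoact G (MonoidAlgebra.single m t)) =
      μd (t ⊗ₜ[R] 1) * μd (twistMap R E y)
    rw [twistCoact_single, twistCoact_single, map_mul, map_mul, mul_mul_mul_comm, hy]
    simp [μl, μr, μd, il, ir, Algebra.TensorProduct.one_def]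
  · -- antipode
    have key : ∀ y : MonoidAlgebra (E ⊗[R] E) M, Algebra.TensorProduct.map (AlgHom.id E E)
        ((antipodeAlgHom E (MonoidAlgebra E M)).restrictScalars R) (twistMap R E y) =
        twistMap R E (antipode (E ⊗[R] E) y) := by
      intro y
      induction y using MonoidAlgebra.induction_linear with
      | zero => simp
      | add a b ha hb => simp only [map_add, ha, hb]
      | single k r =>
        induction r using TensorProduct.induction_on with
        | zero => simp
        | add a b ha hb => simp only [MonoidAlgebra.single_add, map_add, ha, hb]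
        | tmul s w =>
          simp [twistMap_single_tmul]
    intro x
    revert x
    refine hlin _ _ ?_ ?_ (fun m t => ?_)
    · intro a b; simp only [map_add]
    · intro a b; simp only [map_add, TensorProduct.add_tmul]
    rw [twistCoact_single, map_mul, key]
    rw [show antipode E (MonoidAlgebra.single m t) = MonoidAlgebra.single m⁻¹ t by simp, twistCoact_single,
      map_inv]
    simp

end Groth.Agent.MultTypeLib
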