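import Groth.Agent.Lib.MultType.Lift

/-!
# Infinitesimally close homomorphisms into a smooth group are conjugate
-/

open TensorProduct WithConv

namespace Groth.Agent.MultTypeLib

variable {R : Type*} [CommRing R] {A : Type*} [CommRing A] [Bialgebra R A]
  {C : Type*} [CommRing C] [HopfAlgebra R C]

/-- A point of the target with values in `A` is a group homomorphism. -/
def IsGrpHom (x : WithConv (C →ₐ[R] A)) : Prop :=
  postComp (Bialgebra.comulAlgHom R A) x =
    postComp (Algebra.TensorProduct.includeLeft (S := R)) x *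
      postComp Algebra.TensorProduct.includeRight x

theorem isGrpHom_bialgHom (φ : C →ₐc[R] A) : IsGrpHom (toConv (φ : C →ₐ[R] A)) := by
  rw [IsGrpHom, postComp_apply, postComp_apply, postComp_apply, ι_mul_ι]
  congr 1
  exact AlgHom.ext fun c => (CoalgHomClass.map_comp_comul_apply φ c).symm

theorem IsGrpHom.exists_bialgHom {x : WithConv (C →ₐ[R] A)} (h : IsGrpHom x) :
    ∃ φ : C →ₐc[R] A, toConv (φ : C →ₐ[R] A) = x := by
  rw [IsGrpHom, postComp_apply, postComp_apply, postComp_apply, ι_mul_ι] at h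
  have hmod : IsHomMod (⊥ : Ideal R) x.ofConv := fun c => by
    rw [KT_bot, Submodule.mem_bot, sub_eq_zero]
    exact DFunLike.congr_fun (congrArg WithConv.ofConv h) c
  obtain ⟨φ, hφ⟩ := hmod.toBialgHom
  exact ⟨φ, congrArg toConv hφ⟩

/-- A constant point. -/
noncomputable abbrev cst (T : Type*) [CommRing T] [Algebra R T] :
    WithConv (C →ₐ[R] R) →* WithConv (C →ₐ[R] T) := postComp (Algebra.ofId R T)

theorem postComp_cst {T T' : Type*} [CommRing T] [Algebra R T] [CommRing T'] [Algebra R T']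
    (h : T →ₐ[R] T') (g : WithConv (C →ₐ[R] R)) : postComp h (cst T g) = cst T' g := by
  rw [← postComp_comp]
  exact congrArg (fun u => postComp u g) (Subsingleton.elim _ _)

theorem conj_mul_conj {G : Type*} [Group G] (g a b : G) :
    g * (a * b) * g⁻¹ = (g * a * g⁻¹) * (g * b * g⁻¹) := by group

theorem one_conj {G : Type*} [Group G] (u : G) : 1 * u * 1⁻¹ = u := by group

theorem solve_conj {G : Type*} [Group G] {g x y : G} (h : g = x * g * y⁻¹) :
    x = g * y * g⁻¹ := by
  nth_rw 1 [h]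
  group

theorem IsGrpHom.conj {x : WithConv (C →ₐ[R] A)} (h : IsGrpHom x) (g : WithConv (C →ₐ[R] R)) :
    IsGrpHom (cst A g * x * (cst A g)⁻¹) := by
  simp only [IsGrpHom, map_mul, map_inv, postComp_cst] at h ⊢
  rw [h]
  exact conj_mul_conj _ _ _

theorem j_mul_sub_mem {j : A →ₗ[R] R} (hj : IsInt j) {K : Ideal R} {x y : A} {r s : R}
    (hx : x - r • (1 : A) ∈ KT K A) (hy : y - s • (1 : A) ∈ KT K A) :
    j (x * y) - j x * j y ∈ K * K := by
  obtain ⟨u, rfl⟩ : ∃ u, x = r • (1 : A) + u := ⟨x - r • (1 : A), by abel⟩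
  obtain ⟨v, rfl⟩ : ∃ v, y = s • (1 : A) + v := ⟨y - s • (1 : A), by abel⟩
  rw [add_sub_cancel_left] at hx hy
  have h1 : j ((r • (1 : A) + u) * (s • (1 : A) + v)) =
      r * s + r * j v + s * j u + j (u * v) := by
    simp only [add_mul, mul_add, smul_mul_assoc, mul_smul_comm, one_mul, mul_one, map_add, map_smul,
      smul_eq_mul, hj.one]
    ring
  rw [h1, map_add, map_add, map_smul, map_smul, hj.one, smul_eq_mul, smul_eq_mul, mul_one, mul_one]
  have : r * s + r * j v + s * j u + j (u * v) - (r + j u) * (s + j v) = j (u * v) - j u * j v := by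
    ring
  rw [this]
  exact sub_mem (mem_KT_ring.mp (map_mem_KT j (mul_mem_KT hx hy)))
    (Ideal.mul_mem_mul (mem_KT_ring.mp (map_mem_KT j hx)) (mem_KT_ring.mp (map_mem_KT j hy)))

theorem conj_step {j : A →ₗ[R] R} (hj : IsInt j) {K : Ideal R} (hK : IsNilpotent K)
    [Algebra.FormallySmooth R C] {x y : WithConv (C →ₐ[R] A)} (hx : IsGrpHom x) (hy : IsGrpHom y)
    (h : ∀ c, x.ofConv c - y.ofConv c ∈ KT K A) :
    ∃ g : WithConv (C →ₐ[R] R),
      (∀ c, g.ofConv c - Coalgebra.counit (R := R) c ∈ K) ∧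
      ∀ c, x.ofConv c - (cst A g * y * (cst A g)⁻¹).ofConv c ∈ KT (K * K) A := by
  let q := x * y⁻¹
  have hq : ∀ c, q.ofConv c - Coalgebra.counit (R := R) c • (1 : A) ∈ KT K A := by
    have : postComp (Algebra.TensorProduct.includeRight (R := R) (A := R ⧸ K)) q =
        postComp Algebra.TensorProduct.includeRight (1 : WithConv (C →ₐ[R] A)) := by
      rw [map_mul, map_inv, (postComp_eq_of_sub_mem x y).mpr h, map_one]
      exact mul_inv_cancel (G := WithConv (C →ₐ[R] (R ⧸ K) ⊗[R] A)) _
    intro c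
    rw [← Algebra.algebraMap_eq_smul_one]
    exact (postComp_eq_of_sub_mem q 1).mp this c
  let g₁ : C →ₗ[R] R := j ∘ₗ q.ofConv.toLinearMap
  have hg₁ : ∀ c, g₁ c - Coalgebra.counit (R := R) c ∈ K := by
    intro c
    have := mem_KT_ring.mp (map_mem_KT j (hq c))
    rwa [map_sub, map_smul, hj.one, smul_eq_mul, mul_one] at this
  have hmul : ∀ a b, g₁ (a * b) - g₁ a * g₁ b ∈ K * K := fun a b => by
    simpa [g₁] using j_mul_sub_mem hj (hq a) (hq b)
  let gq : C →ₐ[R] R ⧸ (K * K) := AlgHom.ofLinearMap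
    ((Ideal.Quotient.mkₐ R (K * K)).toLinearMap ∘ₗ g₁) (by simp [g₁, hj.one])
    (fun a b => by
      simp only [LinearMap.comp_apply, AlgHom.toLinearMap_apply]
      rw [← map_mul, Ideal.Quotient.mkₐ_eq_mk, Ideal.Quotient.eq]
      exact hmul a b)
  have hKK : IsNilpotent (RingHom.ker (Ideal.Quotient.mkₐ R (K * K))) := by
    obtain ⟨n, hn⟩ := hK
    exact ⟨n, by
      show RingHom.ker (Ideal.Quotient.mk (K * K)) ^ n = 0
      rw [Ideal.mk_ker, mul_pow, hn, zero_mul]⟩
  let g : C →ₐ[R] R := Algebra.FormallySmooth.liftOfSurjective gq (Ideal.Quotient.mkₐ R (K * K))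
    (Ideal.Quotient.mkₐ_surjective R _) hKK
  have hg : ∀ c, g₁ c - g c ∈ K * K := fun c => by
    rw [← Ideal.Quotient.eq]
    exact (Algebra.FormallySmooth.liftOfSurjective_apply gq (Ideal.Quotient.mkₐ R (K * K)) _ _ c).symm
  refine ⟨toConv g, fun c => ?_, ?_⟩
  · rw [← sub_add_sub_cancel' (g₁ c) (Coalgebra.counit (R := R) c) (g c)]
    exact add_mem (hg₁ c) (Ideal.mul_le_right (neg_mem_iff.mp (by rw [neg_sub]; exact hg c)))
  let i1 : A →ₐ[R] A ⊗[R] A := Algebra.TensorProduct.includeLeft (S := R)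
  let i2 : A →ₐ[R] A ⊗[R] A := Algebra.TensorProduct.includeRight
  have hΔq : postComp (Bialgebra.comulAlgHom R A) q =
      postComp i1 x * postComp i2 q * postComp i1 y⁻¹ := by
    simp only [q, map_mul, map_inv]
    rw [hx, hy, mul_inv_rev]
    simp only [mul_assoc, i1, i2]
  have hgc : ∀ c, (Algebra.ofId R A).comp g c - g₁ c • (1 : A) ∈ KT (K * K) A := fun c => by
    show algebraMap R A (g c) - _ ∈ _
    rw [Algebra.algebraMap_eq_smul_one, ← sub_smul]
    exact Submodule.smul_mem_smul (neg_mem_iff.mp (by rw [neg_sub]; exact hg c)) trivial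
  have key : ∀ c, (cst A (toConv g)).ofConv c -
      (x * cst A (toConv g) * y⁻¹).ofConv c ∈ KT (K * K) A := by
    intro c
    have e : g₁ c • (1 : A) = avg j A ((postComp i1 x * postComp i2 q * postComp i1 y⁻¹).ofConv c) := by
      rw [← hΔq]; exact (avg_comul hj _).symm
    have e2 : avg j A ((postComp i1 x * postComp i2 q * postComp i1 y⁻¹).ofConv c) -
        (x * cst A (toConv g) * y⁻¹).ofConv c ∈ KT (K * K) A := by
      show avg j A (Algebra.TensorProduct.lmul' R (Algebra.TensorProduct.map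
        (postComp i1 x * postComp i2 q).ofConv (postComp i1 y⁻¹).ofConv
          (Coalgebra.comul (R := R) c))) - Algebra.TensorProduct.lmul' R
        (Algebra.TensorProduct.map (x * cst A (toConv g)).ofConv (y⁻¹).ofConv
          (Coalgebra.comul (R := R) c)) ∈ _
      induction (Coalgebra.comul (R := R) c) using TensorProduct.induction_on with
      | zero => simp
      | add a b ha hb => simp only [map_add, add_sub_add_comm]; exact add_mem ha hb
      | tmul a b =>
        have hb : (postComp i1 y⁻¹).ofConv b = (y⁻¹).ofConv b ⊗ₜ[R] (1 : A) := rfl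
        simp only [Algebra.TensorProduct.map_tmul, Algebra.TensorProduct.lmul'_apply_tmul, hb]
        rw [mul_comm _ ((y⁻¹).ofConv b ⊗ₜ[R] (1 : A)), avg_tmul_one_mul,
          mul_comm ((x * cst A (toConv g)).ofConv a), ← mul_sub]
        refine mul_mem_KT_left _ ?_
        show avg j A (Algebra.TensorProduct.lmul' R (Algebra.TensorProduct.map
          (postComp i1 x).ofConv (postComp i2 q).ofConv (Coalgebra.comul (R := R) a))) -
          Algebra.TensorProduct.lmul' R (Algebra.TensorProduct.map x.ofConv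
            (cst A (toConv g)).ofConv (Coalgebra.comul (R := R) a)) ∈ _
        induction (Coalgebra.comul (R := R) a) using TensorProduct.induction_on with
        | zero => simp
        | add a b ha hb => simp only [map_add, add_sub_add_comm]; exact add_mem ha hb
        | tmul a b =>
          have ha : (postComp i1 x).ofConv a = x.ofConv a ⊗ₜ[R] (1 : A) := rfl
          have hb : (postComp i2 q).ofConv b = (1 : A) ⊗ₜ[R] q.ofConv b := rfl
          simp only [Algebra.TensorProduct.map_tmul, Algebra.TensorProduct.lmul'_apply_tmul, ha, hb]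
          rw [avg_tmul_one_mul, avg_tmul, ← mul_sub]
          refine mul_mem_KT_left _ ?_
          rw [← neg_sub]
          exact neg_mem (hgc b)
    rw [← sub_add_sub_cancel _ (g₁ c • (1 : A)) _]
    exact add_mem (hgc c) (e ▸ e2)
  refine (postComp_eq_of_sub_mem x _).mp ?_
  have hk := (postComp_eq_of_sub_mem (cst A (toConv g)) (x * cst A (toConv g) * y⁻¹)).mpr key
  simp only [map_mul, map_inv] at hk ⊢
  exact solve_conj (G := WithConv (C →ₐ[R] (R ⧸ (K * K)) ⊗[R] A)) hk

theorem exists_conj_of_mod_nilpotent {j : A →ₗ[R] R} (hj : IsInt j) {I : Ideal R}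
    (hI : IsNilpotent I) [Algebra.FormallySmooth R C] {x y : WithConv (C →ₐ[R] A)}
    (hx : IsGrpHom x) (hy : IsGrpHom y) (h : ∀ c, x.ofConv c - y.ofConv c ∈ KT I A) :
    ∃ g : WithConv (C →ₐ[R] R), (∀ c, g.ofConv c - Coalgebra.counit (R := R) c ∈ I) ∧
      x = cst A g * y * (cst A g)⁻¹ := by
  obtain ⟨n, hn⟩ := hI
  let qI : R →ₐ[R] R ⧸ I := Ideal.Quotient.mkₐ R I
  have hqI : ∀ g : WithConv (C →ₐ[R] R),
      (∀ c, g.ofConv c - Coalgebra.counit (R := R) c ∈ I) ↔ postComp qI g = 1 := by
    intro g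
    constructor
    · intro hg
      apply ofConv_injective
      ext c
      exact Ideal.Quotient.eq.mpr (hg c)
    · intro hg c
      exact Ideal.Quotient.eq.mp (DFunLike.congr_fun (congrArg WithConv.ofConv hg) c)
  have : ∀ k : ℕ, ∃ g : WithConv (C →ₐ[R] R), postComp qI g = 1 ∧
      ∀ c, x.ofConv c - (cst A g * y * (cst A g)⁻¹).ofConv c ∈ KT (I ^ (k + 1)) A := by
    intro k
    induction k with
    | zero => exact ⟨1, map_one _, fun c => by simpa using h c⟩
    | succ k ih =>
      obtain ⟨g, h1, h2⟩ := ih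
      obtain ⟨g', h3, h4⟩ := conj_step hj ⟨n, by
        rw [← pow_mul]
        exact pow_eq_zero_of_le (Nat.le_mul_of_pos_left n (Nat.succ_pos k)) hn⟩ hx (hy.conj g) h2
      refine ⟨g' * g, ?_, fun c => ?_⟩
      · rw [map_mul, h1, mul_one]
        exact (hqI g').mp fun c => Ideal.pow_le_self (Nat.succ_ne_zero k) (h3 c)
      · have e : cst A (g' * g) * y * (cst A (g' * g))⁻¹ =
            cst A g' * (cst A g * y * (cst A g)⁻¹) * (cst A g')⁻¹ := by
          rw [map_mul, mul_inv_rev]; simp only [mul_assoc]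
        rw [e]
        refine KT_mono ?_ (h4 c)
        rw [pow_succ (n := k + 1)]
        exact Ideal.mul_mono_right (Ideal.pow_le_self (Nat.succ_ne_zero k))
  obtain ⟨g, h1, h2⟩ := this n
  refine ⟨g, (hqI g).mpr h1, ?_⟩
  apply ofConv_injective
  ext c
  have := h2 c
  rwa [show I ^ (n + 1) = ⊥ by rw [pow_succ, hn]; simp, KT_bot, Submodule.mem_bot, sub_eq_zero] at this

end Groth.Agent.MultTypeLib
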