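import Groth.Agent.Lib.MultType.Coef
import Groth.Agent.Lib.MultType.DiagLift
import Groth.Agent.Lib.MultType.Image
import Groth.Agent.Lib.MultType.Family

/-!
# The operators `z ↦ ∑ j(b z₍₁₎) z₍₂₎`
-/

universe u

open TensorProduct WithConv HopfAlgebra

namespace Groth.Agent.MultTypeLib

variable {R : Type u} [CommRing R] {A : Type u} [CommRing A]

/-- The operator `z ↦ ∑ j(b z₍₁₎) z₍₂₎`, as a bilinear map. -/
noncomputable def convOp [Bialgebra R A] (j : A →ₗ[R] R) : A →ₗ[R] A →ₗ[R] A where
  toFun b := (TensorProduct.lid R A).toLinearMap ∘ₗ (j ∘ₗ LinearMap.mulLeft R b).rTensor A ∘ₗ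
    Coalgebra.comul
  map_add' b c := by
    refine LinearMap.ext fun z => ?_
    have h : j ∘ₗ LinearMap.mulLeft R (b + c) = j ∘ₗ LinearMap.mulLeft R b + j ∘ₗ LinearMap.mulLeft R c :=
      LinearMap.ext fun x => by simp [add_mul]
    simp [h, LinearMap.rTensor_add]
  map_smul' r b := by
    refine LinearMap.ext fun z => ?_
    have h : j ∘ₗ LinearMap.mulLeft R (r • b) = r • (j ∘ₗ LinearMap.mulLeft R b) :=
      LinearMap.ext fun x => by simp
    simp [h, LinearMap.rTensor_smul]

theorem convOp_apply [Bialgebra R A] (j : A →ₗ[R] R) (b z : A) : convOp j b z =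
    TensorProduct.lid R A ((j ∘ₗ LinearMap.mulLeft R b).rTensor A (Coalgebra.comul (R := R) z)) := rfl

theorem convOp_map [Bialgebra R A] {B : Type u} [CommRing B] [Bialgebra R B] (e : A →ₐc[R] B)
    {j : A →ₗ[R] R} {l : B →ₗ[R] R} (hl : ∀ a, l (e a) = j a) (b z : A) :
    e (convOp j b z) = convOp l (e b) (e z) := by
  rw [convOp_apply, convOp_apply, ← CoalgHomClass.map_comp_comul_apply e]
  induction Coalgebra.comul (R := R) z using TensorProduct.induction_on with
  | zero => simp
  | tmul x y => simp [← map_mul, hl]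
  | add x y hx hy => simp only [map_add, hx, hy]

/-- Coefficientwise multiplication on a group algebra. -/
noncomputable def had {W : Type u} [CommRing W] {M : Type u} (w : M → W) :
    MonoidAlgebra W M →ₗ[W] MonoidAlgebra W M :=
  (MonoidAlgebra.coeffLinearEquiv W).symm.toLinearMap ∘ₗ
    (Finsupp.lsum W fun m => w m • Finsupp.lsingle m) ∘ₗ (MonoidAlgebra.coeffLinearEquiv W).toLinearMap

theorem had_single {W : Type u} [CommRing W] {M : Type u} (w : M → W) (m : M) (r : W) :
    had w (MonoidAlgebra.single m r) = MonoidAlgebra.single m (w m * r) := by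
  apply MonoidAlgebra.coeff_injective
  simp [had]

theorem had_coeff {W : Type u} [CommRing W] {M : Type u} (w : M → W) (x : MonoidAlgebra W M) (m : M) :
    (had w x).coeff m = w m * x.coeff m := by
  classical
  induction x using MonoidAlgebra.induction_linear with
  | zero => simp
  | add x y hx hy => simp [map_add, hx, hy, mul_add]
  | single k r =>
    rw [had_single]
    rcases eq_or_ne k m with h | h
    · subst h; simp
    · simp [Finsupp.single_eq_of_ne (Ne.symm h)]

theorem convOp_coeffOne {W : Type u} [CommRing W] {M : Type u} [CommGroup M]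
    (y x : MonoidAlgebra W M) :
    convOp (coeffOne W M) y x = had (fun m => y.coeff m⁻¹) x := by
  induction x using MonoidAlgebra.induction_linear with
  | zero => simp
  | add a b ha hb => simp only [map_add, ha, hb]
  | single m r =>
    rw [had_single, convOp_apply]
    have : coeffOne W M (y * MonoidAlgebra.single m 1) = y.coeff m⁻¹ := by
      have h := MonoidAlgebra.coeff_mul_single_eq_coeff_mul m⁻¹ (x := y) (r := (1 : W)) (m₁ := 1) (m := m)
        fun m' _ => by rw [mul_eq_one_iff_eq_inv]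
      simpa [coeffOne] using h
    simp [this]

variable [HopfAlgebra R A] {W : Type u} [CommRing W] [Algebra R W]

theorem convOp_baseChange {j : A →ₗ[R] R} (hj : IsInt j) {J : W ⊗[R] A →ₗ[W] W} (hJ : IsInt J)
    (b z : A) :
    (1 : W) ⊗ₜ[R] convOp j b z = convOp J ((1 : W) ⊗ₜ[R] b) ((1 : W) ⊗ₜ[R] z) := by
  have hJa : ∀ a, J ((1 : W) ⊗ₜ[R] a) = algebraMap R W (j a) := fun a =>
    LinearMap.congr_fun (hJ.of_baseChange.unique (hj.comp (Algebra.ofId R W))) a
  rw [convOp_apply, convOp_apply, comul_one_tmul]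
  induction Coalgebra.comul (R := R) z using TensorProduct.induction_on with
  | zero => simp
  | tmul x y =>
    simp [inclTwo_tmul, hJa, TensorProduct.tmul_smul]
  | add x y hx hy => simp only [map_add, TensorProduct.tmul_add, hx, hy]

theorem isInt_diag {M : Type u} [CommGroup M] (e : W ⊗[R] A ≃ₐc[W] MonoidAlgebra W M) :
    IsInt (coeffOne W M ∘ₗ (e : W ⊗[R] A →ₗ[W] MonoidAlgebra W M)) :=
  (isInt_coeffOne W M).comp_equiv e

theorem convOp_diag {j : A →ₗ[R] R} (hj : IsInt j) {M : Type u} [CommGroup M]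
    (e : W ⊗[R] A ≃ₐc[W] MonoidAlgebra W M) (b z : A) :
    e ((1 : W) ⊗ₜ[R] convOp j b z) =
      had (fun m => (e ((1 : W) ⊗ₜ[R] b)).coeff m⁻¹) (e ((1 : W) ⊗ₜ[R] z)) := by
  rw [convOp_baseChange hj (isInt_diag e), ← convOp_coeffOne]
  exact convOp_map e.toBialgHom (fun _ => rfl) _ _

theorem int_mul_diag {j : A →ₗ[R] R} (hj : IsInt j) {M : Type u} [CommGroup M]
    (e : W ⊗[R] A ≃ₐc[W] MonoidAlgebra W M) (b z : A) :
    algebraMap R W (j (b * z)) = (e ((1 : W) ⊗ₜ[R] z)).coeff.sum
      fun m r => (e ((1 : W) ⊗ₜ[R] b)).coeff m⁻¹ * r := by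
  have h1 := LinearMap.congr_fun ((isInt_diag e).of_baseChange.unique (hj.comp (Algebra.ofId R W))) (b * z)
  refine h1.symm.trans ?_
  show coeffOne W M (e ((1 : W) ⊗ₜ[R] (b * z))) = _
  rw [show (1 : W) ⊗ₜ[R] (b * z) = ((1 : W) ⊗ₜ[R] b) * ((1 : W) ⊗ₜ[R] z) by simp, map_mul]
  generalize e ((1 : W) ⊗ₜ[R] b) = y
  induction e ((1 : W) ⊗ₜ[R] z) using MonoidAlgebra.induction_linear with
  | zero => simp
  | add p q hp hq =>
    rw [mul_add, map_add, hp, hq, MonoidAlgebra.coeff_add,
      Finsupp.sum_add_index' (by simp) fun m r r' => mul_add _ _ _]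
  | single m r =>
    have h := MonoidAlgebra.coeff_mul_single_eq_coeff_mul m⁻¹ (x := y) (r := r) (m₁ := 1) (m := m)
      fun m' _ => by rw [mul_eq_one_iff_eq_inv]
    simpa [coeffOne] using h

theorem diag_antipode_coeff {M : Type u} [CommGroup M] (e : W ⊗[R] A ≃ₐc[W] MonoidAlgebra W M)
    (a : A) (m : M) :
    (e ((1 : W) ⊗ₜ[R] antipode R a)).coeff m⁻¹ = (e ((1 : W) ⊗ₜ[R] a)).coeff m := by
  have h1 : (1 : W) ⊗ₜ[R] antipode R a = antipode W ((1 : W) ⊗ₜ[R] a) := by simp
  rw [h1, show e (antipode W ((1 : W) ⊗ₜ[R] a)) = e.toBialgHom (antipode W ((1 : W) ⊗ₜ[R] a)) from rfl,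
    bialgHom_map_antipode]
  show (antipode W (e ((1 : W) ⊗ₜ[R] a))).coeff m⁻¹ = _
  induction e ((1 : W) ⊗ₜ[R] a) using MonoidAlgebra.induction_linear with
  | zero => simp
  | add p q hp hq => simp [map_add, hp, hq]
  | single k r =>
    classical
    rw [MonoidAlgebra.antipode_single]
    rcases eq_or_ne k m with h | h
    · subst h; simp
    · simp [Finsupp.single_eq_of_ne (Ne.symm h), Finsupp.single_eq_of_ne (fun h' : m⁻¹ = k⁻¹ => h (inv_injective h').symm)]

section Family

/-- Membership in a submodule is detected by a faithfully flat family. -/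
theorem mem_of_family {ι : Type u} [Finite ι] (U : ι → Type u) [∀ i, CommRing (U i)]
    [∀ i, Algebra R (U i)] [Module.FaithfullyFlat R (Π i, U i)] (N : Submodule R A) {x : A}
    (h : ∀ i, (1 : U i) ⊗ₜ[R] x ∈ N.baseChange (U i)) : x ∈ N := by
  rw [← Submodule.Quotient.mk_eq_zero]
  refine Module.FaithfullyFlat.tensorProduct_mk_injective (A := R) (B := Π i, U i) _ ?_
  refine pi_tensor_ext fun i => ?_
  have h0 : ∀ z ∈ N.baseChange (U i), N.mkQ.baseChange (U i) z = 0 := by
    intro z hz
    rw [Submodule.baseChange_eq_span] at hz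
    induction hz using Submodule.span_induction with
    | mem z hz =>
      obtain ⟨v, hv, rfl⟩ := hz
      simp [(Submodule.Quotient.mk_eq_zero N).2 hv]
    | zero => simp
    | add a b _ _ ha hb => rw [map_add, ha, hb, add_zero]
    | smul t a _ ha => rw [map_smul, ha, smul_zero]
  simpa using h0 _ (h i)

end Family

/-- The module spanned by the `convOp j b a`. -/
noncomputable def opModule (j : A →ₗ[R] R) (a : A) : Submodule R A :=
  LinearMap.range ((convOp j).flip a)

theorem convOp_mem_opModule (j : A →ₗ[R] R) (b a : A) : convOp j b a ∈ opModule j a :=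
  ⟨b, rfl⟩

variable {M : Type u} [CommGroup M]

theorem smul_single_mem_opModule {j : A →ₗ[R] R} (hj : IsInt j)
    (e : W ⊗[R] A ≃ₐc[W] MonoidAlgebra W M) (a : A) (m : M) :
    e.symm (MonoidAlgebra.single m ((e ((1 : W) ⊗ₜ[R] a)).coeff m)) ∈
      (opModule j a).baseChange W := by
  classical
  let Y : MonoidAlgebra W M := MonoidAlgebra.single m⁻¹ 1
  obtain ⟨S, hS⟩ := TensorProduct.exists_finset (R := R) (e.symm Y)
  have hY : Y = ∑ p ∈ S, p.1 • e ((1 : W) ⊗ₜ[R] p.2) := by
    rw [← e.apply_symm_apply Y, hS, map_sum]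
    refine Finset.sum_congr rfl fun p _ => ?_
    rw [← map_smul, TensorProduct.smul_tmul', smul_eq_mul, mul_one]
  have key : MonoidAlgebra.single m ((e ((1 : W) ⊗ₜ[R] a)).coeff m) =
      ∑ p ∈ S, p.1 • e ((1 : W) ⊗ₜ[R] convOp j p.2 a) := by
    apply MonoidAlgebra.coeff_injective
    refine Finsupp.ext fun k => ?_
    simp only [MonoidAlgebra.coeff_sum, Finsupp.coe_finsetSum, Finset.sum_apply,
      MonoidAlgebra.coeff_smul, Finsupp.smul_apply, smul_eq_mul, convOp_diag hj e, had_coeff]
    have hk := congrArg (fun z => z.coeff k⁻¹) hY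
    simp only [Y, MonoidAlgebra.coeff_single, MonoidAlgebra.coeff_sum, Finsupp.coe_finsetSum,
      Finset.sum_apply, MonoidAlgebra.coeff_smul, Finsupp.smul_apply, smul_eq_mul] at hk
    simp only [← mul_assoc, ← Finset.sum_mul, ← hk]
    rcases eq_or_ne k m with h | h
    · subst h; simp
    · simp [Finsupp.single_eq_of_ne h, Finsupp.single_eq_of_ne (fun h' : k⁻¹ = m⁻¹ => h (inv_injective h'))]
  rw [key, map_sum]
  refine Submodule.sum_mem _ fun p _ => ?_
  rw [map_smul, e.symm_apply_apply]
  exact Submodule.smul_mem _ _ (Submodule.tmul_mem_baseChange_of_mem _ (convOp_mem_opModule j _ _))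

theorem mem_opModule_self {j : A →ₗ[R] R} (hj : IsInt j) (h : SGA3b.IsMultType R A) (a : A) :
    a ∈ opModule j a := by
  classical
  obtain ⟨ι, _, U, _, _, _, hff, hd⟩ := exists_split_family h
  refine mem_of_family U _ fun i => ?_
  obtain ⟨M, _, ⟨e⟩⟩ := hd i
  rw [← e.symm_apply_apply ((1 : U i) ⊗ₜ[R] a), ← MonoidAlgebra.sum_coeff_single (e ((1 : U i) ⊗ₜ[R] a)),
    map_finsuppSum]
  exact Submodule.sum_mem _ fun m _ => smul_single_mem_opModule hj e a m

theorem convOp_comm {j : A →ₗ[R] R} (hj : IsInt j) (h : SGA3b.IsMultType R A) (b c z : A) :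
    convOp j b (convOp j c z) = convOp j c (convOp j b z) := by
  obtain ⟨ι, _, U, _, _, _, hff, hd⟩ := exists_split_family h
  rw [← sub_eq_zero]
  refine Module.FaithfullyFlat.tensorProduct_mk_injective (A := R) (B := Π i, U i) A ?_
  refine pi_tensor_ext fun i => ?_
  obtain ⟨M, _, ⟨e⟩⟩ := hd i
  have : e ((1 : U i) ⊗ₜ[R] convOp j b (convOp j c z)) = e ((1 : U i) ⊗ₜ[R] convOp j c (convOp j b z)) := by
    apply MonoidAlgebra.coeff_injective
    refine Finsupp.ext fun m => ?_
    simp only [convOp_diag hj e, had_coeff]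
    ring
  have h2 := e.injective this
  simp [TensorProduct.tmul_sub, h2]

theorem convOp_convOp {j : A →ₗ[R] R} (hj : IsInt j) (h : SGA3b.IsMultType R A) (b c z : A) :
    convOp j b (convOp j c z) = convOp j (convOp j (antipode R b) c) z := by
  obtain ⟨ι, _, U, _, _, _, hff, hd⟩ := exists_split_family h
  rw [← sub_eq_zero]
  refine Module.FaithfullyFlat.tensorProduct_mk_injective (A := R) (B := Π i, U i) A ?_
  refine pi_tensor_ext fun i => ?_
  obtain ⟨M, _, ⟨e⟩⟩ := hd i
  have : e ((1 : U i) ⊗ₜ[R] convOp j b (convOp j c z)) =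
      e ((1 : U i) ⊗ₜ[R] convOp j (convOp j (antipode R b) c) z) := by
    apply MonoidAlgebra.coeff_injective
    refine Finsupp.ext fun m => ?_
    simp only [convOp_diag hj e, had_coeff]
    have hb := diag_antipode_coeff e b m⁻¹
    rw [inv_inv] at hb
    rw [inv_inv, hb]
    ring
  have h2 := e.injective this
  simp [TensorProduct.tmul_sub, h2]

theorem convOp_mem_opModule_of_mem {j : A →ₗ[R] R} (hj : IsInt j) (h : SGA3b.IsMultType R A)
    (b : A) {a x : A} (hx : x ∈ opModule j a) : convOp j b x ∈ opModule j a := by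
  obtain ⟨c, rfl⟩ := hx
  show convOp j b (convOp j c a) ∈ _
  rw [convOp_convOp hj h]
  exact convOp_mem_opModule j _ _

theorem opModule_fg {j : A →ₗ[R] R} (hj : IsInt j) (h : SGA3b.IsMultType R A) (a : A) :
    (opModule j a).FG := by
  classical
  obtain ⟨ι, _, U, _, _, _, hff, hd⟩ := exists_split_family h
  have := Fintype.ofFinite ι
  have key : ∀ i, ∃ s : Finset A, ∀ c : A, (1 : U i) ⊗ₜ[R] convOp j c a ∈
      (Submodule.span R ((fun b => convOp j b a) '' (s : Set A))).baseChange (U i) := by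
    intro i
    obtain ⟨M, _, ⟨e⟩⟩ := hd i
    let x := e ((1 : U i) ⊗ₜ[R] a)
    choose S hS using fun m : M => TensorProduct.exists_finset (R := R)
      (e.symm (MonoidAlgebra.single m⁻¹ (1 : U i)))
    refine ⟨x.coeff.support.biUnion fun m => (S m).image Prod.snd, fun c => ?_⟩
    set N := Submodule.span R ((fun b => convOp j b a) ''
      ((x.coeff.support.biUnion fun m => (S m).image Prod.snd : Finset A) : Set A))
    have hm : ∀ m ∈ x.coeff.support, e.symm (MonoidAlgebra.single m (x.coeff m)) ∈ N.baseChange (U i) := by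
      intro m hmx
      have hY : MonoidAlgebra.single m⁻¹ (1 : U i) = ∑ p ∈ S m, p.1 • e ((1 : U i) ⊗ₜ[R] p.2) := by
        rw [← e.apply_symm_apply (MonoidAlgebra.single m⁻¹ (1 : U i)), hS m, map_sum]
        refine Finset.sum_congr rfl fun p _ => ?_
        rw [← map_smul, TensorProduct.smul_tmul', smul_eq_mul, mul_one]
      have hk : MonoidAlgebra.single m (x.coeff m) =
          ∑ p ∈ S m, p.1 • e ((1 : U i) ⊗ₜ[R] convOp j p.2 a) := by
        apply MonoidAlgebra.coeff_injective
        refine Finsupp.ext fun k => ?_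
        simp only [MonoidAlgebra.coeff_sum, Finsupp.coe_finsetSum, Finset.sum_apply,
          MonoidAlgebra.coeff_smul, Finsupp.smul_apply, smul_eq_mul, convOp_diag hj e, had_coeff]
        have hk := congrArg (fun z => z.coeff k⁻¹) hY
        simp only [MonoidAlgebra.coeff_single, MonoidAlgebra.coeff_sum, Finsupp.coe_finsetSum,
          Finset.sum_apply, MonoidAlgebra.coeff_smul, Finsupp.smul_apply, smul_eq_mul] at hk
        simp only [← mul_assoc, ← Finset.sum_mul, ← hk]
        rcases eq_or_ne k m with h | h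
        · subst h; simp [x]
        · simp [Finsupp.single_eq_of_ne h, Finsupp.single_eq_of_ne (fun h' : k⁻¹ = m⁻¹ => h (inv_injective h'))]
      rw [hk, map_sum]
      refine Submodule.sum_mem _ fun p hp => ?_
      rw [map_smul, e.symm_apply_apply]
      refine Submodule.smul_mem _ _ (Submodule.tmul_mem_baseChange_of_mem _ (Submodule.subset_span ?_))
      exact ⟨p.2, Finset.mem_biUnion.2 ⟨m, hmx, Finset.mem_image_of_mem _ hp⟩, rfl⟩
    rw [← e.symm_apply_apply ((1 : U i) ⊗ₜ[R] convOp j c a), convOp_diag hj e,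
      ← MonoidAlgebra.sum_coeff_single (had _ _), map_finsuppSum]
    refine Submodule.sum_mem _ fun m hmem => ?_
    show e.symm (MonoidAlgebra.single m _) ∈ _
    rw [had_coeff, ← smul_eq_mul, ← MonoidAlgebra.smul_single, map_smul]
    refine Submodule.smul_mem _ _ (hm m ?_)
    rw [Finsupp.mem_support_iff, had_coeff] at hmem
    rw [Finsupp.mem_support_iff]
    exact right_ne_zero_of_mul hmem
  choose s hs using key
  refine ⟨(Finset.univ.biUnion s).image fun b => convOp j b a, ?_⟩
  rw [Finset.coe_image]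
  refine le_antisymm (Submodule.span_le.2 ?_) ?_
  · rintro _ ⟨b, -, rfl⟩
    exact convOp_mem_opModule j b a
  · rintro _ ⟨c, rfl⟩
    refine mem_of_family U _ fun i => ?_
    exact Submodule.baseChange_mono (U i) (Submodule.span_mono (R := R) (Set.image_mono (f := fun b => convOp j b a)
      (Finset.coe_subset.2 (Finset.subset_biUnion_of_mem s (Finset.mem_univ i))))) (hs i c)

theorem coeff_defects {a : A} {I : Ideal R} (hε : Coalgebra.counit (R := R) a - 1 ∈ I)
    (hΔ : Coalgebra.comul (R := R) a - a ⊗ₜ[R] a ∈ KT I (A ⊗[R] A))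
    (e : W ⊗[R] A ≃ₐc[W] MonoidAlgebra W M) :
    (∀ m n, m ≠ n → (e ((1 : W) ⊗ₜ[R] a)).coeff m * (e ((1 : W) ⊗ₜ[R] a)).coeff n ∈ I.map (algebraMap R W)) ∧
    (∀ m, (e ((1 : W) ⊗ₜ[R] a)).coeff m * (e ((1 : W) ⊗ₜ[R] a)).coeff m -
      (e ((1 : W) ⊗ₜ[R] a)).coeff m ∈ I.map (algebraMap R W)) ∧
    (e ((1 : W) ⊗ₜ[R] a)).coeff.sum (fun _ r => r) - 1 ∈ I.map (algebraMap R W) := by
  classical
  let q := Ideal.Quotient.mk (I.map (algebraMap R W))
  let x := e ((1 : W) ⊗ₜ[R] a)
  let c : M → MonoidAlgebra W M →ₗ[W] W := fun k =>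
    Finsupp.lapply k ∘ₗ (MonoidAlgebra.coeffLinearEquiv W).toLinearMap
  have hmn : ∀ m n, x.coeff m * x.coeff n - (if m = n then x.coeff m else 0) ∈ I.map (algebraMap R W) := by
    intro m n
    let B : A ⊗[R] A →ₗ[R] W :=
      (((LinearMap.mul' W W) ∘ₗ TensorProduct.map (c m) (c n) ∘ₗ
        TensorProduct.map (e : W ⊗[R] A →ₗ[W] MonoidAlgebra W M) (e : W ⊗[R] A →ₗ[W] MonoidAlgebra W M)).restrictScalars R) ∘ₗ inclTwo W
    have hB1 : B (a ⊗ₜ[R] a) = x.coeff m * x.coeff n := by simp [B, inclTwo_tmul, c, x]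
    have hB2 : B (Coalgebra.comul (R := R) a) = if m = n then x.coeff m else 0 := by
      have : B (Coalgebra.comul (R := R) a) = LinearMap.mul' W W (TensorProduct.map (c m) (c n)
          (Coalgebra.comul (R := W) x)) := by
        simp only [B, LinearMap.comp_apply, LinearMap.restrictScalars_apply, x]
        rw [← comul_one_tmul, ← CoalgHomClass.map_comp_comul_apply e]
        rfl
      rw [this]
      induction x using MonoidAlgebra.induction_linear with
      | zero => simp
      | add p q hp hq =>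
        rw [map_add, map_add, map_add, hp, hq]
        split_ifs <;> simp
      | single k r =>
        rcases eq_or_ne m n with h | h
        · subst h
          rcases eq_or_ne k m with h' | h'
          · subst h'; simp [c]
          · simp [c, Finsupp.single_eq_of_ne (Ne.symm h')]
        · rcases eq_or_ne k m with h' | h'
          · subst h'; simp [c, h, Finsupp.single_eq_of_ne (Ne.symm h)]
          · simp [c, h, Finsupp.single_eq_of_ne (Ne.symm h')]
    have := map_mem_KT B hΔ
    rw [map_sub, hB1, hB2, mem_KT_iff_mem_map] at this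
    simpa using (I.map (algebraMap R W)).neg_mem this
  refine ⟨fun m n h => by simpa [h] using hmn m n, fun m => by simpa using hmn m m, ?_⟩
  have h1 : x.coeff.sum (fun _ r => r) = algebraMap R W (Coalgebra.counit (R := R) a) := by
    have h2 : ∀ y : MonoidAlgebra W M, Coalgebra.counit (R := W) y = y.coeff.sum (fun _ r => r) := by
      intro y
      induction y using MonoidAlgebra.induction_linear with
      | zero => simp
      | add a b ha hb => simp [map_add, ha, hb, Finsupp.sum_add_index']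
      | single k r => simp
    rw [← h2]
    exact (CoalgHomClass.counit_comp_apply e _).trans (by simp [Algebra.algebraMap_eq_smul_one])
  show x.coeff.sum (fun _ r => r) - 1 ∈ _
  rw [h1, ← map_one (algebraMap R W), ← map_sub]
  exact Ideal.mem_map_of_mem _ hε

end Groth.Agent.MultTypeLib
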