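import Groth.Agent.Lib.MultType.Split
import Groth.Agent.Lib.FlatH4.NoethApprox
import Mathlib.Algebra.Colimit.TensorProduct
import Mathlib.RingTheory.TensorProduct.Finite
import Mathlib.RingTheory.Adjoin.FG
import Mathlib.RingTheory.Jacobson.Ring

/-!
# Finitely presented Hopf algebras come from finitely generated subrings
-/

universe u

open TensorProduct WithConv HopfAlgebra

namespace Groth.Agent.MultTypeLib

section Limit

variable {R₀ : Type u} [CommRing R₀] {R : Type u} [CommRing R] [Algebra R₀ R]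

/-- The map `S ⊗ Y → S' ⊗ Y` of an inclusion of subalgebras. -/
noncomputable def subPush (Y : Type u) [CommRing Y] [Algebra R₀ Y] {S S' : Subalgebra R₀ R} (h : S ≤ S') :
    S ⊗[R₀] Y →ₐ[R₀] S' ⊗[R₀] Y :=
  Algebra.TensorProduct.map (Subalgebra.inclusion h) (AlgHom.id R₀ Y)

/-- The map `S ⊗ Y → R ⊗ Y` of a subalgebra. -/
noncomputable def subVal (Y : Type u) [CommRing Y] [Algebra R₀ Y] (S : Subalgebra R₀ R) :
    S ⊗[R₀] Y →ₐ[R₀] R ⊗[R₀] Y :=
  Algebra.TensorProduct.map S.val (AlgHom.id R₀ Y)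

theorem subVal_subPush (Y : Type u) [CommRing Y] [Algebra R₀ Y] {S S' : Subalgebra R₀ R} (h : S ≤ S')
    (z : S ⊗[R₀] Y) : subVal Y S' (subPush Y h z) = subVal Y S z := by
  induction z using TensorProduct.induction_on with
  | zero => simp
  | tmul a b => simp [subVal, subPush]
  | add a b ha hb => simp only [map_add, ha, hb]

theorem subPush_subPush (Y : Type u) [CommRing Y] [Algebra R₀ Y] {S S' S'' : Subalgebra R₀ R}
    (h : S ≤ S') (h' : S' ≤ S'') (z : S ⊗[R₀] Y) :
    subPush Y h' (subPush Y h z) = subPush Y (h.trans h') z := by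
  induction z using TensorProduct.induction_on with
  | zero => simp
  | tmul a b => simp [subPush]
  | add a b ha hb => simp only [map_add, ha, hb]

theorem exists_mem_stage {Y : Type u} [CommRing Y] [Algebra R₀ Y] (z : R ⊗[R₀] Y) :
    ∃ (S : Subalgebra R₀ R) (_ : S.FG) (w : S ⊗[R₀] Y), subVal Y S w = z := by
  induction z using TensorProduct.induction_on with
  | zero => exact ⟨⊥, Subalgebra.fg_bot, 0, map_zero _⟩
  | tmul r y =>
    exact ⟨Algebra.adjoin R₀ {r}, ⟨{r}, by simp⟩, ⟨r, Algebra.self_mem_adjoin_singleton R₀ r⟩ ⊗ₜ[R₀] y,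
      by simp [subVal]⟩
  | add a b ha hb =>
    obtain ⟨S, hS, w, rfl⟩ := ha
    obtain ⟨S', hS', w', rfl⟩ := hb
    exact ⟨S ⊔ S', hS.sup hS', subPush Y (le_sup_left : S ≤ S ⊔ S') w + subPush Y (le_sup_right : S' ≤ S ⊔ S') w',
      by rw [map_add, subVal_subPush, subVal_subPush]⟩

/-- An element that vanishes at the limit vanishes at a finite stage. -/
theorem exists_stage_zero {Y : Type u} [CommRing Y] [Algebra R₀ Y] {S : Subalgebra R₀ R} (hS : S.FG)
    {z : S ⊗[R₀] Y} (hz : subVal Y S z = 0) :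
    ∃ (S' : Subalgebra R₀ R) (h : S ≤ S'), S'.FG ∧ subPush Y h z = 0 := by
  classical
  obtain ⟨J, hJ, y, rfl⟩ := Submodule.exists_fg_le_eq_rTensor_subtype (N := S) z
  let N : Submodule R₀ R := J.map S.val.toLinearMap
  let ρ : J →ₗ[R₀] N := (S.val.toLinearMap.domRestrict J).codRestrict N fun x => ⟨x, x.2, rfl⟩
  have h1 : N.subtype.rTensor Y (ρ.rTensor Y y) = 0 := by
    rw [← hz, ← LinearMap.rTensor_comp_apply]
    generalize y = w
    induction w using TensorProduct.induction_on with
    | zero => simp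
    | tmul a b => simp [subVal, ρ]
    | add a b ha hb => simp only [map_add, ha, hb]
  obtain ⟨N', hN', hle, heq⟩ := (hJ.map _).exists_rTensor_fg_inclusion_eq
    (x := ρ.rTensor Y y) (y := 0) (by rw [h1, map_zero])
  obtain ⟨t, ht⟩ := hN'
  let S' := S ⊔ Algebra.adjoin R₀ (t : Set R)
  have hN'S : ∀ x ∈ N', x ∈ S' := fun x hx =>
    (le_sup_right : _ ≤ S') ((Algebra.span_le_adjoin R₀ (t : Set R)) (ht ▸ hx))
  refine ⟨S', le_sup_left, hS.sup (Subalgebra.fg_adjoin_finset t), ?_⟩
  let γ : N' →ₗ[R₀] S' := LinearMap.codRestrict (Subalgebra.toSubmodule S') N'.subtype fun x => hN'S x x.2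
  have h2 := congrArg (γ.rTensor Y) heq
  rw [map_zero, map_zero, ← LinearMap.rTensor_comp_apply, ← LinearMap.rTensor_comp_apply] at h2
  rw [← h2]
  generalize y = w
  induction w using TensorProduct.induction_on with
  | zero => simp
  | tmul a b => simp [subPush, γ, ρ]; rfl
  | add a b ha hb => simp only [map_add, ha, hb]

/-- Maps out of finitely presented algebras into a base change factor through a finite stage. -/
theorem exists_stage_hom {X Y : Type u} [CommRing X] [Algebra R₀ X] [CommRing Y] [Algebra R₀ Y]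
    [Algebra.FinitePresentation R₀ X] (f : X →ₐ[R₀] R ⊗[R₀] Y) :
    ∃ (S : Subalgebra R₀ R) (_ : S.FG) (g : X →ₐ[R₀] S ⊗[R₀] Y), (subVal Y S).comp g = f := by
  classical
  obtain ⟨n, π, hπ, s, hs⟩ := Algebra.FinitePresentation.out (R := R₀) (A := X)
  choose S hS w hw using fun i : Fin n => exists_mem_stage (R₀ := R₀) (f (π (MvPolynomial.X i)))
  let S₁ : Subalgebra R₀ R := Finset.univ.sup S
  have hS₁ : S₁.FG := Finset.sup_induction Subalgebra.fg_bot (fun a ha b hb => ha.sup hb) fun i _ => hS i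
  let v : Fin n → S₁ ⊗[R₀] Y := fun i => subPush Y (Finset.le_sup (Finset.mem_univ i) : S i ≤ S₁) (w i)
  have hev : (subVal Y S₁).comp (MvPolynomial.aeval v) = f.comp π := by
    refine MvPolynomial.algHom_ext fun i => ?_
    simp [v, subVal_subPush, hw]
  have hrel : ∀ r ∈ s, ∃ (S' : Subalgebra R₀ R) (h : S₁ ≤ S'), S'.FG ∧
      subPush Y h (MvPolynomial.aeval v r) = 0 := fun r hr => by
    refine exists_stage_zero hS₁ ?_
    have h0 : π r = 0 := (hs.symm ▸ Ideal.subset_span hr : r ∈ RingHom.ker π.toRingHom)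
    have h1 := AlgHom.congr_fun hev r
    rw [AlgHom.comp_apply, AlgHom.comp_apply, h0, map_zero] at h1
    exact h1
  choose T hT hTfg hT0 using hrel
  let S₂ : Subalgebra R₀ R := S₁ ⊔ s.attach.sup fun r => T r.1 r.2
  have hS₂ : S₂.FG := hS₁.sup
    (Finset.sup_induction Subalgebra.fg_bot (fun a ha b hb => ha.sup hb) fun i _ => hTfg _ _)
  have hker : RingHom.ker π.toRingHom ≤
      RingHom.ker ((subPush Y (le_sup_left : S₁ ≤ S₂)).comp (MvPolynomial.aeval v)).toRingHom := by
    rw [← hs, Ideal.span_le]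
    intro r hr
    have hTle : T r hr ≤ S₂ :=
      (Finset.le_sup (f := fun r : {x // x ∈ s} => T r.1 r.2) (Finset.mem_attach s ⟨r, hr⟩)).trans
        le_sup_right
    show subPush Y (le_sup_left : S₁ ≤ S₂) (MvPolynomial.aeval v r) = 0
    rw [← subPush_subPush Y (hT r hr) hTle, hT0, map_zero]
  refine ⟨S₂, hS₂, AlgHom.liftOfSurjective π hπ _ hker, ?_⟩
  refine AlgHom.ext fun x => ?_
  obtain ⟨p, rfl⟩ := hπ x
  rw [AlgHom.comp_apply, AlgHom.liftOfSurjective_apply, AlgHom.comp_apply, subVal_subPush]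
  exact AlgHom.congr_fun hev p

/-- Maps out of an algebra of finite type that agree at the limit agree at a finite stage. -/
theorem exists_stage_eq {X Y : Type u} [CommRing X] [Algebra R₀ X] [CommRing Y] [Algebra R₀ Y]
    [Algebra.FiniteType R₀ X] (f g : X →ₐ[R₀] Y)
    (h : ∀ x, (1 : R) ⊗ₜ[R₀] f x = (1 : R) ⊗ₜ[R₀] g x) :
    ∃ (S : Subalgebra R₀ R), S.FG ∧ ∀ (S' : Subalgebra R₀ R), S ≤ S' →
      ∀ x, (1 : S') ⊗ₜ[R₀] f x = (1 : S') ⊗ₜ[R₀] g x := by
  classical
  obtain ⟨s, hs⟩ := (inferInstance : Algebra.FiniteType R₀ X).out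
  have key : ∀ x ∈ s, ∃ (T : Subalgebra R₀ R), T.FG ∧
      (1 : T) ⊗ₜ[R₀] f x = (1 : T) ⊗ₜ[R₀] g x := fun x _ => by
    obtain ⟨T, hle, hT, h0⟩ := exists_stage_zero (Y := Y) (Subalgebra.fg_bot : (⊥ : Subalgebra R₀ R).FG)
      (z := (1 : (⊥ : Subalgebra R₀ R)) ⊗ₜ[R₀] (f x - g x))
      (by simp [subVal, TensorProduct.tmul_sub, h])
    refine ⟨T, hT, sub_eq_zero.1 ?_⟩
    simpa [subPush, TensorProduct.tmul_sub] using h0
  choose T hT hTe using key
  refine ⟨s.attach.sup fun x => T x.1 x.2,
    Finset.sup_induction Subalgebra.fg_bot (fun a ha b hb => ha.sup hb) fun i _ => hT _ _,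
    fun S' hS' x => ?_⟩
  have hx : x ∈ AlgHom.equalizer
      ((Algebra.TensorProduct.includeRight : Y →ₐ[R₀] S' ⊗[R₀] Y).comp f)
      ((Algebra.TensorProduct.includeRight : Y →ₐ[R₀] S' ⊗[R₀] Y).comp g) := by
    refine (Algebra.adjoin_le fun y hy => ?_) (hs.symm ▸ Algebra.mem_top : x ∈ Algebra.adjoin R₀ (s : Set X))
    have hle : T y hy ≤ S' :=
      ((Finset.le_sup (f := fun x : {z // z ∈ s} => T x.1 x.2) (Finset.mem_attach s ⟨y, hy⟩))).trans hS'
    have h1 := congrArg (subPush Y hle) (hTe y hy)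
    simpa [subPush] using h1
  exact hx

end Limit

section Pair

variable {R₀ : Type u} [CommRing R₀] {R : Type u} [CommRing R] [Algebra R₀ R]

/-- The scalar extension of a map. -/
noncomputable def bcLift {X C' : Type u} [CommRing X] [Algebra R₀ X] [CommRing C'] [Algebra R C']
    [Algebra R₀ C'] [IsScalarTower R₀ R C'] (f : X →ₐ[R₀] C') : R ⊗[R₀] X →ₐ[R] C' :=
  Algebra.TensorProduct.lift (Algebra.ofId R C') f (fun _ _ => Commute.all _ _)

theorem bcLift_one_tmul {X C' : Type u} [CommRing X] [Algebra R₀ X] [CommRing C'] [Algebra R C']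
    [Algebra R₀ C'] [IsScalarTower R₀ R C'] (f : X →ₐ[R₀] C') (x : X) :
    bcLift (R := R) f ((1 : R) ⊗ₜ[R₀] x) = f x := by simp [bcLift]

variable {X Y C' D' : Type u} [CommRing X] [Algebra R₀ X] [CommRing Y] [Algebra R₀ Y] [CommRing C']
  [Algebra R C'] [Algebra R₀ C'] [IsScalarTower R₀ R C'] [CommRing D'] [Algebra R D'] [Algebra R₀ D']
  [IsScalarTower R₀ R D']

/-- The product of two maps into a tensor product over the bigger base. -/
noncomputable def pairMap (f : X →ₐ[R₀] C') (g : Y →ₐ[R₀] D') : X ⊗[R₀] Y →ₐ[R₀] C' ⊗[R] D' :=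
  Algebra.TensorProduct.lift ((Algebra.TensorProduct.includeLeft : C' →ₐ[R₀] C' ⊗[R] D').comp f)
    (((Algebra.TensorProduct.includeRight : D' →ₐ[R] C' ⊗[R] D').restrictScalars R₀).comp g)
    (fun _ _ => Commute.all _ _)

theorem pairMap_tmul (f : X →ₐ[R₀] C') (g : Y →ₐ[R₀] D') (x : X) (y : Y) :
    pairMap (R := R) f g (x ⊗ₜ[R₀] y) = f x ⊗ₜ[R] g y := by simp [pairMap]

theorem bijective_pairMap (f : X →ₐ[R₀] C') (g : Y →ₐ[R₀] D')
    (hf : Function.Bijective (bcLift (R := R) f)) (hg : Function.Bijective (bcLift (R := R) g)) :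
    Function.Bijective (bcLift (R := R) (pairMap (R := R) f g)) := by
  let E := (TensorProduct.AlgebraTensorModule.distribBaseChange R₀ R X Y).trans
    (TensorProduct.congr (LinearEquiv.ofBijective (bcLift (R := R) f).toLinearMap hf)
      (LinearEquiv.ofBijective (bcLift (R := R) g).toLinearMap hg))
  suffices ∀ z, bcLift (R := R) (pairMap (R := R) f g) z = E z by
    rw [show ⇑(bcLift (R := R) (pairMap (R := R) f g)) = E from funext this]
    exact E.bijective
  intro z
  induction z using TensorProduct.induction_on with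
  | zero => simp
  | add a b ha hb => simp only [map_add, ha, hb]
  | tmul r w =>
    induction w using TensorProduct.induction_on with
    | zero => simp
    | add a b ha hb => simp only [TensorProduct.tmul_add, map_add, ha, hb]
    | tmul x y =>
      rw [show r ⊗ₜ[R₀] (x ⊗ₜ[R₀] y) = r • ((1 : R) ⊗ₜ[R₀] (x ⊗ₜ[R₀] y)) by
        simp [TensorProduct.smul_tmul'], map_smul, map_smul, bcLift_one_tmul, pairMap_tmul]
      congr 1
      simp only [E, TensorProduct.AlgebraTensorModule.distribBaseChange, LinearEquiv.trans_apply]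
      refine Eq.trans ?_ (TensorProduct.congr_tmul _ _ _ _).symm
      exact congrArg₂ (· ⊗ₜ[R] ·) (bcLift_one_tmul f x).symm (bcLift_one_tmul g y).symm

theorem ext_of_bijective {X C' : Type u} [CommRing X] [Algebra R₀ X] [CommRing C'] [Algebra R C']
    [Algebra R₀ C'] [IsScalarTower R₀ R C'] {f : X →ₐ[R₀] C'}
    (hf : Function.Bijective (bcLift (R := R) f)) {x y : X} (h : f x = f y) :
    (1 : R) ⊗ₜ[R₀] x = (1 : R) ⊗ₜ[R₀] y :=
  hf.injective (by rw [bcLift_one_tmul, bcLift_one_tmul, h])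

end Pair

section Axioms

variable {S : Type u} [CommRing S] {C : Type u} [CommRing C] [Algebra S C]
  (Δ : C →ₐ[S] C ⊗[S] C) (ε : C →ₐ[S] S) (σ : C →ₐ[S] C)

/-- The two sides of coassociativity. -/
noncomputable def coassocL : C →ₐ[S] C ⊗[S] (C ⊗[S] C) :=
  (Algebra.TensorProduct.assoc S S S C C C).toAlgHom.comp
    ((Algebra.TensorProduct.map Δ (AlgHom.id S C)).comp Δ)

/-- The two sides of coassociativity. -/
noncomputable def coassocR : C →ₐ[S] C ⊗[S] (C ⊗[S] C) :=
  (Algebra.TensorProduct.map (AlgHom.id S C) Δ).comp Δ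

/-- The left counit composite. -/
noncomputable def counitL : C →ₐ[S] C :=
  (Algebra.TensorProduct.lid S C).toAlgHom.comp ((Algebra.TensorProduct.map ε (AlgHom.id S C)).comp Δ)

/-- The right counit composite. -/
noncomputable def counitR : C →ₐ[S] C :=
  (Algebra.TensorProduct.rid S S C).toAlgHom.comp ((Algebra.TensorProduct.map (AlgHom.id S C) ε).comp Δ)

/-- The left antipode composite. -/
noncomputable def antiL : C →ₐ[S] C :=
  (Algebra.TensorProduct.lift σ (AlgHom.id S C) (fun _ _ => Commute.all _ _)).comp Δ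

/-- The right antipode composite. -/
noncomputable def antiR : C →ₐ[S] C :=
  (Algebra.TensorProduct.lift (AlgHom.id S C) σ (fun _ _ => Commute.all _ _)).comp Δ

end Axioms

section Transport

variable {S : Type u} [CommRing S] {C : Type u} [CommRing C] [Algebra S C] {R : Type u} [CommRing R]
  [Algebra S R] {D : Type u} [CommRing D] [Algebra R D] [Algebra S D] [IsScalarTower S R D]
  (Δ : C →ₐ[S] C ⊗[S] C) (ε : C →ₐ[S] S) (σ : C →ₐ[S] C)
  (Δ' : D →ₐ[R] D ⊗[R] D) (ε' : D →ₐ[R] R) (σ' : D →ₐ[R] D) (f : C →ₐ[S] D)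

/-- A map compatible with comultiplication, counit and antipode data. -/
structure DataHom : Prop where
  comul : ∀ c, pairMap (R := R) f f (Δ c) = Δ' (f c)
  counit : ∀ c, algebraMap S R (ε c) = ε' (f c)
  anti : ∀ c, f (σ c) = σ' (f c)

variable {Δ ε σ Δ' ε' σ' f}

theorem DataHom.coassocL_map (h : DataHom Δ ε σ Δ' ε' σ' f) (c : C) :
    pairMap (R := R) f (pairMap (R := R) f f) (coassocL Δ c) = coassocL Δ' (f c) := by
  show _ = Algebra.TensorProduct.assoc R R R D D D
    (Algebra.TensorProduct.map Δ' (AlgHom.id R D) (Δ' (f c)))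
  rw [← h.comul]
  show pairMap (R := R) f (pairMap (R := R) f f) (Algebra.TensorProduct.assoc S S S C C C
    (Algebra.TensorProduct.map Δ (AlgHom.id S C) (Δ c))) = _
  induction Δ c using TensorProduct.induction_on with
  | zero => simp
  | add a b ha hb => simp only [map_add, ha, hb]
  | tmul a b =>
    rw [Algebra.TensorProduct.map_tmul, pairMap_tmul, Algebra.TensorProduct.map_tmul, ← h.comul,
      AlgHom.id_apply, AlgHom.id_apply]
    induction Δ a using TensorProduct.induction_on with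
    | zero => simp
    | add a b ha hb => simp only [map_add, TensorProduct.add_tmul, ha, hb]
    | tmul u v => simp [pairMap_tmul]

theorem DataHom.coassocR_map (h : DataHom Δ ε σ Δ' ε' σ' f) (c : C) :
    pairMap (R := R) f (pairMap (R := R) f f) (coassocR Δ c) = coassocR Δ' (f c) := by
  show pairMap (R := R) f (pairMap (R := R) f f) (Algebra.TensorProduct.map (AlgHom.id S C) Δ (Δ c)) =
    Algebra.TensorProduct.map (AlgHom.id R D) Δ' (Δ' (f c))
  rw [← h.comul]
  induction Δ c using TensorProduct.induction_on with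
  | zero => simp
  | add a b ha hb => simp only [map_add, ha, hb]
  | tmul a b => simp [pairMap_tmul, h.comul]

theorem DataHom.counitL_map (h : DataHom Δ ε σ Δ' ε' σ' f) (c : C) :
    f (counitL Δ ε c) = counitL Δ' ε' (f c) := by
  show f (Algebra.TensorProduct.lid S C (Algebra.TensorProduct.map ε (AlgHom.id S C) (Δ c))) =
    Algebra.TensorProduct.lid R D (Algebra.TensorProduct.map ε' (AlgHom.id R D) (Δ' (f c)))
  rw [← h.comul]
  induction Δ c using TensorProduct.induction_on with
  | zero => simp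
  | add a b ha hb => simp only [map_add, ha, hb]
  | tmul a b => simp [pairMap_tmul, ← h.counit]

theorem DataHom.counitR_map (h : DataHom Δ ε σ Δ' ε' σ' f) (c : C) :
    f (counitR Δ ε c) = counitR Δ' ε' (f c) := by
  show f (Algebra.TensorProduct.rid S S C (Algebra.TensorProduct.map (AlgHom.id S C) ε (Δ c))) =
    Algebra.TensorProduct.rid R R D (Algebra.TensorProduct.map (AlgHom.id R D) ε' (Δ' (f c)))
  rw [← h.comul]
  induction Δ c using TensorProduct.induction_on with
  | zero => simp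
  | add a b ha hb => simp only [map_add, ha, hb]
  | tmul a b => simp [pairMap_tmul, ← h.counit]

theorem DataHom.antiL_map (h : DataHom Δ ε σ Δ' ε' σ' f) (c : C) :
    f (antiL Δ σ c) = antiL Δ' σ' (f c) := by
  show f (Algebra.TensorProduct.lift σ (AlgHom.id S C) (fun _ _ => Commute.all _ _) (Δ c)) =
    Algebra.TensorProduct.lift σ' (AlgHom.id R D) (fun _ _ => Commute.all _ _) (Δ' (f c))
  rw [← h.comul]
  induction Δ c using TensorProduct.induction_on with
  | zero => simp
  | add a b ha hb => simp only [map_add, ha, hb]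
  | tmul a b => simp [pairMap_tmul, ← h.anti]

theorem DataHom.antiR_map (h : DataHom Δ ε σ Δ' ε' σ' f) (c : C) :
    f (antiR Δ σ c) = antiR Δ' σ' (f c) := by
  show f (Algebra.TensorProduct.lift (AlgHom.id S C) σ (fun _ _ => Commute.all _ _) (Δ c)) =
    Algebra.TensorProduct.lift (AlgHom.id R D) σ' (fun _ _ => Commute.all _ _) (Δ' (f c))
  rw [← h.comul]
  induction Δ c using TensorProduct.induction_on with
  | zero => simp
  | add a b ha hb => simp only [map_add, ha, hb]
  | tmul a b => simp [pairMap_tmul, ← h.anti]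

theorem DataHom.counit_algebraMap_map (h : DataHom Δ ε σ Δ' ε' σ' f) (c : C) :
    f (algebraMap S C (ε c)) = algebraMap R D (ε' (f c)) := by
  rw [AlgHom.commutes, IsScalarTower.algebraMap_apply S R D, h.counit]

end Transport

end Groth.Agent.MultTypeLib
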