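import Groth.Agent.Lib.MultType.GlikeEtale
import Mathlib.FieldTheory.PrimitiveElement
import Mathlib.RingTheory.Spectrum.Prime.Chevalley

/-!
# Étale neighbourhoods with prescribed residue field and group-like elements
-/

universe u

open TensorProduct WithConv HopfAlgebra Polynomial IntermediateField

namespace Groth.Agent.MultTypeLib

variable {R : Type u} [CommRing R] {A : Type u} [CommRing A] [HopfAlgebra R A]

theorem map_map_id {X Y Z : Type u} [CommRing X] [CommRing Y] [CommRing Z] [Algebra R X] [Algebra R Y]
    [Algebra R Z] (f : X →ₐ[R] Y) (g : Y →ₐ[R] Z) (x : X ⊗[R] A) :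
    Algebra.TensorProduct.map g (AlgHom.id R A) (Algebra.TensorProduct.map f (AlgHom.id R A) x) =
      Algebra.TensorProduct.map (g.comp f) (AlgHom.id R A) x := by
  induction x using TensorProduct.induction_on with
  | zero => simp
  | tmul a b => simp
  | add a b ha hb => simp only [map_add, ha, hb]

theorem exists_away_lift_monic (p : Ideal R) [p.IsPrime] {f : (Localization.AtPrime p)[X]}
    (hfm : f.Monic) :
    ∃ (s : R) (_ : s ∉ p) (ι : Localization.Away s →+* Localization.AtPrime p)
      (F : (Localization.Away s)[X]),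
      ι.comp (algebraMap R _) = algebraMap R _ ∧ F.Monic ∧ F.map ι = f := by
  classical
  let S := Localization.AtPrime p
  have hsurj : ∀ k, ∃ (n : R) (d : p.primeCompl), f.coeff k * algebraMap R S d = algebraMap R S n :=
    fun k => by
      obtain ⟨⟨n, d⟩, h⟩ := IsLocalization.surj p.primeCompl (f.coeff k)
      exact ⟨n, d, h⟩
  choose num den hden using hsurj
  let s : R := ∏ k ∈ Finset.range (f.natDegree + 1), (den k : R)
  have hs : s ∉ p := fun hmem => by
    obtain ⟨k, -, hk⟩ := (Ideal.IsPrime.prod_mem_iff).1 hmem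
    exact (den k).2 hk
  let Rs := Localization.Away s
  let ι : Rs →+* S := IsLocalization.Away.lift s
    (IsLocalization.map_units S (⟨s, hs⟩ : p.primeCompl))
  have hι : ι.comp (algebraMap R Rs) = algebraMap R S := IsLocalization.Away.lift_comp _ _
  have hlift : f ∈ Polynomial.lifts ι := by
    rw [Polynomial.lifts_iff_coeff_lifts]
    intro k
    by_cases hk : k ∈ Finset.range (f.natDegree + 1)
    · have hu : IsUnit (algebraMap R Rs (den k : R)) :=
        isUnit_of_dvd_unit (map_dvd (algebraMap R Rs) (Finset.dvd_prod_of_mem (fun k => (den k : R)) hk))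
          (IsLocalization.Away.algebraMap_isUnit (S := Rs) s)
      obtain ⟨w, hw⟩ := hu
      refine ⟨algebraMap R Rs (num k) * ↑w⁻¹, ?_⟩
      have h1 : ι (algebraMap R Rs (num k) * ↑w⁻¹) * algebraMap R S (den k : R) = algebraMap R S (num k) := by
        rw [← hι, RingHom.comp_apply, RingHom.comp_apply, ← map_mul, ← hw, mul_assoc, Units.inv_mul, mul_one]
      rw [← hden k] at h1
      exact (IsLocalization.map_units S (den k)).mul_right_cancel h1
    · rw [Finset.mem_range, not_lt, Nat.succ_le_iff] at hk
      exact ⟨0, by rw [map_zero, Polynomial.coeff_eq_zero_of_natDegree_lt hk]⟩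
  obtain ⟨F, hFf, -, hFm⟩ := Polynomial.lifts_and_natDegree_eq_and_monic hlift hfm
  exact ⟨s, hs, ι, F, hι, hFm, hFf⟩

/-- An étale neighbourhood with a given separable residue extension. -/
theorem exists_etale_residueField_ext (p : Ideal R) [p.IsPrime] (L : Type u) [Field L]
    [Algebra p.ResidueField L] [Algebra R L] [IsScalarTower R p.ResidueField L]
    [Module.Finite p.ResidueField L] [Algebra.IsSeparable p.ResidueField L] :
    ∃ (R' : Type u) (_ : CommRing R') (_ : Algebra R R') (_ : Algebra.Etale R R')
      (q : Ideal R') (_ : q.IsPrime), q.comap (algebraMap R R') = p ∧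
      Nonempty (L →ₐ[R] q.ResidueField) := by
  obtain ⟨α, hα⟩ := Field.exists_primitive_element p.ResidueField L
  let S := Localization.AtPrime p
  let ρ : S →+* p.ResidueField := IsLocalRing.residue S
  have hsep : (minpoly p.ResidueField α).Separable := Algebra.IsSeparable.isSeparable p.ResidueField α
  have hint : IsIntegral p.ResidueField α := Algebra.IsIntegral.isIntegral α
  obtain ⟨f, hf, -, hfm⟩ := Polynomial.lifts_and_natDegree_eq_and_monic
    ((Polynomial.lifts_iff_coeff_lifts (f := ρ) _).2 fun k => IsLocalRing.residue_surjective _)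
    (minpoly.monic hint)
  obtain ⟨s, hs, ι, F, hι, hFm, hFf⟩ := exists_away_lift_monic p hfm
  let Rs := Localization.Away s
  let P : StandardEtalePair Rs := ⟨F, hFm, F.derivative, 1, 0, 1, by simp⟩
  let R' := P.Ring
  letI algR : Algebra R R' := ((algebraMap Rs R').comp (algebraMap R Rs)).toAlgebra
  haveI : IsScalarTower R Rs R' := IsScalarTower.of_algebraMap_eq' rfl
  haveI : Algebra.Etale R Rs := Algebra.Etale.of_isLocalizationAway s
  haveI : Algebra.Etale R R' := Algebra.Etale.comp R Rs R'
  letI algL : Algebra Rs L := (((algebraMap p.ResidueField L).comp ρ).comp ι).toAlgebra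
  have hev : ∀ G : Rs[X], Polynomial.aeval α G = Polynomial.aeval α ((G.map ι).map ρ) := by
    intro G
    rw [Polynomial.aeval_def, Polynomial.aeval_def, Polynomial.eval₂_map, Polynomial.eval₂_map]
    rfl
  have hmap : P.HasMap α := by
    refine ⟨?_, ?_⟩
    · show Polynomial.aeval α F = 0
      rw [hev, hFf, hf, minpoly.aeval]
    · show IsUnit (Polynomial.aeval α F.derivative)
      rw [hev, ← Polynomial.derivative_map, hFf, ← Polynomial.derivative_map, hf]
      exact IsUnit.mk0 _ (hsep.aeval_derivative_ne_zero (minpoly.aeval _ _))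
  let ψ : R' →ₐ[Rs] L := P.lift α hmap
  have hψR : ∀ r, ψ (algebraMap R R' r) = algebraMap R L r := fun r => by
    rw [IsScalarTower.algebraMap_apply R Rs R', AlgHom.commutes]
    show algebraMap p.ResidueField L (ρ (ι (algebraMap R Rs r))) = _
    rw [← RingHom.comp_apply ι, hι, IsScalarTower.algebraMap_apply R p.ResidueField L]
    rfl
  let ψR : R' →ₐ[R] L := { ψ.toRingHom with commutes' := hψR }
  let q := RingHom.ker ψR
  haveI : q.IsPrime := RingHom.ker_isPrime _
  have hqp : q.comap (algebraMap R R') = p := by
    ext r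
    show ψR (algebraMap R R' r) = 0 ↔ _
    rw [AlgHom.commutes, IsScalarTower.algebraMap_apply R p.ResidueField L,
      map_eq_zero_iff _ (algebraMap p.ResidueField L).injective, Ideal.algebraMap_residueField_eq_zero]
  have hunit : q.primeCompl ≤ (IsUnit.submonoid L).comap ψR := fun x hx => by
    show IsUnit (ψR x)
    exact isUnit_iff_ne_zero.2 hx
  let Ψ : q.ResidueField →ₐ[R] L := Ideal.ResidueField.liftₐ q ψR le_rfl hunit
  have hsurj : Function.Surjective Ψ := by
    let ε : p.ResidueField →ₐ[R] q.ResidueField :=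
      Ideal.ResidueField.mapₐ p q (Algebra.ofId R R') hqp.symm
    have hεΨ : ∀ x, Ψ (ε x) = algebraMap p.ResidueField L x := by
      have : (Ψ.comp ε) = IsScalarTower.toAlgHom R p.ResidueField L := Ideal.ResidueField.algHom_ext (by ext)
      exact fun x => AlgHom.congr_fun this x
    intro l
    have hl : l ∈ Algebra.adjoin p.ResidueField {α} := by
      rw [← IntermediateField.adjoin_simple_toSubalgebra_of_isAlgebraic hint.isAlgebraic, hα]
      trivial
    induction hl using Algebra.adjoin_induction with
    | mem x hx =>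
      rw [Set.mem_singleton_iff] at hx
      refine ⟨algebraMap R' _ P.X, ?_⟩
      rw [Ideal.ResidueField.liftₐ_algebraMap, hx]
      exact P.lift_X α hmap
    | algebraMap r => exact ⟨ε r, hεΨ r⟩
    | add x y _ _ hx hy =>
      obtain ⟨a, rfl⟩ := hx
      obtain ⟨b, rfl⟩ := hy
      exact ⟨a + b, map_add Ψ a b⟩
    | mul x y _ _ hx hy =>
      obtain ⟨a, rfl⟩ := hx
      obtain ⟨b, rfl⟩ := hy
      exact ⟨a * b, map_mul Ψ a b⟩
  let eqv := AlgEquiv.ofBijective Ψ ⟨(Ψ : q.ResidueField →+* L).injective, hsurj⟩
  exact ⟨R', inferInstance, inferInstance, inferInstance, q, inferInstance, hqp, ⟨eqv.symm.toAlgHom⟩⟩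

/-- A group-like element of a fibre over `B` lifts to an étale `B`-algebra. -/
theorem exists_etale_glike_over (h : SGA3b.IsMultType R A) {B : Type u} [CommRing B] [Algebra R B]
    (q : Ideal B) [q.IsPrime] {y : q.ResidueField ⊗[R] A} (hy : IsGroupLikeElem q.ResidueField y) :
    ∃ (B' : Type u) (_ : CommRing B') (_ : Algebra R B') (_ : Algebra B B') (_ : IsScalarTower R B B')
      (_ : Algebra.Etale B B') (q' : Ideal B') (_ : q'.IsPrime), q'.comap (algebraMap B B') = q ∧
      ∃ (ε : q.ResidueField →ₐ[R] q'.ResidueField) (g : B' ⊗[R] A),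
        (∀ b : B, ε (algebraMap B q.ResidueField b) = algebraMap B' q'.ResidueField (algebraMap B B' b)) ∧
        IsGroupLikeElem B' g ∧
        Algebra.TensorProduct.map (IsScalarTower.toAlgHom R B' q'.ResidueField) (AlgHom.id R A) g =
          Algebra.TensorProduct.map ε (AlgHom.id R A) y := by
  let S := Localization.AtPrime q
  obtain ⟨y₀, hy₀⟩ : ∃ y₀ : S ⊗[R] A,
      Algebra.TensorProduct.map (IsScalarTower.toAlgHom R S q.ResidueField) (AlgHom.id R A) y₀ = y :=
    TensorProduct.map_surjective IsLocalRing.residue_surjective Function.surjective_id y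
  obtain ⟨t, ht, z, hz⟩ := exists_smul_eq_map (R := R) (L := S) q.primeCompl A y₀
  let W := Localization.Away t
  let k := q.ResidueField
  let ι : W →ₐ[B] S :=
    { IsLocalization.Away.lift t (IsLocalization.map_units S (⟨t, ht⟩ : q.primeCompl)) with
      commutes' := fun b => IsLocalization.Away.lift_eq t _ b }
  obtain ⟨w, hw⟩ := IsLocalization.Away.algebraMap_isUnit (S := W) t
  let a : W ⊗[R] A := (↑w⁻¹ : W) • Algebra.TensorProduct.map (IsScalarTower.toAlgHom R B W) (AlgHom.id R A) z
  have ha : Algebra.TensorProduct.map (ι.restrictScalars R) (AlgHom.id R A) a = y₀ := by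
    have hc : ∀ x : B ⊗[R] A, Algebra.TensorProduct.map (ι.restrictScalars R) (AlgHom.id R A)
        (Algebra.TensorProduct.map (IsScalarTower.toAlgHom R B W) (AlgHom.id R A) x) =
        (IsScalarTower.toAlgHom R B S).toLinearMap.rTensor A x := by
      intro x
      induction x using TensorProduct.induction_on with
      | zero => simp
      | tmul b c => simp
      | add x y hx hy => simp only [map_add, hx, hy]
    have hsm : ∀ (c : W) (x : W ⊗[R] A), Algebra.TensorProduct.map (ι.restrictScalars R) (AlgHom.id R A) (c • x) =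
        ι c • Algebra.TensorProduct.map (ι.restrictScalars R) (AlgHom.id R A) x := by
      intro c x
      induction x using TensorProduct.induction_on with
      | zero => simp
      | tmul b c' => simp [TensorProduct.smul_tmul']
      | add x y hx hy => simp only [smul_add, map_add, hx, hy]
    rw [hsm, hc, hz, smul_smul, ← ι.commutes, ← hw, ← map_mul, Units.inv_mul, map_one, one_smul]
  let qW : Ideal W := (IsLocalRing.maximalIdeal S).comap ι
  haveI : qW.IsPrime := Ideal.IsPrime.comap _
  have hqW : qW.comap (algebraMap B W) = q := by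
    show ((IsLocalRing.maximalIdeal S).comap (ι : W →+* S)).comap (algebraMap B W) = q
    rw [Ideal.comap_comap, show (ι : W →+* S).comp (algebraMap B W) = algebraMap B S from RingHom.ext ι.commutes]
    exact Localization.AtPrime.comap_maximalIdeal
  let ε₁ : k →ₐ[R] qW.ResidueField :=
    Ideal.ResidueField.mapₐ q qW (IsScalarTower.toAlgHom R B W) hqW.symm
  -- the image of `a` in the fibre
  have haW : (Algebra.TensorProduct.map (IsScalarTower.toAlgHom R W qW.ResidueField) (AlgHom.id R A)) a =
      Algebra.TensorProduct.map ε₁ (AlgHom.id R A) y := by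
    have hcompat : (ε₁.comp (IsScalarTower.toAlgHom R S k)).comp (ι.restrictScalars R) =
        IsScalarTower.toAlgHom R W qW.ResidueField := by
      refine AlgHom.coe_ringHom_injective (IsLocalization.ringHom_ext (Submonoid.powers t) ?_)
      refine RingHom.ext fun b => ?_
      show ε₁ (algebraMap S k (ι (algebraMap B W b))) = algebraMap W _ (algebraMap B W b)
      rw [ι.commutes, ← IsScalarTower.algebraMap_apply B S k]
      exact Ideal.ResidueField.map_algebraMap q qW _ _ b
    rw [← hy₀, ← ha, ← hcompat]
    rw [map_map_id, map_map_id]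
  have hgl : IsGroupLikeElem qW.ResidueField ((1 : qW.ResidueField) ⊗ₜ[W] a) := by
    have h1 := glike_map ε₁ hy
    rw [← haW] at h1
    have h2 := h1.map (cancelBC R A W qW.ResidueField).symm
    have h3 : ∀ x : W ⊗[R] A, cancelBC R A W qW.ResidueField ((1 : qW.ResidueField) ⊗ₜ[W] x) =
        Algebra.TensorProduct.map (IsScalarTower.toAlgHom R W qW.ResidueField) (AlgHom.id R A) x := by
      intro x
      induction x using TensorProduct.induction_on with
      | zero => simp
      | tmul b c => rw [cancelBC_tmul]; simp [Algebra.smul_def]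
      | add x y hx hy => simp only [TensorProduct.tmul_add, map_add, hx, hy]
    rwa [← h3, BialgEquiv.symm_apply_apply] at h2
  obtain ⟨B', _, _, _, q', _, hq', g, hg, hga⟩ :=
    exists_etale_glike (isMultType_baseChange W h) qW hgl
  letI algB : Algebra B B' := ((algebraMap W B').comp (algebraMap B W)).toAlgebra
  letI algRB : Algebra R B' := ((algebraMap W B').comp (algebraMap R W)).toAlgebra
  haveI : IsScalarTower B W B' := IsScalarTower.of_algebraMap_eq' rfl
  haveI : IsScalarTower R W B' := IsScalarTower.of_algebraMap_eq' rfl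
  haveI : IsScalarTower R B B' := IsScalarTower.of_algebraMap_eq fun r => by
    rw [IsScalarTower.algebraMap_apply B W B', ← IsScalarTower.algebraMap_apply R B W,
      ← IsScalarTower.algebraMap_apply R W B']
  haveI : Algebra.Etale B W := Algebra.Etale.of_isLocalizationAway t
  haveI : Algebra.Etale B B' := Algebra.Etale.comp B W B'
  let ε₂ : qW.ResidueField →ₐ[R] q'.ResidueField :=
    Ideal.ResidueField.mapₐ qW q' (IsScalarTower.toAlgHom R W B') hq'.symm
  refine ⟨B', inferInstance, inferInstance, inferInstance, inferInstance, inferInstance, q',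
    inferInstance, ?_, ε₂.comp ε₁, cancelBC R A W B' g, ?_, hg.map _, ?_⟩
  · rw [IsScalarTower.algebraMap_eq B W B', ← Ideal.comap_comap, hq', hqW]
  · intro b
    show ε₂ (ε₁ (algebraMap B q.ResidueField b)) = _
    rw [show ε₁ (algebraMap B q.ResidueField b) = algebraMap W _ (algebraMap B W b) from
      Ideal.ResidueField.map_algebraMap q qW _ _ b, IsScalarTower.algebraMap_apply B W B']
    exact Ideal.ResidueField.map_algebraMap qW q' _ _ _
  have hc1 : ∀ x : B' ⊗[W] (W ⊗[R] A),
      Algebra.TensorProduct.map (IsScalarTower.toAlgHom R B' q'.ResidueField) (AlgHom.id R A)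
        (cancelBC R A W B' x) =
      cancelBC R A W q'.ResidueField
        (Algebra.TensorProduct.map (IsScalarTower.toAlgHom W B' q'.ResidueField) (AlgHom.id W (W ⊗[R] A)) x) := by
    intro x
    induction x using TensorProduct.induction_on with
    | zero => simp
    | tmul b z =>
      induction z using TensorProduct.induction_on with
      | zero => simp
      | tmul c d =>
        simp only [Algebra.TensorProduct.map_tmul, cancelBC_tmul, AlgHom.id_apply, IsScalarTower.toAlgHom_apply]
        rw [Algebra.algebraMap_eq_smul_one, Algebra.algebraMap_eq_smul_one, smul_assoc]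
      | add x y hx hy => simp only [TensorProduct.tmul_add, map_add, hx, hy]
    | add x y hx hy => simp only [map_add, hx, hy]
  rw [hc1, hga]
  have hcompat : ε₂.comp (IsScalarTower.toAlgHom R W qW.ResidueField) =
      IsScalarTower.toAlgHom R W q'.ResidueField := AlgHom.ext fun x => by
    show ε₂ (algebraMap W _ x) = _
    rw [IsScalarTower.toAlgHom_apply, IsScalarTower.algebraMap_apply W B' q'.ResidueField]
    exact Ideal.ResidueField.map_algebraMap qW q' _ _ x
  rw [← map_map_id ε₁ ε₂, ← haW, map_map_id, hcompat]
  induction a using TensorProduct.induction_on with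
  | zero => simp
  | tmul b c => rw [cancelBC_tmul]; simp [Algebra.smul_def]
  | add x y hx hy => simp only [TensorProduct.tmul_add, map_add, hx, hy]

/-- Finitely many group-like elements of a fibre lift simultaneously. -/
theorem exists_etale_glikes (h : SGA3b.IsMultType R A) {B : Type u} [CommRing B] [Algebra R B]
    (q : Ideal B) [q.IsPrime] (n : ℕ) (y : Fin n → q.ResidueField ⊗[R] A)
    (hy : ∀ i, IsGroupLikeElem q.ResidueField (y i)) :
    ∃ (B' : Type u) (_ : CommRing B') (_ : Algebra R B') (_ : Algebra B B') (_ : IsScalarTower R B B')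
      (_ : Algebra.Etale B B') (q' : Ideal B') (_ : q'.IsPrime), q'.comap (algebraMap B B') = q ∧
      ∃ (ε : q.ResidueField →ₐ[R] q'.ResidueField) (g : Fin n → B' ⊗[R] A),
        (∀ b : B, ε (algebraMap B q.ResidueField b) = algebraMap B' q'.ResidueField (algebraMap B B' b)) ∧
        (∀ i, IsGroupLikeElem B' (g i)) ∧ ∀ i,
        Algebra.TensorProduct.map (IsScalarTower.toAlgHom R B' q'.ResidueField) (AlgHom.id R A) (g i) =
          Algebra.TensorProduct.map ε (AlgHom.id R A) (y i) := by
  induction n with
  | zero =>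
    exact ⟨B, inferInstance, inferInstance, Algebra.id B, inferInstance, inferInstance, q,
      inferInstance, by simp, AlgHom.id R _, Fin.elim0, fun b => rfl, fun i => Fin.elim0 i, fun i => Fin.elim0 i⟩
  | succ n ih =>
    obtain ⟨B₁, _, _, _, _, _, q₁, _, hq₁, ε₁, g, hε₁, hg, hgy⟩ :=
      ih (fun i => y i.succ) fun i => hy i.succ
    obtain ⟨B₂, _, _, algB, _, _, q₂, _, hq₂, ε₂, g₀, hε₂, hg₀, hg₀y⟩ :=
      exists_etale_glike_over h q₁ (glike_map ε₁ (hy 0))
    letI algBB : Algebra B B₂ := ((algebraMap B₁ B₂).comp (algebraMap B B₁)).toAlgebra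
    haveI : IsScalarTower B B₁ B₂ := IsScalarTower.of_algebraMap_eq' rfl
    haveI : IsScalarTower R B B₂ := IsScalarTower.of_algebraMap_eq fun r => by
      rw [IsScalarTower.algebraMap_apply B B₁ B₂, ← IsScalarTower.algebraMap_apply R B B₁,
        ← IsScalarTower.algebraMap_apply R B₁ B₂]
    haveI : Algebra.Etale B B₂ := Algebra.Etale.comp B B₁ B₂
    let θ : B₁ →ₐ[R] B₂ := IsScalarTower.toAlgHom R B₁ B₂
    let ε' : q₁.ResidueField →ₐ[R] q₂.ResidueField := Ideal.ResidueField.mapₐ q₁ q₂ θ hq₂.symm
    have hεε' : ε₂ = ε' := by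
      refine Ideal.ResidueField.algHom_ext (AlgHom.ext fun b => ?_)
      exact (hε₂ b).trans (Ideal.ResidueField.map_algebraMap q₁ q₂ _ _ b).symm
    refine ⟨B₂, inferInstance, inferInstance, inferInstance, inferInstance, inferInstance, q₂,
      inferInstance, ?_, ε'.comp ε₁, Fin.cons g₀ fun i => Algebra.TensorProduct.map θ (AlgHom.id R A) (g i),
      ?_, ?_, ?_⟩
    · rw [IsScalarTower.algebraMap_eq B B₁ B₂, ← Ideal.comap_comap, hq₂, hq₁]
    · intro b
      show ε' (ε₁ _) = _
      rw [hε₁, IsScalarTower.algebraMap_apply B B₁ B₂]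
      exact Ideal.ResidueField.map_algebraMap q₁ q₂ _ _ _
    · refine Fin.cases (by simpa using hg₀) fun i => ?_
      simpa using glike_map θ (hg i)
    · refine Fin.cases ?_ fun i => ?_
      · rw [Fin.cons_zero, hg₀y, ← map_map_id, hεε']
      · rw [Fin.cons_succ, ← map_map_id, ← hgy i, map_map_id, map_map_id]
        congr 1
        congr 1
        refine AlgHom.ext fun b => ?_
        exact (Ideal.ResidueField.map_algebraMap q₁ q₂ _ _ b).symm

end Groth.Agent.MultTypeLib
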