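import Groth.Agent.Lib.MultType.GlikeLift
import Groth.Agent.Lib.MultType.DiagLift
import Mathlib.RingTheory.Flat.Equalizer
import Mathlib.RingTheory.Finiteness.Nakayama

/-!
# Flat deformations of diagonalisable groups along nilpotent ideals are diagonalisable
-/

universe u

open TensorProduct HopfAlgebra

namespace Groth.Agent.MultTypeLib

variable {R : Type u} [CommRing R]

/-- A map to a flat module which is bijective modulo a nilpotent ideal is bijective. -/
theorem bijective_of_mod_nilpotent {I : Ideal R} (hI : IsNilpotent I) {M N : Type u}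
    [AddCommGroup M] [Module R M] [AddCommGroup N] [Module R N] [Module.Flat R N] (f : M →ₗ[R] N)
    (h : Function.Bijective (f.lTensor (R ⧸ I))) : Function.Bijective f := by
  obtain ⟨n, hn⟩ := hI
  -- a module equal to `I • ⊤` vanishes
  have van : ∀ (P : Type u) [AddCommGroup P] [Module R P],
      (∀ x : P, x ∈ KT I P) → ∀ x : P, x = 0 := by
    intro P _ _ hP
    have : ∀ k : ℕ, ∀ x : P, x ∈ KT (I ^ k) P := by
      intro k
      induction k with
      | zero => intro x; rw [pow_zero, Ideal.one_eq_top, KT, Submodule.top_smul]; trivial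
      | succ k ih =>
        intro x
        refine Submodule.smul_induction_on (hP x) (fun r hr y _ => ?_) (fun a b ha hb => add_mem ha hb)
        rw [pow_succ', KT, Submodule.mul_smul]
        exact Submodule.smul_mem_smul hr (ih y)
    intro x
    have hx := this n x
    rwa [hn, Ideal.zero_eq_bot, KT_bot, Submodule.mem_bot] at hx
  have hsurj : Function.Surjective f := by
    have h0 : ∀ q : N ⧸ LinearMap.range f, q ∈ KT I (N ⧸ LinearMap.range f) := by
      intro q
      obtain ⟨y, rfl⟩ := Submodule.Quotient.mk_surjective _ q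
      obtain ⟨t, ht⟩ := h.2 ((1 : R ⧸ I) ⊗ₜ[R] y)
      obtain ⟨x, rfl⟩ : ∃ x : M, (1 : R ⧸ I) ⊗ₜ[R] x = t := by
        clear ht
        induction t using TensorProduct.induction_on with
        | zero => exact ⟨0, TensorProduct.tmul_zero _ _⟩
        | tmul q x =>
          obtain ⟨r, rfl⟩ := Ideal.Quotient.mk_surjective q
          exact ⟨r • x, by rw [← TensorProduct.smul_tmul, Algebra.smul_def, mul_one]; rfl⟩
        | add a b ha hb =>
          obtain ⟨u, rfl⟩ := ha
          obtain ⟨v, rfl⟩ := hb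
          exact ⟨u + v, TensorProduct.tmul_add _ _ _⟩
      rw [LinearMap.lTensor_tmul, ← sub_mem_KT_iff_one_tmul_eq] at ht
      have h2 := map_mem_KT (Submodule.mkQ (LinearMap.range f)) ht
      rw [map_sub, show Submodule.mkQ (LinearMap.range f) (f x) = 0 from
        (Submodule.Quotient.mk_eq_zero _).2 ⟨x, rfl⟩, zero_sub] at h2
      exact neg_mem_iff.1 h2
    intro y
    exact (Submodule.Quotient.mk_eq_zero (LinearMap.range f)).1
      (van _ h0 (Submodule.Quotient.mk y))
  refine ⟨?_, hsurj⟩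
  have hinj : Function.Injective ((LinearMap.ker f).subtype.lTensor (R ⧸ I)) :=
    LinearMap.lTensor_injective_of_exact_of_flat f hsurj _ (Submodule.injective_subtype _)
      (LinearMap.exact_subtype_ker_map f) (R ⧸ I)
  have hk : ∀ z : LinearMap.ker f, z ∈ KT I (LinearMap.ker f) := by
    intro z
    rw [mem_KT_iff_one_tmul_eq_zero]
    refine hinj (h.1 ?_)
    simp [show f z = 0 from z.2]
  rw [← LinearMap.ker_eq_bot, Submodule.eq_bot_iff]
  intro z hz
  exact congrArg Subtype.val (van _ hk ⟨z, hz⟩)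

section Approx

variable {H : Type u} [CommRing H] [HopfAlgebra R H]

/-- A normalised functional invariant modulo `I`. -/
structure IsIntMod (I : Ideal R) (j : H →ₗ[R] R) : Prop where
  one : j 1 = 1
  inv : ∀ a, avg j H (Coalgebra.comul (R := R) a) - j a • (1 : H) ∈ KT I H

variable {I : Ideal R} {j : H →ₗ[R] R}

theorem linear_mem_KT_mul {M N : Type u} [AddCommGroup M] [Module R M] [AddCommGroup N] [Module R N]
    {K : Ideal R} (D : M →ₗ[R] N) (hD : ∀ x, D x ∈ KT I N) {x : M} (hx : x ∈ KT K M) :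
    D x ∈ KT (K * I) N := by
  refine Submodule.smul_induction_on hx (fun r hr y _ => ?_) (fun a b ha hb => ?_)
  · rw [map_smul, KT, Submodule.mul_smul]
    exact Submodule.smul_mem_smul hr (hD y)
  · rw [map_add]; exact add_mem ha hb

theorem avg_mul_sub_mem' (hj : j 1 = 1) {K : Ideal R} {P : Type u} [CommRing P]
    [Algebra R P] {x y : P ⊗[R] H} {x0 y0 : P} (hx : x - x0 ⊗ₜ[R] 1 ∈ KT K (P ⊗[R] H))
    (hy : y - y0 ⊗ₜ[R] 1 ∈ KT K (P ⊗[R] H)) :
    avg j P (x * y) - avg j P x * avg j P y ∈ KT (K * K) P := by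
  obtain ⟨u, rfl⟩ : ∃ u, x = x0 ⊗ₜ[R] 1 + u := ⟨x - x0 ⊗ₜ[R] 1, by ring⟩
  obtain ⟨v, rfl⟩ : ∃ v, y = y0 ⊗ₜ[R] 1 + v := ⟨y - y0 ⊗ₜ[R] 1, by ring⟩
  rw [add_sub_cancel_left] at hx hy
  have e : (x0 ⊗ₜ[R] (1 : H) + u) * (y0 ⊗ₜ[R] 1 + v) =
      (x0 * y0) ⊗ₜ[R] 1 + (x0 ⊗ₜ[R] 1) * v + (y0 ⊗ₜ[R] 1) * u + u * v := by
    rw [← mul_one (1 : H), ← Algebra.TensorProduct.tmul_mul_tmul, mul_one]
    ring
  rw [e, map_add, map_add, map_add, avg_tmul_one_mul, avg_tmul_one_mul, map_add, map_add]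
  simp only [avg_tmul, hj, one_smul]
  have : x0 * y0 + x0 * avg j P v + y0 * avg j P u + avg j P (u * v) -
      (x0 + avg j P u) * (y0 + avg j P v) = avg j P (u * v) - avg j P u * avg j P v := by ring
  rw [this]
  exact sub_mem (map_mem_KT _ (mul_mem_KT hx hy))
    (mul_mem_KT (map_mem_KT _ hx) (map_mem_KT _ hy))

theorem glike_eq_of_flat (hj : IsIntMod I j) (hI : IsNilpotent I) {a b : H}
    (ha : IsGroupLikeElem R a) (hb : IsGroupLikeElem R b) (h : a - b ∈ KT I H) : a = b := by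
  have hc : IsGroupLikeElem R (a * antipode R b) := ha.mul hb.antipode
  set c := a * antipode R b
  have h1 : c - 1 ∈ KT I H := by
    rw [← hb.mul_antipode_cancel, ← sub_mul]
    exact mul_mem_KT_right _ h
  let D : H →ₗ[R] H := avg j H ∘ₗ Coalgebra.comul - (LinearMap.toSpanSingleton R H 1) ∘ₗ j
  have hD : ∀ x, D x ∈ KT I H := fun x => hj.inv x
  have hu : IsUnit (j c) := by
    obtain ⟨n, hn⟩ := hI
    have := mem_KT_ring.mp (map_mem_KT j h1)
    rw [map_sub, hj.one] at this
    have hnil : IsNilpotent (j c - 1) := ⟨n, by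
      have h := Ideal.pow_mem_pow this n
      rwa [hn, Ideal.zero_eq_bot, Submodule.mem_bot] at h⟩
    simpa using hnil.isUnit_one_add
  have hstep : ∀ k : ℕ, c - 1 ∈ KT (I ^ (k + 1)) H := by
    intro k
    induction k with
    | zero => simpa using h1
    | succ k ih =>
      have h2 := linear_mem_KT_mul D hD ih
      rw [map_sub] at h2
      have hD1 : D 1 = 0 := by
        simp [D, Algebra.TensorProduct.one_def, avg_tmul, hj.one]
      have hDc : D c = j c • (c - 1) := by
        simp [D, hc.comul_eq_tmul_self, avg_tmul, smul_sub]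
      rw [hD1, sub_zero, hDc, ← pow_succ] at h2
      obtain ⟨v, hv⟩ := hu.exists_left_inv
      have := Submodule.smul_mem _ v h2
      rwa [smul_smul, hv, one_smul] at this
  obtain ⟨n, hn⟩ := hI
  have h0 := hstep n
  rw [show I ^ (n + 1) = ⊥ by rw [pow_succ, hn]; simp, KT_bot, Submodule.mem_bot, sub_eq_zero] at h0
  calc a = a * (antipode R b * b) := by rw [hb.antipode_mul_cancel, mul_one]
    _ = b := by rw [← mul_assoc, show a * antipode R b = 1 from h0, one_mul]

theorem glike_lift_step_flat (hj : IsIntMod I j) {K : Ideal R} (hKI : K ≤ I) {a b : H}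
    (hab : a * b = 1) (h : Coalgebra.comul (R := R) a - a ⊗ₜ[R] a ∈ KT K (H ⊗[R] H)) :
    ∃ a' : H, a' - a ∈ KT K H ∧
      Coalgebra.comul (R := R) a' - a' ⊗ₜ[R] a' ∈ KT (K * I) (H ⊗[R] H) := by
  let g : H ⊗[R] H := Coalgebra.comul (R := R) a * ((1 : H) ⊗ₜ[R] b)
  have hg : g - a ⊗ₜ[R] (1 : H) ∈ KT K (H ⊗[R] H) := by
    have := mul_mem_KT_right ((1 : H) ⊗ₜ[R] b) h
    rwa [sub_mul, Algebra.TensorProduct.tmul_mul_tmul, mul_one, hab] at this
  refine ⟨avg j H g, ?_, ?_⟩
  · have := map_mem_KT (avg j H) hg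
    rwa [map_sub, avg_tmul, hj.one, one_smul] at this
  let As := (Algebra.TensorProduct.assoc R R R H H H).symm.toAlgHom
  let Δ : H →ₐ[R] H ⊗[R] H := Bialgebra.comulAlgHom R H
  let α : H ⊗[R] H →ₐ[R] (H ⊗[R] H) ⊗[R] H := As.comp (Algebra.TensorProduct.map (AlgHom.id R H) Δ)
  let β : H ⊗[R] H →ₐ[R] (H ⊗[R] H) ⊗[R] H := Algebra.TensorProduct.map Δ (AlgHom.id R H)
  let γ : H ⊗[R] H →ₐ[R] (H ⊗[R] H) ⊗[R] H := As.comp Algebra.TensorProduct.includeRight
  have hco : α (Δ a) = β (Δ a) := by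
    show (TensorProduct.assoc R H H H).symm (Coalgebra.comul.lTensor H (Coalgebra.comul (R := R) a)) =
      Coalgebra.comul.rTensor H (Coalgebra.comul (R := R) a)
    rw [← Coalgebra.coassoc_apply, LinearEquiv.symm_apply_apply]
  have hid : β g = α g * γ g := by
    have hb1 : β ((1 : H) ⊗ₜ[R] b) = γ ((1 : H) ⊗ₜ[R] b) := by
      simp [β, γ, As, Δ, Algebra.TensorProduct.one_def]
    have ha1 : α ((1 : H) ⊗ₜ[R] b) * γ (Δ a) = 1 := by
      have : α ((1 : H) ⊗ₜ[R] b) = γ (Δ b) := by simp [α, γ, As]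
      rw [this, ← map_mul, ← map_mul, mul_comm, hab, map_one, map_one]
    show β (Δ a * _) = α (Δ a * _) * γ (Δ a * _)
    rw [map_mul, map_mul, map_mul, hco, hb1, mul_assoc,
      ← mul_assoc (α ((1 : H) ⊗ₜ[R] b)) (γ (Δ a)), ha1, one_mul]
  have hβ : ∀ z, avg j (H ⊗[R] H) (β z) = Δ (avg j H z) := by
    intro z
    induction z using TensorProduct.induction_on with
    | zero => simp
    | tmul x y => simp [β, avg_tmul]
    | add x y hx hy => simp [hx, hy]
  have hγ : ∀ z, avg j (H ⊗[R] H) (γ z) = (1 : H) ⊗ₜ[R] avg j H z := by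
    intro z
    induction z using TensorProduct.induction_on with
    | zero => simp
    | tmul x y => simp [γ, As, avg_tmul]
    | add x y hx hy => simp [hx, hy, TensorProduct.tmul_add]
  -- the defect of invariance
  let D : H ⊗[R] H →ₗ[R] H ⊗[R] H :=
    avg j (H ⊗[R] H) ∘ₗ α.toLinearMap - ((TensorProduct.mk R H H).flip 1) ∘ₗ avg j H
  have hAs : ∀ (x : H) w, avg j (H ⊗[R] H) (As (x ⊗ₜ[R] w)) = x ⊗ₜ[R] avg j H w := by
    intro x w
    induction w using TensorProduct.induction_on with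
    | zero => simp
    | tmul p q => simp [As, avg_tmul]
    | add p q hp hq => simp [TensorProduct.tmul_add, hp, hq]
  have hD : ∀ z, D z ∈ KT I (H ⊗[R] H) := by
    intro z
    induction z using TensorProduct.induction_on with
    | zero => simp
    | tmul x y =>
      have e : D (x ⊗ₜ[R] y) =
          x ⊗ₜ[R] (avg j H (Coalgebra.comul (R := R) y) - j y • (1 : H)) := by
        show avg j (H ⊗[R] H) (As (x ⊗ₜ[R] Coalgebra.comul (R := R) y)) -
            (avg j H (x ⊗ₜ[R] y)) ⊗ₜ[R] (1 : H) = _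
        rw [hAs, avg_tmul, TensorProduct.tmul_sub, TensorProduct.tmul_smul,
          TensorProduct.smul_tmul']
      rw [e]
      exact bilin_mem_KT_right (TensorProduct.mk R H H) x (hj.inv y)
    | add x y hx hy => rw [map_add]; exact add_mem hx hy
  have hDa : D (a ⊗ₜ[R] (1 : H)) = 0 := by
    show avg j (H ⊗[R] H) (As (a ⊗ₜ[R] Coalgebra.comul (R := R) (1 : H))) -
        (avg j H (a ⊗ₜ[R] (1 : H))) ⊗ₜ[R] (1 : H) = 0
    rw [hAs, Bialgebra.comul_one, Algebra.TensorProduct.one_def, avg_tmul, avg_tmul, hj.one,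
      one_smul, one_smul, sub_self]
  have hDg : avg j (H ⊗[R] H) (α g) - avg j H g ⊗ₜ[R] (1 : H) ∈ KT (K * I) (H ⊗[R] H) := by
    have := linear_mem_KT_mul D hD hg
    rw [map_sub, hDa, sub_zero] at this
    exact this
  have hx : α g - (a ⊗ₜ[R] (1 : H)) ⊗ₜ[R] (1 : H) ∈ KT K _ := by
    have := map_mem_KT α.toLinearMap hg
    simp only [AlgHom.toLinearMap_apply, map_sub] at this
    rwa [show α (a ⊗ₜ[R] (1 : H)) = (a ⊗ₜ[R] (1 : H)) ⊗ₜ[R] (1 : H) by
      simp [α, As, Δ, Algebra.TensorProduct.one_def]] at this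
  have hy : γ g - ((1 : H) ⊗ₜ[R] a) ⊗ₜ[R] (1 : H) ∈ KT K _ := by
    have := map_mem_KT γ.toLinearMap hg
    simp only [AlgHom.toLinearMap_apply, map_sub] at this
    rwa [show γ (a ⊗ₜ[R] (1 : H)) = ((1 : H) ⊗ₜ[R] a) ⊗ₜ[R] (1 : H) by simp [γ, As]] at this
  have h3 := KT_mono (Ideal.mul_mono_right hKI) (avg_mul_sub_mem' hj.one hx hy)
  rw [← hid, hβ, hγ] at h3
  have h4 := add_mem h3 (mul_mem_KT_right ((1 : H) ⊗ₜ[R] avg j H g) hDg)
  convert h4 using 1
  rw [sub_mul, Algebra.TensorProduct.tmul_mul_tmul, mul_one, one_mul]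
  simp [Δ]

theorem exists_glike_lift_flat (hj : IsIntMod I j) (hI : IsNilpotent I) {a a₁ : H}
    (hinv : a * a₁ - 1 ∈ KT I H)
    (h : Coalgebra.comul (R := R) a - a ⊗ₜ[R] a ∈ KT I (H ⊗[R] H)) :
    ∃ g : H, IsGroupLikeElem R g ∧ g - a ∈ KT I H := by
  have hnil : ∀ x ∈ I, IsNilpotent x := by
    obtain ⟨n, hn⟩ := hI
    exact fun x hx => ⟨n, by
      have h := Ideal.pow_mem_pow hx n
      rwa [hn, Ideal.zero_eq_bot, Submodule.mem_bot] at h⟩
  have hunit : ∀ c : H, c - a ∈ KT I H → IsUnit c := by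
    intro c hc
    have h1 : c * a₁ - 1 ∈ KT I H := by
      have := add_mem (mul_mem_KT_right a₁ hc) hinv
      rwa [sub_mul, sub_add_sub_cancel] at this
    have h2 := (isNilpotent_of_mem_KT hnil h1).isUnit_one_add
    rw [add_sub_cancel] at h2
    exact isUnit_of_mul_isUnit_left h2
  have hseq : ∀ k : ℕ, ∃ c : H, c - a ∈ KT I H ∧
      Coalgebra.comul (R := R) c - c ⊗ₜ[R] c ∈ KT (I ^ (k + 1)) (H ⊗[R] H) := by
    intro k
    induction k with
    | zero => exact ⟨a, by simp, by simpa using h⟩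
    | succ k ih =>
      obtain ⟨c, hc, hd⟩ := ih
      obtain ⟨b, hb⟩ := isUnit_iff_exists_inv.mp (hunit c hc)
      obtain ⟨c', hc', hd'⟩ := glike_lift_step_flat hj (Ideal.pow_le_self (Nat.succ_ne_zero k)) hb hd
      refine ⟨c', ?_, ?_⟩
      · rw [← sub_add_sub_cancel c' c a]
        exact add_mem (KT_mono (Ideal.pow_le_self (Nat.succ_ne_zero k)) hc') hc
      · rw [pow_succ (n := k + 1)]; exact hd'
  obtain ⟨n, hn⟩ := hI
  obtain ⟨g, hg, hd⟩ := hseq n
  rw [show I ^ (n + 1) = ⊥ by rw [pow_succ, hn]; simp, KT_bot, Submodule.mem_bot, sub_eq_zero] at hd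
  refine ⟨g, ⟨?_, hd⟩, hg⟩
  have h1 := Coalgebra.rTensor_counit_comul (R := R) g
  rw [hd, LinearMap.rTensor_tmul] at h1
  have h2 := congrArg (TensorProduct.lid R H) h1
  simp only [TensorProduct.lid_tmul, one_smul] at h2
  have h3 : algebraMap R H (Coalgebra.counit (R := R) g) = 1 := by
    rw [Algebra.smul_def] at h2
    exact (hunit g hg).mul_eq_right.mp h2
  have h4 := congrArg (Coalgebra.counit (R := R)) h3
  simpa using h4

end Approx

variable {A : Type u} [CommRing A] [HopfAlgebra R A]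

set_option maxHeartbeats 1000000 in
theorem isDiag_of_flat_mod_nilpotent [Module.Flat R A] {I : Ideal R} (hI : IsNilpotent I)
    (h0 : SGA3b.IsDiag (R ⧸ I) ((R ⧸ I) ⊗[R] A)) : SGA3b.IsDiag R A := by
  classical
  obtain ⟨M, _, ⟨e₀⟩⟩ := h0
  have hpre : ∀ m : M, ∃ a : A, (m = 1 → a = 1) ∧
      (1 : R ⧸ I) ⊗ₜ[R] a = e₀.symm (MonoidAlgebra.single m 1) := by
    intro m
    by_cases hm : m = 1
    · refine ⟨1, fun _ => rfl, ?_⟩
      rw [hm, ← MonoidAlgebra.one_def, map_one, Algebra.TensorProduct.one_def]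
    · obtain ⟨a, ha⟩ := one_tmul_surjective (B := A) I (e₀.symm (MonoidAlgebra.single m 1))
      exact ⟨a, fun h => absurd h hm, ha⟩
  choose a ha1 ha using hpre
  -- bijectivity of any family lifting the group
  have hbij : ∀ g : M → A, (∀ m, (1 : R ⧸ I) ⊗ₜ[R] g m = (1 : R ⧸ I) ⊗ₜ[R] a m) →
      Function.Bijective (Finsupp.linearCombination R g) := by
    intro g hg
    refine bijective_of_mod_nilpotent hI _ ?_
    let d := diagBC R (R ⧸ I) M
    let E : (R ⧸ I) ⊗[R] (M →₀ R) ≃ₗ[R] (R ⧸ I) ⊗[R] MonoidAlgebra R M :=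
      (MonoidAlgebra.coeffLinearEquiv R).symm.lTensor (R ⧸ I)
    have h5 : Function.Bijective fun z => e₀.symm (d (E z)) :=
      e₀.symm.bijective.comp (d.bijective.comp E.bijective)
    convert h5
    rename_i z
    induction z using TensorProduct.induction_on with
    | zero => simp
    | add x y hx hy => simp only [map_add, hx, hy]
    | tmul q x =>
      induction x using Finsupp.induction_linear with
      | zero => simp
      | add x y hx hy => simp only [TensorProduct.tmul_add, map_add, hx, hy]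
      | single m r =>
        have h1 : E (q ⊗ₜ[R] Finsupp.single m r) = q ⊗ₜ[R] MonoidAlgebra.single m r := by
          simp [E]
        rw [h1, LinearMap.lTensor_tmul, Finsupp.linearCombination_single]
        have h2 : d (q ⊗ₜ[R] MonoidAlgebra.single m r) =
            (r • q) • MonoidAlgebra.single m (1 : R ⧸ I) := by
          rw [show MonoidAlgebra.single m r = r • MonoidAlgebra.single m (1 : R) by simp,
            ← TensorProduct.smul_tmul]
          simp [d, diagBC_tmul_single]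
        rw [h2, map_smul, ← ha m, ← hg m, TensorProduct.smul_tmul', smul_eq_mul, mul_one,
          TensorProduct.smul_tmul]
  let b : Module.Basis M R A :=
    Module.Basis.ofRepr (LinearEquiv.ofBijective _ (hbij a fun _ => rfl)).symm
  have hb : ∀ m, b m = a m := fun m => by simp [b]
  let j : A →ₗ[R] R := b.coord 1
  have hj1 : j 1 = 1 := by
    show b.coord 1 1 = 1
    rw [show (1 : A) = b 1 by rw [hb, ha1 1 rfl], Module.Basis.coord_apply, Module.Basis.repr_self,
      Finsupp.single_eq_same]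
  have hgl : ∀ m, IsGroupLikeElem (R ⧸ I) ((1 : R ⧸ I) ⊗ₜ[R] a m) := fun m => by
    rw [ha]
    exact (MonoidAlgebra.isGroupLikeElem_single_one (R := R ⧸ I) (A := R ⧸ I) m).map e₀.symm
  have hj : IsIntMod I j := by
    refine ⟨hj1, fun x => ?_⟩
    let D : A →ₗ[R] A := avg j A ∘ₗ Coalgebra.comul - (LinearMap.toSpanSingleton R A 1) ∘ₗ j
    suffices LinearMap.range D ≤ KT I A from this ⟨x, rfl⟩
    rw [LinearMap.range_eq_map, ← b.span_eq, Submodule.map_span, Submodule.span_le]
    rintro _ ⟨_, ⟨m, rfl⟩, rfl⟩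
    have h1 := map_mem_KT (avg j A) (defects_of_glike_mod (hgl m)).2
    rw [map_sub, avg_tmul] at h1
    have h2 : j (a m) • a m = j (a m) • (1 : A) := by
      show b.coord 1 (a m) • a m = b.coord 1 (a m) • (1 : A)
      by_cases hm : m = 1
      · rw [hm, ha1 1 rfl]
      · rw [← hb, Module.Basis.coord_apply, Module.Basis.repr_self,
          Finsupp.single_eq_of_ne (Ne.symm hm), zero_smul, zero_smul]
    rw [h2] at h1
    rw [hb]
    exact h1
  have hlift : ∀ m, ∃ g : A, IsGroupLikeElem R g ∧ (1 : R ⧸ I) ⊗ₜ[R] g = (1 : R ⧸ I) ⊗ₜ[R] a m := by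
    intro m
    have hinv : ∃ a₁ : A, a m * a₁ - 1 ∈ KT I A := by
      obtain ⟨a₁, ha₁⟩ := one_tmul_surjective (B := A) I (antipode (R ⧸ I) ((1 : R ⧸ I) ⊗ₜ[R] a m))
      refine ⟨a₁, sub_mem_KT_iff_one_tmul_eq.mpr ?_⟩
      rw [show (1 : R ⧸ I) ⊗ₜ[R] (a m * a₁) = ((1 : R ⧸ I) ⊗ₜ[R] a m) * ((1 : R ⧸ I) ⊗ₜ[R] a₁) by simp,
        ha₁, (hgl m).mul_antipode_cancel, Algebra.TensorProduct.one_def]
    obtain ⟨a₁, ha₁⟩ := hinv
    obtain ⟨g, hg, hga⟩ := exists_glike_lift_flat hj hI ha₁ (defects_of_glike_mod (hgl m)).2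
    exact ⟨g, hg, sub_mem_KT_iff_one_tmul_eq.mp hga⟩
  choose g hg hge using hlift
  let F : M →* A :=
    { toFun := g
      map_one' := glike_eq_of_flat hj hI (hg 1) IsGroupLikeElem.one
        (sub_mem_KT_iff_one_tmul_eq.mpr (by rw [hge, ha1 1 rfl]))
      map_mul' := fun x y => glike_eq_of_flat hj hI (hg (x * y)) ((hg x).mul (hg y))
        (sub_mem_KT_iff_one_tmul_eq.mpr (by
          rw [hge, show (1 : R ⧸ I) ⊗ₜ[R] (g x * g y) =
            ((1 : R ⧸ I) ⊗ₜ[R] g x) * ((1 : R ⧸ I) ⊗ₜ[R] g y) by simp, hge, hge, ha, ha, ha,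
            ← map_mul, MonoidAlgebra.single_mul_single, one_mul])) }
  let f : MonoidAlgebra R M →ₐ[R] A := MonoidAlgebra.lift R A M F
  let Φ : MonoidAlgebra R M →ₐc[R] A := BialgHom.ofAlgHom f
    (MonoidAlgebra.algHom_ext (fun m => by simp [f, F, (hg m).counit_eq_one]) (by ext))
    (MonoidAlgebra.algHom_ext (fun m => by simp [f, F, (hg m).comul_eq_tmul_self]) (by ext))
  have hΦ : Function.Bijective Φ := by
    have h6 : ∀ x, Φ x = Finsupp.linearCombination R g (MonoidAlgebra.coeffLinearEquiv R x) := by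
      intro x
      induction x using MonoidAlgebra.induction_linear with
      | zero => simp
      | add x y hx hy => simp only [map_add, hx, hy]
      | single m r => simp [Φ, f, F]
    rw [show (Φ : MonoidAlgebra R M → A) = Finsupp.linearCombination R g ∘
        (MonoidAlgebra.coeffLinearEquiv R) from funext h6]
    exact (hbij g hge).comp (LinearEquiv.bijective _)
  exact ⟨M, inferInstance, ⟨(BialgEquiv.ofBijective Φ hΦ).symm⟩⟩

end Groth.Agent.MultTypeLib
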