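import Groth.Agent.Lib.MultType.GlikeHensel
import Groth.Agent.Lib.MultType.QuotLift
import Mathlib.RingTheory.Etale.StandardEtale

/-!
# Group-like elements of a fibre lift to étale neighbourhoods
-/

universe u

open TensorProduct WithConv HopfAlgebra Polynomial

namespace Groth.Agent.MultTypeLib

variable {R : Type u} [CommRing R] {A : Type u} [CommRing A] [HopfAlgebra R A]

/-- Base change of group-like elements along an algebra map. -/
theorem glike_map {T T' : Type u} [CommRing T] [CommRing T'] [Algebra R T] [Algebra R T']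
    (f : T →ₐ[R] T') {y : T ⊗[R] A} (h : IsGroupLikeElem T y) :
    IsGroupLikeElem T' (Algebra.TensorProduct.map f (AlgHom.id R A) y) :=
  (glk_iff T' _).1 (((glk_iff T y).2 h).map f)

theorem map_eq_zero_iff_exists_smul {B L : Type u} [CommRing B] [CommRing L] [Algebra R B]
    [Algebra R L] [Algebra B L] [IsScalarTower R B L] (S : Submonoid B) [IsLocalization S L]
    (X : Type u) [AddCommGroup X] [Module R X] {z : B ⊗[R] X}
    (hz : (IsScalarTower.toAlgHom R B L).toLinearMap.rTensor X z = 0) :
    ∃ t ∈ S, t • z = 0 := by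
  have key : ∀ z : B ⊗[R] X, (IsScalarTower.toAlgHom R B L).toLinearMap.rTensor X z =
      TensorProduct.AlgebraTensorModule.cancelBaseChange R B L L X ((1 : L) ⊗ₜ[B] z) := by
    intro z
    induction z using TensorProduct.induction_on with
    | zero => simp
    | tmul b x => simp [Algebra.smul_def]
    | add a b ha hb => simp only [map_add, TensorProduct.tmul_add, ha, hb]
  rw [key, LinearEquiv.map_eq_zero_iff] at hz
  haveI : IsLocalizedModule S (TensorProduct.mk B L (B ⊗[R] X) 1) :=
    (isLocalizedModule_iff_isBaseChange S L _).2 (TensorProduct.isBaseChange B (B ⊗[R] X) L)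
  obtain ⟨t, ht⟩ := (IsLocalizedModule.eq_zero_iff S (TensorProduct.mk B L (B ⊗[R] X) 1)).1 hz
  exact ⟨t, t.2, ht⟩

theorem exists_smul_eq_map {B L : Type u} [CommRing B] [CommRing L] [Algebra R B]
    [Algebra R L] [Algebra B L] [IsScalarTower R B L] (S : Submonoid B) [IsLocalization S L]
    (X : Type u) [AddCommGroup X] [Module R X] (g : L ⊗[R] X) :
    ∃ t ∈ S, ∃ z : B ⊗[R] X, (IsScalarTower.toAlgHom R B L).toLinearMap.rTensor X z =
      algebraMap B L t • g := by
  induction g using TensorProduct.induction_on with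
  | zero => exact ⟨1, S.one_mem, 0, by simp⟩
  | tmul l x =>
    obtain ⟨⟨b, t⟩, hb⟩ := IsLocalization.surj S l
    refine ⟨t, t.2, b ⊗ₜ[R] x, ?_⟩
    simp [TensorProduct.smul_tmul', ← hb, mul_comm, Algebra.smul_def]
  | add g g' hg hg' =>
    obtain ⟨t, ht, z, hz⟩ := hg
    obtain ⟨t', ht', z', hz'⟩ := hg'
    refine ⟨t * t', S.mul_mem ht ht', t' • z + t • z', ?_⟩
    have hl : ∀ (c : B) (w : B ⊗[R] X), (IsScalarTower.toAlgHom R B L).toLinearMap.rTensor X (c • w) =
        algebraMap B L c • (IsScalarTower.toAlgHom R B L).toLinearMap.rTensor X w := by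
      intro c w
      induction w using TensorProduct.induction_on with
      | zero => simp
      | tmul b y => simp [TensorProduct.smul_tmul', Algebra.smul_def]
      | add p q hp hq => simp only [smul_add, map_add, hp, hq]
    rw [map_add, hl, hl, hz, hz', smul_smul, smul_smul, smul_add, map_mul, mul_comm (algebraMap B L t')]

theorem map_id_smul {T : Type u} [CommRing T] [Algebra R T] {X Y : Type u} [CommRing X] [CommRing Y]
    [Algebra R X] [Algebra R Y] (f : X →ₐ[R] Y) (c : T) (z : T ⊗[R] X) :
    Algebra.TensorProduct.map (AlgHom.id R T) f (c • z) =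
      c • Algebra.TensorProduct.map (AlgHom.id R T) f z := by
  induction z using TensorProduct.induction_on with
  | zero => simp
  | tmul a b => simp [TensorProduct.smul_tmul']
  | add a b ha hb => simp only [smul_add, map_add, ha, hb]

/-- A group-like element at a prime is defined on a basic neighbourhood. -/
theorem exists_glike_away {B : Type u} [CommRing B] [Algebra R B] (q : Ideal B) [q.IsPrime]
    {g : Localization.AtPrime q ⊗[R] A} (hg : IsGroupLikeElem (Localization.AtPrime q) g) :
    ∃ t ∉ q, ∃ g' : Localization.Away t ⊗[R] A, IsGroupLikeElem (Localization.Away t) g' ∧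
      ∀ (K : Type u) [CommRing K] [Algebra R K] (φ : Localization.AtPrime q →ₐ[R] K)
        (ψ : Localization.Away t →ₐ[R] K),
        (∀ b : B, φ (algebraMap B _ b) = ψ (algebraMap B _ b)) →
        Algebra.TensorProduct.map ψ (AlgHom.id R A) g' =
          Algebra.TensorProduct.map φ (AlgHom.id R A) g := by
  let L := Localization.AtPrime q
  let θ : B →ₐ[R] L := IsScalarTower.toAlgHom R B L
  obtain ⟨t₀, ht₀, z, hz⟩ := exists_smul_eq_map (R := R) (L := L) q.primeCompl A g
  have hθ : ∀ {X : Type u} [CommRing X] [Algebra R X] (w : B ⊗[R] X),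
      θ.toLinearMap.rTensor X w = Algebra.TensorProduct.map θ (AlgHom.id R X) w := by
    intro X _ _ w
    induction w using TensorProduct.induction_on with
    | zero => simp
    | tmul a b => simp
    | add a b ha hb => simp only [map_add, ha, hb]
  change θ.toLinearMap.rTensor A z = _ at hz
  rw [hθ] at hz
  have nat : ∀ {T T' : Type u} [CommRing T] [CommRing T'] [Algebra R T] [Algebra R T'] (φ : T →ₐ[R] T')
      {D : Type u} [CommRing D] [Algebra R D] (f : A →ₐ[R] D) (w : T ⊗[R] A),
      Algebra.TensorProduct.map (AlgHom.id R T') f (Algebra.TensorProduct.map φ (AlgHom.id R A) w) =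
        Algebra.TensorProduct.map φ (AlgHom.id R D) (Algebra.TensorProduct.map (AlgHom.id R T) f w) := by
    intro T T' _ _ _ _ φ D _ _ f w
    induction w using TensorProduct.induction_on with
    | zero => simp
    | tmul a b => simp
    | add a b ha hb => simp only [map_add, ha, hb]
  have nsm : ∀ {T T' : Type u} [CommRing T] [CommRing T'] [Algebra R T] [Algebra R T'] (φ : T →ₐ[R] T')
      {D : Type u} [CommRing D] [Algebra R D] (c : T) (w : T ⊗[R] D),
      Algebra.TensorProduct.map φ (AlgHom.id R D) (c • w) =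
        φ c • Algebra.TensorProduct.map φ (AlgHom.id R D) w := by
    intro T T' _ _ _ _ φ D _ _ c w
    induction w using TensorProduct.induction_on with
    | zero => simp
    | tmul a b => simp [TensorProduct.smul_tmul']
    | add a b ha hb => simp only [smul_add, map_add, ha, hb]
  have hgk := (glk_iff L g).2 hg
  obtain ⟨t₁, ht₁, hε⟩ : ∃ t₁ ∈ q.primeCompl, t₁ * (Coalgebra.counit (R := B) z - t₀) = 0 := by
    have : algebraMap B L (Coalgebra.counit (R := B) z - t₀) = 0 := by
      rw [map_sub, show algebraMap B L (Coalgebra.counit (R := B) z) =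
        θ (Coalgebra.counit (R := B) z) from rfl, ← counit_map_natural θ z, hz, map_smul, hgk.1,
        smul_eq_mul, mul_one, sub_self]
    obtain ⟨t, ht⟩ := (IsLocalization.map_eq_zero_iff q.primeCompl L _).1 this
    exact ⟨t, t.2, ht⟩
  obtain ⟨t₂, ht₂, hΔ⟩ : ∃ t₂ ∈ q.primeCompl,
      t₂ • (t₀ • Algebra.TensorProduct.map (AlgHom.id R B) (Bialgebra.comulAlgHom R A) z -
        Algebra.TensorProduct.map (AlgHom.id R B) (Algebra.TensorProduct.includeLeft (S := R)) z *
          Algebra.TensorProduct.map (AlgHom.id R B) Algebra.TensorProduct.includeRight z) = 0 := by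
    refine map_eq_zero_iff_exists_smul (R := R) (L := L) q.primeCompl _ ?_
    show θ.toLinearMap.rTensor _ _ = 0
    rw [hθ, map_sub, nsm, map_mul, ← nat θ, ← nat θ, ← nat θ, hz, map_id_smul, map_id_smul,
      map_id_smul, hgk.2, smul_smul, smul_mul_smul_comm]
    exact sub_self _
  let t := t₀ * t₁ * t₂
  have ht : t ∉ q := q.primeCompl.mul_mem (q.primeCompl.mul_mem ht₀ ht₁) ht₂
  let W := Localization.Away t
  let θ' : B →ₐ[R] W := IsScalarTower.toAlgHom R B W
  have hunit : ∀ c : B, c ∣ t → IsUnit (θ' c) := fun c hc =>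
    isUnit_of_dvd_unit (map_dvd θ' hc) (IsLocalization.Away.algebraMap_isUnit t)
  obtain ⟨w, hw⟩ := hunit t₀ (Dvd.intro (t₁ * t₂) (by ring))
  have hu₁ := hunit t₁ (Dvd.intro (t₀ * t₂) (by ring))
  have hu₂ := hunit t₂ (Dvd.intro (t₀ * t₁) (by ring))
  let g' := (↑w⁻¹ : W) • Algebra.TensorProduct.map θ' (AlgHom.id R A) z
  refine ⟨t, ht, g', (glk_iff W g').1 ⟨?_, ?_⟩, ?_⟩
  · have h1 := congrArg θ' hε
    rw [map_mul, map_zero, hu₁.mul_right_eq_zero, map_sub, sub_eq_zero] at h1
    show Coalgebra.counit (R := W) ((↑w⁻¹ : W) • _) = 1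
    rw [map_smul, counit_map_natural θ' z, h1, ← hw, smul_eq_mul, Units.inv_mul]
  · have h1 := congrArg (Algebra.TensorProduct.map θ' (AlgHom.id R (A ⊗[R] A))) hΔ
    rw [nsm, map_zero, IsUnit.smul_eq_zero hu₂, map_sub, nsm, map_mul, sub_eq_zero] at h1
    show Algebra.TensorProduct.map (AlgHom.id R W) _ g' = _
    simp only [g', map_id_smul, nat θ']
    rw [smul_mul_smul_comm, ← h1, ← hw, smul_smul, mul_assoc, Units.inv_mul, mul_one]
  · intro K _ _ φ ψ hφψ
    have hc : ∀ {D : Type u} [CommRing D] [Algebra R D] (x : B ⊗[R] D),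
        Algebra.TensorProduct.map ψ (AlgHom.id R D) (Algebra.TensorProduct.map θ' (AlgHom.id R D) x) =
        Algebra.TensorProduct.map φ (AlgHom.id R D) (Algebra.TensorProduct.map θ (AlgHom.id R D) x) := by
      intro D _ _ x
      induction x using TensorProduct.induction_on with
      | zero => simp
      | tmul a b =>
        simp only [Algebra.TensorProduct.map_tmul, θ, θ', IsScalarTower.toAlgHom_apply, AlgHom.id_apply]
        exact congrArg (fun y => y ⊗ₜ[R] b) (hφψ a).symm
      | add a b ha hb => simp only [map_add, ha, hb]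
    show Algebra.TensorProduct.map ψ (AlgHom.id R A) ((↑w⁻¹ : W) • _) = _
    rw [nsm, hc, hz, nsm, smul_smul]
    have : ψ ↑w⁻¹ * φ (algebraMap B L t₀) = 1 := by
      rw [hφψ, ← map_mul, show algebraMap B W t₀ = θ' t₀ from rfl, ← hw, Units.inv_mul, map_one]
    rw [this, one_smul]

theorem aeval_convOp_baseChange {S S' : Type u} [CommRing S] [CommRing S'] [Algebra R S] [Algebra R S']
    [Algebra S S'] [IsScalarTower R S S'] {j : A →ₗ[R] R} (hj : IsInt j) {J : S ⊗[R] A →ₗ[S] S}
    (hJ : IsInt J) {J' : S' ⊗[R] A →ₗ[S'] S'} (hJ' : IsInt J') (b : A) (f : S[X]) (x : S ⊗[R] A) :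
    Polynomial.aeval (convOp J' ((1 : S') ⊗ₜ[R] b)) (f.map (algebraMap S S'))
        (Algebra.TensorProduct.map (IsScalarTower.toAlgHom R S S') (AlgHom.id R A) x) =
      Algebra.TensorProduct.map (IsScalarTower.toAlgHom R S S') (AlgHom.id R A)
        (Polynomial.aeval (convOp J ((1 : S) ⊗ₜ[R] b)) f x) := by
  let θ := Algebra.TensorProduct.map (IsScalarTower.toAlgHom R S S') (AlgHom.id R A)
  have hsm : ∀ (c : S) (w : S ⊗[R] A), θ (c • w) = algebraMap S S' c • θ w := by
    intro c w
    induction w using TensorProduct.induction_on with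
    | zero => simp
    | tmul a a' => simp [θ, TensorProduct.smul_tmul', Algebra.smul_def]
    | add p q hp hq => simp only [smul_add, map_add, hp, hq]
  have hstep : ∀ w, convOp J' ((1 : S') ⊗ₜ[R] b) (θ w) = θ (convOp J ((1 : S) ⊗ₜ[R] b) w) := by
    intro w
    induction w using TensorProduct.induction_on with
    | zero => simp
    | add p q hp hq => simp only [map_add, hp, hq]
    | tmul c a =>
      rw [show c ⊗ₜ[R] a = c • ((1 : S) ⊗ₜ[R] a) by rw [TensorProduct.smul_tmul', smul_eq_mul, mul_one],
        hsm, map_smul, map_smul, hsm, ← convOp_baseChange hj hJ]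
      have e1 : ∀ a : A, θ ((1 : S) ⊗ₜ[R] a) = (1 : S') ⊗ₜ[R] a := fun a => by simp [θ]
      rw [e1, e1, ← convOp_baseChange hj hJ']
  show (Polynomial.aeval (convOp J' ((1 : S') ⊗ₜ[R] b)) (f.map (algebraMap S S'))) (θ x) =
    θ ((Polynomial.aeval (convOp J ((1 : S) ⊗ₜ[R] b)) f) x)
  induction f using Polynomial.induction_on generalizing x with
  | C c => simp [hsm]
  | add p q hp hq => simp only [Polynomial.map_add, map_add, LinearMap.add_apply, hp, hq]
  | monomial n c hn =>
    rw [pow_succ, ← mul_assoc, Polynomial.map_mul, Polynomial.map_X, map_mul, map_mul,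
      Polynomial.aeval_X, Polynomial.aeval_X, Module.End.mul_apply, Module.End.mul_apply, hstep, hn]

set_option maxHeartbeats 1000000 in
/-- A group-like element of a fibre lifts to an étale neighbourhood. -/
theorem exists_etale_glike (h : SGA3b.IsMultType R A) (p : Ideal R) [p.IsPrime] {a : A}
    (ha : IsGroupLikeElem p.ResidueField ((1 : p.ResidueField) ⊗ₜ[R] a)) :
    ∃ (R' : Type u) (_ : CommRing R') (_ : Algebra R R') (_ : Algebra.Etale R R')
      (q : Ideal R') (_ : q.IsPrime), q.comap (algebraMap R R') = p ∧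
      ∃ g : R' ⊗[R] A, IsGroupLikeElem R' g ∧
        Algebra.TensorProduct.map (IsScalarTower.toAlgHom R R' q.ResidueField) (AlgHom.id R A) g =
          (1 : q.ResidueField) ⊗ₜ[R] a := by
  classical
  obtain ⟨j, hj⟩ := exists_isInt_of_isMultType h
  let S := Localization.AtPrime p
  let J := (TensorProduct.AlgebraTensorModule.rid R S S).toLinearMap ∘ₗ j.baseChange S
  have hJ : IsInt J := hj.baseChange
  let m := IsLocalRing.maximalIdeal S
  let aS : S ⊗[R] A := (1 : S) ⊗ₜ[R] a
  have haS : IsGroupLikeElem (S ⧸ m) ((1 : S ⧸ m) ⊗ₜ[S] aS) := by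
    have h1 : IsGroupLikeElem (S ⧸ m) ((1 : S ⧸ m) ⊗ₜ[R] a) := ha
    have h2 := h1.map (cancelBC R A S (S ⧸ m)).symm
    have h3 : cancelBC R A S (S ⧸ m) ((1 : S ⧸ m) ⊗ₜ[S] aS) = (1 : S ⧸ m) ⊗ₜ[R] a :=
      (cancelBC_tmul R A S (S ⧸ m) 1 1 a).trans (by rw [one_smul])
    rwa [← h3, BialgEquiv.symm_apply_apply] at h2
  obtain ⟨hε, hΔ⟩ := defects_of_glike_mod haS
  obtain ⟨f, hfm, hfa, hf1, hf1'⟩ := exists_poly_annihilator hJ (isMultType_baseChange S h) hε hΔ
  have hanti : antipode S aS = (1 : S) ⊗ₜ[R] antipode R a := by simp [aS]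
  rw [hanti] at hfa
  -- clear denominators
  have hsurj : ∀ k, ∃ (n : R) (d : p.primeCompl), f.coeff k * algebraMap R S d = algebraMap R S n :=
    fun k => by
      obtain ⟨⟨n, d⟩, h⟩ := IsLocalization.surj p.primeCompl (f.coeff k)
      exact ⟨n, d, h⟩
  choose num den hden using hsurj
  let s : R := ∏ k ∈ Finset.range (f.natDegree + 1), (den k : R)
  have hs : s ∉ p := fun hmem => by
    obtain ⟨k, -, hk⟩ := (Ideal.IsPrime.prod_mem_iff).1 hmem
    exact (den k).2 hk
  let Rs := Localization.Away s
  let ι : Rs →+* S := IsLocalization.Away.lift s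
    (IsLocalization.map_units S (⟨s, hs⟩ : p.primeCompl))
  have hι : ι.comp (algebraMap R Rs) = algebraMap R S := IsLocalization.Away.lift_comp _ _
  have hlift : f ∈ Polynomial.lifts ι := by
    rw [Polynomial.lifts_iff_coeff_lifts]
    intro k
    by_cases hk : k ∈ Finset.range (f.natDegree + 1)
    · have hu : IsUnit (algebraMap R Rs (den k : R)) :=
        isUnit_of_dvd_unit (map_dvd (algebraMap R Rs) (Finset.dvd_prod_of_mem (fun k => (den k : R)) hk))
          (IsLocalization.Away.algebraMap_isUnit (S := Rs) s)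
      obtain ⟨w, hw⟩ := hu
      refine ⟨algebraMap R Rs (num k) * ↑w⁻¹, ?_⟩
      have h1 : ι (algebraMap R Rs (num k) * ↑w⁻¹) * algebraMap R S (den k : R) = algebraMap R S (num k) := by
        rw [← hι, RingHom.comp_apply, RingHom.comp_apply, ← map_mul, ← hw, mul_assoc, Units.inv_mul, mul_one]
      rw [← hden k] at h1
      exact (IsLocalization.map_units S (den k)).mul_right_cancel h1
    · rw [Finset.mem_range, not_lt, Nat.succ_le_iff] at hk
      exact ⟨0, by rw [map_zero, Polynomial.coeff_eq_zero_of_natDegree_lt hk]⟩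
  obtain ⟨F, hFf, -, hFm⟩ := Polynomial.lifts_and_natDegree_eq_and_monic hlift hfm
  let P : StandardEtalePair Rs := ⟨F, hFm, F.derivative, 1, 0, 1, by simp⟩
  let R' := P.Ring
  letI algR : Algebra R R' := ((algebraMap Rs R').comp (algebraMap R Rs)).toAlgebra
  haveI : IsScalarTower R Rs R' := IsScalarTower.of_algebraMap_eq' rfl
  haveI : Algebra.Etale R Rs := Algebra.Etale.of_isLocalizationAway s
  haveI : Algebra.Etale R R' := Algebra.Etale.comp R Rs R'
  let ρ := IsLocalRing.residue S
  letI algK : Algebra Rs p.ResidueField := (ρ.comp ι).toAlgebra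
  have hev : ∀ G : Rs[X], Polynomial.aeval (1 : p.ResidueField) G = ρ ((G.map ι).eval 1) := by
    intro G
    rw [← Polynomial.eval_map_apply, Polynomial.map_map, map_one, Polynomial.eval_map, Polynomial.aeval_def]
    rfl
  have hmap : P.HasMap (1 : p.ResidueField) := by
    refine ⟨?_, ?_⟩
    · show Polynomial.aeval (1 : p.ResidueField) F = 0
      rw [hev, hFf]
      exact (IsLocalRing.residue_eq_zero_iff _).2 hf1
    · show IsUnit (Polynomial.aeval (1 : p.ResidueField) F.derivative)
      rw [hev, ← Polynomial.derivative_map, hFf]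
      refine IsUnit.mk0 _ ?_
      exact fun h0 => hf1' ((IsLocalRing.residue_eq_zero_iff _).1 h0)
  let ψ : R' →ₐ[Rs] p.ResidueField := P.lift 1 hmap
  let q := RingHom.ker ψ
  haveI hq : q.IsPrime := RingHom.ker_isPrime _
  have hqp : q.comap (algebraMap R R') = p := by
    ext r
    show ψ (algebraMap Rs R' (algebraMap R Rs r)) = 0 ↔ r ∈ p
    rw [AlgHom.commutes]
    show ρ ((ι.comp (algebraMap R Rs)) r) = 0 ↔ _
    rw [hι, IsLocalRing.residue_eq_zero_iff, IsLocalization.AtPrime.to_map_mem_maximal_iff S p]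
  let S' := Localization.AtPrime q
  let loc : S →+* S' := Localization.localRingHom p q (algebraMap R R') hqp.symm
  letI : Algebra S S' := loc.toAlgebra
  haveI : IsScalarTower R S S' := IsScalarTower.of_algebraMap_eq fun r => by
    show _ = loc _
    rw [Localization.localRingHom_to_map, IsScalarTower.algebraMap_apply R R' S']
  haveI : IsLocalHom (algebraMap S S') := Localization.isLocalHom_localRingHom _ _ _ _
  let J' := (TensorProduct.AlgebraTensorModule.rid R S' S').toLinearMap ∘ₗ j.baseChange S'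
  have hJ' : IsInt J' := hj.baseChange
  let f' := f.map (algebraMap S S')
  let r : S' := algebraMap R' S' P.X
  have hloc : (algebraMap S S').comp ι = (algebraMap R' S').comp (algebraMap Rs R') := by
    refine IsLocalization.ringHom_ext (Submonoid.powers s) ?_
    rw [RingHom.comp_assoc, hι, RingHom.comp_assoc, ← IsScalarTower.algebraMap_eq R Rs R',
      ← IsScalarTower.algebraMap_eq R R' S', ← IsScalarTower.algebraMap_eq R S S']
  have hroot : f'.IsRoot r := by
    have h0 : Polynomial.eval₂ (algebraMap Rs R') P.X F = 0 := StandardEtalePair.hasMap_X.1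
    show (f.map (algebraMap S S')).eval r = 0
    rw [← hFf, Polynomial.map_map, hloc, Polynomial.eval_map, ← Polynomial.hom_eval₂, h0, map_zero]
  have hr1 : r - 1 ∈ IsLocalRing.maximalIdeal S' := by
    rw [← map_one (algebraMap R' S'), ← map_sub, IsLocalization.AtPrime.to_map_mem_maximal_iff S' q]
    show ψ (P.X - 1) = 0
    rw [map_sub, map_one, P.lift_X, sub_self]
  have hf1s : f'.derivative.eval 1 ∉ IsLocalRing.maximalIdeal S' := by
    rw [← map_one (algebraMap S S'), Polynomial.derivative_map, Polynomial.eval_map_apply,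
      IsLocalRing.mem_maximalIdeal, mem_nonunits_iff, not_not]
    exact IsUnit.map (algebraMap S S') (IsLocalRing.notMem_maximalIdeal.1 hf1')
  let θ := Algebra.TensorProduct.map (IsScalarTower.toAlgHom R S S') (AlgHom.id R A)
  let aS' : S' ⊗[R] A := (1 : S') ⊗ₜ[R] a
  have hθa : θ aS = aS' := by simp [θ, aS, aS']
  have hfa' : Polynomial.aeval (convOp J' (antipode S' aS')) f' aS' = 0 := by
    rw [show antipode S' aS' = (1 : S') ⊗ₜ[R] antipode R a by simp [aS'], ← hθa]
    show (Polynomial.aeval (convOp J' ((1 : S') ⊗ₜ[R] antipode R a)) (f.map (algebraMap S S'))) (θ aS) = 0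
    rw [aeval_convOp_baseChange hj hJ hJ', hfa, map_zero]
  let m' := IsLocalRing.maximalIdeal S'
  have hle : m ≤ m'.comap (algebraMap S S') := fun x hx => by
    rw [Ideal.mem_comap, IsLocalRing.mem_maximalIdeal]
    exact fun hu => (IsLocalRing.mem_maximalIdeal x).1 hx (IsUnit.of_map _ _ hu)
  have haS' : IsGroupLikeElem (S' ⧸ m') ((1 : S' ⧸ m') ⊗ₜ[S'] aS') := by
    let μ : S ⧸ m →ₐ[R] S' ⧸ m' :=
      { Ideal.quotientMap m' (algebraMap S S') hle with
        commutes' := fun x => by
          show Ideal.quotientMap m' (algebraMap S S') hle (Ideal.Quotient.mk m (algebraMap R S x)) = _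
          rw [Ideal.quotientMap_mk, ← IsScalarTower.algebraMap_apply R S S']
          rfl }
    have h1 := glike_map μ (show IsGroupLikeElem (S ⧸ m) ((1 : S ⧸ m) ⊗ₜ[R] a) from ha)
    rw [Algebra.TensorProduct.map_tmul, map_one] at h1
    have h2 := h1.map (cancelBC R A S' (S' ⧸ m')).symm
    have h3 : cancelBC R A S' (S' ⧸ m') ((1 : S' ⧸ m') ⊗ₜ[S'] aS') = (1 : S' ⧸ m') ⊗ₜ[R] a :=
      (cancelBC_tmul R A S' (S' ⧸ m') 1 1 a).trans (by rw [one_smul])
    rwa [AlgHom.id_apply, ← h3, BialgEquiv.symm_apply_apply] at h2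
  obtain ⟨hε', hΔ'⟩ := defects_of_glike_mod haS'
  obtain ⟨g, hg, hga⟩ := exists_glike_of_root hJ' (isMultType_baseChange S' h) hε' hΔ' hfa' hf1s hroot hr1
  obtain ⟨t, ht, g', hg', hnat⟩ := exists_glike_away (R := R) q hg
  let R'' := Localization.Away t
  haveI : Algebra.Etale R R'' := inferInstance
  have hu : ∀ y : Submonoid.powers t, IsUnit (algebraMap R' S' y) := by
    rintro ⟨_, n, rfl⟩
    rw [map_pow]
    exact (IsLocalization.map_units S' (⟨t, ht⟩ : q.primeCompl)).pow n
  let π : R'' →+* S' := IsLocalization.lift hu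
  have hπ : π.comp (algebraMap R' R'') = algebraMap R' S' := IsLocalization.lift_comp _
  let q' : Ideal R'' := (IsLocalRing.maximalIdeal S').comap π
  haveI : q'.IsPrime := Ideal.IsPrime.comap _
  have hq'q : q'.comap (algebraMap R' R'') = q := by
    rw [Ideal.comap_comap, hπ]
    exact Localization.AtPrime.comap_maximalIdeal
  refine ⟨R'', inferInstance, inferInstance, inferInstance, q', inferInstance, ?_, g', hg', ?_⟩
  · rw [IsScalarTower.algebraMap_eq R R' R'', ← Ideal.comap_comap, hq'q, hqp]
  -- compare with the residue field of `S'`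
  let K := q'.ResidueField
  let ℓ : S' →+* K := IsLocalization.lift (M := q.primeCompl)
    (g := (algebraMap R'' K).comp (algebraMap R' R'')) fun y => by
      refine isUnit_iff_ne_zero.2 fun h0 => ?_
      rw [RingHom.comp_apply, Ideal.algebraMap_residueField_eq_zero] at h0
      exact y.2 ((SetLike.ext_iff.1 hq'q _).1 h0)
  let ℓa : S' →ₐ[R] K :=
    { ℓ with
      commutes' := fun x => by
        show ℓ (algebraMap R S' x) = _
        rw [IsScalarTower.algebraMap_apply R R' S', IsLocalization.lift_eq, RingHom.comp_apply,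
          ← IsScalarTower.algebraMap_apply R R' R'', ← IsScalarTower.algebraMap_apply R R'' K] }
  rw [hnat K ℓa (IsScalarTower.toAlgHom R R'' K) fun b => by
    show ℓ (algebraMap R' S' b) = _
    rw [IsLocalization.lift_eq]
    rfl]
  have hkill : ∀ x ∈ m', ℓa x = 0 := fun x hx => by
    obtain ⟨⟨y, s'⟩, hys⟩ := IsLocalization.surj q.primeCompl x
    have hy : y ∈ q := by
      rw [← IsLocalization.AtPrime.to_map_mem_maximal_iff S' q, ← hys]
      exact Ideal.mul_mem_right _ _ hx
    have h1 : ℓ x * ℓ (algebraMap R' S' s') = 0 := by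
      rw [← map_mul, hys, IsLocalization.lift_eq, RingHom.comp_apply,
        Ideal.algebraMap_residueField_eq_zero]
      rw [← hq'q] at hy
      exact hy
    refine (mul_eq_zero.1 h1).resolve_right fun h0 => ?_
    rw [IsLocalization.lift_eq, RingHom.comp_apply, Ideal.algebraMap_residueField_eq_zero] at h0
    exact s'.2 ((SetLike.ext_iff.1 hq'q _).1 h0)
  have h0 : Algebra.TensorProduct.map ℓa (AlgHom.id R A) (g - aS') = 0 := by
    refine Submodule.smul_induction_on hga (fun x hx w _ => ?_) fun y z hy hz => by rw [map_add, hy, hz, add_zero]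
    rw [Algebra.smul_def, map_mul, show algebraMap S' (S' ⊗[R] A) x = x ⊗ₜ[R] (1 : A) from rfl,
      Algebra.TensorProduct.map_tmul, hkill x hx, TensorProduct.zero_tmul, zero_mul]
  rw [map_sub, sub_eq_zero] at h0
  rw [h0]
  simp [aS']

end Groth.Agent.MultTypeLib
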