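import Groth.Agent.Lib.MultType.ConvOp

/-!
# Lifting group-like elements along a simple root
-/

universe u

open TensorProduct WithConv HopfAlgebra Polynomial

namespace Groth.Agent.MultTypeLib

variable {R : Type u} [CommRing R] {A : Type u} [CommRing A] [HopfAlgebra R A]

theorem mem_ideal_of_family {ι : Type u} [Finite ι] (U : ι → Type u) [∀ i, CommRing (U i)]
    [∀ i, Algebra R (U i)] [Module.FaithfullyFlat R (Π i, U i)] {I : Ideal R} {r : R}
    (h : ∀ i, algebraMap R (U i) r ∈ I.map (algebraMap R (U i))) : r ∈ I := by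
  rw [← Ideal.Quotient.eq_zero_iff_mem]
  refine one_tmul_zero_pi U fun i => ?_
  have h2 : (1 : R ⧸ I) ⊗ₜ[R] algebraMap R (U i) r = 0 :=
    mem_KT_iff_one_tmul_eq_zero.1 (mem_KT_iff_mem_map.2 (h i))
  rw [Algebra.algebraMap_eq_smul_one, ← TensorProduct.smul_tmul, ← Algebra.algebraMap_eq_smul_one,
    Ideal.Quotient.algebraMap_eq] at h2
  simpa using congrArg (TensorProduct.comm R (R ⧸ I) (U i)) h2
where
  one_tmul_zero_pi {ι : Type u} [Finite ι] (U : ι → Type u) [∀ i, CommRing (U i)]
      [∀ i, Algebra R (U i)] [Module.FaithfullyFlat R (Π i, U i)] {X : Type u} [AddCommGroup X]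
      [Module R X] {x : X} (h : ∀ i, (1 : U i) ⊗ₜ[R] x = 0) : x = 0 := by
    refine Module.FaithfullyFlat.tensorProduct_mk_injective (A := R) (B := Π i, U i) X ?_
    refine pi_tensor_ext fun i => ?_
    simpa using h i

section Congr

variable {j : A →ₗ[R] R} {a : A} {I : Ideal R}

theorem smul_baseChange_mem {W : Type u} [CommRing W] [Algebra R W] (N : Submodule R A) {w : W}
    (hw : w ∈ I.map (algebraMap R W)) {z : W ⊗[R] A} (hz : z ∈ N.baseChange W) :
    w • z ∈ (I • N).baseChange W := by
  rw [Submodule.baseChange_eq_span] at hz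
  induction hz using Submodule.span_induction with
  | mem z hz =>
    obtain ⟨v, hv, rfl⟩ := hz
    induction hw using Submodule.span_induction with
    | mem w hw =>
      obtain ⟨r, hr, rfl⟩ := hw
      rw [algebraMap_smul]
      show r • ((1 : W) ⊗ₜ[R] v) ∈ _
      rw [← TensorProduct.tmul_smul]
      exact Submodule.tmul_mem_baseChange_of_mem _ (Submodule.smul_mem_smul hr hv)
    | zero => rw [zero_smul]; exact Submodule.zero_mem _
    | add w w' _ _ h h' => rw [add_smul]; exact Submodule.add_mem _ h h'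
    | smul t w _ h => rw [smul_assoc]; exact Submodule.smul_mem _ t h
  | zero => rw [smul_zero]; exact Submodule.zero_mem _
  | add z z' _ _ h h' => rw [smul_add]; exact Submodule.add_mem _ h h'
  | smul t z _ h => rw [smul_comm]; exact Submodule.smul_mem _ t h

theorem convOp_sub_smul_mem (hj : IsInt j) (h : SGA3b.IsMultType R A)
    (hε : Coalgebra.counit (R := R) a - 1 ∈ I)
    (hΔ : Coalgebra.comul (R := R) a - a ⊗ₜ[R] a ∈ KT I (A ⊗[R] A)) (c : A) :
    convOp j c (convOp j (antipode R a) a) - j (c * a) • convOp j (antipode R a) a ∈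
      I • opModule j a := by
  classical
  obtain ⟨ι, _, U, _, _, _, hff, hd⟩ := exists_split_family h
  refine mem_of_family U _ fun i => ?_
  obtain ⟨M, _, ⟨e⟩⟩ := hd i
  obtain ⟨hoff, hdiag, -⟩ := coeff_defects hε hΔ e
  set x := e ((1 : U i) ⊗ₜ[R] a) with hx
  set z := (1 : U i) ⊗ₜ[R] (convOp j c (convOp j (antipode R a) a) - j (c * a) • convOp j (antipode R a) a)
  rw [← e.symm_apply_apply z, ← MonoidAlgebra.sum_coeff_single (e z), map_finsuppSum]
  refine Submodule.sum_mem _ fun m _ => ?_
  have hz : (e z).coeff m =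
      (((e ((1 : U i) ⊗ₜ[R] c)).coeff m⁻¹ - algebraMap R (U i) (j (c * a))) * x.coeff m) * x.coeff m := by
    have h1 : z = (1 : U i) ⊗ₜ[R] convOp j c (convOp j (antipode R a) a) -
        algebraMap R (U i) (j (c * a)) • ((1 : U i) ⊗ₜ[R] convOp j (antipode R a) a) := by
      simp only [z, TensorProduct.tmul_sub, TensorProduct.tmul_smul, algebraMap_smul]
    rw [h1, map_sub, map_smul, MonoidAlgebra.coeff_sub, MonoidAlgebra.coeff_smul, Finsupp.sub_apply,
      Finsupp.smul_apply, smul_eq_mul, convOp_diag hj e, had_coeff, convOp_diag hj e, had_coeff,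
      diag_antipode_coeff e a m]
    ring
  show e.symm (MonoidAlgebra.single m _) ∈ _
  rw [hz, ← smul_eq_mul, ← MonoidAlgebra.smul_single, map_smul]
  refine smul_baseChange_mem _ ?_ (smul_single_mem_opModule hj e a m)
  rw [int_mul_diag hj e, sub_mul, Finsupp.sum, Finset.sum_mul]
  rw [← hx]
  by_cases hm : m ∈ x.coeff.support
  · rw [← Finset.add_sum_erase _ _ hm]
    have e1 : ∀ C X D : U i, C * X - (C * X * X + D) = -(C * (X * X - X) + D) := fun C X D => by ring
    rw [e1]
    refine Submodule.neg_mem _ (Submodule.add_mem _ (Ideal.mul_mem_left _ _ (hdiag m))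
      (Submodule.sum_mem _ fun k hk => ?_))
    rw [mul_assoc]
    exact Ideal.mul_mem_left _ _ (hoff k m (Finset.ne_of_mem_erase hk))
  · have h0 : x.coeff m = 0 := Finsupp.notMem_support_iff.1 hm
    simp [h0]

theorem antipode_int_sub_one_mem (hj : IsInt j) (h : SGA3b.IsMultType R A)
    (hε : Coalgebra.counit (R := R) a - 1 ∈ I)
    (hΔ : Coalgebra.comul (R := R) a - a ⊗ₜ[R] a ∈ KT I (A ⊗[R] A)) :
    j (antipode R a * a) - 1 ∈ I := by
  obtain ⟨ι, _, U, _, _, _, hff, hd⟩ := exists_split_family h
  refine mem_ideal_of_family U fun i => ?_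
  obtain ⟨M, _, ⟨e⟩⟩ := hd i
  obtain ⟨-, hdiag, hsum⟩ := coeff_defects hε hΔ e
  rw [map_sub, map_one, int_mul_diag hj e]
  set x := e ((1 : U i) ⊗ₜ[R] a) with hx
  have : (x.coeff.sum fun m r => (e ((1 : U i) ⊗ₜ[R] antipode R a)).coeff m⁻¹ * r) - 1 =
      (∑ m ∈ x.coeff.support, (x.coeff m * x.coeff m - x.coeff m)) + (x.coeff.sum (fun _ r => r) - 1) := by
    simp only [Finsupp.sum, diag_antipode_coeff, ← hx, Finset.sum_sub_distrib]
    ring
  rw [this]
  exact Submodule.add_mem _ (Submodule.sum_mem _ fun m _ => hdiag m) hsum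

theorem convOp_antipode_sub_mem (hj : IsInt j) (h : SGA3b.IsMultType R A)
    (hε : Coalgebra.counit (R := R) a - 1 ∈ I)
    (hΔ : Coalgebra.comul (R := R) a - a ⊗ₜ[R] a ∈ KT I (A ⊗[R] A)) :
    convOp j (antipode R a) a - a ∈ KT I A := by
  classical
  obtain ⟨ι, _, U, _, _, _, hff, hd⟩ := exists_split_family h
  refine mem_of_family U _ fun i => ?_
  obtain ⟨M, _, ⟨e⟩⟩ := hd i
  obtain ⟨-, hdiag, -⟩ := coeff_defects hε hΔ e
  set z := (1 : U i) ⊗ₜ[R] (convOp j (antipode R a) a - a)
  rw [← e.symm_apply_apply z, ← MonoidAlgebra.sum_coeff_single (e z), map_finsuppSum]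
  refine Submodule.sum_mem _ fun m _ => ?_
  show e.symm (MonoidAlgebra.single m _) ∈ _
  rw [← mul_one ((e z).coeff m), ← smul_eq_mul, ← MonoidAlgebra.smul_single, map_smul]
  refine smul_baseChange_mem (⊤ : Submodule R A) ?_ (by rw [Submodule.baseChange_top]; trivial)
  simp only [z, TensorProduct.tmul_sub, map_sub, MonoidAlgebra.coeff_sub, Finsupp.sub_apply,
    convOp_diag hj e, had_coeff, diag_antipode_coeff]
  exact hdiag m

end Congr

/-- Group-likeness descends along a faithfully flat family. -/
theorem glike_of_family {ι : Type u} [Finite ι] (U : ι → Type u) [∀ i, CommRing (U i)]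
    [∀ i, Algebra R (U i)] [Module.FaithfullyFlat R (Π i, U i)] {g : A}
    (hε : Coalgebra.counit (R := R) g = 1) (h : ∀ i, IsGroupLikeElem (U i) ((1 : U i) ⊗ₜ[R] g)) :
    IsGroupLikeElem R g := by
  refine ⟨hε, ?_⟩
  rw [← sub_eq_zero]
  refine mem_ideal_of_family.one_tmul_zero_pi (R := R) U fun i => ?_
  have h1 := ((glk_iff (U i) _).2 (h i)).2
  simp only [Algebra.TensorProduct.map_tmul, AlgHom.id_apply, Bialgebra.comulAlgHom_apply,
    Algebra.TensorProduct.includeLeft_apply, Algebra.TensorProduct.includeRight_apply,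
    Algebra.TensorProduct.tmul_mul_tmul, mul_one, one_mul] at h1
  rw [TensorProduct.tmul_sub, h1, sub_self]

/-- A common eigenvector with counit one is group-like. -/
theorem glike_of_eigen {j : A →ₗ[R] R} (hj : IsInt j) (h : SGA3b.IsMultType R A) {v : A}
    (hε : Coalgebra.counit (R := R) v = 1) (hv : ∀ c, ∃ μ : R, convOp j c v = μ • v) :
    IsGroupLikeElem R v := by
  classical
  obtain ⟨ι, _, U, _, _, _, hff, hd⟩ := exists_split_family h
  refine glike_of_family U hε fun i => ?_
  obtain ⟨M, _, ⟨e⟩⟩ := hd i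
  set x := e ((1 : U i) ⊗ₜ[R] v) with hx
  have hall : ∀ y : U i ⊗[R] A, ∃ μ : U i, ∀ m, (e y).coeff m⁻¹ * x.coeff m = μ * x.coeff m := by
    intro y
    induction y using TensorProduct.induction_on with
    | zero => exact ⟨0, fun m => by simp⟩
    | add y y' hy hy' =>
      obtain ⟨μ, hμ⟩ := hy
      obtain ⟨μ', hμ'⟩ := hy'
      exact ⟨μ + μ', fun m => by simp [map_add, add_mul, hμ, hμ']⟩
    | tmul t c =>
      obtain ⟨μ, hμ⟩ := hv c
      refine ⟨t * algebraMap R (U i) μ, fun m => ?_⟩
      have h1 := congrArg (fun z => (e ((1 : U i) ⊗ₜ[R] z)).coeff m) hμ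
      simp only [convOp_diag hj e, had_coeff, TensorProduct.tmul_smul] at h1
      rw [← algebraMap_smul (U i) μ, map_smul, MonoidAlgebra.coeff_smul, Finsupp.smul_apply,
        smul_eq_mul] at h1
      rw [show t ⊗ₜ[R] c = t • ((1 : U i) ⊗ₜ[R] c) by rw [TensorProduct.smul_tmul', smul_eq_mul, mul_one],
        map_smul, MonoidAlgebra.coeff_smul, Finsupp.smul_apply, smul_eq_mul, mul_assoc, h1, mul_assoc]
  have horth : ∀ m n, m ≠ n → x.coeff m * x.coeff n = 0 := by
    intro m n hmn
    obtain ⟨μ, hμ⟩ := hall (e.symm (MonoidAlgebra.single m⁻¹ 1))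
    simp only [e.apply_symm_apply, MonoidAlgebra.coeff_single] at hμ
    have hm := hμ m
    have hn := hμ n
    rw [Finsupp.single_eq_same, one_mul] at hm
    rw [Finsupp.single_eq_of_ne (fun h' : n⁻¹ = m⁻¹ => hmn (inv_injective h').symm), zero_mul] at hn
    rw [hm, mul_right_comm, ← hn, zero_mul]
  have hsum : x.coeff.sum (fun _ r => r) = 1 := by
    have h2 : ∀ y : MonoidAlgebra (U i) M, Coalgebra.counit (R := U i) y = y.coeff.sum (fun _ r => r) := by
      intro y
      induction y using MonoidAlgebra.induction_linear with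
      | zero => simp
      | add a b ha hb => simp [map_add, ha, hb, Finsupp.sum_add_index']
      | single k r => simp
    rw [← h2]
    refine (CoalgHomClass.counit_comp_apply e _).trans ?_
    simp [hε]
  have hg : IsGroupLikeElem (U i) x := by
    refine ⟨?_, ?_⟩
    · exact (CoalgHomClass.counit_comp_apply e _).trans (by simp [hε])
    · rw [← MonoidAlgebra.sum_coeff_single x, map_finsuppSum]
      simp only [Finsupp.sum, TensorProduct.sum_tmul, TensorProduct.tmul_sum]
      refine Finset.sum_congr rfl fun m hm => ?_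
      rw [Finset.sum_eq_single m (fun n _ hne => ?_) (fun hnm => absurd hm hnm)]
      · have hidem : x.coeff m = x.coeff m * x.coeff m := by
          conv_lhs => rw [← mul_one (x.coeff m), ← hsum, Finsupp.sum, Finset.mul_sum]
          exact Finset.sum_eq_single m (fun n _ hne => horth m n hne.symm) (fun hnm => absurd hm hnm)
        have hs : MonoidAlgebra.single m (x.coeff m) = x.coeff m • MonoidAlgebra.single m (1 : U i) := by simp
        rw [hs, map_smul,
          (MonoidAlgebra.isGroupLikeElem_single_one (R := U i) (A := U i) m).comul_eq_tmul_self,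
          TensorProduct.smul_tmul_smul, ← hidem]
      · rw [show MonoidAlgebra.single m (x.coeff m) = x.coeff m • MonoidAlgebra.single m (1 : U i) by simp,
          show MonoidAlgebra.single n (x.coeff n) = x.coeff n • MonoidAlgebra.single n (1 : U i) by simp,
          TensorProduct.smul_tmul_smul, mul_comm, horth m n hne.symm, zero_smul]
  have := hg.map e.symm
  rwa [hx, e.symm_apply_apply] at this

section Local

variable [IsLocalRing R]

open IsLocalRing in
/-- The polynomial whose simple root `1` splits off a group-like element. -/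
theorem exists_poly_annihilator {j : A →ₗ[R] R} (hj : IsInt j) (h : SGA3b.IsMultType R A) {a : A}
    (hε : Coalgebra.counit (R := R) a - 1 ∈ maximalIdeal R)
    (hΔ : Coalgebra.comul (R := R) a - a ⊗ₜ[R] a ∈ KT (maximalIdeal R) (A ⊗[R] A)) :
    ∃ f : R[X], f.Monic ∧ Polynomial.aeval (convOp j (antipode R a)) f a = 0 ∧
      f.eval 1 ∈ maximalIdeal R ∧ f.derivative.eval 1 ∉ maximalIdeal R := by
  classical
  let b := antipode R a
  let u := convOp j b a
  let V := opModule j a
  haveI : Module.Finite R V := Module.Finite.iff_fg.2 (opModule_fg hj h a)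
  let P : Module.End R V := (convOp j b).restrict fun x hx => convOp_mem_opModule_of_mem hj h b hx
  let uV : V := ⟨u, convOp_mem_opModule j b a⟩
  have hP : ∀ x : V, P x - j ((antipode R a) * a) • (0 : V) ∈ (Submodule.span R {uV}) ⊔ maximalIdeal R • ⊤ := by
    intro x
    obtain ⟨d, hd⟩ := x.2
    have h1 : (P x : A) = convOp j d u := by
      show convOp j b x.1 = _
      rw [← hd]
      exact convOp_comm hj h b d a
    have h2 := convOp_sub_smul_mem hj h hε hΔ d
    have hmap : maximalIdeal R • V = Submodule.map V.subtype (maximalIdeal R • ⊤) := by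
      rw [Submodule.map_smul'', Submodule.map_top, Submodule.range_subtype]
    rw [hmap] at h2
    obtain ⟨y, hy, hyx⟩ := h2
    rw [smul_zero, sub_zero, show P x = j (d * a) • uV + y from Subtype.ext (by
      show (P x : A) = j (d * a) • u + (y : A)
      rw [show (y : A) = convOp j d u - j (d * a) • u from hyx, h1]; abel)]
    exact Submodule.add_mem_sup (Submodule.smul_mem _ _ (Submodule.mem_span_singleton_self uV)) hy
  simp only [smul_zero, sub_zero] at hP
  have hPuu : P uV - uV ∈ maximalIdeal R • (⊤ : Submodule R V) := by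
    have h2 := convOp_sub_smul_mem hj h hε hΔ b
    have h3 : (j (b * a) - 1) • u ∈ maximalIdeal R • V :=
      Submodule.smul_mem_smul (antipode_int_sub_one_mem hj h hε hΔ) (convOp_mem_opModule j b a)
    have h4 := Submodule.add_mem _ h2 h3
    have hmap : maximalIdeal R • V = Submodule.map V.subtype (maximalIdeal R • ⊤) := by
      rw [Submodule.map_smul'', Submodule.map_top, Submodule.range_subtype]
    rw [hmap] at h4
    obtain ⟨y, hy, hyx⟩ := h4
    rwa [show P uV - uV = y from Subtype.ext (by
      show convOp j b u - u = (y : A)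
      rw [show (y : A) = convOp j b u - j (b * a) • u + (j (b * a) - 1) • u from hyx, sub_smul, one_smul]
      abel)]
  obtain ⟨s, hs⟩ := (Module.Finite.fg_top : (⊤ : Submodule R V).FG)
  let ι := Unit ⊕ {x // x ∈ s}
  let v : ι → V := Sum.elim (fun _ => uV) Subtype.val
  have hv : Submodule.span R (Set.range v) = ⊤ := by
    refine top_le_iff.1 (hs ▸ Submodule.span_mono fun x hx => ⟨Sum.inr ⟨x, hx⟩, rfl⟩)
  have hmV : ∀ y ∈ maximalIdeal R • (⊤ : Submodule R V), ∃ μ : ι → R,
      (∀ i, μ i ∈ maximalIdeal R) ∧ y = ∑ i, μ i • v i := by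
    intro y hy
    refine Submodule.smul_induction_on hy (fun r hr z _ => ?_) fun p q hp hq => ?_
    · have hz : z ∈ Submodule.span R (Set.range v) := by rw [hv]; trivial
      obtain ⟨c, hc⟩ := (Submodule.mem_span_range_iff_exists_fun R).1 hz
      exact ⟨fun i => r * c i, fun i => Ideal.mul_mem_right _ _ hr, by
        rw [← hc, Finset.smul_sum]; simp only [smul_smul]⟩
    · obtain ⟨μ, hμ, rfl⟩ := hp
      obtain ⟨ν, hν, rfl⟩ := hq
      exact ⟨μ + ν, fun i => Submodule.add_mem _ (hμ i) (hν i), by
        simp [add_smul, Finset.sum_add_distrib]⟩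
  have hcol : ∀ k : ι, ∃ c : ι → R, P (v k) = ∑ i, c i • v i ∧
      (∀ i : {x // x ∈ s}, residue R (c (Sum.inr i)) = 0) ∧
      (∀ u' : Unit, k = Sum.inl u' → residue R (c (Sum.inl ())) = 1) := by
    rintro (_ | x)
    · obtain ⟨μ, hμ, hy⟩ := hmV _ hPuu
      refine ⟨μ + Pi.single (Sum.inl ()) 1, ?_, fun i => ?_, fun _ _ => ?_⟩
      · simp only [Pi.add_apply, add_smul, Finset.sum_add_distrib, ← hy]
        simp [Pi.single_apply, ite_smul, v, Fintype.sum_sum_type, ι]
      · simp [(residue_eq_zero_iff _).2 (hμ _)]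
      · simp [(residue_eq_zero_iff _).2 (hμ _)]
    · obtain ⟨w, hw, y, hy, hxy⟩ := Submodule.mem_sup.1 (hP x.1)
      obtain ⟨lam, rfl⟩ := Submodule.mem_span_singleton.1 hw
      obtain ⟨μ, hμ, rfl⟩ := hmV y hy
      refine ⟨μ + Pi.single (Sum.inl ()) lam, ?_, fun i => ?_, fun _ h => by simp at h⟩
      · simp only [Pi.add_apply, add_smul, Finset.sum_add_distrib]
        rw [show P (v (Sum.inr x)) = P x.1 from rfl, ← hxy]
        simp [Pi.single_apply, ite_smul, v, add_comm, Fintype.sum_sum_type, ι]
      · simp [(residue_eq_zero_iff _).2 (hμ _)]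
  choose c hc hc0 hc1 using hcol
  let Mx : Matrix ι ι R := Matrix.of fun i k => c k i
  let π : (ι → R) →ₗ[R] V := Fintype.linearCombination R v
  have hπ : ∀ y, P (π y) = π (Matrix.toLin' Mx y) := by
    intro y
    simp only [π, Fintype.linearCombination_apply, map_sum, map_smul, hc, Matrix.toLin'_apply,
      Matrix.mulVec, dotProduct, Mx, Matrix.of_apply, Finset.smul_sum, smul_smul, Finset.sum_smul]
    rw [Finset.sum_comm]
    simp only [mul_comm]
  have hπp : ∀ (p : R[X]) (y : ι → R),
      Polynomial.aeval P p (π y) = π (Polynomial.aeval (Matrix.toLin' Mx) p y) := by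
    intro p y
    induction p using Polynomial.induction_on generalizing y with
    | C r => simp
    | add p q hp hq => simp [map_add, hp, hq]
    | monomial n r hn =>
      rw [pow_succ, ← mul_assoc, map_mul, map_mul (Polynomial.aeval (Matrix.toLin' Mx)),
        Polynomial.aeval_X, Polynomial.aeval_X, Module.End.mul_apply, Module.End.mul_apply, hπ, hn]
  have hzero : ∀ x : V, Polynomial.aeval P Mx.charpoly x = 0 := by
    intro x
    obtain ⟨y, rfl⟩ : ∃ y, π y = x := by
      have : x ∈ Submodule.span R (Set.range v) := by rw [hv]; trivial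
      obtain ⟨y, hy⟩ := (Submodule.mem_span_range_iff_exists_fun R).1 this
      exact ⟨y, by simpa [π, Fintype.linearCombination_apply] using hy⟩
    have h0 : Polynomial.aeval (Matrix.toLinAlgEquiv' Mx) Mx.charpoly = 0 := by
      rw [Polynomial.aeval_algHom_apply, Matrix.aeval_self_charpoly, map_zero]
    rw [hπp, show Polynomial.aeval (Matrix.toLin' Mx) Mx.charpoly = 0 from h0]
    simp
  have hmap : Mx.charpoly.map (residue R) = (X - 1) * X ^ Fintype.card {x // x ∈ s} := by
    have hM : Mx.map (residue R) = Matrix.fromBlocks (1 : Matrix Unit Unit (ResidueField R))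
        (Matrix.of fun i k => residue R (c (Sum.inr k) (Sum.inl i))) 0 0 := by
      refine Matrix.ext fun i k => ?_
      rcases i with ⟨⟩ | i <;> rcases k with ⟨⟩ | k
      · simp [Mx, hc1 (Sum.inl ()) () rfl]
      · simp [Mx]
      · simp [Mx, hc0]
      · simp [Mx, hc0]
    rw [← Matrix.charpoly_map, hM, Matrix.charpoly_fromBlocks_zero₂₁, Matrix.charpoly_zero,
      Matrix.charpoly_one, Fintype.card_unit, pow_one]
  refine ⟨Mx.charpoly, Mx.charpoly_monic, ?_, ?_, ?_⟩
  · have key : ∀ (p : R[X]) (x : V),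
        ((Polynomial.aeval P p x : V) : A) = Polynomial.aeval (convOp j b) p (x : A) := by
      intro p x
      induction p using Polynomial.induction_on generalizing x with
      | C r => simp
      | add p q hp hq => simp [map_add, hp, hq]
      | monomial n r hn =>
        rw [pow_succ, ← mul_assoc, map_mul, map_mul (Polynomial.aeval (convOp j b)),
          Polynomial.aeval_X, Polynomial.aeval_X]
        exact hn (P x)
    rw [← key Mx.charpoly ⟨a, mem_opModule_self hj h a⟩, hzero]
    rfl
  · rw [← residue_eq_zero_iff, ← Polynomial.eval_map_apply, map_one, hmap]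
    simp
  · intro hmem
    rw [← residue_eq_zero_iff, ← Polynomial.eval_map_apply, map_one, ← Polynomial.derivative_map, hmap] at hmem
    simp [derivative_mul] at hmem

open IsLocalRing in
/-- A simple root of an annihilating polynomial splits off a group-like element. -/
theorem exists_glike_of_root {j : A →ₗ[R] R} (hj : IsInt j) (h : SGA3b.IsMultType R A) {a : A}
    (hε : Coalgebra.counit (R := R) a - 1 ∈ maximalIdeal R)
    (hΔ : Coalgebra.comul (R := R) a - a ⊗ₜ[R] a ∈ KT (maximalIdeal R) (A ⊗[R] A))
    {f : R[X]} (hfa : Polynomial.aeval (convOp j (antipode R a)) f a = 0)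
    (hf1 : f.derivative.eval 1 ∉ maximalIdeal R) {r : R} (hr : f.IsRoot r)
    (hr1 : r - 1 ∈ maximalIdeal R) :
    ∃ g : A, IsGroupLikeElem R g ∧ g - a ∈ KT (maximalIdeal R) A := by
  let b := antipode R a
  let u := convOp j b a
  let V := opModule j a
  let P : Module.End R A := convOp j b
  let h' := f /ₘ (X - C r)
  have hfac : (X - C r) * h' = f := Polynomial.mul_divByMonic_eq_iff_isRoot.2 hr
  let H : Module.End R A := Polynomial.aeval P h'
  let v' := H a
  have hcomm : ∀ (c x : A), convOp j c (H x) = H (convOp j c x) := by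
    intro c x
    show (convOp j c * H) x = (H * convOp j c) x
    have : Commute (convOp j c) P := LinearMap.ext fun z => convOp_comm hj h c b z
    have h2 : Commute (convOp j c) H := by
      have : ∀ p : R[X], Commute (convOp j c) (Polynomial.aeval P p) := fun p => by
        induction p using Polynomial.induction_on with
        | C s => rw [Polynomial.aeval_C]; exact Algebra.commute_algebraMap_right _ _
        | add p q hp hq => rw [map_add]; exact hp.add_right hq
        | monomial n s hn =>
          rw [pow_succ, ← mul_assoc, map_mul, Polynomial.aeval_X]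
          exact hn.mul_right this
      exact this h'
    rw [h2.eq]
  have hPv : convOp j b v' = r • v' := by
    have h1 : Polynomial.aeval P ((X - C r) * h') a = 0 := by rw [hfac]; exact hfa
    rw [map_mul, map_sub, Polynomial.aeval_X, Polynomial.aeval_C] at h1
    exact sub_eq_zero.1 h1
  have hHV : ∀ x ∈ V, H x ∈ V := by
    rintro _ ⟨d, rfl⟩
    show H (convOp j d a) ∈ V
    rw [← hcomm]
    refine convOp_mem_opModule_of_mem hj h d ?_
    suffices ∀ (p : R[X]) (x : A), x ∈ V → Polynomial.aeval P p x ∈ V from this h' a (mem_opModule_self hj h a)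
    intro p x hx
    induction p using Polynomial.induction_on generalizing x with
    | C s => rw [Polynomial.aeval_C, Module.algebraMap_end_apply]; exact V.smul_mem s hx
    | add p q hp hq => rw [map_add]; exact V.add_mem (hp x hx) (hq x hx)
    | monomial n s hn =>
      rw [pow_succ, ← mul_assoc, map_mul, Polynomial.aeval_X]
      exact hn _ (convOp_mem_opModule_of_mem hj h b hx)
  have hr0 : IsUnit r := by
    by_contra hnu
    have h1 := Submodule.sub_mem _ ((mem_maximalIdeal r).2 hnu) hr1
    rw [sub_sub_cancel] at h1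
    exact (maximalIdeal R).ne_top_iff_one.1 (maximalIdeal.isMaximal R).ne_top h1
  obtain ⟨r', hr'⟩ := hr0
  let W := V.map H
  have hW : W ≤ Submodule.span R {v'} := by
    refine Submodule.le_of_le_smul_of_le_jacobson_bot ((opModule_fg hj h a).map H)
      (maximalIdeal_le_jacobson ⊥) ?_
    rintro _ ⟨_, ⟨d, rfl⟩, rfl⟩
    show H (convOp j d a) ∈ _
    have h1 : r • H (convOp j d a) = H (convOp j d u) - j (d * a) • H u + (j (d * a) * r) • v' := by
      have h2 : H u = r • v' := by rw [← hPv]; exact (hcomm b a).symm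
      have h3 : H (convOp j d u) = r • H (convOp j d a) := by
        rw [← hcomm, h2, map_smul, hcomm]
      rw [h3, h2, smul_smul]
      abel
    have h4 : H (convOp j d u) - j (d * a) • H u ∈ maximalIdeal R • W := by
      rw [← map_smul, ← map_sub, ← Submodule.map_smul'']
      exact Submodule.mem_map_of_mem (convOp_sub_smul_mem hj h hε hΔ d)
    have h5 : r • H (convOp j d a) ∈ Submodule.span R {v'} ⊔ maximalIdeal R • W := by
      rw [h1]
      exact Submodule.add_mem _ (Submodule.mem_sup_right h4)
        (Submodule.mem_sup_left (Submodule.smul_mem _ _ (Submodule.mem_span_singleton_self v')))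
    rw [← hr'] at h5
    exact (Submodule.smul_mem_iff_of_isUnit _ r'.isUnit).1 h5
  have hμ : ∀ c, ∃ μ : R, convOp j c v' = μ • v' := fun c => by
    have : convOp j c v' ∈ W := ⟨convOp j c a, convOp_mem_opModule j c a, (hcomm c a).symm⟩
    obtain ⟨μ, hμ⟩ := Submodule.mem_span_singleton.1 (hW this)
    exact ⟨μ, hμ.symm⟩
  -- congruences
  have hua : u - a ∈ KT (maximalIdeal R) A := convOp_antipode_sub_mem hj h hε hΔ
  have hPu : P u - u ∈ KT (maximalIdeal R) A := by
    have h1 := Submodule.smul_mono (le_refl (maximalIdeal R)) (le_top : V ≤ ⊤) (convOp_sub_smul_mem hj h hε hΔ b)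
    have h2 : (j (b * a) - 1) • u ∈ KT (maximalIdeal R) A :=
      Submodule.smul_mem_smul (antipode_int_sub_one_mem hj h hε hΔ) Submodule.mem_top
    have h3 := Submodule.add_mem _ h1 h2
    rw [sub_smul, one_smul, sub_add_sub_cancel] at h3
    exact h3
  obtain ⟨q, hq⟩ := (Polynomial.dvd_iff_isRoot (a := (1 : R)) (p := h' - C (h'.eval 1))).2 (by simp)
  have hHu : H u - h'.eval 1 • u ∈ KT (maximalIdeal R) A := by
    have : Polynomial.aeval P (h' - C (h'.eval 1)) u = Polynomial.aeval P q (P u - u) := by
      rw [hq, mul_comm, map_mul]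
      simp
    rw [map_sub, Polynomial.aeval_C] at this
    simp only [LinearMap.sub_apply, Module.algebraMap_end_apply] at this
    show Polynomial.aeval P h' u - _ ∈ _
    rw [this]
    exact map_mem_KT _ hPu
  have hh1 : h'.eval 1 ∉ maximalIdeal R := by
    intro hmem
    refine hf1 ?_
    rw [← hfac, derivative_mul, eval_add, eval_mul, eval_mul]
    simp only [derivative_sub, derivative_X, derivative_C, sub_zero, eval_one, one_mul, eval_sub, eval_X,
      eval_C]
    refine Submodule.add_mem _ hmem (Ideal.mul_mem_right _ _ ?_)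
    rw [← neg_sub]
    exact Submodule.neg_mem _ hr1
  have hv'u : v' - ((↑r'⁻¹ : R) * h'.eval 1) • u ∈ KT (maximalIdeal R) A := by
    have h1 : H u = r • v' := by rw [← hPv]; exact (hcomm b a).symm
    rw [h1] at hHu
    have h2 := Submodule.smul_mem _ (↑r'⁻¹ : R) hHu
    rw [smul_sub, smul_smul, smul_smul, ← hr', Units.inv_mul, one_smul] at h2
    exact h2
  have hεu : Coalgebra.counit (R := R) u - 1 ∈ maximalIdeal R := by
    have h3 := map_mem_KT (Coalgebra.counit (R := R)) hua
    rw [mem_KT_ring, map_sub] at h3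
    have h4 := Submodule.add_mem _ h3 hε
    rwa [sub_add_sub_cancel] at h4
  set s := (↑r'⁻¹ : R) * h'.eval 1 with hs
  have hεv : Coalgebra.counit (R := R) v' - s ∈ maximalIdeal R := by
    have h3 := map_mem_KT (Coalgebra.counit (R := R)) hv'u
    rw [mem_KT_ring, map_sub, map_smul, smul_eq_mul] at h3
    have h4 := Submodule.add_mem _ h3 (Ideal.mul_mem_left _ s hεu)
    rwa [show Coalgebra.counit (R := R) v' - s * Coalgebra.counit (R := R) u +
      s * (Coalgebra.counit (R := R) u - 1) = Coalgebra.counit (R := R) v' - s by ring] at h4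
  have hεunit : IsUnit (Coalgebra.counit (R := R) v') := by
    by_contra hnu
    have h1 := Submodule.sub_mem _ ((mem_maximalIdeal _).2 hnu) hεv
    rw [sub_sub_cancel, hs, Ideal.unit_mul_mem_iff_mem _ r'⁻¹.isUnit] at h1
    exact hh1 h1
  obtain ⟨ev, hev⟩ := hεunit
  refine ⟨(↑ev⁻¹ : R) • v', glike_of_eigen hj h (by rw [map_smul, smul_eq_mul, ← hev, Units.inv_mul]) ?_, ?_⟩
  · intro c
    obtain ⟨μ, hμc⟩ := hμ c
    exact ⟨μ, by rw [map_smul, hμc, smul_comm]⟩
  · have h1 : (↑ev⁻¹ : R) • v' - a =
        (↑ev⁻¹ : R) • ((v' - s • u) - (Coalgebra.counit (R := R) v' - s) • u) + (u - a) := by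
      rw [sub_sub, ← add_smul, add_sub_cancel, ← hev, smul_sub, smul_smul, Units.inv_mul, one_smul]
      abel
    rw [h1]
    refine Submodule.add_mem _ (Submodule.smul_mem _ _ (Submodule.sub_mem _ hv'u ?_)) hua
    exact Submodule.smul_mem_smul hεv Submodule.mem_top

end Local

end Groth.Agent.MultTypeLib
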