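import Groth.Agent.Lib.MultType.GlikeHensel
import Groth.Agent.Lib.Hens.Pair
import Groth.Agent.Lib.Hens.PairOps
import Mathlib.RingTheory.Idempotents
import Mathlib.RingTheory.Nakayama

/-!
# Group-like elements lift along henselian pairs
-/

universe u

open TensorProduct WithConv HopfAlgebra Polynomial

namespace Groth.Agent.MultTypeLib

variable {R : Type u} [CommRing R] {A : Type u} [CommRing A] [HopfAlgebra R A] {I : Ideal R}

/-- An endomorphism of a finite module that is idempotent modulo `I` lifts to an idempotent along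
a henselian pair. -/
theorem exists_idem_lift (H : HenselianRing R I) {V : Type u} [AddCommGroup V] [Module R V]
    [Module.Finite R V] (P : Module.End R V)
    (hP : ∀ x : V, P (P x) - P x ∈ I • (⊤ : Submodule R V)) :
    ∃ e : Module.End R V, IsIdempotentElem e ∧ (∀ f : Module.End R V, Commute f P → Commute f e) ∧
      ∀ x, e x - P x ∈ I • (⊤ : Submodule R V) := by
  obtain ⟨f, hf, hf0⟩ := LinearMap.exists_monic_and_aeval_eq_zero R P
  let φ : R[X] →ₐ[R] Module.End R V := Polynomial.aeval P
  let B := R[X] ⧸ RingHom.ker φ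
  have : Module.Finite R (R[X] ⧸ Ideal.span {f}) := hf.finite_quotient
  have hle : Ideal.span {f} ≤ RingHom.ker φ := by
    rw [Ideal.span_le, Set.singleton_subset_iff]
    exact hf0
  have : Module.Finite R B := Module.Finite.of_surjective
    (Ideal.Quotient.factorₐ R hle).toLinearMap (Ideal.Quotient.factor_surjective hle)
  have : Algebra.IsIntegral R B := Algebra.IsIntegral.of_finite R B
  let χ : B →ₐ[R] Module.End R V := Ideal.Quotient.liftₐ (RingHom.ker φ) φ fun _ h => h
  have hχmk : ∀ g, χ (Ideal.Quotient.mk _ g) = φ g := fun g => rfl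
  have hχinj : Function.Injective χ := by
    refine (injective_iff_map_eq_zero χ).2 fun b hb => ?_
    obtain ⟨g, rfl⟩ := Ideal.Quotient.mk_surjective b
    exact Ideal.Quotient.eq_zero_iff_mem.2 hb
  let IB := I.map (algebraMap R B)
  let N : Ideal B :=
    { carrier := {b | ∀ v, χ b v ∈ I • (⊤ : Submodule R V)}
      add_mem' := fun ha hb v => by
        rw [map_add, LinearMap.add_apply]; exact add_mem (ha v) (hb v)
      zero_mem' := fun v => by rw [map_zero, LinearMap.zero_apply]; exact zero_mem _
      smul_mem' := fun c b hb v => by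
        rw [smul_eq_mul, map_mul, Module.End.mul_apply]
        have h1 := Submodule.mem_map_of_mem (f := χ c) (hb v)
        rw [Submodule.map_smul''] at h1
        exact Submodule.smul_mono le_rfl le_top h1 }
  have hNrad : N ≤ IB.radical := by
    intro b hb
    obtain ⟨p, hp, -, hpI, hp0⟩ :=
      LinearMap.exists_monic_and_natDegree_eq_and_coeff_mem_pow_and_aeval_eq_zero
        R (χ b) I (by rintro _ ⟨v, rfl⟩; exact hb v)
    refine ⟨p.natDegree, ?_⟩
    have h1 : aeval b p = 0 := hχinj (by rw [← aeval_algHom_apply, hp0, map_zero])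
    rw [aeval_eq_sum_range, Finset.sum_range_succ, hp.coeff_natDegree, one_smul] at h1
    rw [eq_neg_of_add_eq_zero_right h1]
    refine IB.neg_mem (IB.sum_mem fun i hi => ?_)
    rw [Algebra.smul_def]
    refine IB.mul_mem_right _ (Ideal.mem_map_of_mem _ ?_)
    exact Ideal.pow_le_self (by have := Finset.mem_range.1 hi; omega) (hpI i)
  let x : B := Ideal.Quotient.mk _ Polynomial.X
  have hxP : χ x = P := by rw [hχmk]; exact aeval_X P
  have hxN : x * x - x ∈ N := fun v => by
    rw [map_sub, map_mul, hxP, LinearMap.sub_apply, Module.End.mul_apply]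
    exact hP v
  obtain ⟨e, he, hex⟩ := Hens.exists_idempotent_lift (A := B) (B := B)
    (Hens.henselianRing_radical (Hens.henselianRing_of_isIntegral (B := B) H)) x
    (by rw [Algebra.algebraMap_self, Ideal.map_id]; exact hNrad hxN)
  rw [Algebra.algebraMap_self, Ideal.map_id] at hex
  refine ⟨χ e, he.map χ, fun g hg => ?_, ?_⟩
  · obtain ⟨q, rfl⟩ := Ideal.Quotient.mk_surjective e
    rw [hχmk]
    clear he hex
    induction q using Polynomial.induction_on' with
    | add p q hp hq =>
      rw [map_add]
      exact Commute.add_right hp hq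
    | monomial n r =>
      rw [aeval_monomial]
      exact Commute.mul_right (Algebra.commute_algebraMap_right r g) (hg.pow_right n)
  · have hIN : IB ≤ N := Ideal.map_le_iff_le_comap.2 fun r hr v => by
      rw [AlgHom.commutes, Module.algebraMap_end_apply]
      exact Submodule.smul_mem_smul hr trivial
    have h1 : Ideal.Quotient.mk N e = Ideal.Quotient.mk N x := by
      refine eq_of_isNilpotent_sub_of_isIdempotentElem (he.map (Ideal.Quotient.mk N)) ?_ ?_
      · show _ * _ = _
        rw [← map_mul]
        exact Ideal.Quotient.eq.2 hxN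
      · obtain ⟨n, hn⟩ := hex
        exact ⟨n, by rw [← map_sub, ← map_pow]; exact Ideal.Quotient.eq_zero_iff_mem.2 (hIN hn)⟩
    intro v
    have h2 := (Ideal.Quotient.eq.1 h1 : e - x ∈ N) v
    rwa [map_sub, LinearMap.sub_apply, hxP] at h2

/-- A group-like element modulo `I` lifts along a henselian pair. -/
theorem exists_glike_of_henselian (H : HenselianRing R I) {j : A →ₗ[R] R} (hj : IsInt j)
    (h : SGA3b.IsMultType R A) {a : A} (hε : Coalgebra.counit (R := R) a - 1 ∈ I)
    (hΔ : Coalgebra.comul (R := R) a - a ⊗ₜ[R] a ∈ KT I (A ⊗[R] A)) :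
    ∃ g : A, IsGroupLikeElem R g ∧ g - a ∈ KT I A := by
  let V := opModule j a
  have : Module.Finite R V := Module.Finite.iff_fg.2 (opModule_fg hj h a)
  let L : A → Module.End R V := fun b =>
    (convOp j b).restrict fun x hx => convOp_mem_opModule_of_mem hj h b hx
  have hcomm : ∀ b c, Commute (L b) (L c) := fun b c =>
    LinearMap.ext fun x => Subtype.ext (convOp_comm hj h b c x)
  have hI : ∀ x : A, x ∈ I • V → ∀ hx : x ∈ V, (⟨x, hx⟩ : V) ∈ I • (⊤ : Submodule R V) := by
    intro x hx hxV
    exact (Submodule.mem_smul_top_iff I V ⟨x, hxV⟩).2 hx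
  let a' : V := ⟨a, mem_opModule_self hj h a⟩
  let P := L (antipode R a)
  let u := P a'
  have hgen : ∀ x : V, ∃ c, x = L c a' := fun x => by
    obtain ⟨c, hc⟩ := x.2
    exact ⟨c, Subtype.ext hc.symm⟩
  have hu : ∀ c, L c u - j (c * a) • u ∈ I • (⊤ : Submodule R V) := fun c =>
    hI _ (convOp_sub_smul_mem hj h hε hΔ c) _
  have hPu : P u - u ∈ I • (⊤ : Submodule R V) := by
    have h1 : P u - u = (P u - j (antipode R a * a) • u) + (j (antipode R a * a) - 1) • u := by
      module
    rw [h1]
    exact add_mem (hu _) (Submodule.smul_mem_smul (antipode_int_sub_one_mem hj h hε hΔ) trivial)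
  have hLI : ∀ (T : Module.End R V) (y : V), y ∈ I • (⊤ : Submodule R V) →
      T y ∈ I • (⊤ : Submodule R V) := fun T y hy => by
    have := Submodule.mem_map_of_mem (f := T) hy
    rw [Submodule.map_smul''] at this
    exact Submodule.smul_mono le_rfl le_top this
  have hP : ∀ x : V, P (P x) - P x ∈ I • (⊤ : Submodule R V) := by
    intro x
    obtain ⟨c, rfl⟩ := hgen x
    have e1 : ∀ y, P (L c y) = L c (P y) := fun y => LinearMap.congr_fun (hcomm (antipode R a) c).eq y
    rw [e1, e1, ← map_sub]
    exact hLI _ _ hPu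
  obtain ⟨e, he, hecomm, heP⟩ := exists_idem_lift H P hP
  have hLe : ∀ b y, L b (e y) = e (L b y) := fun b y =>
    LinearMap.congr_fun (hecomm (L b) (hcomm b _)).eq y
  have hee : ∀ y, e (e y) = e y := fun y => LinearMap.congr_fun he.eq y
  let v := e u
  have hspan : LinearMap.range e ≤ Submodule.span R {v} := by
    refine Submodule.le_of_le_smul_of_le_jacobson_bot ((Module.Finite.fg_top (R := R) (M := V)).map e
      |> fun h => by rwa [Submodule.map_top] at h) H.jac ?_
    rintro _ ⟨x, rfl⟩
    obtain ⟨c, rfl⟩ := hgen x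
    have h1 : e (L c a') - j (c * a) • u ∈ I • (⊤ : Submodule R V) := by
      have h2 : P (L c a') = L c u := LinearMap.congr_fun (hcomm (antipode R a) c).eq a'
      have := add_mem (heP (L c a')) (hu c)
      rwa [h2, sub_add_sub_cancel] at this
    have h3 := Submodule.mem_map_of_mem (f := e) h1
    rw [Submodule.map_smul'', Submodule.map_top, map_sub, hee, map_smul] at h3
    rw [← add_sub_cancel (j (c * a) • v) (e (L c a'))]
    exact Submodule.add_mem_sup (Submodule.smul_mem _ _ (Submodule.mem_span_singleton_self v)) h3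
  have hKT : (v : A) - a ∈ KT I A := by
    have hVle : ∀ y : V, y ∈ I • (⊤ : Submodule R V) → (y : A) ∈ KT I A := fun y hy => by
      have := (Submodule.mem_smul_top_iff I V y).1 hy
      exact Submodule.smul_mono le_rfl le_top this
    have h1 := hVle _ (add_mem (heP u) hPu)
    rw [sub_add_sub_cancel] at h1
    have h2 : (u : A) - a ∈ KT I A := convOp_antipode_sub_mem hj h hε hΔ
    have h3 := add_mem h1 h2
    rwa [Submodule.coe_sub, sub_add_sub_cancel] at h3
  have hεv : Coalgebra.counit (R := R) (v : A) - 1 ∈ I := by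
    have := map_mem_KT (Coalgebra.counit (R := R) (A := A)) hKT
    rw [map_sub, mem_KT_ring] at this
    simpa using add_mem this hε
  have hunit : IsUnit (Coalgebra.counit (R := R) (v : A)) :=
    Hens.isUnit_of_isUnit_mk H.jac (by rw [Ideal.Quotient.eq.2 hεv, map_one]; exact isUnit_one)
  obtain ⟨w, hw⟩ := hunit.exists_left_inv
  refine ⟨w • (v : A), glike_of_eigen hj h (by rw [map_smul, smul_eq_mul, hw]) fun c => ?_, ?_⟩
  · obtain ⟨μ, hμ⟩ := Submodule.mem_span_singleton.1
      (hspan (⟨L c u, (hLe c u).symm⟩ : L c v ∈ LinearMap.range e))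
    refine ⟨μ, ?_⟩
    have : convOp j c (v : A) = μ • (v : A) := (congrArg Subtype.val hμ.symm : _)
    rw [map_smul, this, smul_comm]
  · have h1 : w • (v : A) - a = (w - 1) • (v : A) + ((v : A) - a) := by rw [sub_smul, one_smul]; abel
    rw [h1]
    refine add_mem (Submodule.smul_mem_smul ?_ trivial) hKT
    have h2 : w - 1 = -(w * (Coalgebra.counit (R := R) (v : A) - 1)) := by rw [mul_sub, hw]; ring
    rw [h2]
    exact I.neg_mem (I.mul_mem_left _ hεv)

end Groth.Agent.MultTypeLib
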