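import Groth.Agent.Lib.MultType.Descent
import Groth.Agent.Lib.MultType.Split
import Groth.Agent.Lib.MultType.QuotLift

/-!
# Diagonalisations descend to a finite stage
-/

universe u

open TensorProduct

namespace Groth.Agent.MultTypeLib

/-- A map out of a finitely presented algebra into a localization factors through the
localization at one element. -/
theorem exists_lift_localization {S A Y L : Type u} [CommRing S] [CommRing A] [Algebra S A]
    [Algebra.FinitePresentation S A] [CommRing Y] [Algebra S Y] [CommRing L] [Algebra S L]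
    [Algebra Y L] [IsScalarTower S Y L] (N : Submonoid Y) [IsLocalization N L] (φ : A →ₐ[S] L) :
    ∃ t ∈ N, ∃ (θ : Localization.Away t →ₐ[Y] L) (ψ : A →ₐ[S] Localization.Away t),
      ∀ a, θ (ψ a) = φ a := by
  classical
  obtain ⟨n, π, hπ, s, hs⟩ := Algebra.FinitePresentation.out (R := S) (A := A)
  choose ym hym using fun i : Fin n => IsLocalization.surj N (φ (π (MvPolynomial.X i)))
  let t₁ : N := ∏ i, (ym i).2
  have mkθ : ∀ {t : Y}, t ∈ N → ∃ θ : Localization.Away t →ₐ[Y] L, True := fun {t} ht =>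
    ⟨{ IsLocalization.Away.lift (S := Localization.Away t) t (g := algebraMap Y L)
          (IsLocalization.map_units L ⟨t, ht⟩) with
        commutes' := fun y => IsLocalization.Away.lift_eq t _ y }, trivial⟩
  obtain ⟨θ₁, -⟩ := mkθ t₁.2
  let L₁ := Localization.Away (t₁ : Y)
  have hu : ∀ i, IsUnit (algebraMap Y L₁ ((ym i).2 : Y)) := fun i =>
    isUnit_of_dvd_unit (map_dvd _ (by
      simp only [t₁, Submonoid.coe_finset_prod]
      exact Finset.dvd_prod_of_mem (fun i => ((ym i).2 : Y)) (Finset.mem_univ i)))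
      (IsLocalization.Away.algebraMap_isUnit (t₁ : Y))
  let v : Fin n → L₁ := fun i => algebraMap Y L₁ (ym i).1 * ↑(hu i).unit⁻¹
  have hv : ∀ i, θ₁ (v i) = φ (π (MvPolynomial.X i)) := fun i => by
    refine (IsLocalization.map_units L (ym i).2).mul_right_cancel ?_
    rw [hym i, ← θ₁.commutes, ← map_mul]
    conv_rhs => rw [← θ₁.commutes]
    congr 1
    rw [mul_assoc, IsUnit.val_inv_mul, mul_one]
  have hev : (θ₁.restrictScalars S).comp (MvPolynomial.aeval v) = φ.comp π :=
    MvPolynomial.algHom_ext fun i => by simp [hv]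
  have hrel : ∀ r ∈ s, ∃ c ∈ N, algebraMap Y L₁ c * MvPolynomial.aeval v r = 0 := fun r hr => by
    obtain ⟨⟨y, d⟩, hy⟩ := IsLocalization.surj (Submonoid.powers (t₁ : Y)) (MvPolynomial.aeval v r)
    have h0 : π r = 0 := (hs.symm ▸ Ideal.subset_span hr : r ∈ RingHom.ker π.toRingHom)
    have h1 : algebraMap Y L y = algebraMap Y L 0 := by
      have h2 := congrArg θ₁ hy
      rw [map_mul, θ₁.commutes, θ₁.commutes] at h2
      have h3 := AlgHom.congr_fun hev r
      rw [AlgHom.comp_apply, AlgHom.comp_apply, AlgHom.restrictScalars_apply, h0, map_zero] at h3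
      rw [← h2, h3, zero_mul, map_zero]
    obtain ⟨c, hc⟩ := (IsLocalization.eq_iff_exists N L).1 h1
    refine ⟨c, c.2, ?_⟩
    refine (IsLocalization.map_units L₁ d).mul_left_eq_zero.1 ?_
    rw [mul_assoc, hy, ← map_mul, hc, mul_zero, map_zero]
  choose c hcN hc using hrel
  let t₂ : Y := (t₁ : Y) * ∏ r ∈ s.attach, c r.1 r.2
  have ht₂ : t₂ ∈ N := N.mul_mem t₁.2 (Submonoid.prod_mem _ fun r _ => hcN _ _)
  obtain ⟨θ₂, -⟩ := mkθ ht₂
  let L₂ := Localization.Away t₂
  let ρ : L₁ →ₐ[Y] L₂ :=
    { IsLocalization.Away.lift (S := L₁) (t₁ : Y) (g := algebraMap Y L₂)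
        (isUnit_of_dvd_unit (map_dvd _ (Dvd.intro _ rfl)) (IsLocalization.Away.algebraMap_isUnit t₂)) with
      commutes' := fun y => IsLocalization.Away.lift_eq (t₁ : Y) _ y }
  have hρ : θ₂.comp ρ = θ₁ :=
    IsLocalization.algHom_ext (Submonoid.powers (t₁ : Y)) (by ext)
  have hker : RingHom.ker π.toRingHom ≤
      RingHom.ker ((ρ.restrictScalars S).comp (MvPolynomial.aeval v)).toRingHom := by
    rw [← hs, Ideal.span_le]
    intro r hr
    show ρ (MvPolynomial.aeval v r) = 0
    have h1 := congrArg ρ (hc r hr)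
    rw [map_mul, ρ.commutes, map_zero] at h1
    have hu' : IsUnit (algebraMap Y L₂ (c r hr)) := by
      refine isUnit_of_dvd_unit (map_dvd _ ?_) (IsLocalization.Away.algebraMap_isUnit t₂)
      exact dvd_mul_of_dvd_right
        (Finset.dvd_prod_of_mem (fun r : {x // x ∈ s} => c r.1 r.2) (Finset.mem_attach s ⟨r, hr⟩)) _
    exact hu'.mul_right_eq_zero.1 h1
  refine ⟨t₂, ht₂, θ₂, AlgHom.liftOfSurjective π hπ _ hker, fun a => ?_⟩
  obtain ⟨q, rfl⟩ := hπ a
  rw [AlgHom.liftOfSurjective_apply]
  show θ₂ (ρ (MvPolynomial.aeval v q)) = φ (π q)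
  rw [← AlgHom.comp_apply θ₂ ρ, hρ]
  exact AlgHom.congr_fun hev q

section Stage

variable {B : Type u} [CommRing B] {R : Type u} [CommRing R] [Algebra B R]

theorem subVal_smul {Y : Type u} [CommRing Y] [Algebra B Y] (A : Subalgebra B R) (a : A)
    (z : A ⊗[B] Y) : subVal Y A (a • z) = (a : R) • subVal Y A z := by
  induction z using TensorProduct.induction_on with
  | zero => simp
  | add x y hx hy => simp only [smul_add, map_add, hx, hy]
  | tmul x y => simp [subVal, TensorProduct.smul_tmul']

theorem subPush_smul {Y : Type u} [CommRing Y] [Algebra B Y] {A A' : Subalgebra B R} (h : A ≤ A') (a : A)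
    (z : A ⊗[B] Y) : subPush Y h (a • z) = Subalgebra.inclusion h a • subPush Y h z := by
  induction z using TensorProduct.induction_on with
  | zero => simp
  | add x y hx hy => simp only [smul_add, map_add, hx, hy]
  | tmul x y => simp [subPush, TensorProduct.smul_tmul']

/-- Maps which agree at the limit agree at a finite stage. -/
theorem exists_stage_agree {X Y : Type u} [CommRing X] [Algebra B X] [CommRing Y] [Algebra B Y]
    [Algebra.FiniteType B X] {A : Subalgebra B R} (hA : A.FG) (f g : X →ₐ[B] A ⊗[B] Y)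
    (h : ∀ x, subVal Y A (f x) = subVal Y A (g x)) :
    ∃ (A' : Subalgebra B R) (hle : A ≤ A'), A'.FG ∧ ∀ x, subPush Y hle (f x) = subPush Y hle (g x) := by
  classical
  obtain ⟨s, hs⟩ := (inferInstance : Algebra.FiniteType B X).out
  have key : ∀ x ∈ s, ∃ (T : Subalgebra B R) (hT : A ≤ T), T.FG ∧ subPush Y hT (f x - g x) = 0 :=
    fun x _ => exists_stage_zero hA (by rw [map_sub, h, sub_self])
  choose T hAT hT hT0 using key
  refine ⟨A ⊔ s.attach.sup fun x => T x.1 x.2, le_sup_left,
    hA.sup (Finset.sup_induction Subalgebra.fg_bot (fun a ha b hb => ha.sup hb) fun i _ => hT _ _),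
    fun x => ?_⟩
  have hx : x ∈ AlgHom.equalizer
      ((subPush Y (le_sup_left : A ≤ A ⊔ s.attach.sup fun x => T x.1 x.2)).comp f)
      ((subPush Y (le_sup_left : A ≤ A ⊔ s.attach.sup fun x => T x.1 x.2)).comp g) := by
    refine (Algebra.adjoin_le fun y hy => ?_) (hs.symm ▸ Algebra.mem_top : x ∈ Algebra.adjoin B (s : Set X))
    have hle : T y hy ≤ A ⊔ s.attach.sup fun x => T x.1 x.2 :=
      (Finset.le_sup (f := fun x : {z // z ∈ s} => T x.1 x.2) (Finset.mem_attach s ⟨y, hy⟩)).trans
        le_sup_right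
    show subPush Y (le_sup_left : A ≤ A ⊔ s.attach.sup fun x => T x.1 x.2) (f y) =
      subPush Y (le_sup_left : A ≤ A ⊔ s.attach.sup fun x => T x.1 x.2) (g y)
    rw [← subPush_subPush Y (hAT y hy) hle, ← subPush_subPush Y (hAT y hy) hle, ← sub_eq_zero,
      ← map_sub, ← map_sub, hT0, map_zero]
  exact hx

end Stage

section Group

variable {A R : Type u} [CommRing A] [CommRing R] [Algebra A R] {M : Type u} [CommGroup M]

/-- The extension of coefficients of a group algebra. -/
noncomputable def coefHom : MonoidAlgebra A M →ₐ[A] MonoidAlgebra R M :=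
  ((MonoidAlgebra.scalarTensorEquiv A R (M := M)).toAlgHom.restrictScalars A).comp
    Algebra.TensorProduct.includeRight

theorem coefHom_single (m : M) (a : A) :
    coefHom (R := R) (MonoidAlgebra.single m a) = MonoidAlgebra.single m (algebraMap A R a) := by
  simp [coefHom, MonoidAlgebra.scalarTensorEquiv_tmul, Algebra.smul_def]

/-- The extension of coefficients of a pair of group algebras. -/
noncomputable def coefPair :
    MonoidAlgebra A M ⊗[A] MonoidAlgebra A M →ₐ[A] MonoidAlgebra R M ⊗[R] MonoidAlgebra R M :=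
  pairMap (R₀ := A) (R := R) (X := MonoidAlgebra A M) (Y := MonoidAlgebra A M) (C' := MonoidAlgebra R M)
    (D' := MonoidAlgebra R M) coefHom coefHom

theorem coefPair_tmul (x y : MonoidAlgebra A M) :
    coefPair (A := A) (R := R) (M := M) (x ⊗ₜ[A] y) = coefHom (R := R) x ⊗ₜ[R] coefHom (R := R) y :=
  pairMap_tmul _ _ _ _

theorem coefHom_pair_injective (hinj : Function.Injective (algebraMap A R)) :
    Function.Injective (coefPair (A := A) (R := R) (M := M)) := by
  have hbij : Function.Bijective (bcLift (R := R) (coefHom (A := A) (R := R) (M := M))) := by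
    rw [show bcLift (R := R) (coefHom (A := A) (R := R) (M := M)) =
      (MonoidAlgebra.scalarTensorEquiv A R (M := M)).toAlgHom from
      comul_algHom_ext fun a => by rw [bcLift_one_tmul]; rfl]
    exact (MonoidAlgebra.scalarTensorEquiv A R (M := M)).bijective
  intro x y h
  have h1 := ext_of_bijective (bijective_pairMap _ _ hbij hbij) h
  let F := MonoidAlgebra A M ⊗[A] MonoidAlgebra A M
  have hone : ∀ z : F, (1 : R) ⊗ₜ[A] z =
      (Algebra.linearMap A R).rTensor F ((1 : A) ⊗ₜ[A] z) := fun z => by simp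
  rw [hone, hone] at h1
  have h2 := congrArg (TensorProduct.lid A F)
    (Module.Flat.rTensor_preserves_injective_linearMap (M := F) (Algebra.linearMap A R) hinj h1)
  simpa using h2


/-- An algebra isomorphism which is a bialgebra map over a bigger ring is one. -/
theorem isDiag_of_injective (hinj : Function.Injective (algebraMap A R)) {C : Type u} [CommRing C]
    [HopfAlgebra A C] (E : C ≃ₐ[A] MonoidAlgebra A M) (e : R ⊗[A] C ≃ₐc[R] MonoidAlgebra R M)
    (hE : ∀ c, coefHom (R := R) (E c) = e ((1 : R) ⊗ₜ[A] c)) : SGA3b.IsDiag A C := by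
  refine ⟨M, inferInstance, ⟨BialgEquiv.ofAlgEquiv E ?_ ?_⟩⟩
  · refine AlgHom.ext fun c => hinj ?_
    show algebraMap A R (Coalgebra.counit (R := A) (E c)) = algebraMap A R (Coalgebra.counit (R := A) c)
    have key : ∀ y : MonoidAlgebra A M, algebraMap A R (Coalgebra.counit (R := A) y) =
        Coalgebra.counit (R := R) (coefHom (R := R) y) := by
      intro y
      induction y using MonoidAlgebra.induction_linear with
      | zero => simp
      | add a b ha hb => simp only [map_add, ha, hb]
      | single m a => simp [coefHom_single]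
    rw [key, hE, CoalgHomClass.counit_comp_apply e]
    simp [Algebra.algebraMap_eq_smul_one]
  · refine AlgHom.ext fun c => coefHom_pair_injective (R := R) hinj ?_
    show coefPair (A := A) (R := R) (M := M) (Algebra.TensorProduct.map (E : C →ₐ[A] MonoidAlgebra A M)
        (E : C →ₐ[A] MonoidAlgebra A M) (Coalgebra.comul (R := A) c)) =
      coefPair (A := A) (R := R) (M := M) (Coalgebra.comul (R := A) (E c))
    have h1 : ∀ w : C ⊗[A] C, coefPair (A := A) (R := R) (M := M)
        (Algebra.TensorProduct.map (E : C →ₐ[A] MonoidAlgebra A M) (E : C →ₐ[A] MonoidAlgebra A M) w) =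
        TensorProduct.map (e : R ⊗[A] C →ₗ[R] MonoidAlgebra R M) (e : R ⊗[A] C →ₗ[R] MonoidAlgebra R M)
          (inclTwo R w) := by
      intro w
      induction w using TensorProduct.induction_on with
      | zero => simp
      | add a b ha hb => simp only [map_add, ha, hb]
      | tmul a b => simp [coefPair_tmul, inclTwo_tmul, hE]
    have h2 : ∀ y : MonoidAlgebra A M, coefPair (A := A) (R := R) (M := M) (Coalgebra.comul (R := A) y) =
        Coalgebra.comul (R := R) (coefHom (R := R) y) := by
      intro y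
      induction y using MonoidAlgebra.induction_linear with
      | zero => simp
      | add a b ha hb => simp only [map_add, ha, hb]
      | single m a => simp [coefHom_single, coefPair_tmul]
    rw [h1, h2, hE, ← comul_one_tmul]
    exact CoalgHomClass.map_comp_comul_apply e _

theorem coefHom_scalarTensorEquiv {B : Type u} [CommRing B] [Algebra B A] [Algebra B R]
    [IsScalarTower B A R] (w : A ⊗[B] MonoidAlgebra B M) :
    coefHom (R := R) (MonoidAlgebra.scalarTensorEquiv B A w) = MonoidAlgebra.scalarTensorEquiv B R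
      (Algebra.TensorProduct.map (IsScalarTower.toAlgHom B A R) (AlgHom.id B _) w) := by
  induction w using TensorProduct.induction_on with
  | zero => simp
  | add a b ha hb => simp only [map_add, ha, hb]
  | tmul a y =>
    induction y using MonoidAlgebra.induction_linear with
    | zero => simp
    | add y z hy hz => simp only [TensorProduct.tmul_add, map_add, hy, hz]
    | single m b =>
      simp [MonoidAlgebra.scalarTensorEquiv_tmul, coefHom_single, ← IsScalarTower.algebraMap_apply,
        Algebra.smul_def]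

end Group

set_option maxHeartbeats 1000000 in
/-- A diagonalisation descends to a subalgebra of finite type. -/
theorem exists_stage_diag {B : Type u} [CommRing B] [IsNoetherianRing B] {R : Type u} [CommRing R]
    [Algebra B R] {C : Type u} [CommRing C] [HopfAlgebra B C] [Algebra.FiniteType B C] {M : Type u}
    [CommGroup M] [Group.FG M] (e : R ⊗[B] C ≃ₐc[R] MonoidAlgebra R M) :
    ∃ A : Subalgebra B R, A.FG ∧ SGA3b.IsDiag A (A ⊗[B] C) := by
  haveI : Monoid.FG M := Group.fg_iff_monoid_fg.1 inferInstance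
  let Y := MonoidAlgebra B M
  haveI : Algebra.FinitePresentation B Y := Algebra.FinitePresentation.of_finiteType.1 inferInstance
  haveI : Algebra.FinitePresentation B C := Algebra.FinitePresentation.of_finiteType.1 inferInstance
  let sY : R ⊗[B] Y ≃ₐ[R] MonoidAlgebra R M := MonoidAlgebra.scalarTensorEquiv B R
  let ea : R ⊗[B] C ≃ₐ[R] MonoidAlgebra R M := e
  obtain ⟨A₁, hA₁, g₁, hg₁⟩ := exists_stage_hom (((ea.trans sY.symm).toAlgHom.restrictScalars B).comp
    (Algebra.TensorProduct.includeRight : C →ₐ[B] R ⊗[B] C))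
  obtain ⟨A₂, hA₂, g₂, hg₂⟩ := exists_stage_hom (((sY.trans ea.symm).toAlgHom.restrictScalars B).comp
    (Algebra.TensorProduct.includeRight : Y →ₐ[B] R ⊗[B] Y))
  obtain ⟨A, hA, le₁, le₂⟩ : ∃ A : Subalgebra B R, A.FG ∧ A₁ ≤ A ∧ A₂ ≤ A :=
    ⟨A₁ ⊔ A₂, hA₁.sup hA₂, le_sup_left, le_sup_right⟩
  have hlift : ∀ {X Z : Type u} [CommRing X] [Algebra B X] [CommRing Z] [Algebra B Z]
      (A : Subalgebra B R) (g : X →ₐ[B] A ⊗[B] Z) (F : R ⊗[B] X →ₐ[R] R ⊗[B] Z),
      (∀ x, subVal Z A (g x) = F ((1 : R) ⊗ₜ[B] x)) →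
      ∀ w, subVal Z A (bcLift (R := A) g w) = F (subVal X A w) := by
    intro X Z _ _ _ _ A g F h w
    induction w using TensorProduct.induction_on with
    | zero => simp
    | add a b ha hb => simp only [map_add, ha, hb]
    | tmul a x =>
      rw [show a ⊗ₜ[B] x = a • ((1 : A) ⊗ₜ[B] x) by simp [TensorProduct.smul_tmul'], map_smul,
        bcLift_one_tmul, subVal_smul, subVal_smul, map_smul, h]
      congr 2
  have hP : ∀ c, subVal Y A (subPush Y le₁ (g₁ c)) = ea.trans sY.symm ((1 : R) ⊗ₜ[B] c) := fun c => by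
    rw [subVal_subPush]; exact AlgHom.congr_fun hg₁ c
  have hQ : ∀ y, subVal C A (subPush C le₂ (g₂ y)) = sY.trans ea.symm ((1 : R) ⊗ₜ[B] y) := fun y => by
    rw [subVal_subPush]; exact AlgHom.congr_fun hg₂ y
  let P : C →ₐ[B] A ⊗[B] Y := (subPush Y le₁).comp g₁
  let Q : Y →ₐ[B] A ⊗[B] C := (subPush C le₂).comp g₂
  -- the composites are the identity at a finite stage
  obtain ⟨A₃, le₃, hA₃, hQP⟩ := exists_stage_agree hA
    (((bcLift (R := A) Q).restrictScalars B).comp P)
    (Algebra.TensorProduct.includeRight : C →ₐ[B] A ⊗[B] C) fun c => by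
      rw [AlgHom.comp_apply, AlgHom.restrictScalars_apply,
        hlift A Q (sY.trans ea.symm).toAlgHom hQ]
      show sY.trans ea.symm (subVal Y A (subPush Y le₁ (g₁ c))) = _
      rw [hP]
      simp [subVal]
  obtain ⟨A₄, le₄, hA₄, hPQ⟩ := exists_stage_agree hA
    (((bcLift (R := A) P).restrictScalars B).comp Q)
    (Algebra.TensorProduct.includeRight : Y →ₐ[B] A ⊗[B] Y) fun y => by
      rw [AlgHom.comp_apply, AlgHom.restrictScalars_apply,
        hlift A P (ea.trans sY.symm).toAlgHom hP]
      show ea.trans sY.symm (subVal C A (subPush C le₂ (g₂ y))) = _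
      rw [hQ]
      simp [subVal]
  obtain ⟨A', hA', le₅, le₆⟩ : ∃ A' : Subalgebra B R, A'.FG ∧ A₃ ≤ A' ∧ A₄ ≤ A' :=
    ⟨A₃ ⊔ A₄, hA₃.sup hA₄, le_sup_left, le_sup_right⟩
  have le : A ≤ A' := le₃.trans le₅
  have hpush : ∀ {X Z : Type u} [CommRing X] [Algebra B X] [CommRing Z] [Algebra B Z]
      (g : X →ₐ[B] A ⊗[B] Z) (w : A ⊗[B] X),
      bcLift (R := A') ((subPush Z le).comp g) (subPush X le w) = subPush Z le (bcLift (R := A) g w) := by
    intro X Z _ _ _ _ g w
    induction w using TensorProduct.induction_on with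
    | zero => simp
    | add a b ha hb => simp only [map_add, ha, hb]
    | tmul a x =>
      rw [show a ⊗ₜ[B] x = a • ((1 : A) ⊗ₜ[B] x) by simp [TensorProduct.smul_tmul'], subPush_smul,
        map_smul (bcLift (R := A') ((subPush Z le).comp g)), map_smul (bcLift (R := A) g),
        subPush_smul, bcLift_one_tmul]
      congr 1
      simp [subPush, bcLift_one_tmul]
  let P' : A' ⊗[B] C →ₐ[A'] A' ⊗[B] Y := bcLift (R := A') ((subPush Y le).comp P)
  let Q' : A' ⊗[B] Y →ₐ[A'] A' ⊗[B] C := bcLift (R := A') ((subPush C le).comp Q)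
  have h1 : Q'.comp P' = AlgHom.id A' _ := comul_algHom_ext fun c => by
    show Q' (P' ((1 : A') ⊗ₜ[B] c)) = (1 : A') ⊗ₜ[B] c
    rw [bcLift_one_tmul, AlgHom.comp_apply, hpush, ← subPush_subPush C le₃ le₅]
    refine (congrArg (subPush C le₅) (hQP c)).trans ?_
    simp [subPush]
  have h2 : P'.comp Q' = AlgHom.id A' _ := comul_algHom_ext fun y => by
    show P' (Q' ((1 : A') ⊗ₜ[B] y)) = (1 : A') ⊗ₜ[B] y
    rw [bcLift_one_tmul, AlgHom.comp_apply, hpush, ← subPush_subPush Y le₄ le₆]
    refine (congrArg (subPush Y le₆) (hPQ y)).trans ?_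
    simp [subPush]
  refine ⟨A', hA', isDiag_of_injective (R := R) (M := M) Subtype.val_injective
    ((AlgEquiv.ofAlgHom P' Q' h2 h1).trans (MonoidAlgebra.scalarTensorEquiv B A'))
    ((cancelBC B C A' R).trans e) fun x => ?_⟩
  have key : ∀ w : A' ⊗[B] Y, coefHom (R := R) (MonoidAlgebra.scalarTensorEquiv B A' w) =
      sY (subVal Y A' w) := fun w => by
    rw [coefHom_scalarTensorEquiv]
    rfl
  have hx : cancelBC B C A' R ((1 : R) ⊗ₜ[A'] x) = subVal C A' x := by
    induction x using TensorProduct.induction_on with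
    | zero => simp
    | add a b ha hb => simp only [TensorProduct.tmul_add, map_add, ha, hb]
    | tmul a c => rw [cancelBC_tmul]; simp [subVal, Algebra.smul_def]
  show coefHom (R := R) (MonoidAlgebra.scalarTensorEquiv B A' (P' x)) = e (cancelBC B C A' R ((1 : R) ⊗ₜ[A'] x))
  rw [key, hx, hlift A' _ (ea.trans sY.symm).toAlgHom fun c => by
    rw [AlgHom.comp_apply, subVal_subPush]; exact hP c]
  exact sY.apply_symm_apply _

end Groth.Agent.MultTypeLib
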