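import Groth.Agent.Lib.MultType.Model
import Groth.Agent.Lib.MultType.SpreadDiag
import Groth.Agent.Lib.MultType.QuasiIso
import Mathlib.RingTheory.Smooth.NoetherianDescent
import Mathlib.RingTheory.Localization.BaseChange

/-!
# Multiplicative type is local on the base
-/

universe u

open TensorProduct

namespace Groth.Agent.MultTypeLib

variable {R : Type u} [CommRing R] {A : Type u} [CommRing A] [HopfAlgebra R A]

/-- A diagonalisation on an étale neighbourhood gives quasi-isotriviality on a basic open. -/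
theorem exists_quasiIsotrivialConst_nhd (p : Ideal R) [p.IsPrime] (R' : Type u) [CommRing R']
    [Algebra R R'] [Algebra.Etale R R'] (q : Ideal R') [q.IsPrime] (hq : q.comap (algebraMap R R') = p)
    (hd : SGA3b.IsDiag R' (R' ⊗[R] A)) :
    ∃ f ∉ p, SGA3b.IsQuasiIsotrivialConst (Localization.Away f) (Localization.Away f ⊗[R] A) := by
  have hopen : IsOpen (Set.range (PrimeSpectrum.comap (algebraMap R R'))) :=
    (PrimeSpectrum.isOpenMap_comap_of_hasGoingDown_of_finitePresentation).isOpen_range
  have hmem : (⟨p, inferInstance⟩ : PrimeSpectrum R) ∈ Set.range (PrimeSpectrum.comap (algebraMap R R')) :=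
    ⟨⟨q, inferInstance⟩, PrimeSpectrum.ext hq⟩
  obtain ⟨_, ⟨_, ⟨f, rfl⟩, rfl⟩, hfp, hsub⟩ :=
    PrimeSpectrum.isBasis_basic_opens.exists_subset_of_mem_open hmem hopen
  refine ⟨f, hfp, ?_⟩
  let L := Localization.Away f
  let T := L ⊗[R] R'
  haveI : Module.FaithfullyFlat L T := by
    refine Module.FaithfullyFlat.of_comap_surjective fun P => ?_
    have h1 : PrimeSpectrum.comap (algebraMap R L) P ∈ (PrimeSpectrum.basicOpen f : Set (PrimeSpectrum R)) := by
      rw [← PrimeSpectrum.localization_away_comap_range L f]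
      exact ⟨P, rfl⟩
    obtain ⟨Q, hQ⟩ := hsub h1
    let K := Q.asIdeal.ResidueField
    have hu : IsUnit (algebraMap R K f) := isUnit_iff_ne_zero.2 fun h0 => by
      rw [IsScalarTower.algebraMap_apply R R' K, Ideal.algebraMap_residueField_eq_zero] at h0
      have h2 : f ∈ (PrimeSpectrum.comap (algebraMap R R') Q).asIdeal := h0
      rw [hQ] at h2
      exact h1 h2
    let ℓ : L →ₐ[R] K :=
      { IsLocalization.Away.lift f hu with
        commutes' := fun r => IsLocalization.Away.lift_eq f hu r }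
    let g : T →ₐ[R] K :=
      Algebra.TensorProduct.lift ℓ (IsScalarTower.toAlgHom R R' K) (fun _ _ => Commute.all _ _)
    refine ⟨⟨RingHom.ker g, RingHom.ker_isPrime _⟩, ?_⟩
    refine PrimeSpectrum.localization_comap_injective L (Submonoid.powers f) ?_
    refine Eq.trans ?_ hQ
    ext r
    show g (algebraMap L T (algebraMap R L r)) = 0 ↔ algebraMap R R' r ∈ Q.asIdeal
    rw [← IsScalarTower.algebraMap_apply R L T, AlgHom.commutes,
      IsScalarTower.algebraMap_apply R R' K, Ideal.algebraMap_residueField_eq_zero]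
  letI : Algebra R' T := Algebra.TensorProduct.rightAlgebra
  exact ⟨T, inferInstance, inferInstance, inferInstance, inferInstance,
    isDiag_tensor_tensor L T (isDiag_baseChange R' T hd)⟩

set_option maxHeartbeats 2000000 in
set_option synthInstance.maxHeartbeats 200000 in
/-- A splitting over an étale algebra over a local ring of the base spreads out. -/
theorem exists_etale_isDiag_of_stalk (hfp : Algebra.FinitePresentation R A) (p : Ideal R) [p.IsPrime]
    {R' : Type u} [CommRing R'] [Algebra R R'] [Algebra (Localization.AtPrime p) R']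
    [IsScalarTower R (Localization.AtPrime p) R'] [Algebra.Etale (Localization.AtPrime p) R']
    (q : Ideal R') [q.IsPrime] (hq : q.comap (algebraMap R R') = p)
    (hd : SGA3b.IsDiag R' (R' ⊗[R] A)) :
    ∃ (R₁ : Type u) (_ : CommRing R₁) (_ : Algebra R R₁) (_ : Algebra.Etale R R₁) (q₁ : Ideal R₁)
      (_ : q₁.IsPrime), q₁.comap (algebraMap R R₁) = p ∧ SGA3b.IsDiag R₁ (R₁ ⊗[R] A) := by
  obtain ⟨S, _, _, C₁, _, _, hS, hC₁, ⟨e₀⟩⟩ := exists_hopf_model hfp
  haveI := hS
  haveI := hC₁
  haveI := hfp
  haveI : IsNoetherianRing S := Algebra.FiniteType.isNoetherianRing ℤ S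
  let Rp := Localization.AtPrime p
  obtain ⟨A₀, B₀, _, _, hA₀, _, ⟨eP⟩⟩ := Algebra.Etale.exists_subalgebra_fg S Rp R'
  haveI : Algebra.FiniteType S A₀ := A₀.fg_iff_finiteType.1 hA₀
  haveI : Algebra.FiniteType ℤ A₀ := by
    convert! finiteType_int_subalgebra hS A₀ hA₀
    exact Subsingleton.elim _ _
  haveI : Algebra.FinitePresentation S A₀ := Algebra.FinitePresentation.of_finiteType.1 inferInstance
  letI : Algebra S B₀ := ((algebraMap A₀ B₀).comp (algebraMap S A₀)).toAlgebra
  haveI : IsScalarTower S A₀ B₀ := IsScalarTower.of_algebraMap_eq' rfl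
  haveI : Algebra.FiniteType ℤ B₀ := by
    rw [← RingHom.finiteType_algebraMap,
      RingHom.ext_int (algebraMap ℤ B₀) ((algebraMap A₀ B₀).comp (algebraMap ℤ A₀))]
    exact RingHom.FiniteType.comp (RingHom.finiteType_algebraMap.2 inferInstance)
      (RingHom.finiteType_algebraMap.2 inferInstance)
  haveI : IsNoetherianRing B₀ := Algebra.FiniteType.isNoetherianRing ℤ B₀
  let P := Rp ⊗[A₀] B₀
  -- the splitting over `P`
  letI : Algebra R' P := eP.toAlgHom.toRingHom.toAlgebra
  haveI : IsScalarTower R R' P := IsScalarTower.of_algebraMap_eq fun r => by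
    show algebraMap R P r = eP (algebraMap R R' r)
    rw [IsScalarTower.algebraMap_apply R Rp R', AlgEquiv.commutes, ← IsScalarTower.algebraMap_apply]
  obtain ⟨M, _, ⟨eM⟩⟩ := isDiag_baseChange R' P hd
  let qP : Ideal P := q.comap eP.symm.toRingEquiv.toRingHom
  haveI : qP.IsPrime := Ideal.comap_isPrime _ _
  have hqP : qP.comap (algebraMap R P) = p := by
    refine Eq.trans ?_ hq
    ext r
    show eP.symm (algebraMap R P r) ∈ q ↔ algebraMap R R' r ∈ q
    rw [IsScalarTower.algebraMap_apply R Rp P, AlgEquiv.commutes, ← IsScalarTower.algebraMap_apply]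
  haveI : Nontrivial P := ⟨⟨0, 1, fun h => qP.ne_top_iff_one.1 (Ideal.IsPrime.ne_top inferInstance)
    (h ▸ qP.zero_mem)⟩⟩
  haveI : Group.FG M := by
    haveI : Algebra.FiniteType P (MonoidAlgebra P M) :=
      Algebra.FiniteType.equiv inferInstance eM.toAlgEquiv
    exact Group.fg_iff_monoid_fg.2 (MonoidAlgebra.finiteType_iff_fg.1 this)
  letI : Algebra B₀ P := Algebra.TensorProduct.rightAlgebra
  haveI : IsScalarTower A₀ B₀ P := IsScalarTower.of_algebraMap_eq fun a =>
    Algebra.TensorProduct.tmul_one_eq_one_tmul a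
  haveI : IsScalarTower S B₀ P := IsScalarTower.of_algebraMap_eq fun s => by
    rw [IsScalarTower.algebraMap_apply S A₀ B₀, ← IsScalarTower.algebraMap_apply A₀ B₀ P,
      IsScalarTower.algebraMap_apply A₀ Rp P, ← IsScalarTower.algebraMap_apply S A₀ Rp,
      ← IsScalarTower.algebraMap_apply S Rp P]
    rfl
  obtain ⟨Asub, hAsub, hdA⟩ := exists_stage_diag (B := B₀) (R := P) (C := B₀ ⊗[S] C₁)
    ((cancelBC S C₁ B₀ P).trans (((cancelBC S C₁ R P).symm.trans (bcEquiv P e₀)).trans eM))
  haveI : Algebra.FiniteType B₀ Asub := Asub.fg_iff_finiteType.1 hAsub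
  haveI : Algebra.FinitePresentation B₀ Asub :=
    (Algebra.FinitePresentation.of_finiteType (R := B₀) (A := Asub)).1 inferInstance
  -- the base of the model
  obtain ⟨f, hf, θ, ψ, hψ⟩ := exists_lift_localization (Y := R) (L := Rp) p.primeCompl A₀.val
  let L := Localization.Away f
  letI : Algebra A₀ L := ψ.toRingHom.toAlgebra
  haveI : IsScalarTower S A₀ L := IsScalarTower.of_algebraMap_eq fun s => (ψ.commutes s).symm
  let T := L ⊗[A₀] B₀
  letI : Algebra L Rp := θ.toRingHom.toAlgebra
  haveI : IsScalarTower R L Rp := IsScalarTower.of_algebraMap_eq fun r => (θ.commutes r).symm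
  haveI : IsScalarTower A₀ L Rp := IsScalarTower.of_algebraMap_eq fun a => (hψ a).symm
  haveI : IsLocalization (p.primeCompl.map (algebraMap R L)) Rp :=
    IsLocalization.isLocalization_of_submonoid_le L Rp (Submonoid.powers f) p.primeCompl
      (Submonoid.powers_le.2 hf)
  let χ : T →ₐ[L] P := Algebra.TensorProduct.map (Algebra.ofId L Rp) (AlgHom.id A₀ B₀)
  letI : Algebra T P := χ.toRingHom.toAlgebra
  haveI : IsScalarTower L T P := ⟨fun l x y => by
    show χ (l • x) * y = l • (χ x * y)
    rw [map_smul, smul_mul_assoc]⟩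
  haveI := IsLocalization.tensorProduct_tensorProduct A₀ B₀ (p.primeCompl.map (algebraMap R L)) Rp
    (RingHom.ext fun b => by
      show χ ((1 : L) ⊗ₜ[A₀] b) = (1 : Rp) ⊗ₜ[A₀] b
      rw [Algebra.TensorProduct.map_tmul, map_one]
      rfl)
  letI : Algebra B₀ T := Algebra.TensorProduct.rightAlgebra
  haveI : IsScalarTower A₀ B₀ T := IsScalarTower.of_algebraMap_eq fun a =>
    Algebra.TensorProduct.tmul_one_eq_one_tmul a
  haveI : IsScalarTower B₀ T P := IsScalarTower.of_algebraMap_eq fun b => by
    show (1 : Rp) ⊗ₜ[A₀] b = χ ((1 : L) ⊗ₜ[A₀] b)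
    rw [Algebra.TensorProduct.map_tmul, map_one]
    rfl
  obtain ⟨t, -, θ₂, ψ₂, hψ₂⟩ := exists_lift_localization (S := B₀) (A := ↥Asub) (Y := T) (L := P)
    (Algebra.algebraMapSubmonoid T (p.primeCompl.map (algebraMap R L))) Asub.val
  let R₁ := Localization.Away t
  haveI : Algebra.Etale R L := Algebra.Etale.of_isLocalizationAway f
  haveI : Algebra.Etale L T := inferInstance
  haveI : Algebra.Etale R T := Algebra.Etale.comp R L T
  haveI : Algebra.Etale T R₁ := Algebra.Etale.of_isLocalizationAway t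
  haveI : Algebra.Etale R R₁ := Algebra.Etale.comp R T R₁
  refine ⟨R₁, inferInstance, inferInstance, inferInstance, qP.comap θ₂.toRingHom,
    Ideal.comap_isPrime _ _, ?_, ?_⟩
  · refine Eq.trans ?_ hqP
    rw [Ideal.comap_comap]
    congr 1
    refine RingHom.ext fun r => ?_
    show θ₂ (algebraMap R R₁ r) = algebraMap R P r
    rw [IsScalarTower.algebraMap_apply R T R₁, θ₂.commutes]
    show χ (algebraMap R L r ⊗ₜ[A₀] (1 : B₀)) = algebraMap R Rp r ⊗ₜ[A₀] (1 : B₀)
    rw [Algebra.TensorProduct.map_tmul]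
    congr 1
    exact θ.commutes r
  · letI : Algebra Asub R₁ := ψ₂.toRingHom.toAlgebra
    haveI : IsScalarTower B₀ Asub R₁ := IsScalarTower.of_algebraMap_eq fun b => (ψ₂.commutes b).symm
    haveI : IsScalarTower S Asub R₁ := IsScalarTower.of_algebraMap_eq fun s => by
      have hT : algebraMap B₀ T (algebraMap S B₀ s) = algebraMap R T (algebraMap S R s) := by
        rw [IsScalarTower.algebraMap_apply S A₀ B₀, ← IsScalarTower.algebraMap_apply A₀ B₀ T,
          IsScalarTower.algebraMap_apply A₀ L T, ← IsScalarTower.algebraMap_apply S A₀ L,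
          IsScalarTower.algebraMap_apply S R L, ← IsScalarTower.algebraMap_apply R L T]
      rw [IsScalarTower.algebraMap_apply S B₀ Asub, ← IsScalarTower.algebraMap_apply B₀ Asub R₁,
        IsScalarTower.algebraMap_apply B₀ T R₁, hT, ← IsScalarTower.algebraMap_apply R T R₁,
        ← IsScalarTower.algebraMap_apply S R R₁]
    exact isDiag_congr (bcEquiv R₁ e₀) (isDiag_tensor_tensor R R₁
      (isDiag_baseChange Asub R₁ (isDiag_of_tensor_tensor B₀ Asub hdA)))

theorem isMultType_of_isQuasiIsotrivial (h : SGA3b.IsQuasiIsotrivial R A) : SGA3b.IsMultType R A := by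
  obtain ⟨s, hs, hf⟩ := h
  refine ⟨s, hs, fun f hfs => ?_⟩
  obtain ⟨R', _, _, _, hff, hd⟩ := hf f hfs
  exact ⟨R', inferInstance, inferInstance, hff, hd⟩

/-- Multiplicative type can be tested on the local rings of the base. -/
theorem isQuasiIsotrivial_of_stalks (hfp : Algebra.FinitePresentation R A)
    (h : ∀ (p : Ideal R) [p.IsPrime],
      SGA3b.IsMultType (Localization.AtPrime p) (Localization.AtPrime p ⊗[R] A)) :
    SGA3b.IsQuasiIsotrivial R A := by
  refine ⟨{f : R | SGA3b.IsQuasiIsotrivialConst (Localization.Away f) (Localization.Away f ⊗[R] A)}, ?_,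
    fun f hf => hf⟩
  by_contra hne
  obtain ⟨p, hp, hle⟩ := Ideal.exists_le_maximal _ hne
  haveI := hp.isPrime
  haveI := hfp
  obtain ⟨R', _, _, _, q, _, hq, hd⟩ := exists_etale_isDiag (R := Localization.AtPrime p) inferInstance (h p)
    (IsLocalRing.maximalIdeal (Localization.AtPrime p))
  letI : Algebra R R' := ((algebraMap (Localization.AtPrime p) R').comp
    (algebraMap R (Localization.AtPrime p))).toAlgebra
  haveI : IsScalarTower R (Localization.AtPrime p) R' := IsScalarTower.of_algebraMap_eq' rfl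
  have hq' : q.comap (algebraMap R R') = p := by
    rw [IsScalarTower.algebraMap_eq R (Localization.AtPrime p) R', ← Ideal.comap_comap, hq]
    exact Localization.AtPrime.under_maximalIdeal
  obtain ⟨R₁, _, _, _, q₁, _, hq₁, hd₁⟩ := exists_etale_isDiag_of_stalk hfp p q hq'
    (isDiag_of_tensor_tensor (Localization.AtPrime p) R' hd)
  obtain ⟨f, hf, hfc⟩ := exists_quasiIsotrivialConst_nhd p R₁ q₁ hq₁ hd₁
  exact hf (hle (Ideal.subset_span hfc))

theorem isMultType_of_stalks (hfp : Algebra.FinitePresentation R A)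
    (h : ∀ (p : Ideal R) [p.IsPrime],
      SGA3b.IsMultType (Localization.AtPrime p) (Localization.AtPrime p ⊗[R] A)) :
    SGA3b.IsMultType R A :=
  isMultType_of_isQuasiIsotrivial (isQuasiIsotrivial_of_stalks hfp h)

end Groth.Agent.MultTypeLib
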