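import Groth.Agent.Lib.MultType.LocalCrit
import Groth.Agent.Lib.MultType.Spread
import Groth.Agent.Lib.MultType.AdicConn

/-!
# Groups whose fibres are of multiplicative type
-/

universe u

open TensorProduct

namespace Groth.Agent.MultTypeLib

variable {R : Type u} [CommRing R] {A : Type u} [CommRing A] [HopfAlgebra R A]

theorem isMultType_congr {B : Type u} [CommRing B] [HopfAlgebra R B] (e : A ≃ₐc[R] B)
    (h : SGA3b.IsMultType R A) : SGA3b.IsMultType R B := by
  obtain ⟨s, hs, hf⟩ := h
  exact ⟨s, hs, fun f hfs => isMultTypeConst_congr (bcEquiv (Localization.Away f) e) (hf f hfs)⟩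

theorem isMultType_of_isTorus (h : SGA3b.IsTorus R A) : SGA3b.IsMultType R A := by
  obtain ⟨s, hs, hf⟩ := h
  refine ⟨s, hs, fun f hfs => ?_⟩
  obtain ⟨R', _, _, hff, n, ⟨e⟩⟩ := hf f hfs
  exact ⟨R', inferInstance, inferInstance, hff, ULift.{u} (Multiplicative (Fin n → ℤ)), inferInstance,
    ⟨e.trans (mapDomainEquiv' R' MulEquiv.ulift.symm)⟩⟩

/-- The stalks of a flat group are flat at the closed fibres. -/
theorem stalk_flatAt [Module.Flat R A] (p : Ideal R) [p.IsPrime]
    (q : Ideal (Localization.AtPrime p ⊗[R] A)) [q.IsPrime] :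
    Module.Flat (Localization.AtPrime p) (Localization.AtPrime q) := by
  haveI : Module.Flat (Localization.AtPrime p ⊗[R] A) (Localization.AtPrime q) :=
    IsLocalization.flat (Localization.AtPrime q) q.primeCompl
  exact Module.Flat.trans (Localization.AtPrime p) (Localization.AtPrime p ⊗[R] A) _

/-- Flat groups with connected fibres of multiplicative type are of multiplicative type. -/
theorem isMultType_of_fibres (hfp : Algebra.FinitePresentation R A) [Module.Flat R A]
    (hfib : ∀ (p : Ideal R) [p.IsPrime], SGA3b.IsMultType p.ResidueField (p.ResidueField ⊗[R] A))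
    (hconn : ∀ (p : Ideal R) [p.IsPrime], ConnectedSpace (PrimeSpectrum (p.ResidueField ⊗[R] A))) :
    SGA3b.IsMultType R A := by
  haveI := hfp
  refine isMultType_of_stalks hfp fun p _ => isMultType_of_const (isMultTypeConst_of_local inferInstance
    (fun q _ _ => stalk_flatAt p q)
    (isMultType_congr (cancelBC R A (Localization.AtPrime p) p.ResidueField).symm (hfib p)) ?_)
  intro T _ _ _ _ e he _ hε _ _
  letI : Algebra R T := ((algebraMap (Localization.AtPrime p) T).comp
    (algebraMap R (Localization.AtPrime p))).toAlgebra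
  haveI : IsScalarTower R (Localization.AtPrime p) T := IsScalarTower.of_algebraMap_eq' rfl
  let E := cancelBC R A (Localization.AtPrime p) T
  refine E.injective ?_
  rw [map_zero]
  exact idem_eq_zero_of_conn T inferInstance hconn (he.map E)
    ((CoalgHomClass.counit_comp_apply E e).trans hε)

/-- Flat groups with fibres of multiplicative type and finite torsion are of multiplicative type. -/
theorem isMultType_of_fibres_torsion [Coalgebra.IsCocomm R A] (hfp : Algebra.FinitePresentation R A)
    [Module.Flat R A]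
    (hfib : ∀ (p : Ideal R) [p.IsPrime], SGA3b.IsMultType p.ResidueField (p.ResidueField ⊗[R] A))
    (hfin : ∀ n : ℕ, 0 < n → Module.Finite R (A ⧸ SGA3b.torsionIdeal R A n)) :
    SGA3b.IsMultType R A := by
  haveI := hfp
  refine isMultType_of_stalks hfp fun p _ => isMultType_of_const (isMultTypeConst_of_local inferInstance
    (fun q _ _ => stalk_flatAt p q)
    (isMultType_congr (cancelBC R A (Localization.AtPrime p) p.ResidueField).symm (hfib p)) ?_)
  intro T _ _ _ _ e he hm hε _ h
  exact idem_eq_zero_of_torsion_finite (I := IsLocalRing.maximalIdeal T)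
    (IsLocalRing.maximalIdeal_le_jacobson _) inferInstance
    (fun n hn => finite_torsion_baseChange T n
      (finite_torsion_baseChange (Localization.AtPrime p) n (hfin n hn))) he hm hε h

theorem isDomain_of_isTorus_field {k : Type u} [Field k] {C : Type u} [CommRing C] [HopfAlgebra k C]
    (h : SGA3b.IsTorus k C) : IsDomain C := by
  obtain ⟨s, hs, hf⟩ := h
  obtain ⟨f, hfs, hf0⟩ : ∃ f ∈ s, f ≠ 0 := by
    by_contra hcon
    push_neg at hcon
    exact bot_ne_top ((le_antisymm bot_le (Ideal.span_le.2 fun x hx => Ideal.mem_bot.2 (hcon x hx))).trans hs)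
  obtain ⟨T, _, _, hff, n, ⟨e⟩⟩ := hf f hfs
  let L := Localization.Away f
  letI : Algebra k T := ((algebraMap L T).comp (algebraMap k L)).toAlgebra
  haveI : IsScalarTower k L T := IsScalarTower.of_algebraMap_eq' rfl
  haveI : Nontrivial L := (IsLocalization.Away.lift (S := L) f (g := RingHom.id k)
    (isUnit_iff_ne_zero.2 hf0)).domain_nontrivial
  haveI : Nontrivial T := (FaithfulSMul.algebraMap_injective L T).nontrivial
  obtain ⟨m, hm⟩ := Ideal.exists_maximal T
  let K := T ⧸ m
  letI := Ideal.Quotient.field m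
  let eK := (cancelBC k C T K).symm.trans ((bcEquiv K (((cancelBC k C L T).symm.trans e).trans
    (mapDomainEquiv' T (MulEquiv.ulift.symm : Multiplicative (Fin n → ℤ) ≃* ULift.{u} (Multiplicative (Fin n → ℤ)))))).trans
    (diagBC T K (ULift.{u} (Multiplicative (Fin n → ℤ)))))
  haveI : IsDomain (K ⊗[k] C) :=
    (eK.trans (mapDomainEquiv' K MulEquiv.ulift)).toAlgEquiv.toRingEquiv.toMulEquiv.isDomain _
  exact Function.Injective.isDomain
    (Algebra.TensorProduct.includeRight : C →ₐ[k] K ⊗[k] C).toRingHom
    (Algebra.TensorProduct.includeRight_injective (FaithfulSMul.algebraMap_injective k K))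

theorem connectedSpace_of_isDomain {C : Type u} [CommRing C] [IsDomain C] :
    ConnectedSpace (PrimeSpectrum C) := inferInstance

/-- Flat groups whose fibres are tori are tori. -/
theorem isTorus_of_fibres (hfp : Algebra.FinitePresentation R A) [Module.Flat R A]
    (hfib : ∀ (p : Ideal R) [p.IsPrime], SGA3b.IsTorus p.ResidueField (p.ResidueField ⊗[R] A)) :
    SGA3b.IsTorus R A := by
  obtain ⟨s, hs, hf⟩ := isMultType_of_fibres hfp (fun p _ => isMultType_of_isTorus (hfib p))
    fun p _ => by
      haveI := isDomain_of_isTorus_field (hfib p)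
      exact connectedSpace_of_isDomain
  refine ⟨{f ∈ s | Nontrivial (Localization.Away f)}, ?_, fun f hf' => ?_⟩
  · by_contra hne
    obtain ⟨m, hm, hle⟩ := Ideal.exists_le_maximal _ hne
    obtain ⟨f, hfs, hfm⟩ : ∃ f ∈ s, f ∉ m := by
      by_contra hcon
      push_neg at hcon
      exact hm.ne_top (top_le_iff.1 (hs ▸ Ideal.span_le.2 hcon))
    refine hfm (hle (Ideal.subset_span ⟨hfs, ?_⟩))
    obtain ⟨P, -⟩ : (⟨m, hm.isPrime⟩ : PrimeSpectrum R) ∈
        Set.range (PrimeSpectrum.comap (algebraMap R (Localization.Away f))) := by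
      rw [PrimeSpectrum.localization_away_comap_range (Localization.Away f) f]
      exact hfm
    exact nontrivial_of_ne (0 : Localization.Away f) 1 fun h01 => P.isPrime.ne_top
      ((Ideal.eq_top_iff_one _).2 (h01 ▸ P.asIdeal.zero_mem))
  obtain ⟨hfs, hnt⟩ := hf'
  let L := Localization.Away f
  haveI : Nontrivial L := hnt
  obtain ⟨R', _, _, hff, M, _, ⟨eM⟩⟩ := hf f hfs
  haveI : Nontrivial R' := (FaithfulSMul.algebraMap_injective L R').nontrivial
  letI : Algebra R R' := ((algebraMap L R').comp (algebraMap R L)).toAlgebra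
  haveI : IsScalarTower R L R' := IsScalarTower.of_algebraMap_eq' rfl
  obtain ⟨m, hm⟩ := Ideal.exists_maximal R'
  let K := R' ⧸ m
  letI := Ideal.Quotient.field m
  let p := RingHom.ker (algebraMap R K)
  haveI : p.IsPrime := RingHom.ker_isPrime _
  let k := p.ResidueField
  letI : Algebra k K := (Ideal.ResidueField.liftₐ p (Algebra.ofId R K) le_rfl
    fun x hx => isUnit_iff_ne_zero.2 hx).toRingHom.toAlgebra
  haveI : IsScalarTower R k K := IsScalarTower.of_algebraMap_eq fun r =>
    ((Ideal.ResidueField.liftₐ p (Algebra.ofId R K) le_rfl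
      fun x hx => isUnit_iff_ne_zero.2 hx).commutes r).symm
  obtain ⟨u, hu, hf₂⟩ := hfib p
  obtain ⟨g, hgu, hg0⟩ : ∃ g ∈ u, g ≠ 0 := by
    by_contra hcon
    push_neg at hcon
    exact bot_ne_top ((le_antisymm bot_le (Ideal.span_le.2 fun x hx => Ideal.mem_bot.2 (hcon x hx))).trans hu)
  obtain ⟨T, _, _, _, n, ⟨eT⟩⟩ := hf₂ g hgu
  let L' := Localization.Away g
  letI : Algebra k T := ((algebraMap L' T).comp (algebraMap k L')).toAlgebra
  haveI : IsScalarTower k L' T := IsScalarTower.of_algebraMap_eq' rfl
  haveI : Nontrivial L' := (IsLocalization.Away.lift (S := L') g (g := RingHom.id k)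
    (isUnit_iff_ne_zero.2 hg0)).domain_nontrivial
  haveI : Nontrivial T := (FaithfulSMul.algebraMap_injective L' T).nontrivial
  haveI : Nontrivial (K ⊗[k] T) :=
    Algebra.TensorProduct.nontrivial_of_algebraMap_injective_of_flat_left k K T
      (algebraMap k T).injective
  obtain ⟨c⟩ := nonempty_mulEquiv_of_nontrivial (R := k) (A := k ⊗[R] A)
    ((cancelBC R A k K).trans ((cancelBC R A R' K).symm.trans
      ((bcEquiv K ((cancelBC R A L R').symm.trans eM)).trans (diagBC R' K M))))
    (((cancelBC k (k ⊗[R] A) L' T).symm.trans eT).trans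
      (mapDomainEquiv' T (MulEquiv.ulift.symm : Multiplicative (Fin n → ℤ) ≃* ULift.{u} (Multiplicative (Fin n → ℤ)))))
  exact ⟨R', inferInstance, inferInstance, hff, n,
    ⟨(eM.trans (mapDomainEquiv' R' c)).trans (mapDomainEquiv' R' MulEquiv.ulift)⟩⟩

end Groth.Agent.MultTypeLib
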