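import Groth.Agent.Lib.MultType.TwistApps

/-!
# Homomorphisms lift uniquely along pairs with unique lifting of idempotents
-/

universe u

open TensorProduct HopfAlgebra

set_option backward.isDefEq.respectTransparency false
set_option backward.isDefEq.respectTransparency.types false

namespace Groth.Agent.MultTypeLib

variable {R : Type u} [CommRing R] {B C : Type u} [CommRing B] [HopfAlgebra R B] [CommRing C]
  [HopfAlgebra R C]

/-- Push-forward of an element along a map of coefficient rings. -/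
noncomputable abbrev pushC {S T : Type u} [CommRing S] [Algebra R S] [CommRing T] [Algebra R T]
    (f : S →ₐ[R] T) (X : Type u) [CommRing X] [Algebra R X] : S ⊗[R] X →ₐ[R] T ⊗[R] X :=
  Algebra.TensorProduct.map f (AlgHom.id R X)

theorem exists_hom_push {S T : Type u} [CommRing S] [Algebra R S] [CommRing T] [Algebra R T]
    (f : S →ₐ[R] T) (F : S ⊗[R] C →ₐc[S] S ⊗[R] B) :
    ∃ F' : T ⊗[R] C →ₐc[T] T ⊗[R] B, ∀ c : C,
      F' ((1 : T) ⊗ₜ[R] c) = pushC f B (F ((1 : S) ⊗ₜ[R] c)) := by
  letI : Algebra S T := f.toRingHom.toAlgebra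
  haveI : IsScalarTower R S T := IsScalarTower.of_algebraMap_eq fun r => (f.commutes r).symm
  refine ⟨bcHom T S F, fun c => ?_⟩
  have h1 : (cancelBC R C S T).symm ((1 : T) ⊗ₜ[R] c) = (1 : T) ⊗ₜ[S] ((1 : S) ⊗ₜ[R] c) := by
    refine (show Function.Injective (cancelBC R C S T) from (cancelBC R C S T).injective)
      (((cancelBC R C S T).apply_symm_apply _).trans ?_)
    exact ((cancelBC_tmul R C S T _ _ _).trans (by rw [one_smul])).symm
  show cancelBC R B S T (bcMap T F ((cancelBC R C S T).symm ((1 : T) ⊗ₜ[R] c))) = _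
  rw [h1, bcMap_tmul, cancelBC_one_tmul]
  rfl

variable (I : Ideal R)

/-- Homomorphisms between split groups are determined by their reductions. -/
theorem hom_unique {T : Type u} [CommRing T] [Algebra R T] (hT : IdemLift I T)
    (dB : SGA3b.IsDiag T (T ⊗[R] B)) (dC : SGA3b.IsDiag T (T ⊗[R] C))
    (F F' : T ⊗[R] C →ₐc[T] T ⊗[R] B)
    (h : ∀ c : C, pushC (Algebra.TensorProduct.includeRight : T →ₐ[R] (R ⧸ I) ⊗[R] T) B
      (F ((1 : T) ⊗ₜ[R] c)) = pushC Algebra.TensorProduct.includeRight B (F' ((1 : T) ⊗ₜ[R] c))) :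
    ∀ z, F z = F' z := by
  obtain ⟨M, _, ⟨e⟩⟩ := dB
  obtain ⟨N, _, ⟨f⟩⟩ := dC
  let ι : T →ₐ[R] (R ⧸ I) ⊗[R] T := Algebra.TensorProduct.includeRight
  have h' : ∀ z, pushC ι B (F z) = pushC ι B (F' z) := by
    intro z
    induction z using TensorProduct.induction_on with
    | zero => simp
    | add a b ha hb => simp only [map_add, ha, hb]
    | tmul t c =>
      rw [show t ⊗ₜ[R] c = t • ((1 : T) ⊗ₜ[R] c) by simp [TensorProduct.smul_tmul'], map_smul F, map_smul F',
        Algebra.smul_def, Algebra.smul_def, map_mul, map_mul, h]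
  have key : ∀ n : N, F (f.symm (MonoidAlgebra.single n 1)) = F' (f.symm (MonoidAlgebra.single n 1)) := by
    intro n
    refine (show Function.Injective e from e.injective) ?_
    have hg := ((MonoidAlgebra.isGroupLikeElem_single_one (R := T) (A := T) n).map f.symm)
    have := (glMapR_bijective (M := M) hT).injective
      (a₁ := ⟨e (F (f.symm (MonoidAlgebra.single n 1))), (hg.map F).map e⟩)
      (a₂ := ⟨e (F' (f.symm (MonoidAlgebra.single n 1))), (hg.map F').map e⟩)
      (GroupLike.val_injective (by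
        show MonoidAlgebra.mapRingHom M ι.toRingHom (e (F _)) = MonoidAlgebra.mapRingHom M ι.toRingHom (e (F' _))
        rw [← eAt_map e ι, ← eAt_map e ι]
        exact congrArg _ (h' _)))
    exact congrArg GroupLike.val this
  intro z
  obtain ⟨y, rfl⟩ : ∃ y, f.symm y = z := ⟨f z, f.symm_apply_apply z⟩
  induction y using MonoidAlgebra.induction_linear with
  | zero => simp
  | add a b ha hb => simp only [map_add, ha, hb]
  | single n c =>
    rw [show MonoidAlgebra.single n c = c • MonoidAlgebra.single n (1 : T) by simp, map_smul f.symm,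
      map_smul, map_smul, key]

variable (E : Type u) [CommRing E] [Algebra R E] [Module.FaithfullyFlat R E]

theorem injective_one_tmul (X : Type u) [CommRing X] [Algebra R X] :
    Function.Injective fun x : X => (1 : E) ⊗ₜ[R] x :=
  Module.FaithfullyFlat.tensorProduct_mk_injective (A := R) (B := E) X

/-- Homomorphisms with the same reduction are equal. -/
theorem eq_of_reduction_eq (hE : IdemLift I E) (dB : SGA3b.IsDiag E (E ⊗[R] B))
    (dC : SGA3b.IsDiag E (E ⊗[R] C)) (φ ψ : C →ₐc[R] B)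
    (h : ∀ c, (1 : R ⧸ I) ⊗ₜ[R] φ c = (1 : R ⧸ I) ⊗ₜ[R] ψ c) : φ = ψ := by
  refine BialgHom.ext fun c => injective_one_tmul (R := R) E B ?_
  refine (hom_unique I hE dB dC (bcMap E φ) (bcMap E ψ) (fun c => ?_) ((1 : E) ⊗ₜ[R] c))
  let τ : R ⧸ I →ₐ[R] (R ⧸ I) ⊗[R] E := Algebra.TensorProduct.includeLeft
  have h1 := congrArg (pushC τ B) (h c)
  simpa [τ, bcMap_tmul] using h1

set_option maxHeartbeats 2000000 in
/-- Homomorphisms lift. -/
theorem exists_hom_lift (hE : IdemLift I E) (hE₂ : IdemLift I (E ⊗[R] E))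
    (dB : SGA3b.IsDiag E (E ⊗[R] B)) (dC : SGA3b.IsDiag E (E ⊗[R] C))
    (φ₀ : (R ⧸ I) ⊗[R] C →ₐc[R ⧸ I] (R ⧸ I) ⊗[R] B) :
    ∃ φ : C →ₐc[R] B, ∀ c, φ₀ ((1 : R ⧸ I) ⊗ₜ[R] c) = (1 : R ⧸ I) ⊗ₜ[R] φ c := by
  obtain ⟨M, _, ⟨e⟩⟩ := id dB
  obtain ⟨N, _, ⟨f⟩⟩ := id dC
  let Eb := (R ⧸ I) ⊗[R] E
  let ι : E →ₐ[R] Eb := Algebra.TensorProduct.includeRight
  let τ : R ⧸ I →ₐ[R] Eb := Algebra.TensorProduct.includeLeft
  obtain ⟨Φ, hΦ⟩ := exists_hom_push τ φ₀
  let γ := MulEquiv.ofBijective (glMapR (M := M) ι.toRingHom) (glMapR_bijective hE)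
  let H₀ : N →* GroupLike Eb (MonoidAlgebra Eb M) :=
    { toFun := fun n => ⟨eAt e ι (Φ ((eAt f ι).symm (MonoidAlgebra.single n 1))),
        (((MonoidAlgebra.isGroupLikeElem_single_one (R := Eb) (A := Eb) n).map (eAt f ι).symm).map Φ).map
          (eAt e ι)⟩
      map_one' := by
        ext1
        show eAt e ι (Φ ((eAt f ι).symm (MonoidAlgebra.single 1 1))) = 1
        rw [← MonoidAlgebra.one_def, map_one, map_one, map_one]
      map_mul' := fun a b => by
        ext1
        show eAt e ι (Φ ((eAt f ι).symm (MonoidAlgebra.single (a * b) 1))) =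
          eAt e ι (Φ ((eAt f ι).symm _)) * eAt e ι (Φ ((eAt f ι).symm _))
        rw [← map_mul, ← map_mul, ← map_mul, MonoidAlgebra.single_mul_single, mul_one] }
  let H : N →* GroupLike E (MonoidAlgebra E M) := γ.symm.toMonoidHom.comp H₀
  have hH : ∀ n, MonoidAlgebra.mapRingHom M ι.toRingHom (H n).val =
      eAt e ι (Φ ((eAt f ι).symm (MonoidAlgebra.single n 1))) := fun n =>
    congrArg GroupLike.val (γ.apply_symm_apply (H₀ n))
  let F : E ⊗[R] C →ₐc[E] E ⊗[R] B :=
    (e.symm : _ →ₐc[E] _).comp ((bialgOfGlike H).comp (f : _ →ₐc[E] _))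
  have hred : ∀ z, pushC ι B (F z) = Φ (pushC ι C z) := by
    intro z
    obtain ⟨y, rfl⟩ : ∃ y, f.symm y = z := ⟨f z, f.symm_apply_apply z⟩
    show pushC ι B (e.symm (bialgOfGlike H (f (f.symm y)))) = _
    rw [f.apply_symm_apply]
    refine (show Function.Injective (eAt e ι) from (eAt e ι).injective) ?_
    rw [eAt_map, e.apply_symm_apply]
    induction y using MonoidAlgebra.induction_linear with
    | zero => simp
    | add a b ha hb => simp only [map_add, ha, hb]
    | single n r =>
      rw [show MonoidAlgebra.single n r = r • MonoidAlgebra.single n (1 : E) by simp, map_smul,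
        bialgOfGlike_single, map_smul f.symm, Algebra.smul_def, Algebra.smul_def, map_mul, map_mul,
        hH, map_mul, map_mul]
      congr 1
      · simp [MonoidAlgebra.coe_algebraMap]
        rw [show (ι r) ⊗ₜ[R] (1 : C) = ι r • (1 : Eb ⊗[R] C) by
            simp [Algebra.TensorProduct.one_def, TensorProduct.smul_tmul'],
          map_smul Φ, map_smul (eAt e ι), map_one, map_one]
        simp [MonoidAlgebra.one_def]
      · congr 2
        refine (show Function.Injective (eAt f ι) from (eAt f ι).injective) ?_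
        rw [eAt_map, f.apply_symm_apply, (eAt f ι).apply_symm_apply, MonoidAlgebra.mapRingHom_single,
          map_one]
  have hred1 : ∀ c : C, pushC ι B (F ((1 : E) ⊗ₜ[R] c)) = pushC τ B (φ₀ ((1 : R ⧸ I) ⊗ₜ[R] c)) := by
    intro c
    rw [hred, ← hΦ]
    congr 1
  let i₁ : E →ₐ[R] E ⊗[R] E := Algebra.TensorProduct.includeLeft
  let i₂ : E →ₐ[R] E ⊗[R] E := Algebra.TensorProduct.includeRight
  obtain ⟨F₁, hF₁⟩ := exists_hom_push i₁ F
  obtain ⟨F₂, hF₂⟩ := exists_hom_push i₂ F
  have comp : ∀ {S T U : Type u} [CommRing S] [Algebra R S] [CommRing T] [Algebra R T] [CommRing U]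
      [Algebra R U] (g : T →ₐ[R] U) (k : S →ₐ[R] T) (z : S ⊗[R] B),
      pushC g B (pushC k B z) = pushC (g.comp k) B z := by
    intro S T U _ _ _ _ _ _ g k z
    induction z using TensorProduct.induction_on with
    | zero => simp
    | add a b ha hb => simp only [map_add, ha, hb]
    | tmul s b => simp
  have hagree : ∀ z, F₁ z = F₂ z := hom_unique I hE₂
    ⟨M, inferInstance, ⟨eAt e i₁⟩⟩ ⟨N, inferInstance, ⟨eAt f i₁⟩⟩ F₁ F₂ fun c => by
      have h : ∀ (i : E →ₐ[R] E ⊗[R] E),
          pushC (Algebra.TensorProduct.includeRight : E ⊗[R] E →ₐ[R] (R ⧸ I) ⊗[R] (E ⊗[R] E)) B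
            (pushC i B (F ((1 : E) ⊗ₜ[R] c))) =
          pushC (Algebra.TensorProduct.includeLeft : R ⧸ I →ₐ[R] (R ⧸ I) ⊗[R] (E ⊗[R] E)) B
            (φ₀ ((1 : R ⧸ I) ⊗ₜ[R] c)) := by
        intro i
        rw [comp, show (Algebra.TensorProduct.includeRight :
            E ⊗[R] E →ₐ[R] (R ⧸ I) ⊗[R] (E ⊗[R] E)).comp i =
          (Algebra.TensorProduct.map (AlgHom.id R (R ⧸ I)) i).comp ι from AlgHom.ext fun x => by simp [ι],
          ← comp, hred1, comp]
        congr 2
        exact AlgHom.ext fun x => by simp [τ]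
      rw [hF₁, hF₂, h, h]
  have hex : ∀ c, ∃ b : B, (1 : E) ⊗ₜ[R] b = F ((1 : E) ⊗ₜ[R] c) := fun c =>
    exists_one_tmul_of_descent _ ((hF₁ c).symm.trans ((hagree _).trans (hF₂ c)))
  choose φf hφf using hex
  have inj := injective_one_tmul (R := R) E B
  let φ : C →ₐ[R] B :=
    { toFun := φf
      map_one' := inj (by simp only [hφf, ← Algebra.TensorProduct.one_def, map_one])
      map_mul' := fun a b => inj (by
        show (1 : E) ⊗ₜ[R] φf (a * b) = (1 : E) ⊗ₜ[R] (φf a * φf b)
        rw [hφf, ← one_mul (1 : E), ← Algebra.TensorProduct.tmul_mul_tmul, map_mul, ← hφf, ← hφf,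
          Algebra.TensorProduct.tmul_mul_tmul])
      map_zero' := inj (by simp only [hφf, TensorProduct.tmul_zero, map_zero])
      map_add' := fun a b => inj (by simp only [hφf, TensorProduct.tmul_add, map_add])
      commutes' := fun r => inj (by
        simp only [hφf]
        rw [Algebra.algebraMap_eq_smul_one, Algebra.algebraMap_eq_smul_one, TensorProduct.tmul_smul,
          TensorProduct.tmul_smul, ← algebraMap_smul E r ((1 : E) ⊗ₜ[R] (1 : C)), map_smul,
          ← Algebra.TensorProduct.one_def, map_one, ← Algebra.TensorProduct.one_def, algebraMap_smul]) }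
  have hφ : ∀ c, (1 : E) ⊗ₜ[R] φ c = F ((1 : E) ⊗ₜ[R] c) := hφf
  refine ⟨BialgHom.ofAlgHom φ ?_ ?_, fun c => ?_⟩
  · refine AlgHom.ext fun x => FaithfulSMul.algebraMap_injective R E ?_
    have h1 := CoalgHomClass.counit_comp_apply F ((1 : E) ⊗ₜ[R] x)
    rw [← hφ] at h1
    simpa [Algebra.algebraMap_eq_smul_one] using h1
  · let iB : B →ₐ[R] E ⊗[R] B := Algebra.TensorProduct.includeRight
    have hB : Function.Bijective (bcLift (R := E) iB) := by
      rw [show bcLift (R := E) iB = AlgHom.id E _ from comul_algHom_ext fun y => bcLift_one_tmul iB y]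
      exact Function.bijective_id
    refine AlgHom.ext fun x => injective_of_bijective_bcLift _ (bijective_pairMap (R := E) iB iB hB hB) ?_
    have h1 := CoalgHomClass.map_comp_comul_apply F ((1 : E) ⊗ₜ[R] x)
    rw [← hφ, comul_one_tmul, comul_one_tmul] at h1
    have hl : ∀ w : B ⊗[R] B, pairMap (R := E) iB iB w = inclTwo E w := by
      intro w
      induction w using TensorProduct.induction_on with
      | zero => simp
      | add a b ha hb => simp only [map_add, ha, hb]
      | tmul a b => simp [pairMap_tmul, inclTwo_tmul, iB]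
    have hr : ∀ w : C ⊗[R] C, pairMap (R := E) iB iB (Algebra.TensorProduct.map φ φ w) =
        TensorProduct.map (F : E ⊗[R] C →ₗ[E] E ⊗[R] B) (F : E ⊗[R] C →ₗ[E] E ⊗[R] B) (inclTwo E w) := by
      intro w
      induction w using TensorProduct.induction_on with
      | zero => simp
      | add a b ha hb => simp only [map_add, ha, hb]
      | tmul a b => simp [pairMap_tmul, inclTwo_tmul, iB, hφ]
    show pairMap (R := E) iB iB (Algebra.TensorProduct.map φ φ (Coalgebra.comul (R := R) x)) =
      pairMap (R := E) iB iB (Coalgebra.comul (R := R) (φ x))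
    rw [hr, hl]
    exact h1
  · have hτ : Function.Injective (pushC τ B) := by
      have h2 : ∀ z, pushC τ B z = cancelBC R B (R ⧸ I) Eb ((1 : Eb) ⊗ₜ[R ⧸ I] z) := fun z => by
        rw [cancelBC_one_tmul]
        rfl
      intro a b hab
      rw [h2, h2] at hab
      exact Module.FaithfullyFlat.tensorProduct_mk_injective (A := R ⧸ I) (B := Eb) ((R ⧸ I) ⊗[R] B)
        ((cancelBC R B (R ⧸ I) Eb).injective hab)
    refine hτ ?_
    rw [← hred1, ← hφ]
    simp [τ, ι]

end Groth.Agent.MultTypeLib
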