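import Groth.Agent.Lib.MultType.Rigidity

/-!
# Lifting homomorphisms out of groups of multiplicative type into smooth groups
-/

open TensorProduct WithConv

namespace Groth.Agent.MultTypeLib

variable {R : Type*} [CommRing R] {A : Type*} [CommRing A] [Bialgebra R A]

theorem avg_tmul_one_mul (j : A →ₗ[R] R) {P : Type*} [CommRing P] [Algebra R P] (p : P)
    (z : P ⊗[R] A) : avg j P ((p ⊗ₜ[R] (1 : A)) * z) = p * avg j P z := by
  induction z using TensorProduct.induction_on with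
  | zero => simp
  | tmul x y => simp [avg_tmul]
  | add x y hx hy => simp [mul_add, hx, hy]

/-- Averaging is multiplicative to second order, near elements constant in the last factor. -/
theorem avg_mul_sub_mem {j : A →ₗ[R] R} (hj : IsInt j) {K : Ideal R} {P : Type*} [CommRing P]
    [Algebra R P] {x y : P ⊗[R] A} {x0 y0 : P} (hx : x - x0 ⊗ₜ[R] 1 ∈ KT K (P ⊗[R] A))
    (hy : y - y0 ⊗ₜ[R] 1 ∈ KT K (P ⊗[R] A)) :
    avg j P (x * y) - avg j P x * avg j P y ∈ KT (K * K) P := by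
  obtain ⟨u, rfl⟩ : ∃ u, x = x0 ⊗ₜ[R] 1 + u := ⟨x - x0 ⊗ₜ[R] 1, by ring⟩
  obtain ⟨v, rfl⟩ : ∃ v, y = y0 ⊗ₜ[R] 1 + v := ⟨y - y0 ⊗ₜ[R] 1, by ring⟩
  rw [add_sub_cancel_left] at hx hy
  have e : (x0 ⊗ₜ[R] (1 : A) + u) * (y0 ⊗ₜ[R] 1 + v) =
      (x0 * y0) ⊗ₜ[R] 1 + (x0 ⊗ₜ[R] 1) * v + (y0 ⊗ₜ[R] 1) * u + u * v := by
    rw [← mul_one (1 : A), ← Algebra.TensorProduct.tmul_mul_tmul, mul_one]
    ring
  rw [e, map_add, map_add, map_add, avg_tmul_one_mul, avg_tmul_one_mul, map_add, map_add]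
  simp only [avg_tmul, hj.one, one_smul]
  have : x0 * y0 + x0 * avg j P v + y0 * avg j P u + avg j P (u * v) -
      (x0 + avg j P u) * (y0 + avg j P v) = avg j P (u * v) - avg j P u * avg j P v := by ring
  rw [this]
  exact sub_mem (map_mem_KT _ (mul_mem_KT hx hy))
    (mul_mem_KT (map_mem_KT _ hx) (map_mem_KT _ hy))

theorem map_sub_map_mem {C : Type*} [AddCommGroup C] [Module R C] {M N : Type*} [AddCommGroup M]
    [Module R M] [AddCommGroup N] [Module R N] {K : Ideal R} {f f' : C →ₗ[R] M} {g g' : C →ₗ[R] N}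
    (hf : ∀ c, f c - f' c ∈ KT K M) (hg : ∀ c, g c - g' c ∈ KT K N) (z : C ⊗[R] C) :
    TensorProduct.map f g z - TensorProduct.map f' g' z ∈ KT K (M ⊗[R] N) := by
  induction z using TensorProduct.induction_on with
  | zero => simp
  | tmul x y =>
    have : f x ⊗ₜ[R] g y - f' x ⊗ₜ[R] g' y =
        (f x - f' x) ⊗ₜ[R] g y + f' x ⊗ₜ[R] (g y - g' y) := by
      rw [TensorProduct.sub_tmul, TensorProduct.tmul_sub]; abel
    rw [TensorProduct.map_tmul, TensorProduct.map_tmul, this]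
    exact add_mem (bilin_mem_KT_left (TensorProduct.mk R M N) _ (hf x))
      (bilin_mem_KT_right (TensorProduct.mk R M N) _ (hg y))
  | add x y hx hy =>
    rw [map_add, map_add, add_sub_add_comm]
    exact add_mem hx hy

variable {C : Type*} [CommRing C] [HopfAlgebra R C]

/-- `f` respects comultiplication modulo `K`. -/
def IsHomMod (K : Ideal R) (f : C →ₐ[R] A) : Prop :=
  ∀ c, Coalgebra.comul (R := R) (f c) -
    Algebra.TensorProduct.map f f (Coalgebra.comul (R := R) c) ∈ KT K (A ⊗[R] A)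

theorem inv_mul_step {G : Type*} [Group G] (x y z : G) : x * z⁻¹ = (x * y⁻¹) * (y * z⁻¹) := by
  group

theorem postComp_eq_of_sub_mem {K : Ideal R} {T : Type*} [CommRing T] [Algebra R T]
    (f g : WithConv (C →ₐ[R] T)) :
    postComp (Algebra.TensorProduct.includeRight (R := R) (A := R ⧸ K)) f =
      postComp (Algebra.TensorProduct.includeRight (R := R) (A := R ⧸ K)) g ↔
    ∀ c, f.ofConv c - g.ofConv c ∈ KT K T := by
  constructor
  · intro h c
    exact sub_mem_KT_iff_one_tmul_eq.mpr (DFunLike.congr_fun (congrArg WithConv.ofConv h) c)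
  · intro h
    apply ofConv_injective
    ext c
    exact sub_mem_KT_iff_one_tmul_eq.mp (h c)

theorem IsHomMod.step {j : A →ₗ[R] R} (hj : IsInt j) {K : Ideal R} (hK : IsNilpotent K)
    [Algebra.FormallySmooth R C] {f : C →ₐ[R] A} (hf : IsHomMod K f) :
    ∃ f' : C →ₐ[R] A, (∀ c, f' c - f c ∈ KT K A) ∧ IsHomMod (K * K) f' := by
  classical
  let Δ : A →ₐ[R] (A ⊗[R] A) := Bialgebra.comulAlgHom R A
  let i1 : A →ₐ[R] (A ⊗[R] A) := Algebra.TensorProduct.includeLeft (S := R)
  let i2 : A →ₐ[R] (A ⊗[R] A) := Algebra.TensorProduct.includeRight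
  let F := toConv f
  let G := postComp Δ F * (postComp i2 F)⁻¹
  -- `G` is `f ⊗ 1` modulo `K`
  have hG : ∀ c, G.ofConv c - f c ⊗ₜ[R] (1 : A) ∈ KT K (A ⊗[R] A) := by
    refine (postComp_eq_of_sub_mem G (postComp i1 F)).mp ?_
    have h : postComp (Algebra.TensorProduct.includeRight (R := R) (A := R ⧸ K)) (postComp Δ F) =
        postComp Algebra.TensorProduct.includeRight (postComp i1 F * postComp i2 F) := by
      rw [postComp_eq_of_sub_mem]
      intro c
      rw [postComp_apply, postComp_apply, postComp_apply, ι_mul_ι]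
      exact hf c
    rw [map_mul, map_inv, h, map_mul]
    exact mul_inv_cancel_right
      (G := WithConv (C →ₐ[R] (R ⧸ K) ⊗[R] (A ⊗[R] A))) _ _
  -- the three-variable identity
  let As := (Algebra.TensorProduct.assoc R R R A A A).symm.toAlgHom
  let a : (A ⊗[R] A) →ₐ[R] (A ⊗[R] A) ⊗[R] A := As.comp (Algebra.TensorProduct.map (AlgHom.id R A) Δ)
  let b : (A ⊗[R] A) →ₐ[R] (A ⊗[R] A) ⊗[R] A := Algebra.TensorProduct.map Δ (AlgHom.id R A)
  let i23 : (A ⊗[R] A) →ₐ[R] (A ⊗[R] A) ⊗[R] A := As.comp Algebra.TensorProduct.includeRight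
  let i3 : A →ₐ[R] (A ⊗[R] A) ⊗[R] A := Algebra.TensorProduct.includeRight
  have hcoassoc : b.comp Δ = a.comp Δ := by
    ext x
    show Algebra.TensorProduct.map Δ (AlgHom.id R A) (Coalgebra.comul (R := R) x) =
      (TensorProduct.assoc R A A A).symm (Coalgebra.comul.lTensor A (Coalgebra.comul (R := R) x))
    rw [← Coalgebra.coassoc_apply, LinearEquiv.symm_apply_apply]
    rfl
  have hb2 : b.comp i2 = i3 := by
    ext x
    simp [b, i2, i3, Δ, Algebra.TensorProduct.one_def]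
  have ha2 : a.comp i2 = i23.comp Δ := by
    ext x
    simp [a, i2, i23]
  have h23 : i23.comp i2 = i3 := by
    ext x
    simp [i23, i2, i3, As, Algebra.TensorProduct.one_def]
  have hid : postComp b G = postComp a G * postComp i23 G := by
    simp only [G, map_mul, map_inv, ← postComp_comp, hcoassoc, hb2, ha2, h23]
    exact inv_mul_step _ _ _
  -- the averaged map
  let f₁ : C →ₗ[R] A := (avg j A) ∘ₗ G.ofConv.toLinearMap
  have hf₁ : ∀ c, f₁ c - f c ∈ KT K A := by
    intro c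
    have := map_mem_KT (avg j A) (hG c)
    rwa [map_sub, avg_tmul, hj.one, one_smul] at this
  have hone : f₁ 1 = 1 := by
    show avg j A (G.ofConv 1) = 1
    rw [map_one, Algebra.TensorProduct.one_def, avg_tmul, hj.one, one_smul]
  have hmul : ∀ x y, f₁ (x * y) - f₁ x * f₁ y ∈ KT (K * K) A := by
    intro x y
    show avg j A (G.ofConv (x * y)) - _ ∈ _
    rw [map_mul]
    exact avg_mul_sub_mem hj (hG x) (hG y)
  have havgb : ∀ z : (A ⊗[R] A), avg j (A ⊗[R] A) (b z) = Δ (avg j A z) := by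
    intro z
    induction z using TensorProduct.induction_on with
    | zero => simp
    | tmul x y => simp [b, avg_tmul]
    | add x y hx hy => simp [hx, hy]
  have havga : ∀ z : (A ⊗[R] A), avg j (A ⊗[R] A) (a z) = avg j A z ⊗ₜ[R] (1 : A) := by
    intro z
    induction z using TensorProduct.induction_on with
    | zero => simp
    | tmul x y =>
      have : ∀ w : (A ⊗[R] A), avg j (A ⊗[R] A) (As (x ⊗ₜ[R] w)) = x ⊗ₜ[R] avg j A w := by
        intro w
        induction w using TensorProduct.induction_on with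
        | zero => simp
        | tmul p q => simp [As, avg_tmul]
        | add p q hp hq => simp [TensorProduct.tmul_add, hp, hq]
      show avg j (A ⊗[R] A) (As (x ⊗ₜ[R] Coalgebra.comul (R := R) y)) = _
      rw [this, avg_comul hj]
      simp [avg_tmul, TensorProduct.smul_tmul']
    | add x y hx hy => simp [hx, hy, TensorProduct.add_tmul]
  have havg23 : ∀ z : (A ⊗[R] A), avg j (A ⊗[R] A) (i23 z) = (1 : A) ⊗ₜ[R] avg j A z := by
    intro z
    induction z using TensorProduct.induction_on with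
    | zero => simp
    | tmul x y => simp [i23, As, avg_tmul]
    | add x y hx hy => simp [hx, hy, TensorProduct.tmul_add]
  have hcomul : ∀ c, Coalgebra.comul (R := R) (f₁ c) -
      TensorProduct.map f₁ f₁ (Coalgebra.comul (R := R) c) ∈ KT (K * K) (A ⊗[R] A) := by
    intro c
    have h1 : Coalgebra.comul (R := R) (f₁ c) =
        avg j (A ⊗[R] A) ((postComp a G * postComp i23 G).ofConv c) := by
      rw [← hid]; exact (havgb _).symm
    rw [h1]
    show avg j (A ⊗[R] A) (Algebra.TensorProduct.lmul' R (Algebra.TensorProduct.map (a.comp G.ofConv)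
      (i23.comp G.ofConv) (Coalgebra.comul (R := R) c))) - _ ∈ _
    induction (Coalgebra.comul (R := R) c) using TensorProduct.induction_on with
    | zero => simp
    | tmul x y =>
      have hx : a (G.ofConv x) - (f x ⊗ₜ[R] (1 : A)) ⊗ₜ[R] (1 : A) ∈ KT K ((A ⊗[R] A) ⊗[R] A) := by
        have := map_mem_KT a.toLinearMap (hG x)
        simp only [AlgHom.toLinearMap_apply, map_sub] at this
        simpa [a, As, Δ, Algebra.TensorProduct.one_def] using this
      have hy : i23 (G.ofConv y) - ((1 : A) ⊗ₜ[R] f y) ⊗ₜ[R] (1 : A) ∈ KT K ((A ⊗[R] A) ⊗[R] A) := by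
        have := map_mem_KT i23.toLinearMap (hG y)
        simp only [AlgHom.toLinearMap_apply, map_sub] at this
        simpa [i23, As] using this
      have := avg_mul_sub_mem hj hx hy
      rw [havga, havg23] at this
      simpa [f₁] using this
    | add x y hx hy =>
      simp only [map_add, add_sub_add_comm]
      exact add_mem hx hy
  -- pass to an algebra map
  let J : Ideal A := Ideal.map (algebraMap R A) (K * K)
  have hJ : IsNilpotent J := by
    obtain ⟨n, hn⟩ := hK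
    exact ⟨n, by rw [← Ideal.map_pow, mul_pow, hn]; simp⟩
  let fq : C →ₐ[R] A ⧸ J := AlgHom.ofLinearMap ((Ideal.Quotient.mkₐ R J).toLinearMap ∘ₗ f₁)
    (by simp [hone])
    (fun x y => by
      simp only [LinearMap.comp_apply, AlgHom.toLinearMap_apply]
      rw [← map_mul, Ideal.Quotient.mkₐ_eq_mk, Ideal.Quotient.eq]
      exact mem_KT_iff_mem_map.mp (hmul x y))
  let f₂ : C →ₐ[R] A := Algebra.FormallySmooth.liftOfSurjective fq (Ideal.Quotient.mkₐ R J)
    (Ideal.Quotient.mkₐ_surjective R J) (by rwa [Ideal.Quotient.mkₐ_ker])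
  have hf₂ : ∀ c, f₂ c - f₁ c ∈ KT (K * K) A := by
    intro c
    rw [mem_KT_iff_mem_map, ← Ideal.Quotient.eq]
    exact Algebra.FormallySmooth.liftOfSurjective_apply fq (Ideal.Quotient.mkₐ R J) _ _ c
  refine ⟨f₂, fun c => ?_, fun c => ?_⟩
  · rw [← sub_add_sub_cancel (f₂ c) (f₁ c) (f c)]
    exact add_mem (KT_mono Ideal.mul_le_right (hf₂ c)) (hf₁ c)
  · have h1 := map_mem_KT (Coalgebra.comul (R := R) (A := A)) (hf₂ c)
    have h2 := map_sub_map_mem (R := R) (f := f₂.toLinearMap) (g := f₂.toLinearMap) hf₂ hf₂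
      (Coalgebra.comul (R := R) c)
    have := sub_mem (add_mem h1 (hcomul c)) h2
    show Coalgebra.comul (R := R) (f₂ c) - TensorProduct.map f₂.toLinearMap f₂.toLinearMap
      (Coalgebra.comul (R := R) c) ∈ _
    convert this using 1
    rw [map_sub]
    abel

theorem IsHomMod.toBialgHom {f : C →ₐ[R] A} (hf : IsHomMod ⊥ f) :
    ∃ φ : C →ₐc[R] A, (φ : C →ₐ[R] A) = f := by
  have h : (Algebra.TensorProduct.map f f).comp (Bialgebra.comulAlgHom R C) =
      (Bialgebra.comulAlgHom R A).comp f := AlgHom.ext fun c => by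
    have := hf c
    rw [KT_bot, Submodule.mem_bot, sub_eq_zero] at this
    exact this.symm
  refine ⟨BialgHom.ofAlgHom f ?_ h, rfl⟩
  let ε := Bialgebra.counitAlgHom R A
  let μ : A ⊗[R] A →ₐ[R] R := Algebra.TensorProduct.lift ε ε (fun _ _ => Commute.all _ _)
  have h1 : μ.comp (Bialgebra.comulAlgHom R A) = ε := by
    ext x
    have key : ∀ w : A ⊗[R] A, μ w = ε (TensorProduct.lid R A (Coalgebra.counit.rTensor A w)) := by
      intro w
      induction w using TensorProduct.induction_on with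
      | zero => simp
      | tmul p q => simp [μ, ε]
      | add p q hp hq => simp [hp, hq]
    show μ (Coalgebra.comul (R := R) x) = _
    rw [key, Coalgebra.rTensor_counit_comul]
    simp
  let x : WithConv (C →ₐ[R] R) := toConv (ε.comp f)
  have hx : x * x = x := by
    apply ofConv_injective
    show (Algebra.TensorProduct.lmul' R).comp ((Algebra.TensorProduct.map (ε.comp f) (ε.comp f)).comp
      (Bialgebra.comulAlgHom R C)) = ε.comp f
    rw [Algebra.TensorProduct.map_comp, AlgHom.comp_assoc, h, ← AlgHom.comp_assoc,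
      ← AlgHom.comp_assoc]
    congr 1
    conv_rhs => rw [← h1]
    congr 1
    ext <;> simp [μ]
  have hx1 : x = 1 := mul_left_cancel (a := x) (by rw [hx, mul_one])
  exact AlgHom.ext fun c => by simpa [x, ε] using DFunLike.congr_fun (congrArg WithConv.ofConv hx1) c

theorem exists_bialgHom_of_isHomMod {j : A →ₗ[R] R} (hj : IsInt j) {I : Ideal R}
    (hI : IsNilpotent I) [Algebra.FormallySmooth R C] {f : C →ₐ[R] A} (hf : IsHomMod I f) :
    ∃ φ : C →ₐc[R] A, ∀ c, φ c - f c ∈ KT I A := by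
  obtain ⟨n, hn⟩ := hI
  have : ∀ k : ℕ, ∃ f' : C →ₐ[R] A, (∀ c, f' c - f c ∈ KT I A) ∧ IsHomMod (I ^ (k + 1)) f' := by
    intro k
    induction k with
    | zero => exact ⟨f, fun c => by simp, by simpa using hf⟩
    | succ k ih =>
      obtain ⟨f', h1, h2⟩ := ih
      obtain ⟨f'', h3, h4⟩ := h2.step hj ⟨n, by
        rw [← pow_mul]
        exact pow_eq_zero_of_le (Nat.le_mul_of_pos_left n (Nat.succ_pos k)) hn⟩
      refine ⟨f'', fun c => ?_, fun c => KT_mono ?_ (h4 c)⟩
      · rw [← sub_add_sub_cancel (f'' c) (f' c) (f c)]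
        exact add_mem (KT_mono (Ideal.pow_le_self (Nat.succ_ne_zero k)) (h3 c)) (h1 c)
      · rw [pow_succ (n := k + 1)]
        exact Ideal.mul_mono_right (Ideal.pow_le_self (Nat.succ_ne_zero k))
  obtain ⟨f', h1, h2⟩ := this n
  have hbot : I ^ (n + 1) = ⊥ := by rw [pow_succ, hn]; simp
  rw [hbot] at h2
  obtain ⟨φ, hφ⟩ := h2.toBialgHom
  exact ⟨φ, fun c => by rw [show φ c = f' c from DFunLike.congr_fun hφ c]; exact h1 c⟩

section Initial

variable (I : Ideal R)

/-- `A → (R ⧸ I) ⊗ A` is onto, with kernel `I A`. -/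
theorem includeRight_quot_surjective :
    Function.Surjective (Algebra.TensorProduct.includeRight :
      A →ₐ[R] (R ⧸ I) ⊗[R] A) :=
  Algebra.TensorProduct.includeRight_surjective _ Ideal.Quotient.mk_surjective

theorem exists_bialgHom_lift {j : A →ₗ[R] R} (hj : IsInt j) (hI : IsNilpotent I)
    [Algebra.FormallySmooth R C] (φ₀ : ((R ⧸ I) ⊗[R] C) →ₐc[R ⧸ I] ((R ⧸ I) ⊗[R] A)) :
    ∃ φ : C →ₐc[R] A, ∀ c, φ₀ ((1 : R ⧸ I) ⊗ₜ[R] c) = (1 : R ⧸ I) ⊗ₜ[R] φ c := by
  let qA : A →ₐ[R] (R ⧸ I) ⊗[R] A := Algebra.TensorProduct.includeRight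
  have hker : IsNilpotent (RingHom.ker qA) := by
    obtain ⟨n, hn⟩ := hI
    have : RingHom.ker qA = Ideal.map (algebraMap R A) I := by
      ext x
      rw [RingHom.mem_ker, ← mem_KT_iff_mem_map, mem_KT_iff_one_tmul_eq_zero]
      rfl
    exact ⟨n, by rw [this, ← Ideal.map_pow, hn]; simp⟩
  let g₀ : C →ₐ[R] (R ⧸ I) ⊗[R] A :=
    ((φ₀ : (R ⧸ I) ⊗[R] C →ₐ[(R ⧸ I)] (R ⧸ I) ⊗[R] A).restrictScalars R).comp Algebra.TensorProduct.includeRight
  let f : C →ₐ[R] A := Algebra.FormallySmooth.liftOfSurjective g₀ qA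
    (includeRight_quot_surjective I) hker
  have hf : ∀ c, (1 : (R ⧸ I)) ⊗ₜ[R] f c = φ₀ ((1 : (R ⧸ I)) ⊗ₜ[R] c) :=
    Algebra.FormallySmooth.liftOfSurjective_apply g₀ qA _ hker
  -- the comparison map `((R ⧸ I) ⊗ A) ⊗_Q ((R ⧸ I) ⊗ A) → (R ⧸ I) ⊗ (A ⊗ A)`
  let Θ : ((R ⧸ I) ⊗[R] A) ⊗[(R ⧸ I)] ((R ⧸ I) ⊗[R] A) →ₐ[(R ⧸ I)] (R ⧸ I) ⊗[R] (A ⊗[R] A) :=
    Algebra.TensorProduct.lift
      (Algebra.TensorProduct.map (AlgHom.id (R ⧸ I) (R ⧸ I)) (Algebra.TensorProduct.includeLeft (S := R)))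
      (Algebra.TensorProduct.map (AlgHom.id (R ⧸ I) (R ⧸ I)) Algebra.TensorProduct.includeRight)
      (fun _ _ => Commute.all _ _)
  have hΘ : ∀ a, Θ (Coalgebra.comul (R := (R ⧸ I)) ((1 : (R ⧸ I)) ⊗ₜ[R] a)) =
      (1 : (R ⧸ I)) ⊗ₜ[R] Coalgebra.comul (R := R) a := by
    intro a
    rw [← (Coalgebra.Repr.arbitrary R a).eq]
    simp [Θ, ← (Coalgebra.Repr.arbitrary R a).eq, TensorProduct.tmul_sum]
  have hmod : IsHomMod I f := by
    intro c
    rw [sub_mem_KT_iff_one_tmul_eq, ← hΘ, hf, ← CoalgHomClass.map_comp_comul_apply φ₀]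
    rw [← (Coalgebra.Repr.arbitrary R c).eq]
    simp [Θ, ← (Coalgebra.Repr.arbitrary R c).eq, TensorProduct.tmul_sum, ← hf]
  obtain ⟨φ, hφ⟩ := exists_bialgHom_of_isHomMod hj hI hmod
  exact ⟨φ, fun c => (hf c).symm.trans (sub_mem_KT_iff_one_tmul_eq.mp (hφ c)).symm⟩

end Initial

end Groth.Agent.MultTypeLib
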