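import Groth.Agent.Lib.MultType.Model
import Groth.Agent.Lib.MultType.AdicOpen
import Groth.Agent.Lib.FlatH4.FlatLocusFP
import Groth.Agent.Lib.FlatH4.FlatDescent
import Groth.Agent.Lib.FlatH4.FlatLocal

/-!
# Noetherian models over local rings, flat at the closed fibre
-/

universe u

open TensorProduct

namespace Groth.Agent.MultTypeLib

section Flat

variable {R : Type u} [CommRing R] {C : Type u} [CommRing C] [Algebra R C]

/-- A localization is flat when the localizations at the primes avoiding the element are. -/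
theorem flat_away_of_primes (f : C)
    (h : ∀ (q : Ideal C) [q.IsPrime], f ∉ q → Module.Flat R (Localization.AtPrime q)) :
    Module.Flat R (Localization.Away f) := by
  refine Groth.Agent.FlatH4.flat_of_localized_maximal_algebra (S := Localization.Away f) fun P hP => ?_
  haveI := hP.isPrime
  let q := P.comap (algebraMap C (Localization.Away f))
  have hfq : f ∉ q := fun hf => hP.ne_top
    (Ideal.eq_top_of_isUnit_mem _ hf (IsLocalization.Away.algebraMap_isUnit f))
  haveI := h q hfq
  haveI : IsLocalization.AtPrime (Localization.AtPrime P) q :=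
    IsLocalization.isLocalization_isLocalization_atPrime_isLocalization (Submonoid.powers f) _ P
  haveI : Module.Flat R (Localization.AtPrime P) := Module.Flat.of_linearEquiv
    ((IsLocalization.algEquiv q.primeCompl (Localization.AtPrime P)
      (Localization.AtPrime q)).restrictScalars R).toLinearEquiv
  exact Module.Flat.of_linearEquiv
    (((IsLocalizedModule.iso P.primeCompl
      (Algebra.linearMap (Localization.Away f) (Localization.AtPrime P)))).restrictScalars R)

/-- Conversely, the localization at a prime avoiding the element is flat. -/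
theorem flat_atPrime_of_away (f : C) [Module.Flat R (Localization.Away f)] (q : Ideal C) [q.IsPrime]
    (hfq : f ∉ q) : Module.Flat R (Localization.AtPrime q) := by
  let L := Localization.Away f
  have hle : Submonoid.powers f ≤ q.primeCompl := Submonoid.powers_le.2 hfq
  letI : Algebra L (Localization.AtPrime q) :=
    IsLocalization.localizationAlgebraOfSubmonoidLe L (Localization.AtPrime q) _ _ hle
  haveI : IsScalarTower C L (Localization.AtPrime q) :=
    IsLocalization.localization_isScalarTower_of_submonoid_le L (Localization.AtPrime q) _ _ hle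
  haveI : IsScalarTower R L (Localization.AtPrime q) := IsScalarTower.of_algebraMap_eq fun r => by
    rw [IsScalarTower.algebraMap_apply R C L, ← IsScalarTower.algebraMap_apply C L,
      ← IsScalarTower.algebraMap_apply R C]
  haveI : IsLocalization (q.primeCompl.map (algebraMap C L)) (Localization.AtPrime q) :=
    IsLocalization.isLocalization_of_submonoid_le L (Localization.AtPrime q) _ _ hle
  haveI : Module.Flat L (Localization.AtPrime q) :=
    IsLocalization.flat (Localization.AtPrime q) (q.primeCompl.map (algebraMap C L))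
  exact Module.Flat.trans R L (Localization.AtPrime q)

/-- An element congruent to one along an ideal, away from which the algebra is flat. -/
theorem exists_flat_away [Algebra.FinitePresentation R C] (I : Ideal R)
    (hfl : ∀ (q : Ideal C) [q.IsPrime], I.map (algebraMap R C) ≤ q →
      Module.Flat R (Localization.AtPrime q)) :
    ∃ f : C, f - 1 ∈ I.map (algebraMap R C) ∧ Module.Flat R (Localization.Away f) := by
  have hopen := Groth.Agent.FlatH4.isOpen_flat_localized (R := R) (S := C) (M := C)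
  obtain ⟨s, hs⟩ := PrimeSpectrum.isClosed_iff_zeroLocus _ |>.1 hopen.isClosed_compl
  have htop : Ideal.span s ⊔ I.map (algebraMap R C) = ⊤ := by
    by_contra hne
    obtain ⟨m, hm, hle⟩ := Ideal.exists_le_maximal _ hne
    haveI := hm.isPrime
    have hU : (⟨m, hm.isPrime⟩ : PrimeSpectrum C) ∈ PrimeSpectrum.zeroLocus s :=
      fun x hx => hle (Ideal.mem_sup_left (Ideal.subset_span hx))
    rw [← hs] at hU
    exact hU (hfl m (le_sup_right.trans hle))
  obtain ⟨f, hf, g, hg, hfg⟩ := Submodule.mem_sup.1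
    (show (1 : C) ∈ Ideal.span s ⊔ I.map (algebraMap R C) by rw [htop]; trivial)
  refine ⟨f, ?_, flat_away_of_primes f fun q hq hfq => ?_⟩
  · rw [show f - 1 = -g by rw [← hfg]; ring]
    exact neg_mem hg
  · by_contra hne
    have hmem : (⟨q, hq⟩ : PrimeSpectrum C) ∈ PrimeSpectrum.zeroLocus s := by
      rw [← hs]
      exact hne
    exact hfq (Ideal.span_le.2 hmem hf)

end Flat

section Stage

variable {S R : Type u} [CommRing S] [CommRing R] [Algebra S R] {Y : Type u} [CommRing Y] [Algebra S Y]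

theorem subPush_mem_ideal {I : Ideal R} {T T' : Subalgebra S R} (h : T ≤ T') {w : T ⊗[S] Y}
    (hw : w ∈ (I.comap (algebraMap T R)).map (algebraMap T (T ⊗[S] Y))) :
    subPush Y h w ∈ (I.comap (algebraMap T' R)).map (algebraMap T' (T' ⊗[S] Y)) := by
  have hle : (I.comap (algebraMap T R)).map (algebraMap T (T ⊗[S] Y)) ≤
      ((I.comap (algebraMap T' R)).map (algebraMap T' (T' ⊗[S] Y))).comap
        (subPush Y h : T ⊗[S] Y →ₐ[S] T' ⊗[S] Y).toRingHom := by
    refine Ideal.map_le_iff_le_comap.2 fun t ht => ?_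
    rw [Ideal.mem_comap, Ideal.mem_comap]
    have : (subPush Y h : T ⊗[S] Y →ₐ[S] T' ⊗[S] Y).toRingHom (algebraMap T (T ⊗[S] Y) t) =
        algebraMap T' (T' ⊗[S] Y) (Subalgebra.inclusion h t) := by
      simp [subPush, Algebra.TensorProduct.algebraMap_apply]
    rw [this]
    exact Ideal.mem_map_of_mem _ ht
  exact hle hw


/-- An element of an extended ideal comes from the extended ideal at a finite stage. -/
theorem exists_mem_stage_ideal (I : Ideal R) {z : R ⊗[S] Y}
    (hz : z ∈ I.map (algebraMap R (R ⊗[S] Y))) :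
    ∃ T : Subalgebra S R, T.FG ∧ ∃ w : T ⊗[S] Y,
      w ∈ (I.comap (algebraMap T R)).map (algebraMap T (T ⊗[S] Y)) ∧ subVal Y T w = z := by
  classical
  refine Submodule.span_induction (p := fun z _ => ∃ T : Subalgebra S R, T.FG ∧ ∃ w : T ⊗[S] Y,
    w ∈ (I.comap (algebraMap T R)).map (algebraMap T (T ⊗[S] Y)) ∧ subVal Y T w = z)
    ?_ ?_ ?_ ?_ hz
  · rintro _ ⟨a, ha, rfl⟩
    refine ⟨Algebra.adjoin S {a}, Subalgebra.fg_def.2 ⟨{a}, Set.finite_singleton a, rfl⟩,
      algebraMap (Algebra.adjoin S {a}) _ ⟨a, Algebra.subset_adjoin rfl⟩,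
      Ideal.mem_map_of_mem _ ha, ?_⟩
    simp [subVal, Algebra.TensorProduct.algebraMap_apply]
  · exact ⟨⊥, Subalgebra.fg_bot, 0, zero_mem _, map_zero _⟩
  · rintro x y _ _ ⟨T₁, h₁, w₁, hw₁, rfl⟩ ⟨T₂, h₂, w₂, hw₂, rfl⟩
    refine ⟨T₁ ⊔ T₂, h₁.sup h₂, subPush Y (le_sup_left : T₁ ≤ T₁ ⊔ T₂) w₁ + subPush Y (le_sup_right : T₂ ≤ T₁ ⊔ T₂) w₂,
      add_mem (subPush_mem_ideal le_sup_left hw₁) (subPush_mem_ideal le_sup_right hw₂), ?_⟩
    rw [map_add, subVal_subPush, subVal_subPush]
  · rintro x y _ ⟨T₁, h₁, w₁, hw₁, rfl⟩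
    obtain ⟨T₂, h₂, w₂, rfl⟩ := exists_mem_stage (R₀ := S) x
    refine ⟨T₁ ⊔ T₂, h₁.sup h₂, subPush Y (le_sup_right : T₂ ≤ T₁ ⊔ T₂) w₂ * subPush Y (le_sup_left : T₁ ≤ T₁ ⊔ T₂) w₁,
      Ideal.mul_mem_left _ _ (subPush_mem_ideal le_sup_left hw₁), ?_⟩
    rw [map_mul, subVal_subPush, subVal_subPush, smul_eq_mul]

end Stage

section Local

variable {R : Type u} [CommRing R] {C : Type u} [CommRing C] [HopfAlgebra R C]

theorem flat_tensor_away {S : Type u} [CommRing S] [Algebra S R] {C₁ : Type u} [CommRing C₁]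
    [Algebra S C₁] {C : Type u} [CommRing C] [Algebra R C] (e : R ⊗[S] C₁ ≃ₐ[R] C) (w : C₁) (f : C)
    (hf : e ((1 : R) ⊗ₜ[S] w) = f) [Module.Flat R (Localization.Away f)] :
    Module.Flat R (R ⊗[S] Localization.Away w) := by
  have H : (Submonoid.powers ((1 : R) ⊗ₜ[S] w)).map e.toMonoidHom = Submonoid.powers f := by
    rw [Submonoid.map_powers]
    exact congrArg Submonoid.powers hf
  let E₁ := IsLocalization.Away.tensorProductEquivTMulRight S R w (Localization.Away w)
  let E₂ : Localization.Away ((1 : R) ⊗ₜ[S] w) ≃ₐ[R] Localization.Away f :=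
    IsLocalization.algEquivOfAlgEquiv (M := Submonoid.powers ((1 : R) ⊗ₜ[S] w))
      (T := Submonoid.powers f) (Localization.Away ((1 : R) ⊗ₜ[S] w)) (Localization.Away f) e H
  exact Module.Flat.of_linearEquiv (E₁.trans E₂).toLinearEquiv

set_option maxHeartbeats 2000000 in
set_option synthInstance.maxHeartbeats 400000 in
/-- Descent of flatness along the locus away from an element congruent to one. -/
theorem exists_flat_stage {T : Type u} [CommRing T] [IsNoetherianRing T] [Algebra T R] {C₁ : Type u}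
    [CommRing C₁] [Algebra T C₁] [Algebra.FinitePresentation T C₁] (I : Ideal R) (w : C₁)
    (hw : w ∈ (I.comap (algebraMap T R)).map (algebraMap T C₁))
    [Module.Flat R (R ⊗[T] Localization.Away (w + 1))] :
    ∃ B : Subalgebra T R, B.FG ∧ ∀ (q : Ideal (B ⊗[T] C₁)) [q.IsPrime],
      (I.comap (algebraMap B R)).map (algebraMap B (B ⊗[T] C₁)) ≤ q →
        Module.Flat B (Localization.AtPrime q) := by
  haveI : Algebra.FiniteType C₁ (Localization.Away (w + 1)) :=
    IsLocalization.finiteType_of_monoid_fg (Submonoid.powers (w + 1)) _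
  haveI : Algebra.FiniteType T (Localization.Away (w + 1)) :=
    Algebra.FiniteType.trans (S := C₁) inferInstance inferInstance
  obtain ⟨B, hB, hflat⟩ := Groth.Agent.FlatH4.exists_subalgebra_flat T R (Localization.Away (w + 1))
    (Localization.Away (w + 1))
  haveI := hflat B le_rfl hB
  refine ⟨B, hB, fun q hq hle => ?_⟩
  let inc : C₁ →ₐ[T] B ⊗[T] C₁ := Algebra.TensorProduct.includeRight
  haveI : Module.Flat B (Localization.Away (inc (w + 1))) := Module.Flat.of_linearEquiv
    (IsLocalization.Away.tensorProductEquivTMulRight T B (w + 1)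
      (Localization.Away (w + 1))).symm.toLinearEquiv
  refine flat_atPrime_of_away (inc (w + 1)) q fun hmem => hq.ne_top ?_
  rw [Ideal.eq_top_iff_one]
  have h1 : inc w ∈ q := by
    have h2 : (I.comap (algebraMap T R)).map (algebraMap T C₁) ≤ q.comap inc := by
      refine Ideal.map_le_iff_le_comap.2 fun t ht => ?_
      show inc (algebraMap T C₁ t) ∈ q
      rw [AlgHom.commutes, IsScalarTower.algebraMap_apply T B (B ⊗[T] C₁)]
      refine hle (Ideal.mem_map_of_mem _ ?_)
      rw [Ideal.mem_comap, ← IsScalarTower.algebraMap_apply]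
      exact ht
    exact h2 hw
  rw [show (1 : B ⊗[T] C₁) = inc (w + 1) - inc w by rw [map_add, map_one, add_sub_cancel_left]]
  exact q.sub_mem hmem h1

variable [IsLocalRing R]

set_option maxHeartbeats 2000000 in
set_option synthInstance.maxHeartbeats 400000 in
/-- A model over a ring of finite type over the integers, flat along the closed fibre. -/
theorem exists_flat_model (hfp : Algebra.FinitePresentation R C)
    (hfl : ∀ (q : Ideal C) [q.IsPrime], Ideal.map (algebraMap R C) (IsLocalRing.maximalIdeal R) ≤ q →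
      Module.Flat R (Localization.AtPrime q)) :
    ∃ (S : Type u) (_ : CommRing S) (_ : Algebra S R) (C₁ : Type u) (_ : CommRing C₁)
      (_ : HopfAlgebra S C₁), Algebra.FiniteType ℤ S ∧ Algebra.FinitePresentation S C₁ ∧
        (∀ (q : Ideal C₁) [q.IsPrime],
          ((IsLocalRing.maximalIdeal R).comap (algebraMap S R)).map (algebraMap S C₁) ≤ q →
            Module.Flat S (Localization.AtPrime q)) ∧
        Nonempty (R ⊗[S] C₁ ≃ₐc[R] C) := by
  obtain ⟨S₀, _, _, C₀, _, _, hS₀, hC₀, ⟨e₀⟩⟩ := exists_hopf_model hfp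
  haveI := hfp
  obtain ⟨f, hf, hflat⟩ := exists_flat_away (IsLocalRing.maximalIdeal R) hfl
  haveI := hflat
  have hz : (e₀ : R ⊗[S₀] C₀ ≃ₐ[R] C).symm (f - 1) ∈
      (IsLocalRing.maximalIdeal R).map (algebraMap R (R ⊗[S₀] C₀)) := by
    have := Ideal.mem_map_of_mem ((e₀ : R ⊗[S₀] C₀ ≃ₐ[R] C).symm : C →ₐ[R] R ⊗[S₀] C₀).toRingHom hf
    rwa [Ideal.map_map, AlgHom.toRingHom_eq_coe, AlgHom.comp_algebraMap] at this
  obtain ⟨T, hT, w, hw, hwz⟩ := exists_mem_stage_ideal _ hz
  haveI : Algebra.FiniteType ℤ T := finiteType_int_subalgebra hS₀ T hT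
  haveI : IsNoetherianRing T := Algebra.FiniteType.isNoetherianRing ℤ T
  haveI := hC₀
  let e' : R ⊗[T] (T ⊗[S₀] C₀) ≃ₐc[R] C := (cancelBC S₀ C₀ T R).trans e₀
  have he' : ∀ x : T ⊗[S₀] C₀, e' ((1 : R) ⊗ₜ[T] x) = e₀ (subVal C₀ T x) := fun x => by
    show e₀ (cancelBC S₀ C₀ T R ((1 : R) ⊗ₜ[T] x)) = e₀ (subVal C₀ T x)
    congr 1
    induction x using TensorProduct.induction_on with
    | zero => simp
    | add a b ha hb => simp only [TensorProduct.tmul_add, map_add, ha, hb]
    | tmul a b => rw [cancelBC_tmul]; simp [subVal, Algebra.smul_def]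
  have hwf : (e' : R ⊗[T] (T ⊗[S₀] C₀) ≃ₐ[R] C) ((1 : R) ⊗ₜ[T] (w + 1)) = f := by
    show e' ((1 : R) ⊗ₜ[T] (w + 1)) = f
    rw [he', map_add, map_one, hwz, map_add, map_one]
    show (e₀ : R ⊗[S₀] C₀ ≃ₐ[R] C) ((e₀ : R ⊗[S₀] C₀ ≃ₐ[R] C).symm (f - 1)) + 1 = f
    rw [AlgEquiv.apply_symm_apply, sub_add_cancel]
  haveI : Module.Flat R (R ⊗[T] Localization.Away (w + 1)) :=
    flat_tensor_away (e' : R ⊗[T] (T ⊗[S₀] C₀) ≃ₐ[R] C) (w + 1) f hwf
  obtain ⟨B, hB, hBflat⟩ := exists_flat_stage (IsLocalRing.maximalIdeal R) w hw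
  exact ⟨B, inferInstance, inferInstance, B ⊗[T] (T ⊗[S₀] C₀), inferInstance, inferInstance,
    finiteType_int_subalgebra inferInstance B hB, inferInstance, hBflat,
    ⟨(cancelBC T (T ⊗[S₀] C₀) B R).trans e'⟩⟩

/-- A model over a Noetherian local ring, flat along the closed fibre. -/
theorem exists_local_model (hfp : Algebra.FinitePresentation R C)
    (hfl : ∀ (q : Ideal C) [q.IsPrime], Ideal.map (algebraMap R C) (IsLocalRing.maximalIdeal R) ≤ q →
      Module.Flat R (Localization.AtPrime q)) :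
    ∃ (R₁ : Type u) (_ : CommRing R₁) (_ : IsLocalRing R₁) (_ : IsNoetherianRing R₁) (_ : Algebra R₁ R)
      (_ : IsLocalHom (algebraMap R₁ R)) (C₁ : Type u) (_ : CommRing C₁) (_ : HopfAlgebra R₁ C₁),
      Algebra.FinitePresentation R₁ C₁ ∧
        (∀ (q : Ideal C₁) [q.IsPrime], (IsLocalRing.maximalIdeal R₁).map (algebraMap R₁ C₁) ≤ q →
            Module.Flat R₁ (Localization.AtPrime q)) ∧
        Nonempty (R ⊗[R₁] C₁ ≃ₐc[R] C) := by
  obtain ⟨S, _, _, C₁, _, _, hS, hC₁, hfl₁, ⟨e⟩⟩ := exists_flat_model hfp hfl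
  haveI := hS
  haveI : IsNoetherianRing S := Algebra.FiniteType.isNoetherianRing ℤ S
  haveI := hC₁
  let p := (IsLocalRing.maximalIdeal R).comap (algebraMap S R)
  let R₁ := Localization.AtPrime p
  let φ : R₁ →+* R := IsLocalization.lift (M := p.primeCompl) (g := algebraMap S R) fun s => by
    by_contra hu
    exact s.2 ((IsLocalRing.mem_maximalIdeal _).2 hu)
  letI : Algebra R₁ R := φ.toAlgebra
  haveI : IsScalarTower S R₁ R := IsScalarTower.of_algebraMap_eq fun s => by
    show algebraMap S R s = φ (algebraMap S R₁ s)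
    rw [IsLocalization.lift_eq]
  haveI : IsLocalHom (algebraMap R₁ R) := by
    refine (IsLocalRing.local_hom_TFAE (algebraMap R₁ R)).out 3 0 |>.mp ?_
    rw [← Localization.AtPrime.map_eq_maximalIdeal, Ideal.map_le_iff_le_comap]
    intro s hs
    rw [Ideal.mem_comap, Ideal.mem_comap, ← IsScalarTower.algebraMap_apply]
    exact hs
  haveI : IsNoetherianRing R₁ := IsLocalization.isNoetherianRing p.primeCompl _ inferInstance
  refine ⟨R₁, inferInstance, inferInstance, inferInstance, inferInstance, inferInstance,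
    R₁ ⊗[S] C₁, inferInstance, inferInstance, inferInstance, fun q hq hle => ?_,
    ⟨(cancelBC S C₁ R₁ R).trans e⟩⟩
  refine flatAt_baseChange (I := p) hfl₁ q ?_
  rwa [Localization.AtPrime.map_eq_maximalIdeal]

end Local

end Groth.Agent.MultTypeLib
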