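import Groth.Agent.Lib.MultType.Descent
import Groth.Agent.Lib.MultType.QuotLift

/-!
# Noetherian models of finitely presented Hopf algebras
-/

universe u

open TensorProduct WithConv HopfAlgebra

namespace Groth.Agent.MultTypeLib

theorem finiteType_int_subalgebra {A : Type u} [CommRing A] {S : Type u} [CommRing S] [Algebra S A]
    (hS : Algebra.FiniteType ℤ S) (T : Subalgebra S A) (hT : T.FG) : Algebra.FiniteType ℤ T := by
  haveI := hS
  haveI : Algebra.FiniteType S T := T.fg_iff_finiteType.1 hT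
  exact Algebra.FiniteType.trans (S := S) inferInstance inferInstance

theorem algHom_eq_of_one_tmul {T X : Type u} [CommRing T] [CommRing X] {S : Type u} [CommRing S]
    [Algebra S T] [Algebra S X] {Y : Type u} [CommRing Y] [Algebra T Y] (f g : T ⊗[S] X →ₐ[T] Y)
    (h : ∀ x, f ((1 : T) ⊗ₜ[S] x) = g ((1 : T) ⊗ₜ[S] x)) : f = g := by
  refine AlgHom.ext fun z => ?_
  induction z using TensorProduct.induction_on with
  | zero => simp
  | add a b ha hb => rw [map_add, map_add, ha, hb]
  | tmul t x =>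
    rw [show t ⊗ₜ[S] x = t • ((1 : T) ⊗ₜ[S] x) by simp [TensorProduct.smul_tmul'], map_smul, map_smul, h]

section Stage

variable {R₀ R : Type u} [CommRing R₀] [CommRing R] [Algebra R₀ R] {D X : Type u} [CommRing D]
  [Algebra R D] [Algebra R₀ D] [IsScalarTower R₀ R D] [CommRing X] [Algebra R₀ X]
  (S : Subalgebra R₀ R)

theorem bcLift_subVal (j : X →ₐ[R₀] D) (w : S ⊗[R₀] X) :
    bcLift (R := R) j (subVal X S w) = bcLift (R := S) j w := by
  induction w using TensorProduct.induction_on with
  | zero => simp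
  | add a b ha hb => simp only [map_add, ha, hb]
  | tmul a b => simp [subVal, bcLift, IsScalarTower.algebraMap_apply S R D]

/-- A map defined over a stage lifts a map given over the bigger base. -/
theorem bcLift_stage {C C₀ : Type u} [CommRing C] [Algebra R C] [Algebra R₀ C] [IsScalarTower R₀ R C]
    [CommRing C₀] [Algebra R₀ C₀]
    (j : X →ₐ[R₀] D) (hj : Function.Bijective (bcLift (R := R) j)) (fe : C₀ →ₐ[R₀] C)
    (φ : C →ₐ[R] D) (g : C₀ →ₐ[R₀] S ⊗[R₀] X)
    (hg : ∀ c, subVal X S (g c) = (AlgEquiv.ofBijective (bcLift (R := R) j) hj).symm (φ (fe c)))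
    (z : S ⊗[R₀] C₀) :
    bcLift (R := R) j (subVal X S (bcLift (R := S) g z)) = φ (bcLift (R := S) fe z) := by
  induction z using TensorProduct.induction_on with
  | zero => simp
  | add a b ha hb => simp only [map_add, ha, hb]
  | tmul s c =>
    have h1 : bcLift (R := S) g (s ⊗ₜ[R₀] c) = (s ⊗ₜ[R₀] (1 : X)) * g c := rfl
    have h2 : bcLift (R := S) fe (s ⊗ₜ[R₀] c) = algebraMap R C (s : R) * fe c := rfl
    have h3 : subVal X S (s ⊗ₜ[R₀] (1 : X)) = (s : R) ⊗ₜ[R₀] (1 : X) := by simp [subVal]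
    rw [h1, h2, map_mul, map_mul, h3, hg, map_mul, AlgHom.commutes]
    congr 1
    · simp [bcLift]
    · exact (AlgEquiv.ofBijective (bcLift (R := R) j) hj).apply_symm_apply _

theorem pairMap_bcLift_pairMap {C C₀ C₁ : Type u} [CommRing C] [Algebra R C] [Algebra R₀ C]
    [IsScalarTower R₀ R C] [CommRing C₀] [Algebra R₀ C₀] [CommRing C₁] [Algebra S C₁] [Algebra R₀ C₁]
    [IsScalarTower R₀ S C₁]
    (inc : C₀ →ₐ[R₀] C₁) (f : C₁ →ₐ[S] C) (fe : C₀ →ₐ[R₀] C) (hf : ∀ c, f (inc c) = fe c)
    (w : S ⊗[R₀] (C₀ ⊗[R₀] C₀)) :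
    pairMap (R := R) f f (bcLift (R := S) (pairMap (R := S) inc inc) w) =
      bcLift (R := R) (pairMap (R := R) fe fe) (subVal _ S w) := by
  induction w using TensorProduct.induction_on with
  | zero => simp
  | add a b ha hb => simp only [map_add, ha, hb]
  | tmul s x =>
    induction x using TensorProduct.induction_on with
    | zero => simp
    | add a b ha hb => simp only [TensorProduct.tmul_add, map_add, ha, hb]
    | tmul a b =>
      have h1 : bcLift (R := S) (pairMap (R := S) inc inc) (s ⊗ₜ[R₀] (a ⊗ₜ[R₀] b)) =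
          (algebraMap S C₁ s * inc a) ⊗ₜ[S] inc b := by simp [bcLift, pairMap_tmul]
      have h2 : bcLift (R := R) (pairMap (R := R) fe fe) (subVal _ S (s ⊗ₜ[R₀] (a ⊗ₜ[R₀] b))) =
          (algebraMap R C (s : R) * fe a) ⊗ₜ[R] fe b := by simp [bcLift, subVal, pairMap_tmul]
      rw [h1, h2, pairMap_tmul, map_mul, AlgHom.commutes, hf, hf]
      rfl

theorem coe_bcLift_ofId (S : Subalgebra R₀ R) (w : S ⊗[R₀] R₀) :
    ((bcLift (R := S) (Algebra.ofId R₀ S) w : S) : R) =
      bcLift (R := R) (Algebra.ofId R₀ R) (subVal R₀ S w) := by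
  induction w using TensorProduct.induction_on with
  | zero => simp
  | add a b ha hb => simp only [map_add, Subalgebra.coe_add, ha, hb]
  | tmul a b => simp [bcLift, subVal]

end Stage

variable {R : Type u} [CommRing R] {C : Type u} [CommRing C] [HopfAlgebra R C]

/-- A model over a subring of the data of a Hopf algebra. -/
theorem exists_data_model (hfp : Algebra.FinitePresentation R C) :
    ∃ (S : Type u) (_ : CommRing S) (_ : Algebra S R) (_ : Algebra S C) (_ : IsScalarTower S R C)
      (C₁ : Type u) (_ : CommRing C₁) (_ : Algebra S C₁)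
      (Δ : C₁ →ₐ[S] C₁ ⊗[S] C₁) (ε : C₁ →ₐ[S] S) (σ : C₁ →ₐ[S] C₁) (f : C₁ →ₐ[S] C),
      Algebra.FiniteType ℤ S ∧ Algebra.FinitePresentation S C₁ ∧
      Function.Bijective (bcLift (R := R) f) ∧
      DataHom Δ ε σ (Bialgebra.comulAlgHom R C) (Bialgebra.counitAlgHom R C) (antipodeAlgHom R C) f := by
  haveI := hfp
  obtain ⟨R₀, C₀, _, _, _, _, hR₀, hC₀, ⟨e⟩⟩ := Groth.Agent.FlatH4.exists_approx R C
  letI : Algebra R₀ C := ((algebraMap R C).comp (algebraMap R₀ R)).toAlgebra
  haveI : IsScalarTower R₀ R C := IsScalarTower.of_algebraMap_eq' rfl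
  let fe : C₀ →ₐ[R₀] C := (e.toAlgHom.restrictScalars R₀).comp Algebra.TensorProduct.includeRight
  have hee : bcLift (R := R) fe = e.toAlgHom :=
    algHom_eq_of_one_tmul _ _ fun x => bcLift_one_tmul fe x
  have hfe : Function.Bijective (bcLift (R := R) fe) := by rw [hee]; exact e.bijective
  have hfe₂ := bijective_pairMap fe fe hfe hfe
  have hfe₀ : Function.Bijective (bcLift (R := R) (Algebra.ofId R₀ R)) := by
    rw [show bcLift (R := R) (Algebra.ofId R₀ R) = (Algebra.TensorProduct.rid R₀ R R).toAlgHom from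
      algHom_eq_of_one_tmul _ _ fun x => by simp [bcLift_one_tmul, Algebra.algebraMap_eq_smul_one]]
    exact (Algebra.TensorProduct.rid R₀ R R).bijective
  obtain ⟨S₁, hS₁, g₁, hg₁⟩ := exists_stage_hom
    (((AlgEquiv.ofBijective _ hfe₂).symm.toAlgHom.restrictScalars R₀).comp
      (((Bialgebra.comulAlgHom R C).restrictScalars R₀).comp fe))
  obtain ⟨S₂, hS₂, g₂, hg₂⟩ := exists_stage_hom
    (((AlgEquiv.ofBijective _ hfe₀).symm.toAlgHom.restrictScalars R₀).comp
      (((Bialgebra.counitAlgHom R C).restrictScalars R₀).comp fe))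
  obtain ⟨S₃, hS₃, g₃, hg₃⟩ := exists_stage_hom
    (((AlgEquiv.ofBijective _ hfe).symm.toAlgHom.restrictScalars R₀).comp
      (((antipodeAlgHom R C).restrictScalars R₀).comp fe))
  obtain ⟨S, hS, le₁, le₂, le₃⟩ : ∃ S : Subalgebra R₀ R, S.FG ∧ S₁ ≤ S ∧ S₂ ≤ S ∧ S₃ ≤ S :=
    ⟨S₁ ⊔ S₂ ⊔ S₃, (hS₁.sup hS₂).sup hS₃, le_sup_left.trans le_sup_left,
      le_sup_right.trans le_sup_left, le_sup_right⟩
  refine ⟨S, inferInstance, inferInstance, inferInstance, inferInstance, S ⊗[R₀] C₀, inferInstance,
    inferInstance,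
    (bcLift (R := S) (pairMap (R := S) (Algebra.TensorProduct.includeRight : C₀ →ₐ[R₀] S ⊗[R₀] C₀)
      Algebra.TensorProduct.includeRight)).comp (bcLift (R := S) ((subPush _ le₁).comp g₁)),
    (bcLift (R := S) (Algebra.ofId R₀ S)).comp (bcLift (R := S) ((subPush _ le₂).comp g₂)),
    bcLift (R := S) ((subPush _ le₃).comp g₃),
    bcLift (R := S) fe, finiteType_int_subalgebra hR₀ S hS, inferInstance, ?_, ?_⟩
  · let F : R ⊗[S] (S ⊗[R₀] C₀) ≃ₐ[R] C :=
      (Algebra.TensorProduct.cancelBaseChange R₀ S R R C₀).trans e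
    rw [show bcLift (R := R) (bcLift (R := S) fe) = F.toAlgHom from algHom_eq_of_one_tmul _ _ fun x => by
      rw [bcLift_one_tmul, ← bcLift_subVal, hee]
      show e _ = e (Algebra.TensorProduct.cancelBaseChange R₀ S R R C₀ _)
      congr 1
      induction x using TensorProduct.induction_on with
      | zero => simp
      | add a b ha hb => simp only [TensorProduct.tmul_add, map_add, ha, hb]
      | tmul s c =>
        rw [Algebra.TensorProduct.cancelBaseChange_tmul]
        simp [subVal, Algebra.smul_def]]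
    exact F.bijective
  · refine ⟨fun x => ?_, fun x => ?_, fun x => ?_⟩
    · rw [AlgHom.comp_apply, pairMap_bcLift_pairMap S
        (Algebra.TensorProduct.includeRight : C₀ →ₐ[R₀] S ⊗[R₀] C₀) (bcLift (R := S) fe) fe
        fun c => bcLift_one_tmul fe c]
      exact bcLift_stage S (pairMap (R := R) fe fe) hfe₂ fe (Bialgebra.comulAlgHom R C) _
        (fun c => by rw [AlgHom.comp_apply, subVal_subPush]; exact AlgHom.congr_fun hg₁ c) x
    · have h0 := bcLift_stage S (Algebra.ofId R₀ R) hfe₀ fe (Bialgebra.counitAlgHom R C)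
        ((subPush R₀ le₂).comp g₂) (fun c => by rw [AlgHom.comp_apply, subVal_subPush]; exact AlgHom.congr_fun hg₂ c) x
      refine Eq.trans ?_ h0
      exact coe_bcLift_ofId S _
    · rw [← bcLift_subVal]
      exact bcLift_stage S fe hfe fe (antipodeAlgHom R C) _
        (fun c => by rw [AlgHom.comp_apply, subVal_subPush]; exact AlgHom.congr_fun hg₃ c) x

set_option maxHeartbeats 1000000 in
/-- A finitely presented Hopf algebra comes from a Noetherian ring. -/
theorem exists_hopf_model (hfp : Algebra.FinitePresentation R C) :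
    ∃ (S : Type u) (_ : CommRing S) (_ : Algebra S R) (C₁ : Type u) (_ : CommRing C₁)
      (_ : HopfAlgebra S C₁), Algebra.FiniteType ℤ S ∧ Algebra.FinitePresentation S C₁ ∧
        Nonempty (R ⊗[S] C₁ ≃ₐc[R] C) := by
  obtain ⟨S, _, _, _, _, C₁, _, _, Δ, ε, σ, f, hS, hC₁, hf, hd⟩ := exists_data_model hfp
  haveI := hC₁
  have hf₂ := bijective_pairMap (R := R) f f hf hf
  have hf₃ := bijective_pairMap (R := R) f (pairMap (R := R) f f) hf hf₂
  have e1 : ∀ z : C ⊗[R] C, Algebra.TensorProduct.map (Bialgebra.counitAlgHom R C) (AlgHom.id R C) z =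
      (Coalgebra.counit (R := R)).rTensor C z := by
    intro z
    induction z using TensorProduct.induction_on with
    | zero => simp
    | add a b ha hb => simp only [map_add, ha, hb]
    | tmul a b => simp
  have e2 : ∀ z : C ⊗[R] C, Algebra.TensorProduct.map (AlgHom.id R C) (Bialgebra.counitAlgHom R C) z =
      (Coalgebra.counit (R := R)).lTensor C z := by
    intro z
    induction z using TensorProduct.induction_on with
    | zero => simp
    | add a b ha hb => simp only [map_add, ha, hb]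
    | tmul a b => simp
  have e3 : ∀ z : C ⊗[R] C, Algebra.TensorProduct.lift (antipodeAlgHom R C) (AlgHom.id R C)
      (fun _ _ => Commute.all _ _) z = LinearMap.mul' R C ((antipode R).rTensor C z) := by
    intro z
    induction z using TensorProduct.induction_on with
    | zero => simp
    | add a b ha hb => simp only [map_add, ha, hb]
    | tmul a b => simp
  have e4 : ∀ z : C ⊗[R] C, Algebra.TensorProduct.lift (AlgHom.id R C) (antipodeAlgHom R C)
      (fun _ _ => Commute.all _ _) z = LinearMap.mul' R C ((antipode R).lTensor C z) := by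
    intro z
    induction z using TensorProduct.induction_on with
    | zero => simp
    | add a b ha hb => simp only [map_add, ha, hb]
    | tmul a b => simp
  obtain ⟨T₁, hT₁, q₁⟩ := exists_stage_eq (R := R) (coassocL Δ) (coassocR Δ) fun c => by
    refine ext_of_bijective hf₃ ?_
    rw [hd.coassocL_map, hd.coassocR_map]
    show Algebra.TensorProduct.assoc R R R C C C
      (Algebra.TensorProduct.map (Bialgebra.comulAlgHom R C) (AlgHom.id R C) (Coalgebra.comul (R := R) (f c))) =
      Algebra.TensorProduct.map (AlgHom.id R C) (Bialgebra.comulAlgHom R C) (Coalgebra.comul (R := R) (f c))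
    exact Coalgebra.coassoc_apply (f c)
  obtain ⟨T₂, hT₂, q₂⟩ := exists_stage_eq (R := R) (counitL Δ ε) (AlgHom.id S C₁) fun c => by
    refine ext_of_bijective hf ?_
    rw [hd.counitL_map]
    show Algebra.TensorProduct.lid R C (Algebra.TensorProduct.map (Bialgebra.counitAlgHom R C)
      (AlgHom.id R C) (Coalgebra.comul (R := R) (f c))) = f c
    rw [e1, Coalgebra.rTensor_counit_comul]
    simp
  obtain ⟨T₃, hT₃, q₃⟩ := exists_stage_eq (R := R) (counitR Δ ε) (AlgHom.id S C₁) fun c => by
    refine ext_of_bijective hf ?_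
    rw [hd.counitR_map]
    show Algebra.TensorProduct.rid R R C (Algebra.TensorProduct.map (AlgHom.id R C)
      (Bialgebra.counitAlgHom R C) (Coalgebra.comul (R := R) (f c))) = f c
    rw [e2, Coalgebra.lTensor_counit_comul]
    simp
  obtain ⟨T₄, hT₄, q₄⟩ := exists_stage_eq (R := R) (antiL Δ σ) ((Algebra.ofId S C₁).comp ε) fun c => by
    refine ext_of_bijective hf ?_
    rw [hd.antiL_map, AlgHom.comp_apply, Algebra.ofId_apply, hd.counit_algebraMap_map]
    show Algebra.TensorProduct.lift (antipodeAlgHom R C) (AlgHom.id R C) (fun _ _ => Commute.all _ _)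
      (Coalgebra.comul (R := R) (f c)) = _
    rw [e3, mul_antipode_rTensor_comul_apply]
    rfl
  obtain ⟨T₅, hT₅, q₅⟩ := exists_stage_eq (R := R) (antiR Δ σ) ((Algebra.ofId S C₁).comp ε) fun c => by
    refine ext_of_bijective hf ?_
    rw [hd.antiR_map, AlgHom.comp_apply, Algebra.ofId_apply, hd.counit_algebraMap_map]
    show Algebra.TensorProduct.lift (AlgHom.id R C) (antipodeAlgHom R C) (fun _ _ => Commute.all _ _)
      (Coalgebra.comul (R := R) (f c)) = _
    rw [e4, mul_antipode_lTensor_comul_apply]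
    rfl
  let T : Subalgebra S R := T₁ ⊔ T₂ ⊔ T₃ ⊔ T₄ ⊔ T₅
  have hT : T.FG := (((hT₁.sup hT₂).sup hT₃).sup hT₄).sup hT₅
  let C₂ := T ⊗[S] C₁
  let inc : C₁ →ₐ[S] C₂ := Algebra.TensorProduct.includeRight
  let Δ₂ : C₂ →ₐ[T] C₂ ⊗[T] C₂ := bcLift (R := T) ((pairMap (R := T) inc inc).comp Δ)
  let ε₂ : C₂ →ₐ[T] T := bcLift (R := T) ((Algebra.ofId S T).comp ε)
  let σ₂ : C₂ →ₐ[T] C₂ := bcLift (R := T) (inc.comp σ)
  have hd₂ : DataHom Δ ε σ Δ₂ ε₂ σ₂ inc :=
    ⟨fun c => (bcLift_one_tmul (R := T) ((pairMap (R := T) inc inc).comp Δ) c).symm,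
      fun c => (bcLift_one_tmul (R := T) ((Algebra.ofId S T).comp ε) c).symm,
      fun c => (bcLift_one_tmul (R := T) (inc.comp σ) c).symm⟩
  have hid : bcLift (R := T) inc = AlgHom.id T C₂ :=
    algHom_eq_of_one_tmul _ _ fun c => bcLift_one_tmul inc c
  have hstage : ∀ {X Y : Type u} [CommRing X] [Algebra S X] [CommRing Y] [Algebra T Y] [Algebra S Y]
      [IsScalarTower S T Y] (F : X →ₐ[S] Y) (a b : X),
      (1 : T) ⊗ₜ[S] a = (1 : T) ⊗ₜ[S] b → F a = F b := by
    intro X Y _ _ _ _ _ _ F a b h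
    rw [← bcLift_one_tmul (R := T) F a, h, bcLift_one_tmul]
  have a1 : coassocL Δ₂ = coassocR Δ₂ := algHom_eq_of_one_tmul _ _ fun c => by
    show coassocL Δ₂ (inc c) = coassocR Δ₂ (inc c)
    rw [← hd₂.coassocL_map, ← hd₂.coassocR_map]
    exact hstage _ _ _ (q₁ T (((le_sup_left.trans le_sup_left).trans le_sup_left).trans le_sup_left) c)
  have a2 : counitL Δ₂ ε₂ = AlgHom.id T C₂ := algHom_eq_of_one_tmul _ _ fun c => by
    show counitL Δ₂ ε₂ (inc c) = inc c
    rw [← hd₂.counitL_map]
    exact hstage inc _ _ (q₂ T (((le_sup_right.trans le_sup_left).trans le_sup_left).trans le_sup_left) c)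
  have a3 : counitR Δ₂ ε₂ = AlgHom.id T C₂ := algHom_eq_of_one_tmul _ _ fun c => by
    show counitR Δ₂ ε₂ (inc c) = inc c
    rw [← hd₂.counitR_map]
    exact hstage inc _ _ (q₃ T ((le_sup_right.trans le_sup_left).trans le_sup_left) c)
  have a4 : antiL Δ₂ σ₂ = (Algebra.ofId T C₂).comp ε₂ := algHom_eq_of_one_tmul _ _ fun c => by
    show antiL Δ₂ σ₂ (inc c) = algebraMap T C₂ (ε₂ (inc c))
    rw [← hd₂.antiL_map, ← hd₂.counit_algebraMap_map]
    exact hstage inc _ _ (q₄ T (le_sup_right.trans le_sup_left) c)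
  have a5 : antiR Δ₂ σ₂ = (Algebra.ofId T C₂).comp ε₂ := algHom_eq_of_one_tmul _ _ fun c => by
    show antiR Δ₂ σ₂ (inc c) = algebraMap T C₂ (ε₂ (inc c))
    rw [← hd₂.antiR_map, ← hd₂.counit_algebraMap_map]
    exact hstage inc _ _ (q₅ T le_sup_right c)
  letI bi : Bialgebra T C₂ := Bialgebra.ofAlgHom Δ₂ ε₂ a1
    (AlgHom.ext fun x => (Algebra.TensorProduct.lid T C₂).injective
      ((AlgHom.congr_fun a2 x).trans ((Algebra.TensorProduct.lid T C₂).apply_symm_apply x).symm))
    (AlgHom.ext fun x => (Algebra.TensorProduct.rid T T C₂).injective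
      ((AlgHom.congr_fun a3 x).trans ((Algebra.TensorProduct.rid T T C₂).apply_symm_apply x).symm))
  letI hopf : HopfAlgebra T C₂ := HopfAlgebra.ofAlgHom σ₂ a4 a5
  refine ⟨T, inferInstance, inferInstance, C₂, inferInstance, hopf,
    finiteType_int_subalgebra hS T hT, inferInstance, ?_⟩
  let f₂ : C₂ →ₐ[T] C := bcLift (R := T) f
  have hf₂b : Function.Bijective (bcLift (R := R) f₂) := by
    have : ⇑(bcLift (R := R) f₂) =
        bcLift (R := R) f ∘ Algebra.TensorProduct.cancelBaseChange S T R R C₁ := by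
      funext z
      induction z using TensorProduct.induction_on with
      | zero => simp
      | add a b ha hb => simp only [Function.comp_apply, map_add] at ha hb ⊢; rw [ha, hb]
      | tmul r x =>
        induction x using TensorProduct.induction_on with
        | zero => simp
        | add a b ha hb =>
          simp only [TensorProduct.tmul_add, Function.comp_apply, map_add] at ha hb ⊢; rw [ha, hb]
        | tmul t c =>
          show algebraMap R C r * (algebraMap T C t * f c) =
            bcLift (R := R) f (Algebra.TensorProduct.cancelBaseChange S T R R C₁ (r ⊗ₜ[T] (t ⊗ₜ[S] c)))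
          rw [Algebra.TensorProduct.cancelBaseChange_tmul]
          show _ = algebraMap R C (t • r) * f c
          rw [Algebra.smul_def, map_mul, IsScalarTower.algebraMap_apply T R C]
          ring
    rw [this]
    exact hf.comp (AlgEquiv.bijective _)
  have hdf : ∀ x, pairMap (R := R) f₂ f₂ (Δ₂ x) = Coalgebra.comul (R := R) (f₂ x) := fun x => by
    suffices (pairMap (R := R) f₂ f₂).comp Δ₂ =
        ((Bialgebra.comulAlgHom R C).restrictScalars T).comp f₂ from AlgHom.congr_fun this x
    refine algHom_eq_of_one_tmul _ _ fun c => ?_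
    show pairMap (R := R) f₂ f₂ (Δ₂ (inc c)) = Bialgebra.comulAlgHom R C (f₂ ((1 : T) ⊗ₜ[S] c))
    rw [← hd₂.comul, show f₂ ((1 : T) ⊗ₜ[S] c) = f c from bcLift_one_tmul f c, ← hd.comul]
    induction Δ c using TensorProduct.induction_on with
    | zero => simp
    | add a b ha hb => simp only [map_add, ha, hb]
    | tmul a b =>
      rw [pairMap_tmul, pairMap_tmul, pairMap_tmul]
      congr 1 <;> exact bcLift_one_tmul (R := T) f _
  refine ⟨BialgEquiv.ofAlgEquiv (AlgEquiv.ofBijective (bcLift (R := R) f₂) hf₂b) ?_ ?_⟩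
  · refine algHom_eq_of_one_tmul _ _ fun x => ?_
    show Coalgebra.counit (R := R) (bcLift (R := R) f₂ ((1 : R) ⊗ₜ[T] x)) =
      Coalgebra.counit (R := R) ((1 : R) ⊗ₜ[T] x)
    rw [bcLift_one_tmul, TensorProduct.counit_tmul]
    simp only [Bialgebra.counit_one, one_smul]
    have hc : ((Bialgebra.counitAlgHom R C).restrictScalars T).comp f₂ = (Algebra.ofId T R).comp ε₂ :=
      algHom_eq_of_one_tmul _ _ fun c => by
        show Coalgebra.counit (R := R) (f₂ ((1 : T) ⊗ₜ[S] c)) = algebraMap T R (ε₂ (inc c))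
        rw [show f₂ ((1 : T) ⊗ₜ[S] c) = f c from bcLift_one_tmul f c, ← hd₂.counit,
          ← IsScalarTower.algebraMap_apply S T R]
        exact (hd.counit c).symm
    refine (AlgHom.congr_fun hc x).trans ?_
    show algebraMap T R (ε₂ x) = ε₂ x • (1 : R)
    rw [Algebra.algebraMap_eq_smul_one]
  · refine algHom_eq_of_one_tmul _ _ fun x => ?_
    show Algebra.TensorProduct.map (bcLift (R := R) f₂) (bcLift (R := R) f₂)
      (Coalgebra.comul (R := R) ((1 : R) ⊗ₜ[T] x)) =
      Coalgebra.comul (R := R) (bcLift (R := R) f₂ ((1 : R) ⊗ₜ[T] x))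
    rw [bcLift_one_tmul, ← hdf, comul_one_tmul]
    show Algebra.TensorProduct.map (bcLift (R := R) f₂) (bcLift (R := R) f₂) (inclTwo R (Δ₂ x)) = _
    induction Δ₂ x using TensorProduct.induction_on with
    | zero => simp
    | add a b ha hb => simp only [map_add, ha, hb]
    | tmul a b => simp [inclTwo_tmul, pairMap_tmul, bcLift_one_tmul]

end Groth.Agent.MultTypeLib
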