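import Groth.Agent.Lib.MultType.Integral
import Mathlib.RingTheory.Bialgebra.Convolution
import Mathlib.RingTheory.Jacobson.Ring
import Mathlib.RingTheory.Finiteness.Nakayama
import Mathlib.RingTheory.HopfAlgebra.Basic
import Mathlib.FieldTheory.IsAlgClosed.AlgebraicClosure
import Mathlib.LinearAlgebra.Dual.Lemmas

/-!
# Surjective homomorphisms of Hopf algebras split by translations

A surjection of Hopf algebras whose kernel is killed by an element which is invertible at the
unit point is the projection onto a factor.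
-/

universe u

open TensorProduct WithConv HopfAlgebra

namespace Groth.Agent.MultTypeLib

variable {R : Type u} [CommRing R] {C : Type u} [CommRing C] [HopfAlgebra R C]
  {K : Type u} [CommRing K] [Algebra R K]

/-- Translation by a point, on coordinate rings. -/
noncomputable def transl (x : C →ₐ[R] K) : K ⊗[R] C →ₐ[K] K ⊗[R] C :=
  Algebra.TensorProduct.lift (Algebra.TensorProduct.includeLeft (S := K))
    ((Algebra.TensorProduct.map x (AlgHom.id R C)).comp (Bialgebra.comulAlgHom R C))
    (fun _ _ => Commute.all _ _)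

theorem transl_one_tmul (x : C →ₐ[R] K) (c : C) : transl x ((1 : K) ⊗ₜ[R] c) =
    Algebra.TensorProduct.map x (AlgHom.id R C) (Coalgebra.comul (R := R) c) := by
  simp [transl, ← Algebra.TensorProduct.one_def]

/-- Evaluation at a point. -/
noncomputable def pointEval (x : C →ₐ[R] K) : K ⊗[R] C →ₐ[K] K :=
  Algebra.TensorProduct.lift (AlgHom.id K K) x (fun _ _ => Commute.all _ _)

theorem pointEval_tmul (x : C →ₐ[R] K) (t : K) (c : C) : pointEval x (t ⊗ₜ[R] c) = t * x c := by
  simp [pointEval]

theorem pointEval_transl (x y : C →ₐ[R] K) (c : C) :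
    pointEval y (transl x ((1 : K) ⊗ₜ[R] c)) = (toConv x * toConv y).ofConv c := by
  rw [transl_one_tmul, AlgHom.convMul_apply]
  induction Coalgebra.comul (R := R) c using TensorProduct.induction_on with
  | zero => simp
  | tmul a b => simp [pointEval_tmul]
  | add a b ha hb => simp only [map_add, ha, hb]

theorem transl_one : transl (1 : WithConv (C →ₐ[R] K)).ofConv = AlgHom.id K (K ⊗[R] C) := by
  refine Algebra.TensorProduct.ext' fun t c => ?_
  rw [show t ⊗ₜ[R] c = t • ((1 : K) ⊗ₜ[R] c) by simp [TensorProduct.smul_tmul'], map_smul, map_smul,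
    transl_one_tmul, AlgHom.id_apply]
  congr 1
  have h : ∀ z : C ⊗[R] C,
      Algebra.TensorProduct.map (1 : WithConv (C →ₐ[R] K)).ofConv (AlgHom.id R C) z =
      (1 : K) ⊗ₜ[R] TensorProduct.lid R C ((Coalgebra.counit (R := R)).rTensor C z) := by
    intro z
    induction z using TensorProduct.induction_on with
    | zero => simp
    | tmul a b => simp [AlgHom.convOne_apply, Algebra.algebraMap_eq_smul_one, TensorProduct.smul_tmul]
    | add a b ha hb => simp only [map_add, TensorProduct.tmul_add, ha, hb]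
  rw [h, Coalgebra.rTensor_counit_comul]
  simp

theorem transl_transl (x y : C →ₐ[R] K) (z : K ⊗[R] C) :
    transl y (transl x z) = transl (toConv x * toConv y).ofConv z := by
  suffices (transl y).comp (transl x) = transl (toConv x * toConv y).ofConv from AlgHom.congr_fun this z
  refine Algebra.TensorProduct.ext' fun t c => ?_
  rw [show t ⊗ₜ[R] c = t • ((1 : K) ⊗ₜ[R] c) by simp [TensorProduct.smul_tmul'], map_smul, map_smul,
    AlgHom.comp_apply, transl_one_tmul, transl_one_tmul]
  congr 1
  let G : C ⊗[R] (C ⊗[R] C) →ₗ[R] K ⊗[R] C :=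
    (TensorProduct.map (LinearMap.mul' R K ∘ₗ TensorProduct.map x.toLinearMap y.toLinearMap)
      LinearMap.id) ∘ₗ (TensorProduct.assoc R C C C).symm.toLinearMap
  have h1 : ∀ z : C ⊗[R] C, transl y (Algebra.TensorProduct.map x (AlgHom.id R C) z) =
      G ((Coalgebra.comul (R := R)).lTensor C z) := by
    intro z
    induction z using TensorProduct.induction_on with
    | zero => simp
    | tmul a b =>
      rw [Algebra.TensorProduct.map_tmul, AlgHom.id_apply,
        show x a ⊗ₜ[R] b = x a • ((1 : K) ⊗ₜ[R] b) by simp [TensorProduct.smul_tmul'], map_smul,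
        transl_one_tmul, LinearMap.lTensor_tmul]
      induction Coalgebra.comul (R := R) b using TensorProduct.induction_on with
      | zero => simp
      | tmul u v => simp [G, TensorProduct.smul_tmul']
      | add u v hu hv => simp only [map_add, smul_add, TensorProduct.tmul_add, hu, hv]
    | add a b ha hb => simp only [map_add, ha, hb]
  have h2 : ∀ z : C ⊗[R] C, Algebra.TensorProduct.map (toConv x * toConv y).ofConv (AlgHom.id R C) z =
      G (TensorProduct.assoc R C C C ((Coalgebra.comul (R := R)).rTensor C z)) := by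
    intro z
    induction z using TensorProduct.induction_on with
    | zero => simp
    | tmul a b =>
      rw [Algebra.TensorProduct.map_tmul, AlgHom.convMul_apply, LinearMap.rTensor_tmul]
      simp only [G, LinearMap.comp_apply, LinearEquiv.coe_toLinearMap, LinearEquiv.symm_apply_apply,
        TensorProduct.map_tmul, LinearMap.id_apply, AlgHom.id_apply]
      congr 1
      induction Coalgebra.comul (R := R) a using TensorProduct.induction_on with
      | zero => simp
      | tmul u v => simp
      | add u v hu hv => simp only [map_add, hu, hv]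
    | add a b ha hb => simp only [map_add, ha, hb]
  rw [h1, h2, Coalgebra.coassoc_apply]

variable {D : Type u} [CommRing D] [HopfAlgebra R D]

theorem map_transl (φ : C →ₐc[R] D) (x : D →ₐ[R] K) (z : K ⊗[R] C) :
    Algebra.TensorProduct.map (AlgHom.id K K) (φ : C →ₐ[R] D) (transl (x.comp (φ : C →ₐ[R] D)) z) =
      transl x (Algebra.TensorProduct.map (AlgHom.id K K) (φ : C →ₐ[R] D) z) := by
  suffices (Algebra.TensorProduct.map (AlgHom.id K K) (φ : C →ₐ[R] D)).comp
      (transl (x.comp (φ : C →ₐ[R] D))) =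
      (transl x).comp (Algebra.TensorProduct.map (AlgHom.id K K) (φ : C →ₐ[R] D)) from
    AlgHom.congr_fun this z
  refine Algebra.TensorProduct.ext' fun t c => ?_
  rw [show t ⊗ₜ[R] c = t • ((1 : K) ⊗ₜ[R] c) by simp [TensorProduct.smul_tmul'], map_smul, map_smul]
  congr 1
  simp only [AlgHom.comp_apply, Algebra.TensorProduct.map_tmul, AlgHom.id_apply, transl_one_tmul]
  rw [show ((φ : C →ₐ[R] D) c) = φ c from rfl, ← CoalgHomClass.map_comp_comul_apply φ]
  induction Coalgebra.comul (R := R) c using TensorProduct.induction_on with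
  | zero => simp
  | tmul a b => simp
  | add a b ha hb => simp only [map_add, ha, hb]

/-- A vanishing criterion for elements of the base change of a split kernel. -/
theorem base_kernel_induction (φ : C →ₐ[R] D) (s : D →ₗ[R] C) (hs : ∀ d, φ (s d) = d)
    {z : K ⊗[R] C} (hz : Algebra.TensorProduct.map (AlgHom.id K K) φ z = 0) :
    z = ((LinearMap.id : C →ₗ[R] C) - s ∘ₗ φ.toLinearMap).baseChange K z := by
  have h : ∀ w, (s ∘ₗ φ.toLinearMap).baseChange K w =
      s.baseChange K (Algebra.TensorProduct.map (AlgHom.id K K) φ w) := by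
    intro w
    induction w using TensorProduct.induction_on with
    | zero => simp
    | tmul a b => simp
    | add a b ha hb => simp only [map_add, ha, hb]
  rw [LinearMap.baseChange_sub, LinearMap.sub_apply, LinearMap.baseChange_id, h, hz, map_zero,
    sub_zero, LinearMap.id_apply]

end Groth.Agent.MultTypeLib

namespace Groth.Agent.MultTypeLib

variable {R : Type u} [CommRing R] {C : Type u} [CommRing C] [HopfAlgebra R C]
  {D : Type u} [CommRing D] [HopfAlgebra R D]

/-- Over an algebraically closed field the kernel is generated by an idempotent. -/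
theorem exists_unit_of_algClosed {K : Type u} [Field K] [Algebra R K] [IsAlgClosed K]
    (hft : Algebra.FiniteType R C) (φ : C →ₐc[R] D) (hφ : Function.Surjective φ) (s : D →ₗ[R] C)
    (hs : ∀ d, φ (s d) = d) {f : C} (hfN : ∀ n, φ n = 0 → f * n = 0)
    (hεf : IsUnit (Coalgebra.counit (R := R) f)) :
    ∃ b : K ⊗[R] C, Algebra.TensorProduct.map (AlgHom.id K K) (φ : C →ₐ[R] D) b = 0 ∧
      ∀ z, Algebra.TensorProduct.map (AlgHom.id K K) (φ : C →ₐ[R] D) z = 0 → b * z = z := by
  set φK := Algebra.TensorProduct.map (AlgHom.id K K) (φ : C →ₐ[R] D)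
  let A : Ideal (K ⊗[R] C) :=
    { carrier := {a | ∀ z, φK z = 0 → a * z = 0}
      add_mem' := fun ha hb z hz => by rw [add_mul, ha z hz, hb z hz, add_zero]
      zero_mem' := fun z _ => zero_mul z
      smul_mem' := fun c a ha z hz => by rw [smul_eq_mul, mul_assoc, ha z hz, mul_zero] }
  have hfK : (1 : K) ⊗ₜ[R] f ∈ A := by
    intro z hz
    rw [base_kernel_induction (φ : C →ₐ[R] D) s hs hz]
    clear hz
    induction z using TensorProduct.induction_on with
    | zero => simp
    | tmul a b =>
      rw [LinearMap.baseChange_tmul, Algebra.TensorProduct.tmul_mul_tmul, LinearMap.sub_apply,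
        LinearMap.id_apply, LinearMap.comp_apply]
      rw [hfN _ (show φ (b - s (φ b)) = 0 by rw [map_sub, hs, sub_self]) |> fun h =>
        (h : f * (b - s ((φ : C →ₐ[R] D).toLinearMap b)) = 0), TensorProduct.tmul_zero]
    | add a b ha hb => rw [map_add, mul_add, ha, hb, add_zero]
  by_cases htop : A ⊔ RingHom.ker φK = ⊤
  · obtain ⟨a, ha, b, hb, hab⟩ := Submodule.mem_sup.1 ((Ideal.eq_top_iff_one _).1 htop)
    refine ⟨b, hb, fun z hz => ?_⟩
    rw [eq_sub_of_add_eq' hab, sub_mul, one_mul, ha z hz, sub_zero]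
  exfalso
  obtain ⟨m, hm, hle⟩ := Ideal.exists_le_maximal _ htop
  haveI := hft
  haveI : Algebra.FiniteType K (K ⊗[R] C) := inferInstance
  letI : Field ((K ⊗[R] C) ⧸ m) := Ideal.Quotient.field m
  haveI : Algebra.FiniteType K ((K ⊗[R] C) ⧸ m) :=
    Algebra.FiniteType.of_surjective (Ideal.Quotient.mkₐ K m) Ideal.Quotient.mk_surjective
  haveI : Module.Finite K ((K ⊗[R] C) ⧸ m) := finite_of_finite_type_of_isJacobsonRing _ _
  let eK : K ≃ₐ[K] (K ⊗[R] C) ⧸ m := AlgEquiv.ofBijective (Algebra.ofId K _)
    (IsAlgClosed.algebraMap_bijective_of_isIntegral (k := K))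
  let g : K ⊗[R] C →ₐ[K] K := eK.symm.toAlgHom.comp (Ideal.Quotient.mkₐ K m)
  have hg : ∀ z, z ∈ m → g z = 0 := fun z hz => by
    simp [g, Ideal.Quotient.eq_zero_iff_mem.2 hz]
  let x : C →ₐ[R] K := (g.restrictScalars R).comp Algebra.TensorProduct.includeRight
  have hxN : ∀ n, φ n = 0 → x n = 0 := fun n hn => hg _ (hle (Submodule.mem_sup_right (by
    show φK ((1 : K) ⊗ₜ[R] n) = 0
    simp [φK, show (φ : C →ₐ[R] D) n = 0 from hn])))
  obtain ⟨x', hx'⟩ : ∃ x' : D →ₐ[R] K, x'.comp (φ : C →ₐ[R] D) = x := by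
    refine ⟨(Ideal.Quotient.liftₐ (RingHom.ker (φ : C →ₐ[R] D)) x hxN).comp
      (Ideal.quotientKerAlgEquivOfSurjective (f := (φ : C →ₐ[R] D)) hφ).symm.toAlgHom, ?_⟩
    refine AlgHom.ext fun c => ?_
    have : (Ideal.quotientKerAlgEquivOfSurjective (f := (φ : C →ₐ[R] D)) hφ).symm (φ c) =
        Ideal.Quotient.mk _ c := by
      rw [AlgEquiv.symm_apply_eq]
      rfl
    simp [this]
  let y : C →ₐ[R] K := ((toConv x)⁻¹).ofConv
  have hy : (toConv y : WithConv (C →ₐ[R] K)) = (toConv x)⁻¹ := rfl
  have hstab : ∀ z, φK z = 0 → φK (transl x z) = 0 := fun z hz => by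
    rw [← hx', map_transl φ x' z, hz, map_zero]
  have hyA : transl y ((1 : K) ⊗ₜ[R] f) ∈ A := by
    intro z hz
    have h1 : transl y (transl x z) = z := by
      rw [transl_transl, hy, mul_inv_cancel, transl_one, AlgHom.id_apply]
    rw [← h1, ← map_mul, hfK _ (hstab z hz), map_zero]
  have h2 : g (transl y ((1 : K) ⊗ₜ[R] f)) = 0 := hg _ (hle (Submodule.mem_sup_left hyA))
  have hgx : g = pointEval x := Algebra.TensorProduct.ext' fun t c => by
    rw [pointEval_tmul, show t ⊗ₜ[R] c = t • ((1 : K) ⊗ₜ[R] c) by simp [TensorProduct.smul_tmul'],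
      map_smul]
    rfl
  rw [hgx, pointEval_transl, hy, inv_mul_cancel, AlgHom.convOne_apply] at h2
  exact (hεf.map (algebraMap R K)).ne_zero h2

/-- A surjection whose kernel is killed by a function invertible at the unit point has a kernel
generated by an idempotent. -/
theorem exists_idem_ker [IsNoetherianRing C] (hft : Algebra.FiniteType R C) (φ : C →ₐc[R] D)
    (hφ : Function.Surjective φ) (s : D →ₗ[R] C) (hs : ∀ d, φ (s d) = d) {f : C}
    (hfN : ∀ n, φ n = 0 → f * n = 0) (hεf : IsUnit (Coalgebra.counit (R := R) f)) :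
    ∃ e : C, IsIdempotentElem e ∧ RingHom.ker (φ : C →ₐ[R] D) = Ideal.span {e} := by
  classical
  set N : Ideal C := RingHom.ker (φ : C →ₐ[R] D)
  suffices htop : Submodule.annihilator N ⊔ N = ⊤ by
    obtain ⟨a, ha, b, hb, hab⟩ := Submodule.mem_sup.1 ((Ideal.eq_top_iff_one _).1 htop)
    have hid : ∀ n ∈ N, b * n = n := fun n hn => by
      rw [eq_sub_of_add_eq' hab, sub_mul, one_mul]
      rw [show a * n = 0 from Submodule.mem_annihilator.1 ha n hn, sub_zero]
    refine ⟨b, hid b hb, le_antisymm (fun n hn => ?_) ((Ideal.span_singleton_le_iff_mem N).2 hb)⟩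
    rw [← hid n hn]
    exact Ideal.mul_mem_right _ _ (Ideal.subset_span rfl)
  by_contra htop
  obtain ⟨P, hP, hle⟩ := Ideal.exists_le_maximal _ htop
  letI : Field (C ⧸ P) := Ideal.Quotient.field P
  let K := AlgebraicClosure (C ⧸ P)
  obtain ⟨b, hb, hbid⟩ := exists_unit_of_algClosed (K := K) hft φ hφ s hs hfN hεf
  let x : C →ₐ[R] K := (IsScalarTower.toAlgHom R (C ⧸ P) K).comp (Ideal.Quotient.mkₐ R P)
  have hxN : ∀ n ∈ N, x n = 0 := fun n hn => by
    simp [x, Ideal.Quotient.eq_zero_iff_mem.2 (hle (Submodule.mem_sup_right hn))]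
  have hxb : pointEval x b = 0 := by
    rw [base_kernel_induction (φ : C →ₐ[R] D) s hs hb]
    generalize b = w
    induction w using TensorProduct.induction_on with
    | zero => simp
    | tmul t c =>
      have h : x (c - s ((φ : C →ₐ[R] D).toLinearMap c)) = 0 :=
        hxN _ (show φ (c - s (φ c)) = 0 by rw [map_sub, hs, sub_self])
      rw [LinearMap.baseChange_tmul, pointEval_tmul, LinearMap.sub_apply, LinearMap.id_apply,
        LinearMap.comp_apply, h, mul_zero]
    | add v w hv hw => rw [map_add, map_add, hv, hw, add_zero]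
  have hfun : ∀ L : N →ₗ[C] C ⧸ P, ∀ n : N, L n = 0 := by
    intro L n
    refine (algebraMap (C ⧸ P) K).injective ?_
    rw [map_zero]
    let q : C →ₗ[R] N := LinearMap.codRestrict (N.restrictScalars R)
      ((LinearMap.id : C →ₗ[R] C) - s ∘ₗ (φ : C →ₐ[R] D).toLinearMap) (fun c => by
        show φ (c - s (φ c)) = 0
        rw [map_sub, hs, sub_self])
    let l : C →ₗ[R] K :=
      ((IsScalarTower.toAlgHom R (C ⧸ P) K).toLinearMap ∘ₗ L.restrictScalars R) ∘ₗ q
    let Λ : K ⊗[R] C →ₗ[R] K := LinearMap.mul' R K ∘ₗ l.lTensor K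
    have hlN : ∀ m : N, l m = algebraMap (C ⧸ P) K (L m) := fun m => by
      have : q m = m := Subtype.ext (by
        show (m : C) - s (φ m) = m
        rw [show φ (m : C) = 0 from m.2, map_zero, sub_zero])
      simp [l, this]
    have key : ∀ w : K ⊗[R] C, Λ (w * ((1 : K) ⊗ₜ[R] (n : C))) =
        pointEval x w * algebraMap (C ⧸ P) K (L n) := by
      intro w
      induction w using TensorProduct.induction_on with
      | zero => simp
      | tmul t c =>
        have h1 : c * (n : C) = ((c • n : N) : C) := rfl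
        simp only [Λ, Algebra.TensorProduct.tmul_mul_tmul, mul_one, LinearMap.comp_apply,
          LinearMap.lTensor_tmul, LinearMap.mul'_apply, pointEval_tmul, h1, hlN, map_smul]
        rw [Algebra.smul_def, map_mul, ← mul_assoc]
        rfl
      | add v w hv hw => simp only [map_add, add_mul, hv, hw]
    have h0 : Algebra.TensorProduct.map (AlgHom.id K K) (φ : C →ₐ[R] D) ((1 : K) ⊗ₜ[R] (n : C)) = 0 := by
      simp [show (φ : C →ₐ[R] D) (n : C) = 0 from n.2]
    have h1 := key b
    rw [hbid _ h0, hxb, zero_mul] at h1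
    have h2 := key 1
    rw [one_mul, map_one, one_mul, h1] at h2
    exact h2.symm
  have hPN : N ≤ P • N := by
    intro n hn
    have : Submodule.Quotient.mk (p := P • (⊤ : Submodule C N)) ⟨n, hn⟩ = 0 := by
      refine (Module.forall_dual_apply_eq_zero_iff (C ⧸ P) _).1 fun d => ?_
      exact hfun ((d.restrictScalars C) ∘ₗ (P • (⊤ : Submodule C N)).mkQ) ⟨n, hn⟩
    rw [Submodule.Quotient.mk_eq_zero, Submodule.mem_smul_top_iff] at this
    exact this
  obtain ⟨r, hr, hr0⟩ := Submodule.exists_sub_one_mem_and_smul_eq_zero_of_fg_of_le_smul P N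
    (IsNoetherian.noetherian N) hPN
  have hrP : r ∈ P := hle (Submodule.mem_sup_left (Submodule.mem_annihilator.2 hr0))
  exact hP.ne_top ((Ideal.eq_top_iff_one _).2 (by simpa using P.sub_mem hrP hr))

end Groth.Agent.MultTypeLib
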