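import Groth.Agent.Lib.MultType.Rigidity
import Groth.Agent.Lib.MultType.Base

/-!
# Subgroups of diagonalisable groups over connected bases
-/

universe u

open TensorProduct HopfAlgebra

namespace Groth.Agent.MultTypeLib

variable {R : Type u} [CommRing R]

theorem IsInt.smul_glike {B : Type u} [CommRing B] [HopfAlgebra R B] {j : B →ₗ[R] R} (hj : IsInt j)
    {g : B} (hg : IsGroupLikeElem R g) : j g • g = j g • (1 : B) := by
  have h := avg_comul hj g
  rwa [hg.comul_eq_tmul_self, avg_tmul] at h

theorem IsInt.isIdempotentElem_glike {B : Type u} [CommRing B] [HopfAlgebra R B] {j : B →ₗ[R] R}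
    (hj : IsInt j) {g : B} (hg : IsGroupLikeElem R g) : IsIdempotentElem (j g) := by
  have h := congrArg j (hj.smul_glike hg)
  rw [map_smul, map_smul, hj.one, smul_eq_mul, smul_eq_mul, mul_one] at h
  exact h

theorem isDiag_of_surjective_of_connected [Nontrivial R]
    (hconn : ∀ e : R, IsIdempotentElem e → e = 0 ∨ e = 1) {A B : Type u} [CommRing A]
    [HopfAlgebra R A] [CommRing B] [HopfAlgebra R B] (hA : SGA3b.IsDiag R A) (π : A →ₐc[R] B)
    (hπ : Function.Surjective π) (hB : SGA3b.IsMultType R B) : SGA3b.IsDiag R B := by
  classical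
  obtain ⟨j, hj⟩ := exists_isInt_of_isMultType hB
  obtain ⟨M, _, ⟨e⟩⟩ := hA
  let g : M →* B :=
    { toFun := fun m => π (e.symm (MonoidAlgebra.single m 1))
      map_one' := by rw [← MonoidAlgebra.one_def, map_one, map_one]
      map_mul' := fun a b => by
        rw [← map_mul, ← map_mul, MonoidAlgebra.single_mul_single, one_mul] }
  have hg : ∀ m, IsGroupLikeElem R (g m) := fun m =>
    ((MonoidAlgebra.isGroupLikeElem_single_one (R := R) (A := R) m).map e.symm).map π
  let N : Subgroup M := g.ker
  have h01 : ∀ m, j (g m) = if m ∈ N then 1 else 0 := by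
    intro m
    split_ifs with h
    · rw [show g m = 1 from h, hj.one]
    · rcases hconn _ (hj.isIdempotentElem_glike (hg m)) with h0 | h1
      · exact h0
      · have := hj.smul_glike (hg m)
        rw [h1, one_smul, one_smul] at this
        exact absurd this h
  let gb : M ⧸ N →* B := QuotientGroup.lift N g fun m hm => hm
  let f : MonoidAlgebra R (M ⧸ N) →ₐ[R] B := MonoidAlgebra.lift R B (M ⧸ N) gb
  have hgb : ∀ m : M, gb (QuotientGroup.mk m) = g m := fun m => QuotientGroup.lift_mk' _ _ m
  let Φ : MonoidAlgebra R (M ⧸ N) →ₐc[R] B := BialgHom.ofAlgHom f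
    (MonoidAlgebra.algHom_ext (fun q => by
      induction q using QuotientGroup.induction_on with
      | H m => simp [f, hgb, (hg m).counit_eq_one]) (by ext))
    (MonoidAlgebra.algHom_ext (fun q => by
      induction q using QuotientGroup.induction_on with
      | H m => simp [f, hgb, (hg m).comul_eq_tmul_self]) (by ext))
  have hsurj : Function.Surjective Φ := by
    intro b
    obtain ⟨a, rfl⟩ := hπ b
    obtain ⟨z, hz⟩ : ∃ z, e.symm z = a := ⟨e a, e.symm_apply_apply a⟩
    subst hz
    induction z using MonoidAlgebra.induction_linear with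
    | zero => exact ⟨0, by simp⟩
    | add x y hx hy =>
      obtain ⟨u, hu⟩ := hx
      obtain ⟨v, hv⟩ := hy
      exact ⟨u + v, by simp [hu, hv]⟩
    | single m r =>
      refine ⟨MonoidAlgebra.single (QuotientGroup.mk m) r, ?_⟩
      rw [show MonoidAlgebra.single m r = r • MonoidAlgebra.single m (1 : R) by simp]
      simp only [map_smul]
      simp [Φ, f, hgb, g]
  have hcoef : ∀ (x : MonoidAlgebra R (M ⧸ N)) (q : M ⧸ N), x.coeff q = j (Φ x * gb q⁻¹) := by
    intro x q
    induction x using MonoidAlgebra.induction_linear with
    | zero => simp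
    | add x y hx hy => simp [map_add, add_mul, hx, hy]
    | single q' r =>
      induction q using QuotientGroup.induction_on with
      | H m =>
        induction q' using QuotientGroup.induction_on with
        | H m' =>
          have e1 : Φ (MonoidAlgebra.single (QuotientGroup.mk m') r) * gb (QuotientGroup.mk m)⁻¹ =
              r • g (m' * m⁻¹) := by
            rw [← QuotientGroup.mk_inv, hgb, map_mul]
            simp [Φ, f, hgb]
          rw [e1, map_smul, h01, MonoidAlgebra.coeff_single, Finsupp.single_apply]
          have hmem : m' * m⁻¹ ∈ N ↔ (QuotientGroup.mk m' : M ⧸ N) = QuotientGroup.mk m := by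
            rw [QuotientGroup.eq]
            constructor
            · intro h; have := N.inv_mem h; simpa [mul_comm] using this
            · intro h; have := N.inv_mem h; simpa [mul_comm] using this
          split_ifs <;> simp_all
  have hinj : Function.Injective Φ := fun x y hxy =>
    MonoidAlgebra.ext (Finsupp.ext fun q => by rw [hcoef, hcoef, hxy])
  exact ⟨M ⧸ N, inferInstance, ⟨(BialgEquiv.ofBijective Φ ⟨hinj, hsurj⟩).symm⟩⟩

end Groth.Agent.MultTypeLib
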