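import Groth.Agent.Lib.MultType.TwistLift
import Groth.Agent.Lib.Hens.EtaleLift
import Mathlib.RingTheory.Finiteness.Descent

/-!
# Lifting groups of multiplicative type along henselian pairs and nil ideals
-/

universe u

open TensorProduct HopfAlgebra

set_option backward.isDefEq.respectTransparency false
set_option backward.isDefEq.respectTransparency.types false

namespace Groth.Agent.MultTypeLib

variable {R : Type u} [CommRing R] (I : Ideal R)

theorem ker_includeRight_pair (T : Type u) [CommRing T] [Algebra R T] :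
    RingHom.ker (Algebra.TensorProduct.includeRight : T →ₐ[R] (R ⧸ I) ⊗[R] T).toRingHom =
      I.map (algebraMap R T) :=
  Hens.ker_includeRight_quotient I T

theorem surjective_includeRight_pair (T : Type u) [CommRing T] [Algebra R T] :
    Function.Surjective (Algebra.TensorProduct.includeRight : T →ₐ[R] (R ⧸ I) ⊗[R] T).toRingHom :=
  Hens.surjective_includeRight_quotient I T

/-- Idempotents of an algebra lift uniquely from its reduction. -/
def IdemLift (T : Type u) [CommRing T] [Algebra R T] : Prop :=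
  IdemBij (Algebra.TensorProduct.includeRight : T →ₐ[R] (R ⧸ I) ⊗[R] T).toRingHom

theorem idemBij_includeRight_nil (hI : ∀ x ∈ I, IsNilpotent x) (T : Type u) [CommRing T] [Algebra R T] :
    IdemLift I T := by
  refine idemBij_of_nil _ (surjective_includeRight_pair I T) fun x hx => ?_
  rw [ker_includeRight_pair] at hx
  have hle : I.map (algebraMap R T) ≤ nilradical T :=
    Ideal.map_le_iff_le_comap.2 fun a ha => (hI a ha).map (algebraMap R T)
  exact mem_nilradical.1 (hle hx)

theorem idemBij_includeRight_pair (hI : HenselianRing R I) (T : Type u) [CommRing T] [Algebra R T]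
    [Module.Finite R T] : IdemLift I T :=
  idemBij_of_henselianPair hI _ (surjective_includeRight_pair I T) (ker_includeRight_pair I T)

theorem idemBij_of_bcLift {T T' : Type u} [CommRing T] [Algebra R T] [CommRing T'] [Algebra (R ⧸ I) T']
    [Algebra R T'] [IsScalarTower R (R ⧸ I) T'] (g : T →ₐ[R] T')
    (hg : Function.Bijective (bcLift (R := R ⧸ I) g))
    (h : IdemLift I T) :
    IdemBij g.toRingHom := by
  let e : (R ⧸ I) ⊗[R] T ≃ₐ[R ⧸ I] T' := AlgEquiv.ofBijective (bcLift (R := R ⧸ I) g) hg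
  have he : ∀ x, e ((1 : R ⧸ I) ⊗ₜ[R] x) = g x := fun x => bcLift_one_tmul g x
  refine ⟨fun x hx => hx.map g, fun x hx y hy hxy => h.2.1 hx hy (e.injective ?_), fun z hz => ?_⟩
  · show e ((1 : R ⧸ I) ⊗ₜ[R] x) = e ((1 : R ⧸ I) ⊗ₜ[R] y)
    rw [he, he]
    exact hxy
  · obtain ⟨x, hx, hxz⟩ := h.2.2 (show IsIdempotentElem (e.symm z) from hz.map e.symm)
    refine ⟨x, hx, ?_⟩
    show g x = z
    rw [← he, show (1 : R ⧸ I) ⊗ₜ[R] x = e.symm z from hxz, e.apply_symm_apply]

/-- An `R`-algebra whose reduction is faithfully flat is faithfully flat, modulo a small ideal. -/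
theorem faithfullyFlat_of_reduction (hI : ∀ m : Ideal R, m.IsMaximal → I ≤ m) (E : Type u) [CommRing E]
    [Algebra R E] [Module.Flat R E] [Module.FaithfullyFlat (R ⧸ I) ((R ⧸ I) ⊗[R] E)] :
    Module.FaithfullyFlat R E := by
  refine ⟨fun m hm htop => ?_⟩
  haveI := Ideal.IsMaximal.map_of_surjective_of_ker_le (f := Ideal.Quotient.mk I)
    Ideal.Quotient.mk_surjective (show RingHom.ker _ ≤ m by rw [Ideal.mk_ker]; exact hI m hm)
  refine Module.FaithfullyFlat.submodule_ne_top (M := (R ⧸ I) ⊗[R] E) this ?_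
  rw [Ideal.smul_top_eq_map, Submodule.restrictScalars_eq_top_iff] at htop ⊢
  have h1 := congrArg (Ideal.map (Algebra.TensorProduct.includeRight : E →ₐ[R] (R ⧸ I) ⊗[R] E).toRingHom) htop
  rw [Ideal.map_top, Ideal.map_map,
    show (Algebra.TensorProduct.includeRight : E →ₐ[R] (R ⧸ I) ⊗[R] E).toRingHom.comp (algebraMap R E) =
      (algebraMap (R ⧸ I) ((R ⧸ I) ⊗[R] E)).comp (Ideal.Quotient.mk I) from
      RingHom.ext fun r => by
        show (1 : R ⧸ I) ⊗ₜ[R] algebraMap R E r = Ideal.Quotient.mk I r ⊗ₜ[R] (1 : E)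
        simp [Algebra.algebraMap_eq_smul_one, TensorProduct.smul_tmul', ← Ideal.Quotient.algebraMap_eq],
    ← Ideal.map_map] at h1
  exact h1

/-- Twisted forms lift along pairs with unique lifting of idempotents. -/
theorem exists_lift_of_pair (E : Type u) [CommRing E] [Algebra R E] [Module.FaithfullyFlat R E]
    (h₁ : IdemLift I E) (h₂ : IdemLift I (E ⊗[R] E)) (h₃ : IdemLift I (E ⊗[R] (E ⊗[R] E)))
    {C : Type u} [CommRing C] [Algebra (R ⧸ I) C] (ψ : (R ⧸ I) ⊗[R] E ≃ₐ[R ⧸ I] C)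
    {A₀ : Type u} [CommRing A₀] [HopfAlgebra (R ⧸ I) A₀] (hd : SGA3b.IsDiag C (C ⊗[R ⧸ I] A₀)) :
    ∃ (A : Type u) (_ : CommRing A) (_ : HopfAlgebra R A),
      SGA3b.IsDiag E (E ⊗[R] A) ∧ Nonempty ((R ⧸ I) ⊗[R] A ≃ₐc[R ⧸ I] A₀) := by
  obtain ⟨M, _, ⟨e⟩⟩ := hd
  obtain ⟨e₀, -⟩ := exists_diag_map ψ.symm.toAlgHom e
  let π : E →ₐ[R] (R ⧸ I) ⊗[R] E := Algebra.TensorProduct.includeRight
  have hπ : Function.Bijective (bcLift (R := R ⧸ I) π) := by
    rw [show bcLift (R := R ⧸ I) π = AlgHom.id (R ⧸ I) _ from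
      Algebra.TensorProduct.ext (by ext) (AlgHom.ext fun y => bcLift_one_tmul π y)]
    exact Function.bijective_id
  have hπ₂ := bijective_pairMap (R := R ⧸ I) π π hπ hπ
  exact exists_twisted_lift π (idemBij_of_bcLift I π hπ h₁) (idemBij_of_bcLift I _ hπ₂ h₂)
    (idemBij_of_bcLift I _ (bijective_pairMap (R := R ⧸ I) π _ hπ hπ₂) h₃) e₀

/-- Isotrivial groups lift along henselian pairs. -/
theorem exists_isotrivial_lift (hI : HenselianRing R I) {A₀ : Type u} [CommRing A₀]
    [HopfAlgebra (R ⧸ I) A₀] (h0 : SGA3b.IsIsotrivial (R ⧸ I) A₀) :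
    ∃ (A : Type u) (_ : CommRing A) (_ : HopfAlgebra R A),
      SGA3b.IsIsotrivial R A ∧ Nonempty ((R ⧸ I) ⊗[R] A ≃ₐc[R ⧸ I] A₀) := by
  obtain ⟨C, _, _, _, _, _, hd⟩ := h0
  obtain ⟨E, _, _, _, _, ⟨ψ⟩⟩ := Hens.exists_finite_etale_lift hI C
  haveI : Module.FaithfullyFlat (R ⧸ I) ((R ⧸ I) ⊗[R] E) :=
    Module.FaithfullyFlat.of_linearEquiv _ _ ψ.toLinearEquiv
  haveI := faithfullyFlat_of_reduction I (fun m hm => hI.jac.trans (sInf_le ⟨bot_le, hm⟩)) E
  obtain ⟨A, _, _, hA, he⟩ := exists_lift_of_pair I E (idemBij_includeRight_pair I hI E)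
    (idemBij_includeRight_pair I hI _) (idemBij_includeRight_pair I hI _) ψ hd
  exact ⟨A, inferInstance, inferInstance, ⟨E, inferInstance, inferInstance, inferInstance, inferInstance,
    inferInstance, hA⟩, he⟩

/-- A group which is finite after reduction to a nonzero ring and split is finite. -/
theorem finite_of_reduction [Nontrivial (R ⧸ I)] (E : Type u) [CommRing E] [Algebra R E]
    [Module.FaithfullyFlat R E] {A : Type u} [CommRing A] [HopfAlgebra R A]
    (hA : SGA3b.IsDiag E (E ⊗[R] A)) [Module.Finite (R ⧸ I) ((R ⧸ I) ⊗[R] A)] :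
    Module.Finite R A := by
  obtain ⟨M, _, ⟨e⟩⟩ := hA
  let C := (R ⧸ I) ⊗[R] E
  haveI : Nontrivial C := (Module.FaithfullyFlat.nontrivial_tensorProduct_iff_left R (M := R ⧸ I) (N := E)).2 inferInstance
  obtain ⟨e', -⟩ := exists_diag_map (Algebra.TensorProduct.includeRight : E →ₐ[R] C) e
  haveI : Module.Finite C (MonoidAlgebra C M) :=
    Module.Finite.equiv ((cancelBC R A (R ⧸ I) C).trans e').toLinearEquiv
  haveI : Finite M := Module.Finite.finite_basis (MonoidAlgebra.basis M C)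
  haveI : Module.Finite E (E ⊗[R] A) :=
    Module.Finite.equiv (M := MonoidAlgebra E M) e.toLinearEquiv.symm
  exact Module.Finite.of_finite_tensorProduct_of_faithfullyFlat E

end Groth.Agent.MultTypeLib
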