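import Groth.Agent.Lib.MultType.CoactTwist
import Groth.Agent.Lib.MultType.QuasiIso

/-!
# Lifting twisted forms of diagonalisable groups
-/

universe u

open TensorProduct HopfAlgebra

set_option backward.isDefEq.respectTransparency false
set_option backward.isDefEq.respectTransparency.types false

namespace Groth.Agent.MultTypeLib

section Eqv

variable {W : Type u} [CommRing W] {X Y : Type u} [CommRing X] [HopfAlgebra W X] [CommRing Y]
  [HopfAlgebra W Y]

/-- A map which becomes an isomorphism of Hopf algebras after a faithfully flat base change is one. -/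
theorem exists_bialgEquiv_of_bc {B : Type u} [CommRing B] [Algebra W B] [Module.FaithfullyFlat W B]
    (Φ : X →ₐ[W] Y) (eB : B ⊗[W] X ≃ₐc[B] B ⊗[W] Y)
    (h : ∀ x, eB ((1 : B) ⊗ₜ[W] x) = (1 : B) ⊗ₜ[W] Φ x) :
    ∃ e : X ≃ₐc[W] Y, ∀ x, e x = Φ x := by
  have hbij : Function.Bijective Φ := by
    refine (Module.FaithfullyFlat.lTensor_bijective_iff_bijective W B Φ.toLinearMap).1 ?_
    rw [show ⇑(Φ.toLinearMap.lTensor B) = eB from funext fun z => ?_]
    · exact eB.bijective
    induction z using TensorProduct.induction_on with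
    | zero => simp
    | add a b ha hb => simp only [map_add, ha, hb]
    | tmul b x =>
      rw [show b ⊗ₜ[W] x = b • ((1 : B) ⊗ₜ[W] x) by simp [TensorProduct.smul_tmul'], map_smul eB, h]
      simp [TensorProduct.smul_tmul']
  let iY : Y →ₐ[W] B ⊗[W] Y := Algebra.TensorProduct.includeRight
  have hY : Function.Bijective (bcLift (R := B) iY) := by
    rw [show bcLift (R := B) iY = AlgHom.id B _ from comul_algHom_ext fun y => bcLift_one_tmul iY y]
    exact Function.bijective_id
  have inj₂ := injective_of_bijective_bcLift _ (bijective_pairMap (R := B) iY iY hY hY)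
  refine ⟨BialgEquiv.ofAlgEquiv (AlgEquiv.ofBijective Φ hbij) ?_ ?_, fun x => rfl⟩
  · refine AlgHom.ext fun x => FaithfulSMul.algebraMap_injective W B ?_
    have h1 := CoalgHomClass.counit_comp_apply eB ((1 : B) ⊗ₜ[W] x)
    rw [h] at h1
    simpa [Algebra.algebraMap_eq_smul_one] using h1
  · refine AlgHom.ext fun x => inj₂ ?_
    have h1 := CoalgHomClass.map_comp_comul_apply eB ((1 : B) ⊗ₜ[W] x)
    rw [h, comul_one_tmul, comul_one_tmul] at h1
    have hl : ∀ w : Y ⊗[W] Y, pairMap (R := B) iY iY w = inclTwo B w := by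
      intro w
      induction w using TensorProduct.induction_on with
      | zero => simp
      | add a b ha hb => simp only [map_add, ha, hb]
      | tmul a b => simp [pairMap_tmul, inclTwo_tmul, iY]
    have hr : ∀ w : X ⊗[W] X, pairMap (R := B) iY iY (Algebra.TensorProduct.map Φ Φ w) =
        TensorProduct.map (eB : B ⊗[W] X →ₗ[B] B ⊗[W] Y) (eB : B ⊗[W] X →ₗ[B] B ⊗[W] Y) (inclTwo B w) := by
      intro w
      induction w using TensorProduct.induction_on with
      | zero => simp
      | add a b ha hb => simp only [map_add, ha, hb]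
      | tmul a b => simp [pairMap_tmul, inclTwo_tmul, iY, h]
    show pairMap (R := B) iY iY (Algebra.TensorProduct.map Φ Φ (Coalgebra.comul (R := W) x)) =
      pairMap (R := B) iY iY (Coalgebra.comul (R := W) (Φ x))
    rw [hr, hl]
    exact h1

end Eqv

section At

variable {W B : Type u} [CommRing W] [CommRing B] [Algebra W B] {A₀ : Type u} [CommRing A₀]
  [HopfAlgebra W A₀] {M : Type u} [CommGroup M]
  (e₀ : B ⊗[W] A₀ ≃ₐc[B] MonoidAlgebra B M) {T : Type u} [CommRing T] [Algebra W T]

/-- A diagonalisation transported along an algebra map. -/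
noncomputable def eAt (f : B →ₐ[W] T) : T ⊗[W] A₀ ≃ₐc[T] MonoidAlgebra T M :=
  (exists_diag_map f e₀).choose

theorem eAt_map (f : B →ₐ[W] T) (x : B ⊗[W] A₀) :
    eAt e₀ f (Algebra.TensorProduct.map f (AlgHom.id W A₀) x) =
      MonoidAlgebra.mapRingHom M f.toRingHom (e₀ x) := by
  obtain ⟨y, rfl⟩ : ∃ y, e₀.symm y = x := ⟨e₀ x, e₀.symm_apply_apply x⟩
  have hsm : ∀ (c : B) (z : B ⊗[W] A₀), Algebra.TensorProduct.map f (AlgHom.id W A₀) (c • z) =
      f c • Algebra.TensorProduct.map f (AlgHom.id W A₀) z := by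
    intro c z
    induction z using TensorProduct.induction_on with
    | zero => simp
    | add a b ha hb => simp only [smul_add, map_add, ha, hb]
    | tmul a b => simp [TensorProduct.smul_tmul']
  induction y using MonoidAlgebra.induction_linear with
  | zero => simp
  | add a b ha hb => simp only [map_add, ha, hb]
  | single m c =>
    rw [show MonoidAlgebra.single m c = c • MonoidAlgebra.single m (1 : B) by simp,
      map_smul e₀.symm, hsm, ← (exists_diag_map f e₀).choose_spec m, map_smul e₀,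
      e₀.apply_symm_apply, map_smul (eAt e₀ f)]
    show f c • eAt e₀ f ((eAt e₀ f).symm _) = _
    rw [BialgEquiv.apply_symm_apply]
    simp

theorem eAt_trans {T' : Type u} [CommRing T'] [Algebra W T'] (f : B →ₐ[W] T) (g : T →ₐ[W] T')
    {f' : B →ₐ[W] T'} (hf : g.comp f = f') (z : T ⊗[W] A₀) :
    eAt e₀ f' (Algebra.TensorProduct.map g (AlgHom.id W A₀) z) =
      MonoidAlgebra.mapRingHom M g.toRingHom (eAt e₀ f z) := by
  induction z using TensorProduct.induction_on with
  | zero => simp
  | add a b ha hb => simp only [map_add, ha, hb]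
  | tmul t a =>
    have h1 : t ⊗ₜ[W] a = t • Algebra.TensorProduct.map f (AlgHom.id W A₀) ((1 : B) ⊗ₜ[W] a) := by
      simp [TensorProduct.smul_tmul']
    have h2 : Algebra.TensorProduct.map g (AlgHom.id W A₀) (t ⊗ₜ[W] a) =
        g t • Algebra.TensorProduct.map f' (AlgHom.id W A₀) ((1 : B) ⊗ₜ[W] a) := by
      simp [TensorProduct.smul_tmul']
    rw [h2, h1, map_smul (eAt e₀ f'), map_smul (eAt e₀ f), eAt_map, eAt_map, Algebra.smul_def,
      Algebra.smul_def, map_mul, ← hf]
    congr 1
    · simp [MonoidAlgebra.coe_algebraMap]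
    · exact MonoidAlgebra.ext (Finsupp.ext fun k => by simp)

theorem eAt_symm_map {T' : Type u} [CommRing T'] [Algebra W T'] (f : B →ₐ[W] T) (g : T →ₐ[W] T')
    {f' : B →ₐ[W] T'} (hf : g.comp f = f') (y : MonoidAlgebra T M) :
    Algebra.TensorProduct.map g (AlgHom.id W A₀) ((eAt e₀ f).symm y) =
      (eAt e₀ f').symm (MonoidAlgebra.mapRingHom M g.toRingHom y) := by
  refine (show Function.Injective (eAt e₀ f') from (eAt e₀ f').injective) ?_
  rw [eAt_trans e₀ f g hf, BialgEquiv.apply_symm_apply, BialgEquiv.apply_symm_apply]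

/-- The transition between two transports of a diagonalisation. -/
noncomputable def transG (f₁ f₂ : B →ₐ[W] T) : M →* GroupLike T (MonoidAlgebra T M) where
  toFun m := ⟨eAt e₀ f₂ ((eAt e₀ f₁).symm (MonoidAlgebra.single m 1)),
    ((MonoidAlgebra.isGroupLikeElem_single_one (R := T) (A := T) m).map (eAt e₀ f₁).symm).map (eAt e₀ f₂)⟩
  map_one' := by
    ext1
    show eAt e₀ f₂ ((eAt e₀ f₁).symm (MonoidAlgebra.single 1 1)) = 1
    rw [← MonoidAlgebra.one_def, map_one, map_one]
  map_mul' a b := by
    ext1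
    show eAt e₀ f₂ ((eAt e₀ f₁).symm (MonoidAlgebra.single (a * b) 1)) =
      eAt e₀ f₂ ((eAt e₀ f₁).symm _) * eAt e₀ f₂ ((eAt e₀ f₁).symm _)
    rw [← map_mul, ← map_mul, MonoidAlgebra.single_mul_single, mul_one]

theorem lift_transG (f₁ f₂ : B →ₐ[W] T) (y : MonoidAlgebra T M) :
    MonoidAlgebra.lift T (MonoidAlgebra T M) M ((GroupLike.valMonoidHom _ _).comp (transG e₀ f₁ f₂)) y =
      eAt e₀ f₂ ((eAt e₀ f₁).symm y) := by
  induction y using MonoidAlgebra.induction_linear with
  | zero => simp
  | add a b ha hb => simp only [map_add, ha, hb]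
  | single m c =>
    rw [show MonoidAlgebra.single m c = c • MonoidAlgebra.single m (1 : T) by simp, map_smul,
      map_smul (eAt e₀ f₁).symm, map_smul (eAt e₀ f₂), MonoidAlgebra.lift_single]
    simp [GroupLike.valMonoidHom, transG]

theorem transG_map {T' : Type u} [CommRing T'] [Algebra W T'] (f₁ f₂ : B →ₐ[W] T) (g : T →ₐ[W] T')
    {f₁' f₂' : B →ₐ[W] T'} (h₁ : g.comp f₁ = f₁') (h₂ : g.comp f₂ = f₂') (m : M) :
    glMapR g.toRingHom (transG e₀ f₁ f₂ m) = transG e₀ f₁' f₂' m := by
  refine GroupLike.val_injective ?_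
  show MonoidAlgebra.mapRingHom M g.toRingHom (eAt e₀ f₂ ((eAt e₀ f₁).symm _)) =
    eAt e₀ f₂' ((eAt e₀ f₁').symm _)
  rw [← eAt_trans e₀ f₂ g h₂, eAt_symm_map e₀ f₁ g h₁, MonoidAlgebra.mapRingHom_single, map_one]

end At

theorem lift_map {T T' : Type u} [CommRing T] [CommRing T'] {M : Type u} [CommGroup M] (π : T →+* T')
    (G : M →* GroupLike T (MonoidAlgebra T M)) (y : MonoidAlgebra T M) :
    MonoidAlgebra.mapRingHom M π
        (MonoidAlgebra.lift T (MonoidAlgebra T M) M ((GroupLike.valMonoidHom _ _).comp G) y) =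
      MonoidAlgebra.lift T' (MonoidAlgebra T' M) M
        ((GroupLike.valMonoidHom _ _).comp ((glMapR π).comp G)) (MonoidAlgebra.mapRingHom M π y) := by
  induction y using MonoidAlgebra.induction_linear with
  | zero => simp
  | add a b ha hb => simp only [map_add, ha, hb]
  | single m c =>
    rw [MonoidAlgebra.mapRingHom_single, MonoidAlgebra.lift_single, MonoidAlgebra.lift_single,
      Algebra.smul_def, Algebra.smul_def, map_mul]
    congr 1
    simp [MonoidAlgebra.coe_algebraMap]

set_option maxHeartbeats 2000000 in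
/-- Twisted forms of diagonalisable groups lift along maps which lift idempotents uniquely. -/
theorem exists_twisted_lift {R W E B : Type u} [CommRing R] [CommRing W] [Algebra R W] [CommRing E]
    [Algebra R E] [Module.FaithfullyFlat R E] [CommRing B] [Algebra W B] [Algebra R B]
    [IsScalarTower R W B] [Module.FaithfullyFlat W B] (π : E →ₐ[R] B)
    (hπ₁ : IdemBij π.toRingHom) (hπ₂ : IdemBij (pairMap (R := W) π π).toRingHom)
    (hπ₃ : IdemBij (pairMap (R := W) π (pairMap (R := W) π π)).toRingHom)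
    {A₀ : Type u} [CommRing A₀] [HopfAlgebra W A₀] {M : Type u} [CommGroup M]
    (e₀ : B ⊗[W] A₀ ≃ₐc[B] MonoidAlgebra B M) :
    ∃ (A : Type u) (_ : CommRing A) (_ : HopfAlgebra R A),
      SGA3b.IsDiag E (E ⊗[R] A) ∧ Nonempty (W ⊗[R] A ≃ₐc[W] A₀) := by
  let i₁ : B →ₐ[W] B ⊗[W] B := Algebra.TensorProduct.includeLeft
  let i₂ : B →ₐ[W] B ⊗[W] B := Algebra.TensorProduct.includeRight
  let μ : B ⊗[W] B →ₐ[W] B := Algebra.TensorProduct.lmul' W
  let j₁₂ : B ⊗[W] B →ₐ[W] B ⊗[W] (B ⊗[W] B) := Algebra.TensorProduct.map (AlgHom.id W B) i₁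
  let j₂₃ : B ⊗[W] B →ₐ[W] B ⊗[W] (B ⊗[W] B) := Algebra.TensorProduct.includeRight
  let j₁₃ : B ⊗[W] B →ₐ[W] B ⊗[W] (B ⊗[W] B) := Algebra.TensorProduct.map (AlgHom.id W B) i₂
  let π₂ := (pairMap (R := W) π π).toRingHom
  let π₃ := (pairMap (R := W) π (pairMap (R := W) π π)).toRingHom
  have inj₁ := (glMapR_bijective (M := M) hπ₁).injective
  have inj₃ := (glMapR_bijective (M := M) hπ₃).injective
  let e := MulEquiv.ofBijective (glMapR (M := M) π₂) (glMapR_bijective hπ₂)
  let G := e.symm.toMonoidHom.comp (transG e₀ i₁ i₂)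
  have hG : ∀ m, glMapR π₂ (G m) = transG e₀ i₁ i₂ m := fun m => e.apply_symm_apply _
  have hμ : π.toRingHom.comp (Algebra.TensorProduct.lmul' R (S := E)).toRingHom = μ.toRingHom.comp π₂ := by
    refine RingHom.ext fun z => ?_
    show π (Algebra.TensorProduct.lmul' R z) = μ (pairMap (R := W) π π z)
    induction z using TensorProduct.induction_on with
    | zero => simp
    | add a b ha hb => simp only [map_add, ha, hb]
    | tmul a b => simp [μ, pairMap_tmul]
  have h₁₂ : π₃.comp (incl12 R E) = j₁₂.toRingHom.comp π₂ := by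
    refine RingHom.ext fun z => ?_
    show pairMap (R := W) π (pairMap (R := W) π π) (incl12 R E z) = j₁₂ (pairMap (R := W) π π z)
    induction z using TensorProduct.induction_on with
    | zero => simp
    | add a b ha hb => simp only [map_add, ha, hb]
    | tmul a b => simp [incl12, j₁₂, i₁, pairMap_tmul]
  have h₂₃ : π₃.comp (incl23 R E) = j₂₃.toRingHom.comp π₂ := by
    refine RingHom.ext fun z => ?_
    show pairMap (R := W) π (pairMap (R := W) π π) (incl23 R E z) = j₂₃ (pairMap (R := W) π π z)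
    induction z using TensorProduct.induction_on with
    | zero => simp
    | add a b ha hb => simp only [map_add, ha, hb]
    | tmul a b => simp [incl23, j₂₃, pairMap_tmul]
  have h₁₃ : π₃.comp (incl13 R E) = j₁₃.toRingHom.comp π₂ := by
    refine RingHom.ext fun z => ?_
    show pairMap (R := W) π (pairMap (R := W) π π) (incl13 R E z) = j₁₃ (pairMap (R := W) π π z)
    induction z using TensorProduct.induction_on with
    | zero => simp
    | add a b ha hb => simp only [map_add, ha, hb]
    | tmul a b => simp [incl13, j₁₃, i₂, pairMap_tmul]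
  have hTw : IsTwist G := by
    refine ⟨fun m => ?_, fun m => ?_⟩
    · suffices h : glMapR (Algebra.TensorProduct.lmul' R (S := E)).toRingHom (G m) =
          ⟨MonoidAlgebra.single m 1, MonoidAlgebra.isGroupLikeElem_single_one m⟩ from
        congrArg GroupLike.val h
      refine inj₁ ?_
      rw [glMapR_comp, hμ, ← glMapR_comp, hG]
      refine GroupLike.val_injective ?_
      show MonoidAlgebra.mapRingHom M μ.toRingHom (eAt e₀ i₂ ((eAt e₀ i₁).symm (MonoidAlgebra.single m 1))) =
        MonoidAlgebra.mapRingHom M π.toRingHom (MonoidAlgebra.single m 1)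
      rw [← eAt_trans e₀ i₂ μ (f' := AlgHom.id W B) (AlgHom.ext fun b => by simp [μ, i₂]),
        eAt_symm_map e₀ i₁ μ (f' := AlgHom.id W B) (AlgHom.ext fun b => by simp [μ, i₁]),
        BialgEquiv.apply_symm_apply, MonoidAlgebra.mapRingHom_single, MonoidAlgebra.mapRingHom_single,
        map_one, map_one]
    · let H := (glMapR (incl23 R E)).comp G
      suffices h : (⟨_, (glMapR (incl12 R E) (G m)).2.map (bialgOfGlike H)⟩ : GroupLike _ _) =
          glMapR (incl13 R E) (G m) from congrArg GroupLike.val h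
      refine inj₃ (GroupLike.val_injective ?_)
      show MonoidAlgebra.mapRingHom M π₃ (MonoidAlgebra.lift _ _ M ((GroupLike.valMonoidHom _ _).comp H)
          (glMapR (incl12 R E) (G m)).val) = (glMapR π₃ (glMapR (incl13 R E) (G m))).val
      rw [lift_map, ← glMapR_val, glMapR_comp, glMapR_comp, h₁₂, h₁₃, ← glMapR_comp, ← glMapR_comp, hG]
      have hH : (glMapR π₃).comp H = transG e₀ (j₂₃.comp i₁) (j₂₃.comp i₂) := MonoidHom.ext fun k => by
        show glMapR π₃ (glMapR (incl23 R E) (G k)) = _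
        rw [glMapR_comp, h₂₃, ← glMapR_comp, hG]
        exact transG_map e₀ i₁ i₂ j₂₃ rfl rfl k
      have hb : j₁₂.comp i₂ = j₂₃.comp i₁ := AlgHom.ext fun b => by simp [j₁₂, j₂₃, i₁, i₂]
      have ha : j₁₃.comp i₁ = j₁₂.comp i₁ := AlgHom.ext fun b => by
        simp [j₁₂, j₁₃, i₁, i₂, Algebra.TensorProduct.one_def]
      have hc : j₁₃.comp i₂ = j₂₃.comp i₂ := AlgHom.ext fun b => by simp [j₁₃, j₂₃, i₂]
      rw [hH, transG_map e₀ i₁ i₂ j₁₂ rfl hb, transG_map e₀ i₁ i₂ j₁₃ ha hc]
      show MonoidAlgebra.lift _ _ M _ (eAt e₀ (j₂₃.comp i₁) ((eAt e₀ (j₁₂.comp i₁)).symm _)) = _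
      rw [lift_transG, BialgEquiv.symm_apply_apply]
      rfl
  obtain ⟨A, _, _, fA, eA, heA, hfix⟩ := exists_descended (isCoact_twistCoact hTw)
  refine ⟨A, inferInstance, inferInstance, ⟨M, inferInstance, ⟨eA⟩⟩, ?_⟩
  -- comparison over the quotient
  let i₂R : B →ₐ[R] MonoidAlgebra (B ⊗[W] B) M :=
    (IsScalarTower.toAlgHom R (B ⊗[W] B) (MonoidAlgebra (B ⊗[W] B) M)).comp (i₁.restrictScalars R)
  let πM : MonoidAlgebra E M →ₐ[R] MonoidAlgebra B M := MonoidAlgebra.mapAlgHom M π
  have hπM : ∀ x, πM x = MonoidAlgebra.mapRingHom M π.toRingHom x := fun x => rfl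
  let Φ : E ⊗[R] MonoidAlgebra E M →ₐ[R] MonoidAlgebra (B ⊗[W] B) M :=
    Algebra.TensorProduct.lift (i₂R.comp π)
      ((MonoidAlgebra.mapAlgHom M (i₂.restrictScalars R)).comp πM) (fun _ _ => Commute.all _ _)
  have hΦ : ∀ y, Φ (twistMap R E y) = MonoidAlgebra.mapRingHom M π₂ y := by
    intro y
    induction y using MonoidAlgebra.induction_linear with
    | zero => simp
    | add a b ha hb => simp only [map_add, ha, hb]
    | single k r =>
      induction r using TensorProduct.induction_on with
      | zero => simp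
      | add a b ha hb => simp only [MonoidAlgebra.single_add, map_add, ha, hb]
      | tmul s t =>
        simp [Φ, twistMap_single_tmul, i₂R, πM, π₂, pairMap_tmul, MonoidAlgebra.coe_algebraMap,
          MonoidAlgebra.single_mul_single, i₁, i₂]
  have hρ : ∀ x, Φ (twistCoact G x) = eAt e₀ i₂ ((eAt e₀ i₁).symm
      (MonoidAlgebra.mapRingHom M i₁.toRingHom (MonoidAlgebra.mapRingHom M π.toRingHom x))) := by
    intro x
    rw [← lift_transG]
    induction x using MonoidAlgebra.induction_linear with
    | zero => simp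
    | add a b ha hb => simp only [map_add, ha, hb]
    | single k t =>
      rw [twistCoact_single, map_mul, hΦ, ← glMapR_val, hG, MonoidAlgebra.mapRingHom_single,
        MonoidAlgebra.mapRingHom_single, MonoidAlgebra.lift_single, Algebra.smul_def]
      congr 1
      simp [Φ, i₂R]
  have hex : ∀ a, ∃ a₀ : A₀, (1 : B) ⊗ₜ[W] a₀ = e₀.symm (πM (fA a)) := by
    intro a
    refine exists_one_tmul_of_descent _ ?_
    refine (show Function.Injective (eAt e₀ i₂) from (eAt e₀ i₂).injective) ?_
    show eAt e₀ i₂ (Algebra.TensorProduct.map i₁ (AlgHom.id W A₀) _) =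
      eAt e₀ i₂ (Algebra.TensorProduct.map i₂ (AlgHom.id W A₀) _)
    rw [eAt_map, e₀.apply_symm_apply,
      ← (eAt e₀ i₁).symm_apply_apply (Algebra.TensorProduct.map i₁ (AlgHom.id W A₀) (e₀.symm _)),
      eAt_map, e₀.apply_symm_apply, hπM, ← hρ, hfix]
    simp [Φ, hπM]
    rfl
  letI : Algebra R A₀ := Algebra.compHom A₀ (algebraMap R W)
  haveI : IsScalarTower R W A₀ := IsScalarTower.of_algebraMap_eq fun _ => rfl
  choose φ₀ hφ₀ using hex
  have hinj : Function.Injective fun a₀ : A₀ => (1 : B) ⊗ₜ[W] a₀ :=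
    Module.FaithfullyFlat.tensorProduct_mk_injective (A := W) (B := B) A₀
  let φ : A →ₐ[R] A₀ :=
    { toFun := φ₀
      map_one' := hinj (by simp [hφ₀, ← Algebra.TensorProduct.one_def])
      map_mul' := fun a b => hinj (by
        show (1 : B) ⊗ₜ[W] φ₀ (a * b) = (1 : B) ⊗ₜ[W] (φ₀ a * φ₀ b)
        rw [hφ₀, map_mul, map_mul, map_mul e₀.symm, ← hφ₀, ← hφ₀,
          Algebra.TensorProduct.tmul_mul_tmul, one_mul])
      map_zero' := hinj (by simp [hφ₀])
      map_add' := fun a b => hinj (by simp [TensorProduct.tmul_add, hφ₀, map_add e₀.symm])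
      commutes' := fun r => hinj (by
        simp only [hφ₀, AlgHom.commutes]
        rw [IsScalarTower.algebraMap_apply R B (MonoidAlgebra B M), AlgHomClass.commutes e₀.symm,
          IsScalarTower.algebraMap_apply R W A₀, IsScalarTower.algebraMap_apply R W B,
          Algebra.TensorProduct.algebraMap_apply]
        simp [Algebra.algebraMap_eq_smul_one, TensorProduct.smul_tmul]) }
  have hφ : ∀ a, (1 : B) ⊗ₜ[W] φ a = e₀.symm (πM (fA a)) := hφ₀
  letI : Algebra E B := π.toRingHom.toAlgebra
  haveI : IsScalarTower R E B := IsScalarTower.of_algebraMap_eq fun r => (π.commutes r).symm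
  let eB := (cancelBC R A W B).trans
    ((((cancelBC R A E B).symm.trans (bcEquiv B eA)).trans (diagBC E B M)).trans e₀.symm)
  have hd : ∀ y, diagBC E B M ((1 : B) ⊗ₜ[E] y) = πM y := by
    intro y
    induction y using MonoidAlgebra.induction_linear with
    | zero => simp
    | add a b ha hb => simp only [TensorProduct.tmul_add, map_add, ha, hb]
    | single k c =>
      rw [show MonoidAlgebra.single k c = c • MonoidAlgebra.single k (1 : E) by simp,
        TensorProduct.tmul_smul, ← algebraMap_smul B c, map_smul, diagBC_tmul_single]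
      simp [hπM, RingHom.algebraMap_toAlgebra]
  obtain ⟨e', -⟩ := exists_bialgEquiv_of_bc (B := B) (bcLift (R := W) φ) eB (fun x => by
    induction x using TensorProduct.induction_on with
    | zero => simp
    | add a b ha hb => simp only [TensorProduct.tmul_add, map_add, ha, hb]
    | tmul w a =>
      show e₀.symm (diagBC E B M (bcEquiv B eA ((cancelBC R A E B).symm
        (cancelBC R A W B ((1 : B) ⊗ₜ[W] (w ⊗ₜ[R] a)))))) = _
      have h1 : (cancelBC R A E B).symm ((1 : B) ⊗ₜ[R] a) = (1 : B) ⊗ₜ[E] ((1 : E) ⊗ₜ[R] a) := by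
        refine (show Function.Injective (cancelBC R A E B) from (cancelBC R A E B).injective)
          (((cancelBC R A E B).apply_symm_apply _).trans ?_)
        exact ((cancelBC_tmul R A E B _ _ _).trans (by rw [one_smul])).symm
      rw [cancelBC_tmul, show (w • (1 : B)) ⊗ₜ[R] a = algebraMap W B w • ((1 : B) ⊗ₜ[R] a) by
          simp [TensorProduct.smul_tmul', Algebra.smul_def],
        map_smul, map_smul (bcEquiv B eA), map_smul, map_smul e₀.symm, h1, bcEquiv_tmul, heA, hd, ← hφ,
        show w ⊗ₜ[R] a = w • ((1 : W) ⊗ₜ[R] a) by simp [TensorProduct.smul_tmul'], map_smul,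
        bcLift_one_tmul, TensorProduct.tmul_smul]
      simp [TensorProduct.smul_tmul'])
  exact ⟨e'⟩

end Groth.Agent.MultTypeLib
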